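import Cfsg.Agent.H59.A5Char
import Cfsg.Agent.H12.Orth
import Cfsg.Agent.H12.Integral
import Cfsg.Agent.H13.AbelianDegree

/-!
Groups of order 60 with a character degree divisible by five.
-/

set_option autoImplicit false

namespace H17

open Cfsg

variable {G : Type*} [Group G] [Finite G]

theorem exists_pow_conj {x y : G} (h : y * x * y⁻¹ ∈ Subgroup.zpowers x) {b : ℕ}
    (hy : y ^ b = 1) (hk : ∀ k < orderOf x, k ^ b % orderOf x = 1 → k = 1) (hx : 1 < orderOf x) :
    Commute x y := by
  classical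
  obtain ⟨k, hk', hkx⟩ := Finset.mem_image.1 (IsOfFinOrder.mem_zpowers_iff_mem_range_orderOf
    (isOfFinOrder_of_finite x) |>.1 h)
  rw [Finset.mem_range] at hk'
  have hit : ∀ j : ℕ, y ^ j * x * (y ^ j)⁻¹ = x ^ (k ^ j) := by
    intro j
    induction j with
    | zero => simp
    | succ j ih =>
      rw [pow_succ', mul_inv_rev]
      calc y * y ^ j * x * ((y ^ j)⁻¹ * y⁻¹) = y * (y ^ j * x * (y ^ j)⁻¹) * y⁻¹ := by
            simp only [mul_assoc]
        _ = x ^ k ^ (j + 1) := by
            rw [ih, ← conj_pow, ← hkx, ← pow_mul, ← pow_succ']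
  have hb := hit b
  rw [hy, one_mul, inv_one, mul_one] at hb
  have h1 : k ^ b % orderOf x = 1 := by
    have h2 : x ^ 1 = x ^ k ^ b := by rw [pow_one]; exact hb
    rw [pow_eq_pow_iff_modEq, Nat.ModEq, Nat.mod_eq_of_lt hx] at h2
    exact h2.symm
  rw [hk k hk' h1, pow_one] at hkx
  exact (mul_inv_eq_iff_eq_mul.1 hkx.symm).symm

/-- a small group of order divisible by `p` has one subgroup of order `p` -/
theorem mem_zpowers_of_small {H : Subgroup G} {p : ℕ} (hp : p.Prime) (hlt : Nat.card H < p * p)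
    {y z : G} (hy : y ∈ H) (hz : z ∈ H) (hoy : orderOf y = p) (hoz : orderOf z = p) :
    z ∈ Subgroup.zpowers y := by
  by_contra hn
  have hinf : ∀ i j : ℕ, y ^ i = z ^ j → p ∣ j := by
    intro i j e
    by_contra hj
    apply hn
    have hco : Nat.Coprime j (orderOf z) := by rw [hoz]; exact (hp.coprime_iff_not_dvd.2 hj).symm
    obtain ⟨m, hm⟩ := exists_pow_eq_self_of_coprime hco
    rw [← hm, ← e, ← pow_mul]
    exact Subgroup.npow_mem_zpowers _ _
  let f : Fin p × Fin p → H := fun v => ⟨y ^ (v.1 : ℕ) * z ^ (v.2 : ℕ), H.mul_mem (H.pow_mem hy _) (H.pow_mem hz _)⟩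
  have key : ∀ a b c d : ℕ, a ≤ c → c < p → b < p → d < p → y ^ a * z ^ b = y ^ c * z ^ d → a = c ∧ b = d := by
    intro a b c d hac hc hb hd e
    have e1 : z ^ b = y ^ (c - a) * z ^ d := by
      rw [show y ^ c = y ^ a * y ^ (c - a) by rw [← pow_add, Nat.add_sub_cancel' hac], mul_assoc] at e
      exact mul_left_cancel e
    have e2 : y ^ (c - a) = z ^ (b + (p - d)) := by
      rw [pow_add, e1, mul_assoc, ← pow_add, Nat.add_sub_cancel' hd.le, ← hoz, pow_orderOf_eq_one, mul_one]
    obtain ⟨t, ht⟩ := hinf _ _ e2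
    have hbd : b = d := by
      rcases t with _ | _ | t
      · omega
      · omega
      · exfalso
        have : p * (t + 1 + 1) = p * t + p + p := by ring
        omega
    subst hbd
    rw [Nat.add_sub_cancel' hd.le, ← hoz, pow_orderOf_eq_one] at e2
    have h3 := orderOf_dvd_of_pow_eq_one e2
    rw [hoy] at h3
    have := Nat.eq_zero_of_dvd_of_lt h3 (by omega)
    exact ⟨by omega, rfl⟩
  have hinj : Function.Injective f := by
    rintro ⟨a, b⟩ ⟨c, d⟩ e
    have e' : y ^ (a : ℕ) * z ^ (b : ℕ) = y ^ (c : ℕ) * z ^ (d : ℕ) := congrArg Subtype.val e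
    rcases le_total (a : ℕ) c with h | h
    · obtain ⟨h1, h2⟩ := key _ _ _ _ h c.2 b.2 d.2 e'
      exact Prod.ext (Fin.ext h1) (Fin.ext h2)
    · obtain ⟨h1, h2⟩ := key _ _ _ _ h a.2 d.2 b.2 e'.symm
      exact Prod.ext (Fin.ext h1.symm) (Fin.ext h2.symm)
  have := Nat.card_le_card_of_injective f hinj
  rw [Nat.card_prod, Nat.card_fin] at this
  omega

theorem exists_order_fifteen_of_commute {x y : G} (hx : orderOf x = 3) (hy : orderOf y = 5)
    (h : Commute x y) : ∃ g : G, orderOf g = 15 := by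
  refine ⟨x * y, ?_⟩
  rw [h.orderOf_mul_eq_mul_orderOf_of_coprime (by rw [hx, hy]; norm_num), hx, hy]

/-- a subgroup of order 5, 10, 15 or 20 gives an element of order 15 once its normaliser has one of order 3 -/
theorem exists_fifteen_of_small {H : Subgroup G} (h5 : 5 ∣ Nat.card H) (hlt : Nat.card H < 25) {x : G}
    (hx : orderOf x = 3) (hn : ∀ a ∈ H, x * a * x⁻¹ ∈ H) : ∃ g : G, orderOf g = 15 := by
  haveI : Fact (Nat.Prime 5) := ⟨by norm_num⟩
  obtain ⟨y, hy⟩ := exists_prime_orderOf_dvd_card' 5 h5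
  have hy' : orderOf (y : G) = 5 := by rw [Subgroup.orderOf_coe]; exact hy
  have hmem : x * (y : G) * x⁻¹ ∈ Subgroup.zpowers (y : G) :=
    mem_zpowers_of_small (by norm_num) hlt y.2 (hn _ y.2) hy' (by
      exact (MulEquiv.orderOf_eq (MulAut.conj x) (y : G)).trans hy')
  refine exists_order_fifteen_of_commute hx hy' (exists_pow_conj hmem (b := 3) ?_ ?_ (by rw [hy']; norm_num)).symm
  · rw [← hx]; exact pow_orderOf_eq_one x
  · rw [hy']; decide

/-- a group of order 60 is simple or has an element of order 15 -/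
theorem simple_or_fifteen (h60 : Nat.card G = 60) :
    IsSimpleGroup G ∨ ∃ g : G, orderOf g = 15 := by
  classical
  haveI : Fact (Nat.Prime 5) := ⟨by norm_num⟩
  haveI : Fact (Nat.Prime 3) := ⟨by norm_num⟩
  obtain ⟨x₀, hx₀⟩ := exists_prime_orderOf_dvd_card' (G := G) 3 (by rw [h60]; norm_num)
  -- few Sylow 3-subgroups
  by_cases hs3 : Nat.card (Sylow 3 G) ≤ 4
  · right
    obtain ⟨Q⟩ : Nonempty (Sylow 3 G) := inferInstance
    have hQ : Nat.card (Q : Subgroup G) = 3 := by
      rw [Sylow.card_eq_multiplicity, h60, show (60 : ℕ) = 3 ^ 1 * 20 by norm_num,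
        Nat.factorization_mul (by norm_num) (by norm_num)]
      simp [Nat.factorization_eq_zero_of_not_dvd (show ¬ 3 ∣ 20 by norm_num),
        Nat.Prime.factorization_self (show Nat.Prime 3 by norm_num)]
    have hn : (Subgroup.normalizer ((Q : Subgroup G) : Set G)).index ≤ 4 := by
      exact le_of_eq_of_le (Sylow.card_eq_index_normalizer Q).symm hs3
    have h5 : 5 ∣ Nat.card (Subgroup.normalizer ((Q : Subgroup G) : Set G)) := by
      have hm := Subgroup.card_mul_index (Subgroup.normalizer ((Q : Subgroup G) : Set G))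
      rw [h60] at hm
      refine (Nat.Coprime.dvd_of_dvd_mul_right ?_ (hm ▸ (by norm_num : 5 ∣ 60)))
      refine (Nat.prime_five.coprime_iff_not_dvd).2 fun h => ?_
      have := Nat.le_of_dvd (Nat.pos_of_ne_zero Subgroup.index_ne_zero_of_finite) h
      omega
    obtain ⟨y, hy⟩ := exists_prime_orderOf_dvd_card' 5 h5
    obtain ⟨x, hx⟩ := exists_prime_orderOf_dvd_card' (G := (Q : Subgroup G)) 3 (by rw [hQ])
    have hy' : orderOf (y : G) = 5 := by rw [Subgroup.orderOf_coe]; exact hy
    have hx' : orderOf (x : G) = 3 := by rw [Subgroup.orderOf_coe]; exact hx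
    have hmem : (y : G) * (x : G) * (y : G)⁻¹ ∈ Subgroup.zpowers (x : G) :=
      mem_zpowers_of_small (H := (Q : Subgroup G)) (by norm_num) (by rw [hQ]; norm_num) x.2
        ((Subgroup.mem_normalizer_iff.1 y.2 _).1 x.2) hx'
        ((MulEquiv.orderOf_eq (MulAut.conj (y : G)) (x : G)).trans hx')
    refine exists_order_fifteen_of_commute hx' hy' (exists_pow_conj hmem (b := 5) ?_ ?_ (by rw [hx']; norm_num))
    · rw [← hy']; exact pow_orderOf_eq_one _
    · rw [hx']; decide
  by_cases hb : ∃ g : G, orderOf g = 15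
  · exact Or.inr hb
  left
  haveI : Nontrivial G := Finite.one_lt_card_iff_nontrivial.1 (by rw [h60]; norm_num)
  refine ⟨fun N hN => ?_⟩
  by_contra hc
  push_neg at hc
  obtain ⟨hnb, hnt⟩ := hc
  haveI := hN
  -- orders 5, 10, 15, 20
  have c5 : ∀ M : Subgroup G, M.Normal → 5 ∣ Nat.card M → Nat.card M < 25 → False := fun M hM h5 hlt =>
    hb (exists_fifteen_of_small h5 hlt hx₀ fun a ha => hM.conj_mem a ha x₀)
  -- order 30
  have c30 : ∀ M : Subgroup G, Nat.card M = 30 → False := by
    intro M hM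
    obtain ⟨K, hK⟩ := H65.exists_index_two_of_card_mod_four (G := M) (by rw [hM])
    have hK15 : Nat.card K = 15 := by
      have := Subgroup.card_mul_index K
      rw [hK, hM] at this
      omega
    obtain ⟨x, hx⟩ := exists_prime_orderOf_dvd_card' (G := K) 3 (by rw [hK15]; norm_num)
    have hK' : Nat.card (K.map M.subtype) = 15 := by
      rw [Subgroup.card_map_of_injective M.subtype_injective, hK15]
    have hxm : ((x : M) : G) ∈ K.map M.subtype := Subgroup.mem_map_of_mem _ x.2
    exact hb (exists_fifteen_of_small (H := K.map M.subtype) (by rw [hK']; norm_num) (by rw [hK']; norm_num)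
      (x := ((x : M) : G)) (by rw [Subgroup.orderOf_coe, Subgroup.orderOf_coe]; exact hx)
      fun a ha => mul_mem (mul_mem hxm ha) (inv_mem hxm))
  -- orders 3, 6, 12
  have c3 : ∀ M : Subgroup G, M.Normal → 3 ∣ Nat.card M → Nat.card M ≤ 12 → False := by
    intro M hM h3 hle
    apply hs3
    have hQM : ∀ Q : Sylow 3 G, (Q : Subgroup G) ≤ M := by
      obtain ⟨z, hz⟩ := exists_prime_orderOf_dvd_card' (G := M) 3 h3
      have hz' : orderOf (z : G) = 3 := by rw [Subgroup.orderOf_coe]; exact hz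
      intro Q
      obtain ⟨Q₀, hQ₀⟩ := (IsPGroup.of_card (n := 1) (by rw [Nat.card_zpowers, hz', pow_one]) :
        IsPGroup 3 (Subgroup.zpowers (z : G))).exists_le_sylow
      have hQ₀M : (Q₀ : Subgroup G) ≤ M := by
        have hcard : Nat.card (Q₀ : Subgroup G) = 3 := by
          rw [Sylow.card_eq_multiplicity, h60, show (60 : ℕ) = 3 ^ 1 * 20 by norm_num,
            Nat.factorization_mul (by norm_num) (by norm_num)]
          simp [Nat.factorization_eq_zero_of_not_dvd (show ¬ 3 ∣ 20 by norm_num),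
            Nat.Prime.factorization_self (show Nat.Prime 3 by norm_num)]
        rw [← Subgroup.eq_of_le_of_card_ge hQ₀ (by rw [hcard, Nat.card_zpowers, hz'])]
        exact (Subgroup.zpowers_le.2 z.2)
      obtain ⟨g, rfl⟩ := MulAction.exists_smul_eq G Q₀ Q
      intro a ha
      rw [Sylow.coe_subgroup_smul, Subgroup.mem_pointwise_smul_iff_inv_smul_mem] at ha
      have := hM.conj_mem _ (hQ₀M ha) g
      simpa [mul_assoc] using this
    refine le_trans (Nat.card_le_card_of_injective (fun Q : Sylow 3 G => Q.subtype (hQM Q))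
      fun Q Q' e => Sylow.subtype_injective e) ?_
    obtain ⟨Q⟩ : Nonempty (Sylow 3 M) := inferInstance
    have h1 := Q.card_dvd_index
    have h2 := Subgroup.card_mul_index (Q : Subgroup M)
    have h3' : 3 ≤ Nat.card (Q : Subgroup M) := Nat.le_of_dvd Nat.card_pos (by
      have := Q.pow_dvd_card_of_pow_dvd_card (n := 1) (by rw [pow_one]; exact h3)
      rwa [pow_one] at this)
    have hi : (Q : Subgroup M).index ≤ 4 := by nlinarith
    exact le_trans (Nat.le_of_dvd (Nat.pos_of_ne_zero Subgroup.index_ne_zero_of_finite) h1) hi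
  have hd : Nat.card N ∈ Nat.divisors 60 :=
    Nat.mem_divisors.2 ⟨h60 ▸ Subgroup.card_subgroup_dvd_card N, by norm_num⟩
  rw [show Nat.divisors 60 = {1, 2, 3, 4, 5, 6, 10, 12, 15, 20, 30, 60} from by decide +kernel] at hd
  simp only [Finset.mem_insert, Finset.mem_singleton] at hd
  have hqc : Nat.card N * Nat.card (G ⧸ N) = 60 := h60 ▸ Subgroup.card_mul_index N
  have hcomap : ∀ K : Subgroup (G ⧸ N), Nat.card (K.comap (QuotientGroup.mk' N)) = Nat.card N * Nat.card K := by
    intro K
    have h1 := Subgroup.card_mul_index (K.comap (QuotientGroup.mk' N))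
    rw [Subgroup.index_comap_of_surjective _ (QuotientGroup.mk'_surjective N), h60, ← hqc,
      ← Subgroup.card_mul_index K, ← mul_assoc] at h1
    exact Nat.eq_of_mul_eq_mul_right (Nat.pos_of_ne_zero Subgroup.index_ne_zero_of_finite) h1
  rcases hd with e | e | e | e | e | e | e | e | e | e | e | e
  · exact hnb (Subgroup.card_eq_one.1 e)
  · obtain ⟨K, hK⟩ := H65.exists_index_two_of_card_mod_four (G := G ⧸ N) (by
      rw [e] at hqc; omega)
    have := Subgroup.card_mul_index K
    rw [hK] at this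
    exact c30 (K.comap (QuotientGroup.mk' N)) (by rw [hcomap, e]; rw [e] at hqc; omega)
  · exact c3 N hN (by rw [e]) (by omega)
  · have hq : Nat.card (G ⧸ N) = 15 := by rw [e] at hqc; omega
    obtain ⟨y, hy⟩ := exists_prime_orderOf_dvd_card' (G := G ⧸ N) 5 (by rw [hq]; norm_num)
    have hnorm : (Subgroup.zpowers y).Normal := ⟨fun a ha g => by
      obtain ⟨k, rfl⟩ := ha
      rw [← conj_zpow]
      refine Subgroup.zpow_mem _ ?_ _
      refine mem_zpowers_of_small (H := ⊤) (by norm_num) (by rw [Subgroup.card_top, hq]; norm_num)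
        (Subgroup.mem_top _) (Subgroup.mem_top _) hy ?_
      exact (MulEquiv.orderOf_eq (MulAut.conj g) y).trans hy⟩
    refine c5 ((Subgroup.zpowers y).comap (QuotientGroup.mk' N)) (hnorm.comap _) ?_ ?_
    · rw [hcomap, e, Nat.card_zpowers, hy]; norm_num
    · rw [hcomap, e, Nat.card_zpowers, hy]; norm_num
  · exact c5 N hN (by rw [e]) (by omega)
  · exact c3 N hN (by rw [e]; norm_num) (by omega)
  · exact c5 N hN (by rw [e]; norm_num) (by omega)
  · exact c3 N hN (by rw [e]; norm_num) (by omega)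
  · exact c5 N hN (by rw [e]; norm_num) (by omega)
  · exact c5 N hN (by rw [e]; norm_num) (by omega)
  · exact c30 N e
  · exact hnt (Subgroup.eq_top_of_card_eq N (e.trans h60.symm))

theorem no_degree_tuples : ∀ a ∈ [1, 2, 3, 4, 6], ∀ b ∈ [1, 2, 3, 4, 6], ∀ c ∈ [1, 2, 3, 4, 6],
    ∀ d ∈ [1, 2, 3, 4, 6], a ^ 2 + b ^ 2 + c ^ 2 + d ^ 2 ≠ 59 := by decide +kernel

theorem five_degree_A5 : ∃ χ : IrrCharacter (alternatingGroup (Fin 5)),
    5 ∣ H12.degree (χ : alternatingGroup (Fin 5) → ℂ) := by
  classical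
  by_contra hh
  push_neg at hh
  have h60 : Nat.card (alternatingGroup (Fin 5)) = 60 := by
    rw [nat_card_alternatingGroup, Nat.card_fin]; decide
  have hcl : Nat.card (ConjClasses (alternatingGroup (Fin 5))) = 5 := by
    rw [Nat.card_eq_fintype_card]; decide +kernel
  have hc : Fintype.card (IrrCharacter (alternatingGroup (Fin 5))) = 5 := by
    rw [← Nat.card_eq_fintype_card, H12.card_irrCharacter, hcl]
  have hsum := H12.sum_degree_sq_nat (G := alternatingGroup (Fin 5))
  rw [h60, ← Finset.add_sum_erase _ _ (Finset.mem_univ (⟨_, H12.isIrrCharacter_one⟩ : IrrCharacter (alternatingGroup (Fin 5))))] at hsum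
  have h1 : H12.degree (fun _ : alternatingGroup (Fin 5) => (1 : ℂ)) = 1 := by simp [H12.degree]
  rw [h1] at hsum
  have hm : ∀ χ : IrrCharacter (alternatingGroup (Fin 5)),
      H12.degree (χ : alternatingGroup (Fin 5) → ℂ) ∈ [1, 2, 3, 4, 6] := by
    intro χ
    have hd := H12.irr_degree_dvd_card χ
    rw [h60] at hd
    have hsq : H12.degree (χ : alternatingGroup (Fin 5) → ℂ) ^ 2 ≤ 60 := by
      rw [← h60, ← H12.sum_degree_sq_nat (G := alternatingGroup (Fin 5))]
      exact Finset.single_le_sum (f := fun ψ : IrrCharacter (alternatingGroup (Fin 5)) =>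
        H12.degree (ψ : alternatingGroup (Fin 5) → ℂ) ^ 2) (fun _ _ => Nat.zero_le _) (Finset.mem_univ χ)
    have h5 := hh χ
    have hpos := H12.irr_degree_pos χ
    generalize H12.degree (χ : alternatingGroup (Fin 5) → ℂ) = d at hd hsq h5 hpos
    have : d ≤ 7 := by nlinarith
    interval_cases d <;> simp_all
  obtain ⟨a, b, c, d, hab, hac, had, hbc, hbd, hcd, hs⟩ := Finset.card_eq_four.1
    (show ((Finset.univ : Finset (IrrCharacter (alternatingGroup (Fin 5)))).erase ⟨_, H12.isIrrCharacter_one⟩).card = 4 by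
      rw [Finset.card_erase_of_mem (Finset.mem_univ _), Finset.card_univ, hc])
  rw [hs] at hsum
  simp [hab, hac, had, hbc, hbd, hcd] at hsum
  exact no_degree_tuples _ (hm a) _ (hm b) _ (hm c) _ (hm d) (by omega)

end H17
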