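import Cfsg.Agent.H15.FullyRamified
import Cfsg.Agent.H15.Extension
import Cfsg.Agent.H18.FixedExtension
import Cfsg.Agent.H12.Induction

/-!
A fully ramified quotient has no self-centralizing cyclic subgroup.
-/

set_option autoImplicit false
set_option linter.unusedSectionVars false
set_option linter.style.haveILetI false

namespace H17.RamifiedCyclic

open Cfsg Finset
open scoped ComplexConjugate

universe u

variable {G : Type u} [Group G] [Fintype G]

/-- A character averaging to zero on a subgroup averages to zero on each of its cosets. -/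
theorem sum_coset_eq_zero (N : Subgroup G) [Fintype N] {φ : G → ℂ} (hφ : IsCharacter G φ)
    (h : ∑ n : N, φ n = 0) (x : G) : ∑ n : N, φ (x * n) = 0 := by
  obtain ⟨d, ρ, rfl⟩ := hφ
  let S : Module.End ℂ (Fin d → ℂ) := ∑ n : N, ρ (n : G)
  have hN : (Nat.card N : ℂ) ≠ 0 := by exact_mod_cast Nat.card_pos.ne'
  have hSS : ∀ m : N, ρ (m : G) * S = S := fun m => by
    simp only [S, Finset.mul_sum, ← map_mul]
    exact Fintype.sum_equiv (Equiv.mulLeft m) _ _ fun _ => rfl
  let P : Module.End ℂ (Fin d → ℂ) := (Nat.card N : ℂ)⁻¹ • S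
  have hPP : P * P = P := by
    have : S * S = (Nat.card N : ℂ) • S := by
      conv_lhs => arg 1; simp only [S]
      rw [Finset.sum_mul, Finset.sum_congr rfl fun m _ => hSS m, Finset.sum_const,
        Finset.card_univ, ← Nat.card_eq_fintype_card, ← Nat.cast_smul_eq_nsmul ℂ]
    simp only [P, smul_mul_smul_comm, this, smul_smul, mul_assoc, inv_mul_cancel₀ hN, mul_one]
  have hproj : LinearMap.IsProj (LinearMap.range P) P :=
    ⟨fun v => LinearMap.mem_range_self P v, fun v ⟨w, hw⟩ => by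
      rw [← hw]; exact congrArg (fun F : Module.End ℂ (Fin d → ℂ) => F w) hPP⟩
  have htr : LinearMap.trace ℂ _ P = 0 := by
    simp only [P, S, map_smul, _root_.map_sum]
    rw [smul_eq_mul]
    exact mul_eq_zero_of_right _ h
  have hP0 : P = 0 := by
    rw [← LinearMap.range_eq_bot]
    apply Submodule.finrank_eq_zero.1
    exact_mod_cast hproj.trace.symm.trans htr
  have hS0 : S = 0 := by
    have : (Nat.card N : ℂ) • P = S := by simp only [P, smul_inv_smul₀ hN]
    rw [← this, hP0, smul_zero]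
  have : ∑ n : N, ρ (x * n) = 0 := by
    simp only [map_mul, ← Finset.mul_sum]
    exact mul_eq_zero_of_right _ hS0
  simp only [Representation.character, ← _root_.map_sum, this, map_zero]

open scoped Classical in
theorem main (Z : Subgroup G) [Z.Normal] (χ : IrrCharacter G)
    (hfr : ∃ (θ : IrrCharacter ↥Z) (e : ℕ), e ^ 2 = Z.index ∧
      ∀ z : ↥Z, (χ : G → ℂ) z = (e : ℂ) * (θ : ↥Z → ℂ) z)
    (hZ : Z ≠ ⊤) (C : Subgroup (G ⧸ Z)) (hC : IsCyclic C) :
    Subgroup.centralizer (C : Set (G ⧸ Z)) ≠ C := by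
  intro hcent
  obtain ⟨θ, e, hidx, hres⟩ := hfr
  have hres' : (fun n : Z => (χ : G → ℂ) n) = (e : ℂ) • (θ : Z → ℂ) := funext fun n => hres n
  have he0 : e ≠ 0 := fun h0 => Subgroup.index_ne_zero_of_finite (by rw [← hidx, h0]; rfl)
  have hcon : classInner (fun n : Z => (χ : G → ℂ) n) (θ : Z → ℂ) ≠ 0 := by
    rw [hres', H12.classInner_smul_left, H12.classInner_irr_self, mul_one]
    exact_mod_cast he0
  obtain ⟨h1, h2⟩ := H15.fullyRamified_equiv Z χ.2 θ.2 hcon
  obtain ⟨hvan, hinv⟩ := h1.1 ⟨e, hres', hidx⟩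
  obtain ⟨-, huniq⟩ := h2.1 ⟨e, hres', hidx⟩
  -- a generator of `C`
  obtain ⟨⟨q, hqC⟩, hgen⟩ := hC.exists_generator
  obtain ⟨x, rfl⟩ := QuotientGroup.mk'_surjective Z q
  have hxZ : x ∉ Z := by
    intro hx
    apply hZ
    have hC1 : C = ⊥ := by
      rw [Subgroup.eq_bot_iff_forall]
      intro c hc
      obtain ⟨k, hk⟩ := Subgroup.mem_zpowers_iff.1 (hgen ⟨c, hc⟩)
      rw [← show (QuotientGroup.mk' Z x) ^ k = c from congrArg Subtype.val hk,
        show QuotientGroup.mk' Z x = 1 from (QuotientGroup.eq_one_iff x).2 hx, one_zpow]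
    rw [hC1, Subgroup.coe_bot] at hcent
    have : (⊤ : Subgroup (G ⧸ Z)) ≤ ⊥ := by
      rw [← hcent]
      intro g _
      rw [Subgroup.mem_centralizer_singleton_iff]; simp
    rw [Subgroup.eq_top_iff']
    intro g
    exact (QuotientGroup.eq_one_iff g).1
      (Subgroup.mem_bot.1 (this (Subgroup.mem_top (g : G ⧸ Z))))
  set C' := C.comap (QuotientGroup.mk' Z) with hC'
  have hZC : Z ≤ C' := fun z hz => by
    show QuotientGroup.mk' Z z ∈ C
    rw [show QuotientGroup.mk' Z z = 1 from (QuotientGroup.eq_one_iff z).2 hz]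
    exact C.one_mem
  have hxC : x ∈ C' := hqC
  set N := Z.subgroupOf C' with hN
  have hNn : N.Normal := Subgroup.normal_subgroupOf
  let ι : N ≃* Z := Subgroup.subgroupOfEquivOfLe hZC
  have hcyc : IsCyclic (↥C' ⧸ N) := by
    refine ⟨⟨(((⟨x, hxC⟩ : C')) : ↥C' ⧸ N), fun y => ?_⟩⟩
    obtain ⟨y, rfl⟩ := QuotientGroup.mk_surjective y
    obtain ⟨k, hk⟩ := Subgroup.mem_zpowers_iff.1 (hgen ⟨_, y.2⟩)
    refine Subgroup.mem_zpowers_iff.2 ⟨k, ?_⟩
    rw [← QuotientGroup.mk_zpow]
    refine QuotientGroup.eq.2 (Subgroup.mem_subgroupOf.2 ((QuotientGroup.eq_one_iff _).1 ?_))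
    have hk' : (QuotientGroup.mk' Z x) ^ k = QuotientGroup.mk' Z (y : G) :=
      congrArg Subtype.val hk
    show QuotientGroup.mk' Z ((x ^ k)⁻¹ * (y : G)) = 1
    rw [map_mul, map_inv, map_zpow, hk', inv_mul_cancel]
  -- the extension of `θ`
  obtain ⟨d, ρ, hρi, hρ⟩ := H12.IsIrrCharacter.comp_surjective θ.2 (f := ι.toMonoidHom) ι.surjective
  have := hρi
  obtain ⟨η, hη, hηres⟩ := H15.extends_of_cyclic (ρ := ρ) (fun g r => by
    rw [hρ]
    have := congrFun (hinv (g : G)) (ι r)
    rw [H13.twist_apply] at this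
    exact (congrArg (θ : Z → ℂ) (Subtype.ext rfl)).trans this) hcyc
  have hηθ : ∀ n : N, η n = (θ : Z → ℂ) (ι n) := fun n => by rw [hηres n, hρ]; rfl
  have hab : IsMulCommutative (↥C' ⧸ N) := IsCyclic.isMulCommutative
  have hnorm := H18.sum_coset_norm (N := N) (⟨η, hη⟩ : IrrCharacter C') (θ := fun n => η n)
    (by
      rw [show (fun n : N => η n) = (θ : Z → ℂ) ∘ ι.toMonoidHom from funext hηθ]
      exact H12.IsIrrCharacter.comp_surjective θ.2 ι.surjective) rfl ⟨x, hxC⟩
  obtain ⟨n₀, hn₀⟩ : ∃ n : N, η (⟨x, hxC⟩ * n) ≠ 0 := by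
    by_contra hall
    push Not at hall
    rw [Finset.sum_eq_zero (fun n _ => mul_eq_zero_of_left (hall n) _)] at hnorm
    exact (Nat.cast_ne_zero.2 Nat.card_pos.ne') hnorm.symm
  -- the class function supported on the conjugates of the coset
  let π := QuotientGroup.mk' Z
  let g0 : C' → ℂ := fun y => if π (y : G) = π x then η y else 0
  set f := indFun C' g0 with hf
  have hπn : ∀ n : N, π ((n : C') : G) = 1 := fun n =>
    (QuotientGroup.eq_one_iff _).2 (Subgroup.mem_subgroupOf.1 n.2)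
  have hf0 : ∀ ξ : IrrCharacter G, classInner f (ξ : G → ℂ) = 0 := by
    intro ξ
    rw [hf, H12.classInner_indFun C' g0 (H12.irr_isClassFunction ξ), H12.classInner_def]
    refine mul_eq_zero_of_right _ ?_
    by_cases hξ : classInner (indFun Z (θ : Z → ℂ)) (ξ : G → ℂ) = 0
    · -- `ξ` does not lie over `θ`
      let φ : C' → ℂ := fun y => η y * conj ((ξ : G → ℂ) y)
      have hφ : IsCharacter C' φ := H12.IsCharacter.mul (H12.isCharacter_of_isIrrCharacter hη)
        (H12.IsCharacter.star (H12.IsCharacter.res (H12.isCharacter_irr ξ) C'))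
      have hφN : ∑ n : N, φ n = 0 := by
        rw [H12.classInner_indFun Z _ (H12.irr_isClassFunction ξ), H12.classInner_def,
          mul_eq_zero] at hξ
        refine Eq.trans ?_ (hξ.resolve_left (inv_ne_zero (by exact_mod_cast Nat.card_pos.ne')))
        exact Fintype.sum_equiv ι.toEquiv _ _ fun n => by
          show η n * conj ((ξ : G → ℂ) ((n : C') : G)) = _
          rw [hηθ n]; rfl
      rw [← sum_coset_eq_zero N hφ hφN ⟨x, hxC⟩]
      simp only [g0, ite_mul, zero_mul, ← Finset.sum_filter]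
      refine (Finset.sum_bij (fun (n : N) _ => (⟨x, hxC⟩ : C') * n)
        (fun n _ => Finset.mem_filter.2 ⟨Finset.mem_univ _, by
          show π (x * ((n : C') : G)) = π x
          rw [map_mul, hπn, mul_one]⟩)
        (fun a _ b _ hab' => Subtype.ext (mul_left_cancel hab'))
        (fun y hy => ⟨⟨(⟨x, hxC⟩ : C')⁻¹ * y, Subgroup.mem_subgroupOf.2
          ((QuotientGroup.eq_one_iff _).1 (by
            show π (x⁻¹ * (y : G)) = 1
            rw [map_mul, map_inv, (Finset.mem_filter.1 hy).2, inv_mul_cancel]))⟩,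
          Finset.mem_univ _, mul_inv_cancel_left _ _⟩) (fun n _ => rfl)).symm
    · have hξχ := huniq (ξ : G → ℂ) ξ.2 hξ
      refine Finset.sum_eq_zero fun y _ => ?_
      simp only [g0]
      split_ifs with hy
      · rw [hξχ, hvan (y : G) (fun hyZ => hxZ ((QuotientGroup.eq_one_iff x).1 ?_)), map_zero,
          mul_zero]
        show π x = 1
        rw [← hy]; exact (QuotientGroup.eq_one_iff _).2 hyZ
      · rw [zero_mul]
  have hfz := H12.eq_zero_of_classInner_irr_eq_zero (H12.indFun_isClassFunction C' g0) hf0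
  -- but it is not zero
  set y₀ : C' := ⟨x, hxC⟩ * n₀ with hy₀
  have hπy : π (y₀ : G) = π x := by
    show π (x * ((n₀ : C') : G)) = π x
    rw [map_mul, hπn, mul_one]
  have hval := congrFun hfz (y₀ : G)
  rw [H12.indFun_apply, Pi.zero_apply, mul_eq_zero] at hval
  have hval := hval.resolve_left (inv_ne_zero (by exact_mod_cast Nat.card_pos.ne'))
  rw [← Finset.sum_filter_add_sum_filter_not Finset.univ (fun h : G => h ∈ C'),
    Finset.sum_congr rfl (g := fun _ => η y₀), Finset.sum_const,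
    Finset.sum_eq_zero (s := Finset.univ.filter fun h : G => ¬ h ∈ C'), add_zero,
    nsmul_eq_mul] at hval
  · refine mul_ne_zero (Nat.cast_ne_zero.2 (Finset.card_ne_zero.2 ⟨1, ?_⟩)) hn₀ hval
    simp
  · intro h hh
    have hh := (Finset.mem_filter.1 hh).2
    by_cases hmem : h⁻¹ * (y₀ : G) * h ∈ C'
    · rw [H12.extendByZero_mk C' _ hmem]
      simp only [g0]
      refine if_neg fun hcomm => hh ?_
      show π h ∈ C
      rw [← hcent, Subgroup.mem_centralizer_iff]
      intro c hc
      obtain ⟨k, hk⟩ := Subgroup.mem_zpowers_iff.1 (hgen ⟨c, hc⟩)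
      rw [← show (π x) ^ k = c from congrArg Subtype.val hk]
      rw [map_mul, map_mul, map_inv, hπy, mul_assoc, inv_mul_eq_iff_eq_mul] at hcomm
      exact ((show Commute (π x) (π h) from hcomm).zpow_left k).eq
    · exact H12.extendByZero_of_notMem C' _ hmem
  · intro h hh
    have hh := (Finset.mem_filter.1 hh).2
    have hmem : h⁻¹ * (y₀ : G) * h ∈ C' :=
      C'.mul_mem (C'.mul_mem (C'.inv_mem hh) y₀.2) hh
    rw [H12.extendByZero_mk C' _ hmem]
    simp only [g0]
    rw [if_pos]
    · refine Eq.trans (congrArg η (Subtype.ext (by simp)))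
        (H12.IsCharacter.isClassFunction (H12.isCharacter_of_isIrrCharacter hη) y₀
          (⟨h, hh⟩ : C')⁻¹)
    · rw [map_mul, map_mul, map_inv, hπy]
      obtain ⟨k, hk⟩ := Subgroup.mem_zpowers_iff.1 (hgen ⟨π h, hh⟩)
      rw [← show (π x) ^ k = π h from congrArg Subtype.val hk]
      group

end H17.RamifiedCyclic
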