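import Mathlib
import Cfsg.Agent.H12.Basic

/-!
Blichfeldt: in a simple finite linear group only the scalars have an eigenvalue within sixty
degrees of all the others.
-/

set_option autoImplicit false
set_option linter.unusedSectionVars false

namespace H17.Blichfeldt

open Finset Module
open scoped ComplexConjugate InnerProductSpace

universe u

variable {G : Type u} [Group G] [Fintype G] {n : ℕ}

/-- The averaged embedding into a Euclidean space. -/
noncomputable def avgEmb (ρ : Representation ℂ G (Fin n → ℂ)) :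
    (Fin n → ℂ) →ₗ[ℂ] EuclideanSpace ℂ (G × Fin n) where
  toFun v := WithLp.toLp 2 fun p => ρ p.1 v p.2
  map_add' v w := by ext p; simp
  map_smul' c v := by ext p; simp

theorem avgEmb_apply (ρ : Representation ℂ G (Fin n → ℂ)) (v : Fin n → ℂ) (p : G × Fin n) :
    avgEmb ρ v p = ρ p.1 v p.2 := rfl

theorem avgEmb_injective (ρ : Representation ℂ G (Fin n → ℂ)) : Function.Injective (avgEmb ρ) := by
  intro v w h
  funext i
  have := congrArg (fun x : EuclideanSpace ℂ (G × Fin n) => x (1, i)) h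
  simpa [avgEmb_apply] using this

theorem inner_avgEmb_rep (ρ : Representation ℂ G (Fin n → ℂ)) (g : G) (v w : Fin n → ℂ) :
    ⟪avgEmb ρ (ρ g v), avgEmb ρ (ρ g w)⟫_ℂ = ⟪avgEmb ρ v, avgEmb ρ w⟫_ℂ := by
  simp only [PiLp.inner_apply, avgEmb_apply, Fintype.sum_prod_type]
  refine (Finset.sum_congr rfl fun x _ => ?_).trans (Equiv.sum_comp (Equiv.mulRight g)
    (fun x => ∑ i, ⟪ρ x v i, ρ x w i⟫_ℂ))
  simp only [Equiv.coe_mulRight, map_mul]
  rfl

theorem norm_avgEmb_rep (ρ : Representation ℂ G (Fin n → ℂ)) (g : G) (v : Fin n → ℂ) :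
    ‖avgEmb ρ (ρ g v)‖ = ‖avgEmb ρ v‖ := by
  rw [@norm_eq_sqrt_re_inner ℂ, @norm_eq_sqrt_re_inner ℂ _ _ _ _ (avgEmb ρ v), inner_avgEmb_rep]

theorem inner_eq_zero_of_eigen (ρ : Representation ℂ G (Fin n → ℂ)) (s : G) {μ ν : ℂ}
    (hμ : μ ^ orderOf s = 1) {v w : Fin n → ℂ} (hv : ρ s v = μ • v) (hw : ρ s w = ν • w)
    (hne : μ ≠ ν) : ⟪avgEmb ρ v, avgEmb ρ w⟫_ℂ = 0 := by
  have h := inner_avgEmb_rep ρ s v w
  rw [hv, hw, map_smul, map_smul, inner_smul_left, inner_smul_right,
    H12.conj_eq_inv_of_pow_eq_one (orderOf_pos s).ne' hμ, ← mul_assoc] at h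
  by_contra hne0
  have h1 := mul_right_cancel₀ hne0 (h.trans (one_mul _).symm)
  have hμ0 : μ ≠ 0 := fun h0 => by
    rw [h0, zero_pow (orderOf_pos s).ne'] at hμ; exact zero_ne_one hμ
  exact hne (by field_simp at h1; exact h1.symm)

/-- If the eigenvalues of a non-central element all lie within sixty degrees of the eigenvalue
`lam`, the group is not simple. -/
theorem scalar_of_close [IsSimpleGroup G] (ρ : Representation ℂ G (Fin n → ℂ)) [ρ.IsIrreducible]
    (s : G) (hs : s ≠ 1) (b : Basis (Fin (finrank ℂ (Fin n → ℂ))) ℂ (Fin n → ℂ))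
    (μ : Fin (finrank ℂ (Fin n → ℂ)) → ℂ) (hb : ∀ i, ρ s (b i) = μ i • b i)
    (hμ : ∀ i, μ i ^ orderOf s = 1) (i0 : Fin (finrank ℂ (Fin n → ℂ)))
    (hclose : ∀ i, ‖μ i - μ i0‖ < 1) : ∀ v, ρ s v = μ i0 • v := by
  classical
  set lam := μ i0 with hlam
  set V := Fin n → ℂ
  have hlamnorm : ‖lam‖ = 1 := H12.norm_eq_one_of_pow_eq_one (orderOf_pos s).ne' (hμ i0)
  have hlam0 : lam ≠ 0 := fun h => by rw [h, norm_zero] at hlamnorm; exact zero_ne_one hlamnorm
  obtain ⟨a, ha0, ha1, ha⟩ : ∃ a : ℝ, 0 ≤ a ∧ a < 1 ∧ ∀ i, ‖μ i - lam‖ ≤ a := by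
    have hne : (univ : Finset (Fin (finrank ℂ V))).Nonempty := ⟨i0, mem_univ _⟩
    obtain ⟨i, -, hi⟩ := exists_max_image univ (fun i => ‖μ i - lam‖) hne
    exact ⟨_, norm_nonneg _, hclose i, fun j => hi j (mem_univ j)⟩
  -- the contraction
  have hcontr : ∀ v : V, ‖avgEmb ρ (ρ s v - lam • v)‖ ≤ a * ‖avgEmb ρ v‖ := by
    intro v
    let t : Finset ℂ := univ.image μ
    let c := b.repr v
    let part : ℂ → V := fun z => ∑ i ∈ univ.filter (fun i => μ i = z), c i • b i
    have hv : v = ∑ z ∈ t, part z := by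
      rw [sum_fiberwise_of_maps_to (fun i _ => mem_image_of_mem _ (mem_univ i))]
      exact (b.sum_repr v).symm
    have hpart : ∀ z, ρ s (part z) = z • part z := fun z => by
      simp only [part, map_sum, map_smul, smul_sum, hb]
      refine sum_congr rfl fun i hi => ?_
      rw [(mem_filter.1 hi).2, smul_comm]
    have hz : ∀ z ∈ t, z ^ orderOf s = 1 ∧ ‖z - lam‖ ≤ a := fun z hz => by
      obtain ⟨i, -, rfl⟩ := mem_image.1 hz; exact ⟨hμ i, ha i⟩
    have horth : ∀ z ∈ t, ∀ w ∈ t, z ≠ w → ⟪avgEmb ρ (part z), avgEmb ρ (part w)⟫_ℂ = 0 :=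
      fun z hz' w _ hne => inner_eq_zero_of_eigen ρ s (hz z hz').1 (hpart z) (hpart w) hne
    have hsq : ∀ X : EuclideanSpace ℂ (G × Fin n), ((‖X‖ : ℝ) : ℂ) ^ 2 = ⟪X, X⟫_ℂ := fun X =>
      (inner_self_eq_norm_sq_to_K X).symm
    have key : ∀ f : ℂ → ℂ, ‖∑ z ∈ t, f z • avgEmb ρ (part z)‖ ^ 2 =
        ∑ z ∈ t, ‖f z‖ ^ 2 * ‖avgEmb ρ (part z)‖ ^ 2 := by
      intro f
      have hC : ((‖∑ z ∈ t, f z • avgEmb ρ (part z)‖ ^ 2 : ℝ) : ℂ) =
          ((∑ z ∈ t, ‖f z‖ ^ 2 * ‖avgEmb ρ (part z)‖ ^ 2 : ℝ) : ℂ) := by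
        push_cast
        rw [hsq, sum_inner]
        refine sum_congr rfl fun z hz' => ?_
        rw [inner_sum, sum_eq_single z (fun w hw hne => by
          rw [inner_smul_left, inner_smul_right, horth z hz' w hw hne.symm, mul_zero, mul_zero])
          (fun h => absurd hz' h), inner_smul_left, inner_smul_right, ← hsq,
          ← mul_assoc, Complex.conj_mul']
      exact_mod_cast hC
    have h1 := key (fun z => z - lam)
    have h2 := key (fun _ => 1)
    have e1 : avgEmb ρ (ρ s v - lam • v) = ∑ z ∈ t, (z - lam) • avgEmb ρ (part z) := by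
      conv_lhs => rw [hv]
      simp only [map_sum, map_sub, map_smul, smul_sum, hpart, sub_smul, sum_sub_distrib]
    have e2 : avgEmb ρ v = ∑ z ∈ t, (1 : ℂ) • avgEmb ρ (part z) := by
      conv_lhs => rw [hv]
      simp only [map_sum, one_smul]
    rw [← e1] at h1
    rw [← e2] at h2
    refine (pow_le_pow_iff_left₀ (norm_nonneg _) (mul_nonneg ha0 (norm_nonneg _)) two_ne_zero).1 ?_
    rw [h1, mul_pow, h2, mul_sum]
    refine sum_le_sum fun z hz' => ?_
    simp only [norm_one, one_pow, one_mul]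
    exact mul_le_mul_of_nonneg_right (pow_le_pow_left₀ (norm_nonneg _) (hz z hz').2 2) (sq_nonneg _)
  -- the fixed space
  let V1 : Submodule ℂ V := Module.End.eigenspace (ρ s) lam
  have hV1 : ∀ v, v ∈ V1 ↔ ρ s v = lam • v := fun v => Module.End.mem_eigenspace_iff
  let W : G → G := fun g => g⁻¹ * s⁻¹ * g * s
  have hWstep : ∀ (g : G) (v : V), v ∈ V1 → ρ (W g) v - v =
      ρ g⁻¹ (ρ s⁻¹ (lam • ρ g v - ρ s (ρ g v))) := by
    intro g v hv
    rw [map_sub, map_sub, map_smul, map_smul]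
    simp only [W, map_mul, Module.End.mul_apply]
    rw [(hV1 v).1 hv, map_smul, map_smul, map_smul]
    congr 1
    rw [← Module.End.mul_apply (ρ s⁻¹) (ρ s), ← map_mul, inv_mul_cancel, map_one,
      Module.End.one_apply, ← Module.End.mul_apply (ρ g⁻¹), ← map_mul, inv_mul_cancel, map_one,
      Module.End.one_apply]
  have hWnorm : ∀ (g : G) (v : V), v ∈ V1 →
      ‖avgEmb ρ (ρ (W g) v - v)‖ = ‖avgEmb ρ (ρ s (ρ g v) - lam • ρ g v)‖ := by
    intro g v hv
    rw [hWstep g v hv, norm_avgEmb_rep, norm_avgEmb_rep, ← norm_neg, ← map_neg, neg_sub]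
  have hdecay : ∀ (k : ℕ) (g : G) (v : V), v ∈ V1 →
      ‖avgEmb ρ (ρ s (ρ (W^[k] g) v) - lam • ρ (W^[k] g) v)‖ ≤ a ^ (k + 1) * ‖avgEmb ρ v‖ := by
    intro k
    induction k with
    | zero =>
      intro g v _
      simpa [norm_avgEmb_rep] using hcontr (ρ g v)
    | succ k ih =>
      intro g v hv
      rw [Function.iterate_succ_apply']
      set h := W^[k] g
      have e : ρ s (ρ (W h) v) - lam • ρ (W h) v =
          ρ s (ρ (W h) v - v) - lam • (ρ (W h) v - v) := by
        rw [map_sub, smul_sub, (hV1 v).1 hv]; abel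
      rw [e]
      refine (hcontr _).trans ?_
      rw [hWnorm h v hv, pow_succ' a (k + 1), mul_assoc]
      exact mul_le_mul_of_nonneg_left (ih g v hv) ha0
  have hpres : ∀ g : G, ∀ v ∈ V1, ρ (W g) v ∈ V1 := by
    intro g
    -- downward induction
    have hstep : ∀ k : ℕ, (∀ v ∈ V1, ρ (W^[k + 2] g) v ∈ V1) → ∀ v ∈ V1, ρ (W^[k + 1] g) v ∈ V1 := by
      intro k hk v hv
      set h := W^[k + 1] g with hh
      have hWh : ρ (W h) v ∈ V1 := by
        rw [hh, ← Function.iterate_succ_apply' W (k + 1) g]; exact hk v hv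
      let u := ρ (W h) v - v
      have hu : u ∈ V1 := V1.sub_mem hWh hv
      have hgu : ρ h u = ρ s⁻¹ (lam • ρ h v - ρ s (ρ h v)) := by
        simp only [u]
        rw [hWstep h v hv, ← Module.End.mul_apply, ← map_mul, mul_inv_cancel, map_one,
          Module.End.one_apply]
      have hperp : ⟪avgEmb ρ (ρ h u), avgEmb ρ u⟫_ℂ = 0 := by
        rw [← inner_avgEmb_rep ρ s, hgu, ← Module.End.mul_apply (ρ s) (ρ s⁻¹), ← map_mul,
          mul_inv_cancel, map_one, Module.End.one_apply, (hV1 u).1 hu, map_sub, inner_sub_left,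
          map_smul, map_smul, inner_smul_left, inner_smul_right]
        have h2 := inner_avgEmb_rep ρ s (ρ h v) u
        rw [(hV1 u).1 hu, map_smul, inner_smul_right] at h2
        rw [inner_smul_right, h2, ← mul_assoc, Complex.conj_mul', hlamnorm]
        simp
      have hsmall : ‖avgEmb ρ (ρ h u - u)‖ ≤ a ^ (k + 1) * ‖avgEmb ρ u‖ := by
        rw [hh, Function.iterate_succ_apply', hWnorm _ u hu]
        exact hdecay k g u hu
      have hpy : ‖avgEmb ρ (ρ h u - u)‖ ^ 2 = 2 * ‖avgEmb ρ u‖ ^ 2 := by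
        rw [map_sub, @norm_sub_sq ℂ, hperp, norm_avgEmb_rep]
        simp; ring
      have hak : a ^ (k + 1) ≤ 1 := pow_le_one₀ ha0 ha1.le
      have hu0 : ‖avgEmb ρ u‖ = 0 := by
        have h1 : ‖avgEmb ρ (ρ h u - u)‖ ≤ ‖avgEmb ρ u‖ :=
          hsmall.trans (mul_le_of_le_one_left (norm_nonneg _) hak)
        have h2 := pow_le_pow_left₀ (norm_nonneg _) h1 2
        rw [hpy] at h2
        nlinarith [norm_nonneg (avgEmb ρ u)]
      have hzero : ρ s (ρ h v) - lam • ρ h v = 0 := by
        refine avgEmb_injective ρ ?_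
        rw [map_zero, ← norm_eq_zero, ← hWnorm h v hv]
        exact hu0
      exact (hV1 _).2 (sub_eq_zero.1 hzero)
    obtain ⟨k, l, hkl, he⟩ : ∃ k l : ℕ, k < l ∧ W^[k + 1] g = W^[l + 1] g := by
      obtain ⟨x, y, hxy, he⟩ := Finite.exists_ne_map_eq_of_infinite (fun k : ℕ => W^[k + 1] g)
      rcases lt_or_gt_of_ne hxy with h | h
      · exact ⟨x, y, h, he⟩
      · exact ⟨y, x, h, he.symm⟩
    have hper : ∀ t : ℕ, W^[k + 1 + t * (l - k)] g = W^[k + 1] g := by
      intro t
      induction t with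
      | zero => simp
      | succ t ih =>
        rw [show k + 1 + (t + 1) * (l - k) = (l - k) + (k + 1 + t * (l - k)) by ring,
          Function.iterate_add_apply, ih, ← Function.iterate_add_apply,
          show l - k + (k + 1) = l + 1 by omega]
        exact he.symm
    have hbase : ∀ v ∈ V1, ρ (W^[k + 1] g) v ∈ V1 := by
      intro v hv
      refine (hV1 _).2 (sub_eq_zero.1 (avgEmb_injective ρ ?_))
      rw [map_zero, ← norm_eq_zero]
      refine le_antisymm (le_of_forall_pos_le_add fun ε hε => ?_) (norm_nonneg _)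
      obtain ⟨t, ht⟩ := exists_pow_lt_of_lt_one (div_pos hε (by positivity : (0:ℝ) < ‖avgEmb ρ v‖ + 1)) ha1
      have hle := hdecay (k + 1 + t * (l - k)) g v hv
      rw [hper] at hle
      rw [zero_add]
      refine hle.trans ?_
      have hpow : a ^ (k + 1 + t * (l - k) + 1) ≤ a ^ t :=
        pow_le_pow_of_le_one ha0 ha1.le (by
          have := Nat.le_mul_of_pos_right t (show 0 < l - k by omega)
          omega)
      rw [lt_div_iff₀ (by positivity)] at ht
      nlinarith [norm_nonneg (avgEmb ρ v), pow_nonneg ha0 t,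
        mul_le_mul_of_nonneg_right hpow (norm_nonneg (avgEmb ρ v))]
    have hdown : ∀ j, ∀ v ∈ V1, ρ (W^[k + 1 - j] g) v ∈ V1 ∨ k + 1 ≤ j := by
      intro j
      induction j with
      | zero => exact fun v hv => Or.inl (hbase v hv)
      | succ j ih =>
        intro v hv
        by_cases hj : k + 1 ≤ j + 1
        · exact Or.inr hj
        push Not at hj
        obtain ⟨i, hi⟩ : ∃ i, k + 1 - (j + 1) = i + 1 := ⟨k - (j + 1), by omega⟩
        rw [hi]
        refine Or.inl (hstep i (fun w hw => ?_) v hv)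
        rcases ih w hw with h | h
        · rwa [show k + 1 - j = i + 2 by omega] at h
        · omega
    intro v hv
    have := (hdown k v hv).resolve_right (by omega)
    rwa [show k + 1 - k = 1 by omega, Function.iterate_one] at this
  let K : Subgroup G :=
    { carrier := {g | ∀ v ∈ V1, ρ g v ∈ V1}
      mul_mem' := fun {x y} hx hy v hv => by
        rw [map_mul, Module.End.mul_apply]; exact hx _ (hy v hv)
      one_mem' := fun v hv => by rw [map_one, Module.End.one_apply]; exact hv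
      inv_mem' := fun {x} hx => by
        have hpow : ∀ j : ℕ, ∀ v ∈ V1, ρ (x ^ j) v ∈ V1 := by
          intro j
          induction j with
          | zero => exact fun v hv => by rw [pow_zero, map_one, Module.End.one_apply]; exact hv
          | succ j ih =>
            intro v hv
            rw [pow_succ', map_mul, Module.End.mul_apply]; exact hx _ (ih v hv)
        have hx' : x⁻¹ = x ^ (orderOf x - 1) := inv_eq_of_mul_eq_one_right (by
          rw [← pow_succ', Nat.sub_add_cancel (orderOf_pos x), pow_orderOf_eq_one])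
        show ∀ v ∈ V1, ρ x⁻¹ v ∈ V1
        rw [hx']; exact hpow _ }
  have hsK : s ∈ K := fun v hv => by rw [(hV1 v).1 hv]; exact V1.smul_mem _ hv
  have hconjK : ∀ g : G, g * s * g⁻¹ ∈ K := fun g => by
    have h := K.mul_mem (show W g⁻¹ ∈ K from hpres g⁻¹) (inv_mem hsK)
    have := inv_mem h
    simpa [W, mul_assoc] using this
  have htop : K = ⊤ := by
    have hn : (Subgroup.normalClosure ({s} : Set G)) ≤ K :=
      (Subgroup.closure_le K).2 fun x hx => by
        obtain ⟨g, hg, hc⟩ := Group.mem_conjugatesOfSet_iff.1 hx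
        rw [Set.mem_singleton_iff] at hg
        subst hg
        obtain ⟨c, rfl⟩ := isConj_iff.1 hc
        exact hconjK c
    rcases (inferInstance : (Subgroup.normalClosure ({s} : Set G)).Normal).eq_bot_or_eq_top with h | h
    · exact absurd (Subgroup.mem_bot.1 (h ▸ Subgroup.subset_normalClosure (Set.mem_singleton s))) hs
    · exact top_unique (h ▸ hn)
  let U : Subrepresentation ρ :=
    ⟨V1, fun g v hv => (show g ∈ K from htop ▸ Subgroup.mem_top g) v hv⟩
  rcases IsSimpleOrder.eq_bot_or_eq_top U with hU | hU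
  · have hmem : b i0 ∈ V1 := (hV1 _).2 (hb i0)
    have : (U.toSubmodule) = ⊥ := congrArg Subrepresentation.toSubmodule hU
    change V1 = ⊥ at this
    rw [this, Submodule.mem_bot] at hmem
    exact absurd hmem (b.ne_zero i0)
  · intro v
    have : V1 = ⊤ := congrArg Subrepresentation.toSubmodule hU
    exact (hV1 v).1 (this ▸ Submodule.mem_top)

end H17.Blichfeldt
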