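import Cfsg.Agent.H17.TwoGroupInvol
import Cfsg.Agent.H20.OrthConv
import Cfsg.Agent.H22.ValueMod
import Cfsg.Agent.H12.Orth

/-!
A character of full defect zero at `2` and at the primes mixed with `2`.
-/

set_option autoImplicit false
set_option linter.unusedSectionVars false

namespace H17.DefZero

open Finset Cfsg
open scoped ComplexConjugate

universe u

variable {G : Type u} [Group G] [Fintype G]

theorem vanish (χ : IrrCharacter G) {p : ℕ} (hp : p.Prime)
    (h : p ^ (Nat.card G).factorization p ∣ charDegree (χ : G → ℂ)) {y : G} (hy : p ∣ orderOf y) :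
    (χ : G → ℂ) y = 0 := by
  obtain ⟨M, hM⟩ := H22.exists_isPModular p hp
  have := hM.2.1
  refine H20.vanish_of_singleton_block hM ((H20.blockOf_eq_singleton_iff hM χ).1 ?_) hy
  intro hdvd
  have hx : charDegree (χ : G → ℂ) ∣ Nat.card G := H12.irr_degree_dvd_card χ
  have h2 : p ^ ((Nat.card G).factorization p + 1) ∣ Nat.card G := by
    rw [pow_succ]
    calc p ^ (Nat.card G).factorization p * p ∣
        charDegree (χ : G → ℂ) * (Nat.card G / charDegree (χ : G → ℂ)) := Nat.mul_dvd_mul h hdvd
      _ = Nat.card G := Nat.mul_div_cancel' hx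
  exact Nat.pow_succ_factorization_not_dvd Nat.card_pos.ne' hp h2

open scoped Classical in
theorem main (heven : Even (Nat.card G)) (χ : IrrCharacter G)
    (h2 : 2 ^ (Nat.card G).factorization 2 ∣ charDegree (χ : G → ℂ))
    (hp : ∀ p : ℕ, p.Prime → p ≠ 2 → (∃ g : G, orderOf g = 2 * p) →
      p ^ (Nat.card G).factorization p ∣ charDegree (χ : G → ℂ)) :
    (∀ s t : G, orderOf s = 2 → orderOf t = 2 → IsConj s t) ∧
      (∀ s : G, orderOf s = 2 →
        Nat.card (Subgroup.centralizer ({s} : Set G)) = charDegree (χ : G → ℂ) ∧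
          (Nat.card (Subgroup.centralizer ({s} : Set G))).Coprime
            (Subgroup.centralizer ({s} : Set G)).index) ∧
      (Nat.card G : ℂ)⁻¹ * ∑ g : G, (χ : G → ℂ) (g * g) = 1 := by
  set x := charDegree (χ : G → ℂ) with hxdef
  have hxpos : 0 < x := H12.irr_degree_pos χ
  have hG0 : Nat.card G ≠ 0 := Nat.card_pos.ne'
  have hχ1 : (χ : G → ℂ) 1 = (x : ℂ) := H12.irr_apply_one χ
  have : Fact (Nat.Prime 2) := ⟨Nat.prime_two⟩
  have hx2 : 2 ∣ x := (dvd_pow_self 2 (Nat.Prime.factorization_pos_of_dvd Nat.prime_two hG0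
      heven.two_dvd).ne').trans h2
  -- vanishing on squares of elements of even order
  have hv2 : ∀ y : G, 2 ∣ orderOf y → (χ : G → ℂ) y = 0 := fun y hy =>
    vanish χ Nat.prime_two h2 hy
  have hsq : ∀ g : G, 2 ∣ orderOf g → orderOf g ≠ 2 → (χ : G → ℂ) (g * g) = 0 := by
    intro g hg hne
    have hgg : orderOf (g * g) = orderOf g / 2 := by
      rw [← pow_two, orderOf_pow_of_dvd two_ne_zero hg]
    have hne1 : orderOf (g * g) ≠ 1 := by
      rw [hgg]; intro h
      exact hne (by have := Nat.div_mul_cancel hg; omega)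
    obtain ⟨p, hpp, hpd⟩ := Nat.exists_prime_and_dvd hne1
    by_cases hp2 : p = 2
    · exact hv2 _ (hp2 ▸ hpd)
    refine vanish χ hpp (hp p hpp hp2 ?_) hpd
    have h2p : 2 * p ∣ orderOf g := by
      have := Nat.mul_dvd_mul_left 2 (hgg ▸ hpd)
      rwa [Nat.mul_div_cancel' hg] at this
    refine ⟨g ^ (orderOf g / (2 * p)), ?_⟩
    exact orderOf_pow_orderOf_div (orderOf_pos g).ne' h2p
  -- the sum over the whole group
  have hsum0 : ∑ g : G, (χ : G → ℂ) g = 0 := by
    have hne : χ ≠ H12.oneIrr G := by
      intro h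
      have := hχ1
      rw [h, H12.oneIrr_apply] at this
      have : x = 1 := by exact_mod_cast this.symm
      omega
    have := H12.sum_mul_conj_eq_card_mul (χ : G → ℂ) (H12.oneIrr G : G → ℂ)
    simpa [H12.oneIrr_apply, H12.classInner_irr_ne hne] using this
  let O : Finset G := Finset.univ.filter fun g => ¬ 2 ∣ orderOf g
  have hodd : ∑ g ∈ O, (χ : G → ℂ) (g * g) = 0 := by
    have h0 : ∑ g ∈ O, (χ : G → ℂ) g = 0 := by
      rw [← hsum0]
      refine Finset.sum_subset (Finset.subset_univ _) fun g _ hg => hv2 g ?_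
      simp only [O, Finset.mem_filter, Finset.mem_univ, true_and, not_not] at hg
      exact hg
    rw [← h0]
    have hord : ∀ g : G, ¬ 2 ∣ orderOf g → orderOf (g * g) = orderOf g := by
      intro g hg
      rw [← pow_two]
      exact Nat.Coprime.orderOf_pow ((Nat.prime_two.coprime_iff_not_dvd.2 hg).symm)
    have hinj : Set.InjOn (fun g : G => g * g) O := by
      intro a ha b hb hab
      simp only [O, Finset.coe_filter, Finset.mem_univ, true_and, Set.mem_ofPred_eq] at ha hb
      have key : ∀ c : G, ¬ 2 ∣ orderOf c → (c * c) ^ ((orderOf c + 1) / 2) = c := by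
        intro c hc
        rw [← pow_two, ← pow_mul, Nat.mul_div_cancel' (by omega), pow_succ, pow_orderOf_eq_one,
          one_mul]
      simp only at hab
      have hoo : orderOf a = orderOf b := by rw [← hord a ha, ← hord b hb, hab]
      rw [← key a ha, ← key b hb, hab, hoo]
    have himg : O.image (fun g => g * g) = O := by
      apply Finset.eq_of_subset_of_card_le
      · intro y hy
        simp only [O, Finset.mem_image, Finset.mem_filter, Finset.mem_univ, true_and] at hy ⊢
        obtain ⟨g, hg, rfl⟩ := hy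
        rwa [hord g hg]
      · rw [Finset.card_image_of_injOn hinj]
    conv_rhs => rw [← himg, Finset.sum_image hinj]
  let I : Finset G := Finset.univ.filter fun g => orderOf g = 2
  have htot : ∑ g : G, (χ : G → ℂ) (g * g) = (I.card : ℂ) * x := by
    rw [← Finset.sum_filter_add_sum_filter_not Finset.univ (fun g : G => ¬ 2 ∣ orderOf g)]
    rw [hodd, zero_add]
    rw [← Finset.sum_subset (s₁ := I)]
    · rw [Finset.sum_congr rfl (fun g hg => ?_), Finset.sum_const, nsmul_eq_mul]
      simp only [I, Finset.mem_filter, Finset.mem_univ, true_and] at hg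
      rw [← pow_two, ← hg, pow_orderOf_eq_one, hχ1]
    · intro g hg
      simp only [I, Finset.mem_filter, Finset.mem_univ, true_and, not_not] at hg ⊢
      rw [hg]
    · intro g hg hgI
      simp only [I, Finset.mem_filter, Finset.mem_univ, true_and, not_not] at hg hgI
      exact hsq g hg hgI
  -- there is an involution
  obtain ⟨s₀, hs₀⟩ := exists_prime_orderOf_dvd_card' (G := G) 2 heven.two_dvd
  have hIpos : 0 < I.card := Finset.card_pos.2 ⟨s₀, by simp [I, hs₀]⟩
  have hν : H17.fsInd (χ : G → ℂ) = 1 := by
    have hval : H17.fsInd (χ : G → ℂ) = (((I.card * x : ℕ) : ℝ) / (Nat.card G : ℝ) : ℝ) := by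
      rw [H17.fsInd, htot]; push_cast; ring
    have hpos : (0 : ℝ) < ((I.card * x : ℕ) : ℝ) / (Nat.card G : ℝ) :=
      div_pos (by exact_mod_cast Nat.mul_pos hIpos hxpos) (by exact_mod_cast Nat.card_pos)
    rcases (H17.TwoInv.fsInd_irr χ).1 with h | h | h
    · rw [h] at hval
      have : (0 : ℝ) = _ := Complex.ofReal_injective (by rw [← hval]; norm_num)
      linarith
    · exact h
    · rw [h] at hval
      have : (-1 : ℝ) = _ := Complex.ofReal_injective (by rw [← hval]; norm_num)
      linarith
  have hIx : I.card * x = Nat.card G := by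
    have hval : H17.fsInd (χ : G → ℂ) = (Nat.card G : ℂ)⁻¹ * ((I.card : ℂ) * x) := by
      rw [H17.fsInd, htot]
    rw [hν, eq_inv_mul_iff_mul_eq₀ (by exact_mod_cast hG0), mul_one] at hval
    exact_mod_cast hval.symm
  -- centralizers
  have hC : ∀ s : G, orderOf s = 2 → Nat.card (Subgroup.centralizer ({s} : Set G)) ∣ x := by
    intro s hs
    rw [← Nat.factorization_le_iff_dvd Nat.card_pos.ne' hxpos.ne']
    intro p
    by_cases hpC : p.Prime ∧ p ∣ Nat.card (Subgroup.centralizer ({s} : Set G))
    · obtain ⟨hpp, hpd⟩ := hpC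
      have : Fact p.Prime := ⟨hpp⟩
      have hfull : p ^ (Nat.card G).factorization p ∣ x := by
        by_cases hp2 : p = 2
        · subst hp2; exact h2
        refine hp p hpp hp2 ?_
        obtain ⟨c, hc⟩ := exists_prime_orderOf_dvd_card' (G := Subgroup.centralizer ({s} : Set G))
          p hpd
        have hcomm : Commute s (c : G) := (Subgroup.mem_centralizer_singleton_iff.1 c.2).symm
        refine ⟨s * c, ?_⟩
        rw [hcomm.orderOf_mul_eq_mul_orderOf_of_coprime, hs, Subgroup.orderOf_coe, hc]
        rw [hs, Subgroup.orderOf_coe, hc]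
        exact (Nat.coprime_primes Nat.prime_two hpp).2 (fun h => hp2 h.symm)
      exact ((Nat.factorization_le_iff_dvd Nat.card_pos.ne' hG0).2
        (Subgroup.card_subgroup_dvd_card _) p).trans
        ((hpp.pow_dvd_iff_le_factorization hxpos.ne').1 hfull)
    · rw [Nat.factorization_eq_zero_iff _ p |>.2 ?_]
      · exact Nat.zero_le _
      · tauto
  have hclass : ∀ s : G, orderOf s = 2 →
      ({g : G | IsConj s g} : Finset G) = I ∧
        Nat.card (Subgroup.centralizer ({s} : Set G)) = x := by
    intro s hs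
    have hmul := H12.card_conjClass_mul_card_centralizer s
    have hle := Nat.le_of_dvd hxpos (hC s hs)
    have hsub : ({g : G | IsConj s g} : Finset G) ⊆ I := by
      intro g hg
      simp only [I, Finset.mem_filter, Finset.mem_univ, true_and] at hg ⊢
      rw [← hs]
      obtain ⟨c, rfl⟩ := isConj_iff.1 hg
      exact (orderOf_injective (MulAut.conj c).toMonoidHom (MulAut.conj c).injective s)
    have hcl := Finset.card_le_card hsub
    have h1 : I.card * x ≤ ({g : G | IsConj s g} : Finset G).card * x := by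
      rw [hIx, ← hmul]
      exact Nat.mul_le_mul_left _ hle
    have h3 := Nat.le_of_mul_le_mul_right h1 hxpos
    have heq : ({g : G | IsConj s g} : Finset G) = I := Finset.eq_of_subset_of_card_le hsub h3
    refine ⟨heq, ?_⟩
    rw [heq] at hmul
    exact Nat.eq_of_mul_eq_mul_left hIpos (hmul.trans hIx.symm)
  refine ⟨fun s t hs ht => ?_, fun s hs => ⟨(hclass s hs).2, ?_⟩, hν⟩
  · have : t ∈ ({g : G | IsConj s g} : Finset G) := by
      rw [(hclass s hs).1]; simp [I, ht]
    simpa using this
  · refine Nat.coprime_of_dvd fun p hpp hpC hpi => ?_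
    have hfull : p ^ (Nat.card G).factorization p ∣
        Nat.card (Subgroup.centralizer ({s} : Set G)) := by
      by_cases hp2 : p = 2
      · subst hp2; rw [(hclass s hs).2]; exact h2
      · rw [(hclass s hs).2]
        refine hp p hpp hp2 ?_
        have : Fact p.Prime := ⟨hpp⟩
        obtain ⟨c, hc⟩ := exists_prime_orderOf_dvd_card' (G := Subgroup.centralizer ({s} : Set G))
          p hpC
        have hcomm : Commute s (c : G) := (Subgroup.mem_centralizer_singleton_iff.1 c.2).symm
        refine ⟨s * c, ?_⟩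
        rw [hcomm.orderOf_mul_eq_mul_orderOf_of_coprime, hs, Subgroup.orderOf_coe, hc]
        rw [hs, Subgroup.orderOf_coe, hc]
        exact (Nat.coprime_primes Nat.prime_two hpp).2 (fun h => hp2 h.symm)
    refine Nat.pow_succ_factorization_not_dvd hG0 hpp ?_
    rw [pow_succ, ← (Subgroup.centralizer ({s} : Set G)).card_mul_index]
    nth_rewrite 1 [Subgroup.card_mul_index]
    exact Nat.mul_dvd_mul hfull hpi

end H17.DefZero
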