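import Cfsg.Agent.H13.Clifford
import Cfsg.Agent.H12.CyclicCorr
import Cfsg.Agent.H12.CliffordCorr
import Cfsg.Agent.H12.CoprimeCount
import Cfsg.Agent.H14.GallagherExt
import Cfsg.Agent.H24.CharBasic
import Cfsg.Agent.H25.Galois

/-!
Lifting an invariant character of a normal `p'`-subgroup of `p`-power index to a character
fixed by the field automorphisms that fix the roots of unity of the order of the subgroup.
-/

set_option autoImplicit false
set_option linter.unusedSectionVars false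

namespace H17.CanonicalLift

open Cfsg

universe u

variable {X : Type u} [Group X]

/-- `σ` fixes the values of a character when it fixes the roots of unity of the group order. -/
theorem fixed_value [Fintype X] {χ : X → ℂ} (hχ : IsCharacter X χ) (σ : ℂ ≃+* ℂ)
    (hσ : ∀ z : ℂ, z ^ Nat.card X = 1 → σ z = z) (g : X) : σ (χ g) = χ g := by
  rw [H25.map_character_apply hχ σ 1 (fun z hz => by rw [hσ z hz, pow_one]) g, pow_one]

variable [Fintype X] {p : ℕ} (L : Subgroup X) [hL : L.Normal]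

open scoped Classical in
/-- The orbit sum of `θ` lifts to a fixed character. -/
theorem exists_orbit_lift (hp : p.Prime) (hidx : ∃ k, L.index = p ^ k) (hcop : ¬ p ∣ Nat.card L)
    (θ : IrrCharacter L) :
    ∃ ζ : X → ℂ, IsCharacter X ζ ∧ ζ 1 ≠ 0 ∧
      (∀ θ' : IrrCharacter L, classInner (fun l : L => ζ l) θ' =
        if ∃ x : X, H13.twist L x (θ : L → ℂ) = θ' then 1 else 0) ∧
      ∀ σ : ℂ ≃+* ℂ, (∀ z : ℂ, z ^ Nat.card L = 1 → σ z = z) → ∀ x, σ (ζ x) = ζ x := by
  have hp' : Fact p.Prime := ⟨hp⟩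
  have hcl : IsClassFunction L (θ : L → ℂ) := H12.irr_isClassFunction θ
  set T := H13.inertia L (θ : L → ℂ) with hT
  have hLT : L ≤ T := H13.le_inertia L hcl
  let ϑ : L.subgroupOf T → ℂ := H12.onSubgroupOf (T := T) (θ : L → ℂ)
  have hϑ : IsIrrCharacter (L.subgroupOf T) ϑ := H12.isIrrCharacter_onSubgroupOf hLT θ.2
  have hinv : ∀ (g : T) (n : L.subgroupOf T),
      ϑ ⟨g * n * g⁻¹, (Subgroup.Normal.subgroupOf hL T).conj_mem (n : T) n.2 g⟩ = ϑ n :=
    fun g n => congrFun (show H13.twist L (g : X) (θ : L → ℂ) = θ from g.2)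
      ⟨((n : T) : X), Subgroup.mem_subgroupOf.mp n.2⟩
  have hcardL : Nat.card (L.subgroupOf T) = Nat.card L :=
    Nat.card_congr (Subgroup.subgroupOfEquivOfLe hLT).toEquiv
  obtain ⟨k, hk⟩ := hidx
  have hTidx : (L.subgroupOf T).index ∣ p ^ k := by
    rw [← hk]; exact Subgroup.relIndex_dvd_index_of_normal L T
  obtain ⟨k', -, hk'⟩ := (Nat.dvd_prime_pow hp).1 hTidx
  have hd : ϑ 1 = ((H12.degree (θ : L → ℂ) : ℕ) : ℂ) := by
    rw [← H12.irr_apply_one]; rfl
  have hdd : H12.degree (θ : L → ℂ) ∣ Nat.card L := H24.charDegree_dvd_card θ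
  have hdet : detOrder ϑ ∣ Nat.card L := hcardL ▸ H12.CoprimeCount.detOrder_dvd_card hϑ
  have hco : Nat.Coprime (L.subgroupOf T).index (detOrder ϑ * H12.degree (θ : L → ℂ)) := by
    rw [hk']
    refine Nat.Coprime.pow_left _ ((hp.coprime_iff_not_dvd).2 fun h => ?_)
    rcases (hp.dvd_mul).1 h with h | h
    · exact hcop (h.trans hdet)
    · exact hcop (h.trans hdd)
  obtain ⟨η, ⟨hη, hηL, hηdet⟩, huniq⟩ :=
    H14.exists_canonical_extension (L.subgroupOf T) ϑ hϑ hinv _ hd hco
  have : Fintype T := Fintype.ofFinite _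
  have hres : ∀ l : L, indFun T η l =
      (Nat.card T : ℂ)⁻¹ * ∑ x : X, H13.twist L x (θ : L → ℂ) l := by
    intro l
    show (Nat.card T : ℂ)⁻¹ * _ = _
    congr 1
    refine Fintype.sum_equiv (Equiv.inv X) _ _ fun x => ?_
    have hmem : x⁻¹ * (l : X) * x ∈ L := hL.conj_mem' _ l.2 x
    rw [H13.extendByZero_mem T η (hLT hmem)]
    refine (hηL ⟨⟨_, hLT hmem⟩, Subgroup.mem_subgroupOf.2 hmem⟩).trans ?_
    exact congrArg (θ : L → ℂ) (Subtype.ext (by simp))
  refine ⟨indFun T η, H13.isCharacter_indFun T (H12.isCharacter_of_isIrrCharacter hη), ?_, ?_, ?_⟩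
  · rw [show indFun T η 1 = indFun T η ((1 : L) : X) from rfl, hres]
    refine mul_ne_zero (inv_ne_zero (Nat.cast_ne_zero.2 Nat.card_pos.ne')) ?_
    rw [Finset.sum_congr rfl fun x _ => show H13.twist L x (θ : L → ℂ) 1 = (θ : L → ℂ) 1 from
        congrArg (θ : L → ℂ) (Subtype.ext (by simp)), Finset.sum_const, Finset.card_univ,
      nsmul_eq_mul]
    exact mul_ne_zero (Nat.cast_ne_zero.2 Fintype.card_ne_zero) (H12.irr_apply_one_ne_zero θ)
  · intro θ'
    have hfun : (fun l : L => indFun T η l) =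
        (Nat.card T : ℂ)⁻¹ • ∑ x : X, H13.twist L x (θ : L → ℂ) := by
      funext l
      rw [hres, Pi.smul_apply, Finset.sum_apply, smul_eq_mul]
    rw [hfun, H12.classInner_smul_left, H12.classInner_sum_left]
    have h : ∀ x : X, classInner (H13.twist L x (θ : L → ℂ)) (θ' : L → ℂ) =
        if H13.twist L x (θ : L → ℂ) = θ' then 1 else 0 := by
      intro x
      have h' := H12.classInner_irr (H13.twistIrr L x θ) θ'
      simpa [Subtype.ext_iff, H13.twistIrr_apply] using h'
    rw [Finset.sum_congr rfl fun x _ => h x, Finset.sum_boole]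
    by_cases hex : ∃ x : X, H13.twist L x (θ : L → ℂ) = θ'
    · rw [if_pos hex]
      obtain ⟨x₀, hx₀⟩ := hex
      have hcard : (Finset.univ.filter fun x : X => H13.twist L x (θ : L → ℂ) = θ').card =
          Nat.card T := by
        rw [Nat.card_eq_fintype_card, ← Finset.card_univ]
        symm
        refine Finset.card_bij (fun t _ => (t : X) * x₀) (fun t _ => ?_)
          (fun a _ b _ h => Subtype.ext (mul_right_cancel h)) (fun x hx => ?_)
        · simp only [Finset.mem_filter, Finset.mem_univ, true_and]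
          rw [← H13.twist_twist, show H13.twist L (t : X) (θ : L → ℂ) = θ from t.2, hx₀]
        · simp only [Finset.mem_filter, Finset.mem_univ, true_and] at hx
          refine ⟨⟨x * x₀⁻¹, ?_⟩, Finset.mem_univ _, by simp⟩
          show H13.twist L (x * x₀⁻¹) (θ : L → ℂ) = θ
          rw [← H13.twist_twist, hx, ← hx₀, H13.twist_twist, mul_inv_cancel, H13.twist_one]
      rw [hcard, inv_mul_cancel₀ (Nat.cast_ne_zero.2 Nat.card_pos.ne')]
    · rw [if_neg hex, Finset.filter_false_of_mem (fun x _ h' => hex ⟨x, h'⟩), Finset.card_empty,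
        Nat.cast_zero, mul_zero]
  · intro σ hσ x
    have hfix : (σ : ℂ → ℂ) ∘ η = η := by
      refine huniq _ (H25.isIrrCharacter_ringEquiv_comp hη σ) (fun n => ?_) ?_
      · rw [Function.comp_apply, hηL]
        exact fixed_value (H12.isCharacter_irr θ) σ hσ _
      · rw [H12.Cyclic.detOrder_ringEquiv hη σ, hηdet]
        exact Nat.Coprime.coprime_mul_right_right hco
    show σ ((Nat.card T : ℂ)⁻¹ * _) = (Nat.card T : ℂ)⁻¹ * _
    rw [map_mul, map_inv₀, map_natCast, map_sum]
    congr 1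
    refine Finset.sum_congr rfl fun y _ => ?_
    by_cases h : y⁻¹ * x * y ∈ T
    · rw [H13.extendByZero_mem T η h]
      exact congrFun hfix _
    · rw [H13.extendByZero_notMem T η h, map_zero]

open scoped Classical in
/-- An invariant character of `L` extends to a character fixed by the automorphisms fixing the
`|L|`-th roots of unity. -/
theorem exists_fixed_lift (hp : p.Prime) (hidx : ∃ k, L.index = p ^ k)
    (hcop : ¬ p ∣ Nat.card L) :
    ∀ φ : L → ℂ, IsCharacter L φ → (∀ x, H13.twist L x φ = φ) →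
      ∃ ψ : X → ℂ, IsCharacter X ψ ∧ (∀ l : L, ψ l = φ l) ∧
        ∀ σ : ℂ ≃+* ℂ, (∀ z : ℂ, z ^ Nat.card L = 1 → σ z = z) → ∀ x, σ (ψ x) = ψ x := by
  intro φ
  induction hn : H12.degree φ using Nat.strong_induction_on generalizing φ with
  | _ n ih => ?_
  subst hn
  intro hφ hinv
  by_cases h0 : φ = 0
  · exact ⟨0, H12.isCharacter_zero, fun l => by rw [h0]; rfl, fun σ _ x => map_zero σ⟩
  obtain ⟨θ, hθ⟩ : ∃ θ : IrrCharacter L, classInner φ (θ : L → ℂ) ≠ 0 := by
    by_contra h
    simp only [not_exists, not_not] at h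
    exact h0 (H12.eq_zero_of_classInner_irr_eq_zero (H12.IsCharacter.isClassFunction hφ) h)
  obtain ⟨ζ, hζ, hζ1, hmult, hfix⟩ := exists_orbit_lift L hp hidx hcop θ
  have hζL : IsCharacter L (fun l : L => ζ l) := H12.IsCharacter.res hζ L
  have hsub : IsCharacter L (φ - fun l : L => ζ l) := by
    refine H12.isCharacter_iff.2 ⟨H12.IsClassFunction.sub (H12.IsCharacter.isClassFunction hφ)
      (H12.IsCharacter.isClassFunction hζL), fun θ' => ?_⟩
    obtain ⟨m, hm⟩ := H12.IsCharacter.classInner_nat hφ (H12.isCharacter_irr θ')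
    rw [H12.classInner_sub_left, hmult, hm]
    split_ifs with hex
    · obtain ⟨x, hx⟩ := hex
      have hm0 : m ≠ 0 := by
        rintro rfl
        apply hθ
        rw [← H13.classInner_twist L x, hinv, hx, hm, Nat.cast_zero]
      exact ⟨m - 1, by rw [Nat.cast_sub (Nat.one_le_iff_ne_zero.2 hm0), Nat.cast_one]⟩
    · exact ⟨m, sub_zero _⟩
  have hlt : H12.degree (φ - fun l : L => ζ l) < H12.degree φ := by
    have h1 : φ 1 = (φ - fun l : L => ζ l) 1 + ζ 1 := by simp
    rw [H12.IsCharacter.apply_one_eq_degree hφ, H12.IsCharacter.apply_one_eq_degree hsub,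
      H12.IsCharacter.apply_one_eq_degree hζ, ← Nat.cast_add, Nat.cast_inj] at h1
    rw [H12.IsCharacter.apply_one_eq_degree hζ, Nat.cast_ne_zero] at hζ1
    omega
  obtain ⟨ψ, hψ, hψL, hψfix⟩ := ih _ hlt _ rfl hsub (fun x => by
    funext l
    show φ _ - ζ _ = φ l - ζ l
    rw [show φ ⟨x * l * x⁻¹, hL.conj_mem l l.2 x⟩ = φ l from congrFun (hinv x) l]
    congr 1
    exact H12.IsCharacter.isClassFunction hζ (l : X) x)
  exact ⟨ζ + ψ, H12.IsCharacter.add hζ hψ, fun l => by simp [hψL],
    fun σ hσ x => by simp [map_add, hfix σ hσ x, hψfix σ hσ x]⟩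

end H17.CanonicalLift
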