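import Cfsg.Agent.H17.MajorPairs
import Cfsg.Agent.H17.MajorContrib

/-!
Heights are bounded through the centre of a defect group and the inertial index:
`|Z(D)| p^h ≤ [T : D C(D)] |D|`.
-/

set_option autoImplicit false
set_option linter.unusedSectionVars false
set_option linter.style.haveILetI false

open Cfsg
open scoped ComplexConjugate

namespace H17.Major

universe u

variable {M : Ideal AlgInt} [hMp : M.IsPrime] {G : Type u} [Group G] [Fintype G]
  {p : ℕ} [hp : Fact p.Prime] [CharP (H20.k M) p] [IsAlgClosed (H20.k M)]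

open scoped Classical in
/-- The conjugates of a central element under `T` number at most `[T : H]`. -/
theorem card_orbit_le {H T : Subgroup G} (s : Finset G) {i : G}
    (hHi : ∀ h ∈ H, h * i = i * h) (hs : ∀ j ∈ s, ∃ t ∈ T, t * i * t⁻¹ = j) :
    s.card ≤ H.relIndex T := by
  choose t ht hti using hs
  have hinj : Function.Injective (fun j : {j // j ∈ s} =>
      (QuotientGroup.mk (⟨t j.1 j.2, ht j.1 j.2⟩ : T) : T ⧸ H.subgroupOf T)) := by
    rintro ⟨j, hj⟩ ⟨j', hj'⟩ he
    have hm := Subgroup.mem_subgroupOf.1 (QuotientGroup.eq.1 he)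
    simp only [Subgroup.coe_mul, Subgroup.coe_inv] at hm
    apply Subtype.ext
    show j = j'
    rw [← hti j hj, ← hti j' hj']
    have h1 := hHi _ hm
    calc t j hj * i * (t j hj)⁻¹
        = t j hj * (i * ((t j hj)⁻¹ * t j' hj')) * (t j' hj')⁻¹ := by group
      _ = t j hj * ((t j hj)⁻¹ * t j' hj' * i) * (t j' hj')⁻¹ := by rw [h1]
      _ = _ := by group
  have h := Nat.card_le_card_of_injective _ hinj
  rwa [Nat.card_eq_finsetCard] at h

/-- Brauer's argument with major subsections. -/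
theorem pow_height_mul_le (hM : IsPModular p M) {B : Set (IrrCharacter G)} (hB : IsPBlock M B)
    {D : Subgroup G} (hBD : IsDefectGroup p M B D) {H : Subgroup G} (hH : H = H23.withCent D)
    {b : Set (IrrCharacter H)} (hind : IsInducedBlock M H b B) {T : Subgroup G}
    (hT : ∀ g ∈ H23.stab D (H23.eG M H b), g ∈ T)
    {χ : IrrCharacter G} (hχ : χ ∈ B) :
    Nat.card (Subgroup.center D) * p ^ blockHeight p B (χ : G → ℂ) ≤
      H.relIndex T * Nat.card D := by
  classical
  haveI hCfin : ∀ Q : Subgroup G, Fintype (Subgroup.centralizer (Q : Set G)) :=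
    fun Q => Fintype.ofFinite _
  set f₀ := H23.eG M H b with hf₀
  have hmax : H23.IsMax p (H23.eB M B) D f₀ := isMax_of_induced hM hB hBD hH hind
  choose bQ hbQ using exists_subBlock (M := M) hmax
  set hgt := blockHeight p B (χ : G → ℂ)
  set d := blockDefect p B with hd
  have hcardD : Nat.card D = p ^ d := H20.card_defectGroup hM hB hBD
  set Z : Finset G := Finset.univ.filter fun z => z ∈ D ∧ ∀ w ∈ D, z * w = w * z with hZ
  have hmemZ : ∀ {z}, z ∈ Z ↔ z ∈ D ∧ ∀ w ∈ D, z * w = w * z := by simp [hZ]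
  have hZcard : Z.card = Nat.card (Subgroup.center D) := by
    rw [← Nat.card_eq_finsetCard]
    refine Nat.card_congr
      { toFun := fun z => ⟨⟨z.1, (hmemZ.1 z.2).1⟩, Subgroup.mem_center_iff.2 fun w =>
          Subtype.ext ((hmemZ.1 z.2).2 w w.2).symm⟩
        invFun := fun z => ⟨((z : D) : G), hmemZ.2 ⟨(z : D).2, fun w hw =>
          (congrArg Subtype.val (Subgroup.mem_center_iff.1 z.2 ⟨w, hw⟩)).symm⟩⟩
        left_inv := fun z => rfl
        right_inv := fun z => rfl }
  -- facts about one central element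
  have hzord : ∀ z ∈ Z, ∃ k : ℕ, orderOf z = p ^ k := by
    intro z hz
    obtain ⟨k, hk⟩ := IsPGroup.iff_orderOf.1 (H20.IsDefectGroup.isPGroup hBD) ⟨z, (hmemZ.1 hz).1⟩
    exact ⟨k, by rwa [Subgroup.orderOf_mk] at hk⟩
  have hzQ : ∀ z ∈ Z, Subgroup.zpowers z ≤ D := fun z hz => Subgroup.zpowers_le.2 (hmemZ.1 hz).1
  have hDC : ∀ z ∈ Z, D ≤ Subgroup.centralizer ((Subgroup.zpowers z : Subgroup G) : Set G) := by
    intro z hz w hw
    rw [centralizer_zpowers_eq, Subgroup.mem_centralizer_singleton_iff]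
    exact ((hmemZ.1 hz).2 w hw).symm
  have hzC : ∀ z ∈ Z, z ∈ Subgroup.centralizer ((Subgroup.zpowers z : Subgroup G) : Set G) :=
    fun z hz => hDC z hz (hmemZ.1 hz).1
  have hbl : ∀ z ∈ Z, IsPBlock M (bQ (Subgroup.zpowers z)) := fun z hz =>
    (hbQ _ (hzQ z hz)).1.2
  have hdef : ∀ z ∈ Z, blockDefect p (bQ (Subgroup.zpowers z)) = d := fun z hz =>
    defect_subBlock hM hB hmax (hbl z hz) (hbQ _ (hzQ z hz)).2 (hDC z hz)
  let A : Subgroup G → G → ℝ := fun Q w =>
    (classInner (fpart p (Subgroup.centralizer (Q : Set G)) w (bQ Q) χ)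
      (fpart p (Subgroup.centralizer (Q : Set G)) w (bQ Q) χ)).re
  have hA : ∀ (Q : Subgroup G) (w : G),
      classInner (fpart p (Subgroup.centralizer (Q : Set G)) w (bQ Q) χ)
        (fpart p (Subgroup.centralizer (Q : Set G)) w (bQ Q) χ) = (A Q w : ℂ) := fun Q w =>
    Complex.ext (by simp [A]) (by
      rw [Complex.ofReal_im]
      exact (H22.Contrib.Setup.classInner_self_re_nonneg _).2)
  have hA0 : ∀ (Q : Subgroup G) (w : G), 0 ≤ A Q w := fun Q w =>
    (H22.Contrib.Setup.classInner_self_re_nonneg _).1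
  -- the induced section parts
  let F : {z // z ∈ Z} → G → ℂ := fun i =>
    Ffun p _ (⟨i.1, hzC i.1 i.2⟩ : Subgroup.centralizer ((Subgroup.zpowers i.1 : Subgroup G) : Set G))
      (bQ (Subgroup.zpowers i.1)) χ
  let a : {z // z ∈ Z} → ℝ := fun i => A (Subgroup.zpowers i.1) i.1
  have hFself : ∀ i, classInner (F i) (F i) = (a i : ℂ) := fun i => by
    rw [← hA]
    exact inner_F_self hM _ _ (hzord i.1 i.2) (centralizer_zpowers_eq i.1) (hbl i.1 i.2) χ
  have hFchi : ∀ i, classInner (F i) (χ : G → ℂ) = (a i : ℂ) := fun i => by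
    rw [← hA]
    exact inner_F_chi hM _ _ (hbl i.1 i.2) χ
  have hzero : ∀ i j : {z // z ∈ Z}, (¬ ∃ t ∈ T, t * i.1 * t⁻¹ = j.1) →
      classInner (F j) (F i) = 0 := by
    intro i j hr
    refine inner_F_eq_zero hM _ _ (hzord i.1 i.2) (hzord j.1 j.2) (centralizer_zpowers_eq i.1)
      (centralizer_zpowers_eq j.1) (hbl i.1 i.2) (hbl j.1 j.2) χ fun x hx hxf => hr ?_
    have hxQ : H23.cjS x (Subgroup.zpowers i.1) = Subgroup.zpowers j.1 := by
      show Subgroup.map _ _ = _
      rw [MonoidHom.map_zpowers]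
      congr 1
    obtain ⟨t, ht, htz⟩ := exists_stab_conj hB hmax (hbQ _ (hzQ i.1 i.2)).2
      (hbQ _ (hzQ j.1 j.2)).2 (hDC i.1 i.2) (hDC j.1 j.2) hxQ hxf
    exact ⟨t, hT t ht, by rw [htz i.1 (Subgroup.mem_zpowers _), hx]⟩
  have hHi : ∀ i : {z // z ∈ Z}, ∀ h ∈ H, h * i.1 = i.1 * h := by
    intro i h hh
    have hle : H ≤ Subgroup.centralizer ({i.1} : Set G) := by
      rw [hH, ← centralizer_zpowers_eq]
      exact sup_le (hDC i.1 i.2) (H23.centralizer_anti (hzQ i.1 i.2))
    exact Subgroup.mem_centralizer_singleton_iff.1 (hle hh)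
  set e := H.relIndex T with he
  have he0 : (0 : ℝ) < e := by
    have : H.relIndex T ≠ 0 := Subgroup.index_ne_zero_of_finite
    exact_mod_cast Nat.pos_of_ne_zero this
  have hcount : ∀ i : {z // z ∈ Z},
      (Finset.univ.filter fun j : {z // z ∈ Z} => ∃ t ∈ T, t * i.1 * t⁻¹ = j.1).card ≤ e := by
    intro i
    rw [← Finset.card_image_of_injective _ Subtype.val_injective]
    refine card_orbit_le _ (hHi i) fun j hj => ?_
    obtain ⟨j', hj', rfl⟩ := Finset.mem_image.1 hj
    exact (Finset.mem_filter.1 hj').2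
  have hsymm : ∀ i j : {z // z ∈ Z},
      (∃ t ∈ T, t * i.1 * t⁻¹ = j.1) → ∃ t ∈ T, t * j.1 * t⁻¹ = i.1 := by
    rintro i j ⟨t, ht, htij⟩
    exact ⟨t⁻¹, T.inv_mem ht, by rw [← htij]; group⟩
  set S := ∑ i, a i with hS
  set V := ∑ i, F i with hV
  have hVchi : classInner V (χ : G → ℂ) = (S : ℂ) := by
    rw [hV, H12.classInner_sum_left, hS, Complex.ofReal_sum]
    exact Finset.sum_congr rfl fun i _ => hFchi i
  have hVV : (classInner V V).re ≤ e * S := by
    rw [hV, H12.classInner_sum_left, Complex.re_sum]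
    simp only [H12.classInner_sum_right, Complex.re_sum]
    have hb1 : ∀ i j, (classInner (F i) (F j)).re ≤
        if ∃ t ∈ T, t * i.1 * t⁻¹ = j.1 then (a i + a j) / 2 else 0 := by
      intro i j
      have hc : (classInner (F j) (F i)).re = (classInner (F i) (F j)).re := by
        rw [← H12.conj_classInner (F i) (F j), Complex.conj_re]
      split_ifs with hr
      · have h := (H22.Contrib.Setup.classInner_self_re_nonneg (F i - F j)).1
        rw [H12.classInner_sub_left, H12.classInner_sub_right, H12.classInner_sub_right, hFself,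
          hFself] at h
        simp only [Complex.sub_re, Complex.ofReal_re, hc] at h
        linarith
      · rw [← hc, hzero i j hr, Complex.zero_re]
    refine (Finset.sum_le_sum fun i _ => Finset.sum_le_sum fun j _ => hb1 i j).trans ?_
    have h1 : ∑ i : {z // z ∈ Z}, ∑ j : {z // z ∈ Z}, (if ∃ t ∈ T, t * i.1 * t⁻¹ = j.1 then a i else 0) ≤ e * S := by
      rw [hS, Finset.mul_sum]
      refine Finset.sum_le_sum fun i _ => ?_
      rw [← Finset.sum_filter, Finset.sum_const, nsmul_eq_mul]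
      exact mul_le_mul_of_nonneg_right (Nat.cast_le.2 (hcount i)) (hA0 _ _)
    have h2 : ∑ i : {z // z ∈ Z}, ∑ j : {z // z ∈ Z}, (if ∃ t ∈ T, t * i.1 * t⁻¹ = j.1 then a j else 0) ≤ e * S := by
      rw [Finset.sum_comm]
      refine le_trans (le_of_eq ?_) h1
      exact Finset.sum_congr rfl fun i _ => Finset.sum_congr rfl fun j _ =>
        if_congr ⟨hsymm j i, hsymm i j⟩ rfl rfl
    have h3 : ∑ i : {z // z ∈ Z}, ∑ j : {z // z ∈ Z}, (if ∃ t ∈ T, t * i.1 * t⁻¹ = j.1 then (a i + a j) / 2 else 0) =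
        (∑ i : {z // z ∈ Z}, ∑ j : {z // z ∈ Z}, (if ∃ t ∈ T, t * i.1 * t⁻¹ = j.1 then a i else 0) +
          ∑ i : {z // z ∈ Z}, ∑ j : {z // z ∈ Z}, (if ∃ t ∈ T, t * i.1 * t⁻¹ = j.1 then a j else 0)) / 2 := by
      simp only [← Finset.sum_add_distrib, Finset.sum_div]
      exact Finset.sum_congr rfl fun i _ => Finset.sum_congr rfl fun j _ => by split_ifs <;> ring
    rw [h3]
    linarith
  have hSe : S ≤ e := by
    have h := (H22.Contrib.Setup.classInner_self_re_nonneg
      ((χ : G → ℂ) - (((e : ℝ)⁻¹ : ℝ) : ℂ) • V)).1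
    have hchiV : classInner (χ : G → ℂ) V = (S : ℂ) := by
      rw [← H12.conj_classInner V, hVchi, Complex.conj_ofReal]
    rw [H12.classInner_sub_left, H12.classInner_sub_right, H12.classInner_sub_right,
      H12.classInner_smul_left, H12.classInner_smul_left, H12.classInner_smul_right,
      H12.classInner_smul_right, H12.classInner_irr_self, hchiV, hVchi, Complex.conj_ofReal] at h
    simp only [Complex.sub_re, Complex.one_re, Complex.re_ofReal_mul, Complex.ofReal_re] at h
    have h4 : (e : ℝ)⁻¹ * ((e : ℝ)⁻¹ * (classInner V V).re) ≤ (e : ℝ)⁻¹ * S := by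
      refine mul_le_mul_of_nonneg_left ?_ (inv_nonneg.2 he0.le)
      rw [inv_mul_le_iff₀ he0]
      exact hVV
    have h5 : (e : ℝ)⁻¹ * S ≤ 1 := by linarith
    rwa [inv_mul_le_iff₀ he0, mul_one] at h5
  -- the lower bound through the conjugates
  let m : G → ℝ := fun z => (p : ℝ) ^ d * A (Subgroup.zpowers z) z
  set N := p ^ d with hN
  have hNpos : 0 < N := pow_pos hp.out.pos d
  obtain ⟨ζ, hζ⟩ := H19.exists_root N hNpos.ne'
  have hpow : ∀ j ∈ H19.units' N, ∀ z ∈ Z, z ^ j ∈ Z ∧
      Subgroup.zpowers (z ^ j) = Subgroup.zpowers z := by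
    intro j hj z hz
    obtain ⟨hzD, hzc⟩ := hmemZ.1 hz
    refine ⟨hmemZ.2 ⟨D.pow_mem hzD j, fun w hw => (Commute.pow_left (hzc w hw) j).eq⟩,
      le_antisymm (Subgroup.zpowers_le.2 (Subgroup.pow_mem _ (Subgroup.mem_zpowers z) j))
        (Subgroup.zpowers_le.2 ?_)⟩
    have hdvd : orderOf z ∣ N := by
      rw [← Subgroup.orderOf_mk z hzD, ← hcardD]
      exact orderOf_dvd_natCard _
    obtain ⟨k, hk⟩ := exists_pow_eq_self_of_coprime (n := j) (x := z)
      ((H19.mem_units'.1 hj).2.symm.coprime_dvd_right hdvd)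
    nth_rewrite 2 [← hk]
    exact Subgroup.pow_mem _ (Subgroup.mem_zpowers _) k
  have hlow : ∀ z ∈ Z, (N.totient : ℝ) * (p : ℝ) ^ hgt ≤ ∑ j ∈ H19.units' N, m (z ^ j) := by
    intro z hz
    set C := Subgroup.centralizer ((Subgroup.zpowers z : Subgroup G) : Set G) with hC
    let z' : C := ⟨z, hzC z hz⟩
    have hz' : z' ∈ Subgroup.center C := Subgroup.mem_center_iff.2 fun c => Subtype.ext
      (Subgroup.mem_centralizer_singleton_iff.1 ((centralizer_zpowers_eq z).le c.2))
    have hord : orderOf z' ∣ N := by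
      rw [show orderOf z' = orderOf z from (Subgroup.orderOf_coe z').symm,
        ← Subgroup.orderOf_mk z (hmemZ.1 hz).1, ← hcardD]
      exact orderOf_dvd_natCard _
    obtain ⟨q, hq⟩ := hord
    have hζ' : IsPrimitiveRoot (ζ ^ q) (orderOf z') := hζ.pow hNpos (by rw [hq, mul_comm])
    obtain ⟨P, hP⟩ := H19.MajorBound.exists_poly_contrib (p := p) hM C (hbl z hz) hz' rfl hζ' χ χ
    refine totient_mul_le_sum hM hNpos hζ (P.comp (Polynomial.X ^ q)) hgt _ fun j hj => ?_
    obtain ⟨hjZ, hjQ⟩ := hpow j hj z hz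
    have hval : ctr p C (z ^ j) (bQ (Subgroup.zpowers z)) χ = (m (z ^ j) : ℂ) := by
      rw [ctr, hdef z hz, hA]
      simp only [m, hjQ]
      push_cast
      ring
    obtain ⟨hr, hne⟩ := ctr_factor hM (hzord _ hjZ) C
      (by rw [hC, ← hjQ, centralizer_zpowers_eq])
      (induced_subBlock hM hB hmax (hzord z hz) (hbQ _ (hzQ z hz)).1 (hbQ _ (hzQ z hz)).2)
      (hdef z hz) hχ (u := z ^ j)
    refine ⟨?_, ?_, ?_⟩
    · rw [← hval, ctr_eq_contrib C hz' _ j (u := z ^ j) (by simp [z']), hP, Polynomial.aeval_comp]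
      simp only [map_pow, Polynomial.aeval_X]
      congr 1
      rw [← pow_mul, ← pow_mul, mul_comm]
    · refine lt_of_le_of_ne (mul_nonneg (by positivity) (hA0 _ _)) fun h0 => hne ?_
      rw [hval, ← Complex.ofReal_zero]
      exact congrArg Complex.ofReal h0.symm
    · rw [← hval]
      exact hr
  have hperm : ∀ j ∈ H19.units' N, ∑ z ∈ Z, m (z ^ j) = ∑ z ∈ Z, m z := by
    intro j hj
    have hinj : Set.InjOn (fun z => z ^ j) (Z : Set G) := by
      intro z hz w hw h
      have hcop : (Nat.card D).Coprime j := hcardD ▸ (H19.mem_units'.1 hj).2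
      exact congrArg Subtype.val ((powCoprime hcop).injective
        (a₁ := (⟨z, (hmemZ.1 hz).1⟩ : D)) (a₂ := ⟨w, (hmemZ.1 hw).1⟩) (Subtype.ext h))
    conv_rhs => rw [← Finset.eq_of_subset_of_card_le
      (s := Z.image fun z => z ^ j) (t := Z)
      (fun x hx => by
        obtain ⟨z, hz, rfl⟩ := Finset.mem_image.1 hx
        exact (hpow j hj z hz).1)
      (Finset.card_image_of_injOn hinj).ge]
    rw [Finset.sum_image hinj]
  have htot := Finset.sum_le_sum hlow
  rw [Finset.sum_comm, Finset.sum_congr rfl hperm] at htot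
  simp only [Finset.sum_const, nsmul_eq_mul, H19.card_units'] at htot
  have hmS : ∑ z ∈ Z, m z = (p : ℝ) ^ d * S := by
    rw [hS, Finset.mul_sum, ← Finset.sum_coe_sort Z]
  rw [hmS] at htot
  have hφ : (0 : ℝ) < (N.totient : ℝ) := by exact_mod_cast Nat.totient_pos.2 hNpos
  have h6 : (Z.card : ℝ) * (p : ℝ) ^ hgt ≤ (p : ℝ) ^ d * e := by
    refine (le_of_mul_le_mul_left ?_ hφ).trans (mul_le_mul_of_nonneg_left hSe (by positivity))
    linarith
  rw [← hZcard, hcardD, mul_comm e]
  exact_mod_cast h6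

end H17.Major
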