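import Cfsg.Agent.H17.LargerDegree
import Cfsg.Agent.H13.Kernel

/-!
The nilpotent length of a solvable group is at most the number of its character degrees.
-/

set_option autoImplicit false
set_option linter.style.haveILetI false

namespace H17.DegreeLength

open Cfsg

universe u

theorem isNilpotent_quot_comap {G Q : Type u} [Group G] [Group Q] (f : G →* Q)
    (hf : Function.Surjective f) (a b : Subgroup Q) [(a.subgroupOf b).Normal]
    [((a.comap f).subgroupOf (b.comap f)).Normal]
    (h : Group.IsNilpotent (↥b ⧸ a.subgroupOf b)) :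
    Group.IsNilpotent (↥(b.comap f) ⧸ (a.comap f).subgroupOf (b.comap f)) := by
  let g : ↥(b.comap f) →* ↥b ⧸ a.subgroupOf b :=
    (QuotientGroup.mk' _).comp (f.subgroupComap b)
  have hg : Function.Surjective g := by
    intro y
    obtain ⟨⟨y, hy⟩, rfl⟩ := QuotientGroup.mk'_surjective _ y
    obtain ⟨x, rfl⟩ := hf y
    exact ⟨⟨x, hy⟩, rfl⟩
  have hk : g.ker = (a.comap f).subgroupOf (b.comap f) := by
    ext x
    rw [MonoidHom.mem_ker, Subgroup.mem_subgroupOf]
    exact (QuotientGroup.eq_one_iff _)
  exact (Group.isNilpotent_congr ((QuotientGroup.quotientMulEquivOfEq hk.symm).trans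
    (QuotientGroup.quotientKerEquivOfSurjective g hg))).mpr h

/-- The set of character degrees. -/
def degs (G : Type u) [Group G] : Set ℕ :=
  {d | ∃ χ : IrrCharacter G, charDegree (χ : G → ℂ) = d}

theorem degs_finite (G : Type u) [Group G] [Finite G] : (degs G).Finite := by
  have := Fintype.ofFinite G
  exact (Set.finite_range fun χ : IrrCharacter G => charDegree (χ : G → ℂ)).subset
    fun d ⟨χ, hχ⟩ => ⟨χ, hχ⟩

theorem one_mem_degs (G : Type u) [Group G] [Finite G] : 1 ∈ degs G := by
  refine ⟨H12.oneIrr G, ?_⟩
  show ⌊((H12.oneIrr G : G → ℂ) 1).re⌋₊ = 1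
  rw [H12.oneIrr_apply]
  simp

theorem exists_series : ∀ (n : ℕ) (G : Type u) [Group G] [Finite G], Group.IsSolvable G →
    (degs G).ncard ≤ n → ∃ N : Fin (n + 1) → Subgroup G, N 0 = ⊥ ∧ N (Fin.last n) = ⊤ ∧
      Monotone N ∧ (∀ i, (N i).Normal) ∧ ∀ i : Fin n,
        ∀ _h : ((N i.castSucc).subgroupOf (N i.succ)).Normal,
          Group.IsNilpotent (↥(N i.succ) ⧸ (N i.castSucc).subgroupOf (N i.succ)) := by
  intro n
  induction n with
  | zero =>
    intro G _ _ _ hn
    have := (Set.ncard_pos (degs_finite G)).2 ⟨1, one_mem_degs G⟩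
    omega
  | succ n ih =>
    intro G _ _ hsolv hn
    classical
    have := Fintype.ofFinite G
    set F := fittingSubgroup G with hF
    have hFn : F.Normal := H1.fittingSubgroup_normal G
    have hFnil : Group.IsNilpotent F := H1.isNilpotent_fittingSubgroup G
    by_cases hFtop : F = ⊤
    · have hG : Group.IsNilpotent G :=
        Group.nilpotent_of_surjective F.subtype fun g => ⟨⟨g, hFtop ▸ Subgroup.mem_top g⟩, rfl⟩
      refine ⟨fun i => if i = 0 then ⊥ else ⊤, by simp, by simp [Fin.ext_iff], ?_, ?_, ?_⟩
      · intro i j hij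
        simp only
        by_cases hi : i = 0
        · simp [hi]
        · have : j ≠ 0 := fun hj => hi (le_antisymm (hj ▸ hij) (Fin.zero_le _))
          simp [hi, this]
      · intro i
        simp only
        split_ifs <;> infer_instance
      · intro i h
        exact inferInstance
    obtain ⟨b, hb, hbmax⟩ := Set.exists_max_image (degs G) id (degs_finite G) ⟨1, one_mem_degs G⟩
    have hsub : degs (G ⧸ F) ⊆ degs G \ {b} := by
      rintro d ⟨ψ, rfl⟩
      set χ := H13.inflateIrr F ψ with hχ
      have hdeg : charDegree (χ : G → ℂ) = charDegree (ψ : G ⧸ F → ℂ) := by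
        show ⌊((χ : G → ℂ) 1).re⌋₊ = ⌊((ψ : G ⧸ F → ℂ) 1).re⌋₊
        rw [hχ, H13.inflateIrr_apply]
        rfl
      refine ⟨⟨χ, hdeg⟩, fun hdb => ?_⟩
      rw [Set.mem_singleton_iff] at hdb
      set K := H17.LargerDegree.kerSub (H12.isCharacter_irr χ) with hK
      have := H17.LargerDegree.kerSub_normal (H12.isCharacter_irr χ)
      have hFK : F ≤ K := fun x hx => H13.inflateIrr_kernel F ψ hx
      have hno : ∀ χ' : IrrCharacter G, ¬ charDegree (χ : G → ℂ) < charDegree (χ' : G → ℂ) := by
        intro χ'
        have h2 : charDegree (χ' : G → ℂ) ≤ b := hbmax _ ⟨χ', rfl⟩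
        omega
      by_cases hKF : K ≤ F
      · have hKe : K = F := le_antisymm hKF hFK
        obtain ⟨χ', hlt, -⟩ := H17.LargerDegree.main χ K (fun g => Iff.rfl)
          (Or.inr ⟨hKe, inferInstance, hKe ▸ hFtop⟩)
        exact hno χ' hlt
      · obtain ⟨χ', hlt, -⟩ := H17.LargerDegree.main χ K (fun g => Iff.rfl) (Or.inl hKF)
        exact hno χ' hlt
    have hcard : (degs (G ⧸ F)).ncard ≤ n := by
      have h1 := Set.ncard_le_ncard hsub ((degs_finite G).sdiff)
      rw [Set.ncard_sdiff_singleton_of_mem hb] at h1
      omega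
    obtain ⟨N, hN0, hNl, hNm, hNn, hNq⟩ := ih (G ⧸ F) inferInstance hcard
    let q := QuotientGroup.mk' F
    refine ⟨Fin.cases ⊥ fun i => (N i).comap q, rfl, ?_, ?_, ?_, ?_⟩
    · simp only [← Fin.succ_last, Fin.cases_succ, hNl, Subgroup.comap_top]
    · intro i j hij
      induction i using Fin.cases with
      | zero => exact bot_le
      | succ i =>
        induction j using Fin.cases with
        | zero => exact absurd hij (not_le.2 (Fin.succ_pos i))
        | succ j => exact Subgroup.comap_mono (hNm (Fin.succ_le_succ_iff.1 hij))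
    · intro i
      induction i using Fin.cases with
      | zero => exact inferInstanceAs (⊥ : Subgroup G).Normal
      | succ i => exact (hNn i).comap q
    · intro i
      induction i using Fin.cases with
      | zero =>
        intro h
        have hnil : Group.IsNilpotent ↥((N 0).comap q) := by
          rw [hN0, MonoidHom.comap_bot, QuotientGroup.ker_mk']
          exact hFnil
        exact @Group.nilpotent_quotient_of_nilpotent _ _ _ h hnil
      | succ i =>
        intro h
        have : ((N i.castSucc).subgroupOf (N i.succ)).Normal := (hNn _).subgroupOf _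
        exact @isNilpotent_quot_comap _ _ _ _ q (QuotientGroup.mk'_surjective F) (N i.castSucc)
          (N i.succ) this h (hNq i this)

end H17.DegreeLength
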