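import Cfsg.Agent.H17.Mat2
import Cfsg.Agent.H17.RankOne

/-!
Subgroups of GL₂ containing SL₂ as rank one groups.
-/

set_option autoImplicit false
set_option linter.unusedSectionVars false

namespace H17

open Matrix

/-- an embedding of `G` as the preimage of `Dd` under the determinant -/
structure Emb2 (G : Type*) [Group G] (F : Type*) [Field F] where
  emb : G →* GL (Fin 2) F
  inj : Function.Injective emb
  Dd : Subgroup Fˣ
  mem_range : ∀ g : GL (Fin 2) F, g ∈ emb.range ↔ Matrix.GeneralLinearGroup.det g ∈ Dd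

namespace Emb2

variable {G : Type*} [Group G] {F : Type*} [Field F] (E : Emb2 G F)

/-- the matrix of an element -/
def mm (g : G) : Matrix (Fin 2) (Fin 2) F := ((E.emb g : GL (Fin 2) F) : Matrix (Fin 2) (Fin 2) F)

theorem mm_mul (g h : G) : E.mm (g * h) = E.mm g * E.mm h := by simp [mm]

theorem mm_one : E.mm 1 = 1 := by simp [mm]

theorem mm_inj {g h : G} (e : E.mm g = E.mm h) : g = h := E.inj (Units.ext e)

theorem mm_inv_mul (g : G) : E.mm g⁻¹ * E.mm g = 1 := by
  rw [← mm_mul, inv_mul_cancel, mm_one]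

theorem mm_mul_inv (g : G) : E.mm g * E.mm g⁻¹ = 1 := by
  rw [← mm_mul, mul_inv_cancel, mm_one]

theorem det_mm_ne (g : G) : (E.mm g).det ≠ 0 := (E.emb g).det_ne_zero

theorem det_mem (g : G) : Matrix.GeneralLinearGroup.det (E.emb g) ∈ E.Dd :=
  (E.mem_range _).1 ⟨g, rfl⟩

theorem exists_of_det {M : Matrix (Fin 2) (Fin 2) F} {d : Fˣ} (hd : d ∈ E.Dd)
    (h : M.det = (d : F)) : ∃ g : G, E.mm g = M := by
  have h0 : M.det ≠ 0 := by rw [h]; exact d.ne_zero
  let U := Matrix.GeneralLinearGroup.mkOfDetNeZero M h0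
  have hU : Matrix.GeneralLinearGroup.det U = d := Units.ext h
  obtain ⟨g, hg⟩ := (E.mem_range U).2 (hU.symm ▸ hd)
  exact ⟨g, by show ((E.emb g : GL (Fin 2) F) : Matrix (Fin 2) (Fin 2) F) = M; rw [hg]; rfl⟩

theorem conj_trace_det {g h : G} (hc : IsConj g h) :
    (E.mm h).trace = (E.mm g).trace ∧ (E.mm h).det = (E.mm g).det := by
  obtain ⟨x, rfl⟩ := isConj_iff.1 hc
  rw [mm_mul, mm_mul]
  constructor
  · rw [Matrix.trace_mul_cycle, mm_inv_mul, one_mul]
  · rw [Matrix.det_mul, Matrix.det_mul, mul_right_comm, ← Matrix.det_mul, mm_mul_inv,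
      Matrix.det_one, one_mul]

theorem conj_noEig {g h : G} (hc : IsConj g h) (hg : NoEig (E.mm g)) : NoEig (E.mm h) := by
  obtain ⟨x, rfl⟩ := isConj_iff.1 hc
  rw [mm_mul, mm_mul]
  exact noEig_conj (E.mm_mul_inv x) hg

/-- scalar elements -/
def Zsub : Subgroup G where
  carrier := {g | IsScal (E.mm g)}
  one_mem' := by simp [IsScal, mm_one]
  mul_mem' {a b} ha hb := by
    obtain ⟨a1, a2, a3⟩ := ha
    obtain ⟨b1, b2, b3⟩ := hb
    simp [IsScal, mm_mul, Matrix.mul_apply, Fin.sum_univ_two, a1, a2, a3, b1, b2, b3]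
  inv_mem' {a} ha := by
    obtain ⟨a1, a2, a3⟩ := ha
    have h := E.mm_mul_inv a
    have h00 := congrFun (congrFun h 0) 0
    have h01 := congrFun (congrFun h 0) 1
    have h10 := congrFun (congrFun h 1) 0
    have h11 := congrFun (congrFun h 1) 1
    simp [Matrix.mul_apply, Fin.sum_univ_two, a1, a2, a3] at h00 h01 h10 h11
    have hne : E.mm a 1 1 ≠ 0 := fun e => by rw [e, zero_mul] at h00; exact zero_ne_one h00
    exact ⟨h01.resolve_left hne, h10.resolve_left hne,
      mul_left_cancel₀ hne (h00.trans h11.symm)⟩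

/-- diagonal elements -/
def Tsub : Subgroup G where
  carrier := {g | IsDiag2 (E.mm g)}
  one_mem' := by simp [IsDiag2, mm_one]
  mul_mem' {a b} ha hb := by
    obtain ⟨a1, a2⟩ := ha
    obtain ⟨b1, b2⟩ := hb
    simp [IsDiag2, mm_mul, Matrix.mul_apply, Fin.sum_univ_two, a1, a2, b1, b2]
  inv_mem' {a} ha := by
    obtain ⟨a1, a2⟩ := ha
    have h := E.mm_mul_inv a
    have h00 := congrFun (congrFun h 0) 0
    have h01 := congrFun (congrFun h 0) 1
    have h10 := congrFun (congrFun h 1) 0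
    have h11 := congrFun (congrFun h 1) 1
    simp [Matrix.mul_apply, Fin.sum_univ_two, a1, a2] at h00 h01 h10 h11
    have hne : E.mm a 1 1 ≠ 0 := fun e => by rw [e, zero_mul] at h11; exact zero_ne_one h11
    have hne' : E.mm a 0 0 ≠ 0 := fun e => by rw [e, zero_mul] at h00; exact zero_ne_one h00
    exact ⟨h01.resolve_left hne', h10.resolve_left hne⟩

theorem mem_Zsub {g : G} : g ∈ E.Zsub ↔ IsScal (E.mm g) := Iff.rfl

theorem mem_Tsub {g : G} : g ∈ E.Tsub ↔ IsDiag2 (E.mm g) := Iff.rfl

theorem Zsub_le_center : E.Zsub ≤ Subgroup.center G := fun z hz =>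
  Subgroup.mem_center_iff.2 fun g => E.mm_inj (by rw [mm_mul, mm_mul, IsScal.mul_comm hz])

theorem exists_u (x : F) : ∃ g : G, E.mm g = !![1, x; 0, 1] :=
  E.exists_of_det E.Dd.one_mem (by simp [Matrix.det_fin_two])

/-- upper unitriangular element -/
noncomputable def ue (x : F) : G := Classical.choose (E.exists_u x)

theorem mm_ue (x : F) : E.mm (E.ue x) = !![1, x; 0, 1] := Classical.choose_spec (E.exists_u x)

/-- root group -/
noncomputable def uhom : Multiplicative F →* G where
  toFun a := E.ue a.toAdd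
  map_one' := E.mm_inj (by
    rw [mm_ue, mm_one]
    ext i j; fin_cases i <;> fin_cases j <;> simp)
  map_mul' a b := E.mm_inj (by
    rw [mm_mul, mm_ue, mm_ue, mm_ue]
    ext i j; fin_cases i <;> fin_cases j <;> simp [Matrix.mul_apply, Fin.sum_univ_two, add_comm])

theorem mm_uhom (a : Multiplicative F) : E.mm (E.uhom a) = !![1, a.toAdd; 0, 1] := E.mm_ue _

theorem diag_ne (t : E.Tsub) : E.mm (t : G) 0 0 ≠ 0 ∧ E.mm (t : G) 1 1 ≠ 0 := by
  have h := E.det_mm_ne (t : G)
  obtain ⟨t1, t2⟩ := t.2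
  rw [Matrix.det_fin_two, t1, zero_mul, sub_zero] at h
  exact mul_ne_zero_iff.1 h

/-- the ratio of the diagonal entries -/
def ratio : E.Tsub →* Fˣ where
  toFun t := Units.mk0 (E.mm (t : G) 0 0) (E.diag_ne t).1 / Units.mk0 (E.mm (t : G) 1 1) (E.diag_ne t).2
  map_one' := Units.ext (by simp [mm_one])
  map_mul' a b := Units.ext (by
    obtain ⟨a1, a2⟩ := a.2
    obtain ⟨b1, b2⟩ := b.2
    simp [mm_mul, Matrix.mul_apply, Fin.sum_univ_two, a1, a2, mul_div_mul_comm])

theorem coe_ratio (t : E.Tsub) :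
    ((E.ratio t : Fˣ) : F) = E.mm (t : G) 0 0 / E.mm (t : G) 1 1 := by simp [ratio]

/-- multiplication action on the root group -/
def mulAut (F : Type*) [Field F] : Fˣ →* MulAut (Multiplicative F) where
  toFun c :=
    { toFun := fun a => Multiplicative.ofAdd ((c : F) * a.toAdd)
      invFun := fun a => Multiplicative.ofAdd ((c⁻¹ : Fˣ) * a.toAdd)
      left_inv := fun a => by simp [← mul_assoc]
      right_inv := fun a => by simp [← mul_assoc]
      map_mul' := fun a b => by simp [mul_add, ofAdd_add] }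
  map_one' := by ext a; simp
  map_mul' a b := by ext x; simp [mul_assoc]

theorem mulAut_apply (c : Fˣ) (a : Multiplicative F) :
    mulAut F c a = Multiplicative.ofAdd ((c : F) * a.toAdd) := rfl

theorem conj_uhom (t : E.Tsub) (a : Multiplicative F) :
    (t : G) * E.uhom a * (t : G)⁻¹ = E.uhom (mulAut F (E.ratio t) a) := by
  rw [mul_inv_eq_iff_eq_mul]
  refine E.mm_inj ?_
  obtain ⟨t1, t2⟩ := t.2
  obtain ⟨n0, n1⟩ := E.diag_ne t
  rw [mm_mul, mm_mul, mm_uhom, mm_uhom, mulAut_apply, toAdd_ofAdd, coe_ratio]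
  ext i j
  fin_cases i <;> fin_cases j <;> simp [Matrix.mul_apply, Fin.sum_univ_two, t1, t2]
  field_simp

theorem adj_mem (g : G) : ∃ h : G, E.mm h = (E.mm g).adjugate := by
  refine E.exists_of_det (E.det_mem g) ?_
  rw [Matrix.det_adjugate]
  simp [mm]

/-- adjugate -/
noncomputable def adj (g : G) : G := Classical.choose (E.adj_mem g)

theorem mm_adj (g : G) : E.mm (E.adj g) = (E.mm g).adjugate := Classical.choose_spec (E.adj_mem g)

theorem adj_mul (g h : G) : E.adj (g * h) = E.adj h * E.adj g :=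
  E.mm_inj (by rw [mm_mul, mm_adj, mm_adj, mm_adj, mm_mul, Matrix.adjugate_mul_distrib])

theorem adj_one : E.adj 1 = 1 := E.mm_inj (by rw [mm_adj, mm_one, Matrix.adjugate_one])

theorem adj_adj (g : G) : E.adj (E.adj g) = g := E.mm_inj (by
  rw [mm_adj, mm_adj]
  simp only [Matrix.adjugate_fin_two]
  ext i j; fin_cases i <;> fin_cases j <;> simp)

theorem adj_of_mem_Zsub {g : G} (hg : g ∈ E.Zsub) : E.adj g = g := E.mm_inj (by
  obtain ⟨g1, g2, g3⟩ := hg
  rw [mm_adj, Matrix.adjugate_fin_two]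
  ext i j; fin_cases i <;> fin_cases j <;> simp [g1, g2, g3])

theorem adj_mem_Tsub {g : G} (hg : g ∈ E.Tsub) : E.adj g ∈ E.Tsub := by
  obtain ⟨g1, g2⟩ := hg
  rw [mem_Tsub, mm_adj, Matrix.adjugate_fin_two]
  simp [IsDiag2, g1, g2]

/-- the swap on `T` -/
noncomputable def σTsub : E.Tsub →* E.Tsub where
  toFun t := ⟨E.adj t, E.adj_mem_Tsub t.2⟩
  map_one' := Subtype.ext E.adj_one
  map_mul' a b := Subtype.ext (by
    show E.adj ((a : G) * b) = E.adj a * E.adj b
    rw [adj_mul]
    refine E.mm_inj ?_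
    obtain ⟨a1, a2⟩ := E.adj_mem_Tsub a.2
    obtain ⟨b1, b2⟩ := E.adj_mem_Tsub b.2
    rw [mm_mul, mm_mul]
    ext i j
    fin_cases i <;> fin_cases j <;> simp [Matrix.mul_apply, Fin.sum_univ_two, a1, a2, b1, b2, mul_comm])

theorem diag_conj {t t' : G} (ht : t ∈ E.Tsub) (ht' : t' ∈ E.Tsub) (hc : IsConj t t') :
    t' = t ∨ t' = E.adj t := by
  obtain ⟨e1, e2⟩ := E.conj_trace_det hc
  obtain ⟨a1, a2⟩ := ht
  obtain ⟨b1, b2⟩ := ht'
  simp only [Matrix.trace_fin_two, Matrix.det_fin_two, a1, b1, zero_mul, sub_zero] at e1 e2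
  have h : (E.mm t' 0 0 - E.mm t 0 0) * (E.mm t' 0 0 - E.mm t 1 1) = 0 := by
    linear_combination E.mm t' 0 0 * e1 - e2
  rcases mul_eq_zero.1 h with h | h
  · left
    apply E.mm_inj
    rw [sub_eq_zero] at h
    ext i j
    fin_cases i <;> fin_cases j <;> simp [a1, a2, b1, b2, h]
    linear_combination e1 - h
  · right
    apply E.mm_inj
    rw [sub_eq_zero] at h
    rw [mm_adj, Matrix.adjugate_fin_two]
    ext i j
    fin_cases i <;> fin_cases j <;> simp [a1, a2, b1, b2, h]
    linear_combination e1 - h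

theorem uhom_notMem {a : Multiplicative F} (ha : a ≠ 1) : E.uhom a ∉ E.Zsub := by
  intro h
  apply ha
  have := h.1
  rw [mm_uhom] at this
  exact Multiplicative.toAdd.injective (by simpa using this)

theorem zu_trace {z : G} (hz : z ∈ E.Zsub) (a : Multiplicative F) :
    (E.mm (z * E.uhom a)).trace = 2 * E.mm z 0 0 ∧
    (E.mm (z * E.uhom a)).det = E.mm z 0 0 ^ 2 ∧ E.mm (z * E.uhom a) 1 0 = 0 := by
  obtain ⟨z1, z2, z3⟩ := hz
  simp [mm_mul, mm_uhom, Matrix.trace_fin_two, Matrix.det_fin_two, Matrix.mul_apply,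
    Fin.sum_univ_two, z1, z2, z3]
  constructor <;> ring

theorem fuse_uhom {a b : Multiplicative F} {z x : G} (ha : a ≠ 1) (hz : z ∈ E.Zsub)
    (h : x * E.uhom a * x⁻¹ = z * E.uhom b) :
    z = 1 ∧ ∃ (t : E.Tsub) (c : Multiplicative F), x = (t : G) * E.uhom c := by
  obtain ⟨e1, e2⟩ := E.conj_trace_det (isConj_iff.2 ⟨x, h⟩)
  obtain ⟨t1, t2, -⟩ := E.zu_trace hz b
  rw [t1, mm_uhom] at e1
  rw [t2, mm_uhom] at e2
  simp [Matrix.trace_fin_two, Matrix.det_fin_two] at e1 e2
  have hz1 : E.mm z 0 0 = 1 := by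
    have : (E.mm z 0 0 - 1) ^ 2 = 0 := by
      rcases e2 with e2 | e2
      · rw [e2]; ring
      · rw [e2] at e1 ⊢
        linear_combination (-1) * e1
    exact sub_eq_zero.1 (pow_eq_zero_iff two_ne_zero |>.1 this)
  have hzone : z = 1 := E.mm_inj (by
    rw [mm_one, IsScal.eq_smul hz, hz1, one_smul])
  refine ⟨hzone, ?_⟩
  subst hzone
  rw [one_mul, mul_inv_eq_iff_eq_mul] at h
  have h' := congrArg E.mm h
  rw [mm_mul, mm_mul, mm_uhom, mm_uhom] at h'
  have h00 := congrFun (congrFun h' 0) 0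
  have h01 := congrFun (congrFun h' 0) 1
  simp [Matrix.mul_apply, Fin.sum_univ_two] at h00 h01
  have hdet := E.det_mm_ne x
  have hx : E.mm x 1 0 = 0 := by
    rcases h00 with hb | hb
    · exfalso
      rw [Matrix.det_fin_two] at hdet
      have ha' : a.toAdd ≠ 0 := fun e => ha (Multiplicative.toAdd.injective e)
      rw [hb, toAdd_one, zero_mul, add_zero] at h01
      have h11 := congrFun (congrFun h' 1) 1
      simp [Matrix.mul_apply, Fin.sum_univ_two] at h11
      have hx0 : E.mm x 0 0 = 0 := by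
        have : E.mm x 0 0 * a.toAdd = 0 := by linear_combination h01
        exact (mul_eq_zero.1 this).resolve_right ha'
      have hx1 : E.mm x 1 0 = 0 := h11.resolve_right ha'
      simp [hx0, hx1] at hdet
    · exact hb
  obtain ⟨hx00, hx11⟩ : E.mm x 0 0 ≠ 0 ∧ E.mm x 1 1 ≠ 0 := by
    rw [Matrix.det_fin_two, hx, mul_zero, sub_zero] at hdet
    exact mul_ne_zero_iff.1 hdet
  obtain ⟨t, ht⟩ := E.exists_of_det (E.det_mem x) (M := !![E.mm x 0 0, 0; 0, E.mm x 1 1]) (by
    rw [Matrix.det_fin_two_of, Matrix.GeneralLinearGroup.val_det_apply]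
    show _ = (E.mm x).det
    rw [Matrix.det_fin_two, hx]; ring)
  refine ⟨⟨t, by rw [mem_Tsub, ht]; simp [IsDiag2]⟩,
    Multiplicative.ofAdd (E.mm x 0 1 / E.mm x 0 0), E.mm_inj ?_⟩
  rw [mm_mul, ht, mm_uhom, toAdd_ofAdd]
  ext i j
  fin_cases i <;> fin_cases j <;> simp [Matrix.mul_apply, Fin.sum_univ_two, hx]
  field_simp

section Finite

variable [Finite F]

theorem finiteG (E : Emb2 G F) : Finite G := Finite.of_injective _ E.inj

theorem card_T : Nat.card E.Tsub = Nat.card E.Dd * (Nat.card F - 1) := by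
  rw [← Nat.card_units, mul_comm, ← Nat.card_prod]
  let f : E.Tsub → Fˣ × E.Dd := fun t =>
    (Units.mk0 _ (E.diag_ne t).1, ⟨_, E.det_mem (t : G)⟩)
  refine Nat.card_congr (Equiv.ofBijective f ⟨?_, ?_⟩)
  · intro t t' h
    have h1 : E.mm (t : G) 0 0 = E.mm (t' : G) 0 0 := congrArg (fun p => ((p.1 : Fˣ) : F)) h
    have h2 : (E.mm (t : G)).det = (E.mm (t' : G)).det :=
      congrArg (fun p => (((p.2 : E.Dd) : Fˣ) : F)) h
    obtain ⟨a1, a2⟩ := t.2
    obtain ⟨b1, b2⟩ := t'.2
    rw [Matrix.det_fin_two, Matrix.det_fin_two, a1, b1, zero_mul, sub_zero, zero_mul, sub_zero, h1] at h2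
    apply Subtype.ext
    apply E.mm_inj
    ext i j
    fin_cases i <;> fin_cases j <;> simp [a1, a2, b1, b2, h1]
    exact mul_left_cancel₀ (E.diag_ne t').1 h2
  · rintro ⟨a, d⟩
    obtain ⟨t, ht⟩ := E.exists_of_det d.2 (M := !![(a : F), 0; 0, (d : Fˣ) / (a : F)]) (by
      simp [Matrix.det_fin_two]; field_simp)
    refine ⟨⟨t, by rw [mem_Tsub, ht]; simp [IsDiag2]⟩, Prod.ext (Units.ext ?_) (Subtype.ext (Units.ext ?_))⟩
    · simp [f, ht]
    · show (E.mm t).det = _
      rw [ht]
      simp [Matrix.det_fin_two]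
      field_simp

theorem det_surjective : Function.Surjective (Matrix.GeneralLinearGroup.det (n := Fin 2) (R := F)) :=
  fun d => ⟨Matrix.GeneralLinearGroup.mkOfDetNeZero !![(d : F), 0; 0, 1] (by simp [Matrix.det_fin_two]),
    Units.ext (by simp [Matrix.GeneralLinearGroup.mkOfDetNeZero, Matrix.det_fin_two])⟩

theorem card_G : Nat.card G = Nat.card F * Nat.card E.Tsub * (Nat.card F + 1) := by
  haveI := Fintype.ofFinite F
  have hr : E.emb.range = E.Dd.comap Matrix.GeneralLinearGroup.det := by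
    ext g; exact E.mem_range g
  have h1 : Nat.card G = Nat.card E.emb.range := Nat.card_congr (MonoidHom.ofInjective E.inj).toEquiv
  have h2 := Subgroup.card_mul_index (E.Dd.comap (Matrix.GeneralLinearGroup.det (n := Fin 2) (R := F)))
  rw [Subgroup.index_comap_of_surjective _ det_surjective, ← hr, ← h1, Matrix.card_GL_field] at h2
  have h3 := Subgroup.card_mul_index E.Dd
  rw [Nat.card_units] at h3
  rw [E.card_T]
  rw [Fin.prod_univ_two, Nat.card_eq_fintype_card (α := F)] at *
  simp only [Fin.val_zero, Fin.val_one, pow_zero, pow_one] at h2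
  have hpos : 0 < E.Dd.index := Nat.pos_of_ne_zero Subgroup.index_ne_zero_of_finite
  apply Nat.eq_of_mul_eq_mul_right hpos
  rw [h2]
  calc (Fintype.card F ^ 2 - 1) * (Fintype.card F ^ 2 - Fintype.card F)
      = ((Fintype.card F + 1) * (Fintype.card F - 1)) * (Fintype.card F * (Fintype.card F - 1)) := by
        congr 1
        · rw [← Nat.sq_sub_sq, one_pow]
        · rw [Nat.mul_sub, mul_one, sq]
    _ = _ := by
        conv_lhs => arg 2; arg 2; rw [← h3]
        ring

end Finite

/-- a non-split torus -/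
structure NonSplit (C : Subgroup G) : Prop where
  comm : ∀ a ∈ C, ∀ b ∈ C, a * b = b * a
  card : Nat.card C = Nat.card E.Dd * (Nat.card F + 1)
  Z_le : E.Zsub ≤ C
  noEig : ∀ c ∈ C, c ∉ E.Zsub → NoEig (E.mm c)

section Finite

variable [Finite F]

theorem card_ker_le {N : Matrix (Fin 2) (Fin 2) F} (hN : NoEig N) (H : Subgroup G)
    (hH : ∀ h ∈ H, E.mm h * N = N * E.mm h) :
    Nat.card H ≤ Nat.card E.Dd * (Nat.card F + 1) := by
  haveI := E.finiteG
  haveI := Fintype.ofFinite F
  let φ : H →* E.Dd :=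
    (((Matrix.GeneralLinearGroup.det).comp E.emb).comp H.subtype).codRestrict E.Dd fun h => E.det_mem _
  rw [Subgroup.card_eq_card_quotient_mul_card_subgroup φ.ker,
    Nat.card_congr (QuotientGroup.quotientKerEquivRange φ).toEquiv]
  refine Nat.mul_le_mul (Nat.card_le_card_of_injective _ Subtype.val_injective) ?_
  refine le_trans ?_ (card_conic_le hN)
  let v : φ.ker → F × F := fun h =>
    (E.mm (h : G) 0 0 - E.mm (h : G) 1 0 / N 1 0 * N 0 0, E.mm (h : G) 1 0 / N 1 0)
  have hv : ∀ h : φ.ker, E.mm ((h : H) : G) = (v h).1 • 1 + (v h).2 • N := fun h =>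
    exists_eq_add_of_commute (hH _ (h : H).2) hN.lower_ne
  refine Nat.card_le_card_of_injective (fun h => ⟨v h, ?_⟩) ?_
  · rw [← hv h]
    exact congrArg (fun d : E.Dd => ((d : Fˣ) : F)) h.2
  · intro h h' e
    have e' : v h = v h' := congrArg Subtype.val e
    exact Subtype.ext (Subtype.ext (E.mm_inj (by rw [hv h, hv h', e'])))

theorem NonSplit.cent_mem {C : Subgroup G} (hC : E.NonSplit C) {c : G} (hc : c ∈ C)
    (hcz : c ∉ E.Zsub) {x : G} (hx : x * c = c * x) : x ∈ C := by
  haveI := E.finiteG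
  let H : Subgroup G := Subgroup.centralizer {c}
  have hCH : C ≤ H := fun y hy => Subgroup.mem_centralizer_singleton_iff.2 (hC.comm y hy c hc)
  have hle : Nat.card H ≤ Nat.card C := by
    rw [hC.card]
    refine E.card_ker_le (hC.noEig c hc hcz) H fun h hh => ?_
    rw [← mm_mul, ← mm_mul, Subgroup.mem_centralizer_singleton_iff.1 hh]
  rw [Subgroup.eq_of_le_of_card_ge hCH hle]
  exact Subgroup.mem_centralizer_singleton_iff.2 hx

theorem NonSplit.adj_mem_C {C : Subgroup G} (hC : E.NonSplit C) {c : G} (hc : c ∈ C) :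
    E.adj c ∈ C := by
  by_cases hcz : c ∈ E.Zsub
  · rwa [E.adj_of_mem_Zsub hcz]
  refine hC.cent_mem E hc hcz (E.mm_inj ?_)
  rw [mm_mul, mm_mul, mm_adj, Matrix.adjugate_mul, Matrix.mul_adjugate]

theorem exists_nonSplit : ∃ C : Subgroup G, E.NonSplit C := by
  classical
  haveI := E.finiteG
  haveI := Fintype.ofFinite F
  obtain ⟨N, hN⟩ := exists_noEig (F := F)
  let H : Subgroup G :=
    { carrier := {h | E.mm h * N = N * E.mm h}
      one_mem' := by simp [mm_one]
      mul_mem' := fun {a b} ha hb => by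
        show E.mm (a * b) * N = N * E.mm (a * b)
        rw [mm_mul, mul_assoc, hb, ← mul_assoc, ha, mul_assoc]
      inv_mem' := fun {a} ha => by
        show E.mm a⁻¹ * N = N * E.mm a⁻¹
        calc E.mm a⁻¹ * N = E.mm a⁻¹ * (N * E.mm a) * E.mm a⁻¹ := by
              rw [mul_assoc, mul_assoc, mm_mul_inv, mul_one]
          _ = E.mm a⁻¹ * (E.mm a * N) * E.mm a⁻¹ := by rw [ha]
          _ = N * E.mm a⁻¹ := by rw [← mul_assoc, mm_inv_mul, one_mul] }
  refine ⟨H, ?_, ?_, fun z hz => IsScal.mul_comm hz N, ?_⟩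
  · intro a ha b hb
    refine E.mm_inj ?_
    rw [mm_mul, mm_mul, exists_eq_add_of_commute ha hN.lower_ne,
      exists_eq_add_of_commute hb hN.lower_ne]
    simp only [add_mul, mul_add, Matrix.smul_mul, Matrix.mul_smul, one_mul, mul_one, smul_smul]
    simp only [mul_comm]
    abel
  · refine le_antisymm (E.card_ker_le hN H fun h hh => hh) ?_
    -- the determinant is onto on the full centraliser of `N`
    let P := {p : F × F // p ≠ 0}
    let dt : P → Fˣ := fun p => Units.mk0 _ (hN.det_ne p.1.1 p.1.2 (by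
      by_contra h
      push_neg at h
      exact p.2 (Prod.ext h.1 h.2)))
    have hfib1 : Nat.card {p : P // dt p = 1} ≤ Nat.card F + 1 := by
      refine le_trans (Nat.card_le_card_of_injective
        (fun p => ⟨p.1.1, congrArg Units.val p.2⟩) ?_) (card_conic_le hN)
      intro p p' h
      have h' := congrArg Subtype.val h
      exact Subtype.ext (Subtype.ext h')
    have hmul : ∀ p r : P, ∃ s : P,
        s.1.1 • (1 : Matrix (Fin 2) (Fin 2) F) + s.1.2 • N
          = (p.1.1 • 1 + p.1.2 • N) * (r.1.1 • 1 + r.1.2 • N) := by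
      intro p r
      have hc : (p.1.1 • 1 + p.1.2 • N) * (r.1.1 • 1 + r.1.2 • N) * N
          = N * ((p.1.1 • 1 + p.1.2 • N) * (r.1.1 • 1 + r.1.2 • N)) := by
        rw [mul_assoc, commute_combo, ← mul_assoc, commute_combo, mul_assoc]
      have e := exists_eq_add_of_commute hc hN.lower_ne
      refine ⟨⟨(_, _), ?_⟩, e.symm⟩
      intro h0
      have h1 := (Prod.ext_iff.1 h0).1
      have h2 := (Prod.ext_iff.1 h0).2
      simp only [Prod.fst_zero, Prod.snd_zero] at h1 h2
      rw [h1, h2, zero_smul, zero_smul, add_zero] at e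
      have hd := congrArg Matrix.det e
      rw [Matrix.det_mul, Matrix.det_zero] at hd
      exact mul_ne_zero (dt p).ne_zero (dt r).ne_zero hd
    have hfib : ∀ d : Fˣ, Nat.card {p : P // dt p = d} ≤ Nat.card F + 1 := by
      intro d
      by_cases hne : Nonempty {p : P // dt p = d}
      swap
      · rw [not_nonempty_iff] at hne
        simp
      obtain ⟨p₀, hp₀⟩ := hne
      -- multiply by the inverse, obtained from the adjugate
      obtain ⟨r, hr⟩ : ∃ r : P, dt r = d⁻¹ := by
        have hd0 : (dt p₀ : F) ≠ 0 := (dt p₀).ne_zero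
        let K := p₀.1.1 • (1 : Matrix (Fin 2) (Fin 2) F) + p₀.1.2 • N
        have hc : ((dt p₀ : F)⁻¹ • K.adjugate) * N = N * ((dt p₀ : F)⁻¹ • K.adjugate) := by
          rw [adjugate_eq_trace_sub]
          simp [K, sub_mul, mul_sub, add_mul, mul_add]
        have e := exists_eq_add_of_commute hc hN.lower_ne
        have hdet : ((dt p₀ : F)⁻¹ • K.adjugate).det = (dt p₀ : F)⁻¹ := by
          rw [Matrix.det_smul, Matrix.det_adjugate]
          have : K.det = (dt p₀ : F) := rfl
          rw [this, Fintype.card_fin, show (2 - 1 : ℕ) = 1 from rfl, pow_one]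
          field_simp
        refine ⟨⟨(_, _), ?_⟩, Units.ext ((congrArg Matrix.det e.symm).trans (hdet.trans ?_))⟩
        · intro h0
          have h1 := (Prod.ext_iff.1 h0).1
          have h2 := (Prod.ext_iff.1 h0).2
          simp only [Prod.fst_zero, Prod.snd_zero] at h1 h2
          rw [h1, h2, zero_smul, zero_smul, add_zero] at e
          rw [e, Matrix.det_zero] at hdet
          exact (inv_ne_zero hd0) hdet.symm
        · rw [hp₀, Units.val_inv_eq_inv_val]
      let g : {p : P // dt p = d} → {p : P // dt p = 1} := fun p =>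
        ⟨Classical.choose (hmul p.1 r), Units.ext (by
          show ((Classical.choose (hmul p.1 r)).1.1 • (1 : Matrix (Fin 2) (Fin 2) F)
            + (Classical.choose (hmul p.1 r)).1.2 • N).det = _
          rw [Classical.choose_spec (hmul p.1 r), Matrix.det_mul]
          show (dt p.1 : F) * (dt r : F) = _
          rw [p.2, hr, ← Units.val_mul, mul_inv_cancel])⟩
      refine le_trans (Nat.card_le_card_of_injective g ?_) hfib1
      intro p p' h
      have h1 := Classical.choose_spec (hmul p.1 r)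
      have h2 := Classical.choose_spec (hmul p'.1 r)
      have h3 : Classical.choose (hmul p.1 r) = Classical.choose (hmul p'.1 r) := congrArg Subtype.val h
      rw [h3] at h1
      have h4 := h1.symm.trans h2
      have hu : IsUnit (r.1.1 • (1 : Matrix (Fin 2) (Fin 2) F) + r.1.2 • N) :=
        (Matrix.isUnit_iff_isUnit_det _).2 (dt r).isUnit
      have h5 := hu.mul_right_cancel h4
      have e10 := congrFun (congrFun h5 1) 0
      have e00 := congrFun (congrFun h5 0) 0
      simp [hN.lower_ne] at e10 e00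
      rw [e10, add_left_inj] at e00
      exact Subtype.ext (Subtype.ext (Prod.ext e00 e10))
    have hall : ∀ d : Fˣ, Nat.card {p : P // dt p = d} = Nat.card F + 1 := by
      haveI : Fintype P := Fintype.ofFinite _
      have htot : Nat.card P = ∑ d : Fˣ, Nat.card {p : P // dt p = d} := by
        rw [← Nat.card_sigma]
        exact Nat.card_congr (Equiv.sigmaFiberEquiv dt).symm
      have hP : Nat.card P = Nat.card Fˣ * (Nat.card F + 1) := by
        classical
        rw [Nat.card_units, Nat.card_eq_fintype_card, Nat.card_eq_fintype_card (α := F)]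
        rw [Fintype.card_subtype_compl, Fintype.card_subtype_eq, Fintype.card_prod]
        rw [mul_comm (Fintype.card F - 1), ← Nat.sq_sub_sq, one_pow, sq]
      have : ∑ d : Fˣ, Nat.card {p : P // dt p = d} = ∑ _d : Fˣ, (Nat.card F + 1) := by
        rw [← htot, hP, Finset.sum_const, smul_eq_mul, Finset.card_univ, Nat.card_eq_fintype_card]
      intro d
      exact (Finset.sum_eq_sum_iff_of_le fun d _ => hfib d).1 this d (Finset.mem_univ d)
    calc Nat.card E.Dd * (Nat.card F + 1)
        = Nat.card (Σ d : E.Dd, {p : P // dt p = (d : Fˣ)}) := by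
          haveI : Fintype E.Dd := Fintype.ofFinite _
          rw [Nat.card_sigma]
          simp only [hall, Finset.sum_const, smul_eq_mul, Finset.card_univ, ← Nat.card_eq_fintype_card]
      _ ≤ Nat.card H := by
          have hg : ∀ x : (Σ d : E.Dd, {p : P // dt p = (d : Fˣ)}), ∃ h : H,
              E.mm (h : G) = x.2.1.1.1 • 1 + x.2.1.1.2 • N := by
            rintro ⟨d, p, hp⟩
            obtain ⟨g, hg⟩ := E.exists_of_det d.2 (M := p.1.1 • 1 + p.1.2 • N) (congrArg Units.val hp)
            refine ⟨⟨g, ?_⟩, hg⟩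
            show E.mm g * N = N * E.mm g
            rw [hg, commute_combo]
          choose g hg using hg
          refine Nat.card_le_card_of_injective g ?_
          rintro ⟨d, p, hp⟩ ⟨d', p', hp'⟩ h
          have h1 := hg ⟨d, p, hp⟩
          rw [h, hg] at h1
          simp only at h1
          have e10 := congrFun (congrFun h1 1) 0
          have e00 := congrFun (congrFun h1 0) 0
          simp [hN.lower_ne] at e10 e00
          rw [e10, add_left_inj] at e00
          have hpp : p = p' := (Subtype.ext (Prod.ext e00 e10)).symm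
          subst hpp
          have hdd : d = d' := Subtype.ext (hp.symm.trans hp')
          subst hdd
          rfl
  · intro c hc hcz
    have e := exists_eq_add_of_commute hc hN.lower_ne
    rw [e]
    refine hN.combo _ _ ?_
    intro h0
    apply hcz
    rw [mem_Zsub, e, h0]
    simp [IsScal]

variable {E}

/-- the rank one datum -/
noncomputable def toRankOne {C : Subgroup G} (hC : E.NonSplit C) :
    RankOne G (Multiplicative F) where
  Z := E.Zsub
  T := E.Tsub
  C := C
  q := Nat.card F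
  cardA := Nat.card_congr Multiplicative.toAdd
  two_le := Finite.one_lt_card
  u := E.uhom
  τ := (mulAut F).comp E.ratio
  conj_u := E.conj_uhom
  fixT t ht a h := by
    by_contra ha
    apply ht
    obtain ⟨t1, t2⟩ := t.2
    refine ⟨t1, t2, ?_⟩
    have h' := congrArg Multiplicative.toAdd h
    rw [MonoidHom.comp_apply, mulAut_apply, toAdd_ofAdd] at h'
    have ha' : a.toAdd ≠ 0 := fun e => ha (Multiplicative.toAdd.injective e)
    have hr := mul_eq_right₀ ha' |>.1 h'
    rw [coe_ratio] at hr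
    exact (div_eq_one_iff_eq (E.diag_ne t).2).1 hr
  Z_center := E.Zsub_le_center
  Z_le_T z hz := IsScal.isDiag hz
  Z_le_C := hC.Z_le
  commT a ha b hb := E.mm_inj (by
    obtain ⟨a1, a2⟩ := ha
    obtain ⟨b1, b2⟩ := hb
    rw [mm_mul, mm_mul]
    ext i j
    fin_cases i <;> fin_cases j <;>
      simp [Matrix.mul_apply, Fin.sum_univ_two, a1, a2, b1, b2, mul_comm])
  commC := hC.comm
  σT := E.σTsub
  σC :=
    { toFun := fun c => ⟨E.adj c, hC.adj_mem_C E c.2⟩
      map_one' := Subtype.ext E.adj_one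
      map_mul' := fun a b => Subtype.ext (by
        show E.adj ((a : G) * b) = E.adj a * E.adj b
        rw [adj_mul]
        exact hC.comm _ (hC.adj_mem_C E b.2) _ (hC.adj_mem_C E a.2)) }
  σT_Z t ht := Subtype.ext (E.adj_of_mem_Zsub ht)
  σC_Z t ht := Subtype.ext (E.adj_of_mem_Zsub ht)
  σT_σT t := Subtype.ext (E.adj_adj t)
  σC_σC t := Subtype.ext (E.adj_adj t)
  centT t ht x hx := by
    obtain ⟨t1, t2⟩ := t.2
    have hne : E.mm (t : G) 0 0 ≠ E.mm (t : G) 1 1 := fun e => ht ⟨t1, t2, e⟩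
    have h := congrArg E.mm hx
    rw [mm_mul, mm_mul] at h
    have h01 := congrFun (congrFun h 0) 1
    have h10 := congrFun (congrFun h 1) 0
    simp [Matrix.mul_apply, Fin.sum_univ_two, t1, t2] at h01 h10
    constructor
    · have : E.mm x 0 1 * (E.mm (t : G) 1 1 - E.mm (t : G) 0 0) = 0 := by linear_combination h01
      exact (mul_eq_zero.1 this).resolve_right (sub_ne_zero.2 (Ne.symm hne))
    · have : E.mm x 1 0 * (E.mm (t : G) 0 0 - E.mm (t : G) 1 1) = 0 := by linear_combination h10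
      exact (mul_eq_zero.1 this).resolve_right (sub_ne_zero.2 hne)
  centC c hc x hx := hC.cent_mem E c.2 hc hx
  fuseT t t' _ h := by
    rcases E.diag_conj t.2 t'.2 h with e | e
    · exact Or.inl (Subtype.ext e)
    · exact Or.inr (Subtype.ext e)
  fuseC c c' hc h := by
    obtain ⟨e1, e2⟩ := E.conj_trace_det h
    have hcomm : E.mm (c' : G) * E.mm (c : G) = E.mm (c : G) * E.mm (c' : G) := by
      rw [← mm_mul, ← mm_mul, hC.comm _ c'.2 _ c.2]
    rcases (hC.noEig _ c.2 hc).eq_or_eq_adjugate hcomm e1 e2 with e | e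
    · exact Or.inl (Subtype.ext (E.mm_inj e))
    · exact Or.inr (Subtype.ext (E.mm_inj (e.trans (E.mm_adj _).symm)))
  sepU a ha := E.uhom_notMem ha
  sepTC t c _ hc h :=
    not_noEig_of_upper t.2.2 (E.conj_noEig h.symm (hC.noEig _ c.2 hc))
  sepTU t z a ht hz h := by
    obtain ⟨e1, e2⟩ := E.conj_trace_det h
    obtain ⟨f1, f2, -⟩ := E.zu_trace hz a
    obtain ⟨t1, t2⟩ := t.2
    rw [f1, Matrix.trace_fin_two] at e1
    rw [f2, Matrix.det_fin_two, t1, zero_mul, sub_zero] at e2
    refine ht ⟨t1, t2, ?_⟩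
    have : (E.mm (t : G) 0 0 - E.mm (t : G) 1 1) ^ 2 = 0 := by
      linear_combination -(2 * E.mm z 0 0 + (E.mm (t : G) 0 0 + E.mm (t : G) 1 1)) * e1 + 4 * e2
    exact sub_eq_zero.1 (pow_eq_zero_iff two_ne_zero |>.1 this)
  sepCU c z a hc hz h :=
    not_noEig_of_upper (E.zu_trace hz a).2.2 (E.conj_noEig h (hC.noEig _ c.2 hc))
  fuseU a b z x ha hz h := E.fuse_uhom ha hz h
  cardG := E.card_G
  cardC := by rw [hC.card, E.card_T]; ring

end Finite

end Emb2

end H17
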