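import Cfsg.Agent.H13.Gallagher
import Cfsg.Agent.H15.Extension
import Cfsg.Agent.H12.Orth

/-!
Fully ramified sections under a cyclic Frobenius action.
-/

set_option autoImplicit false
set_option linter.unusedSectionVars false

namespace H17.FrobRam

open Finset Cfsg
open scoped ComplexConjugate

universe u

theorem dvd_of_sum_sq {ι : Type*} [Fintype ι] (a : ι → ℤ) (h1 : 1 < Fintype.card ι)
    (hsq : (Fintype.card ι : ℤ) * ∑ i, a i ^ 2 + 1 = (∑ i, a i) ^ 2 + Fintype.card ι) :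
    (Fintype.card ι : ℤ) ∣ ∑ i, a i - 1 ∨ (Fintype.card ι : ℤ) ∣ ∑ i, a i + 1 := by
  classical
  set h := (Fintype.card ι : ℤ) with hh
  haveI : Nonempty ι := Fintype.card_pos_iff.1 (by omega)
  have hpair : ∑ i, ∑ j, (a i - a j) ^ 2 = 2 * (h - 1) := by
    have : ∑ i, ∑ j, (a i - a j) ^ 2 = 2 * h * ∑ i, a i ^ 2 - 2 * (∑ i, a i) ^ 2 := by
      simp only [sub_sq, sum_add_distrib, sum_sub_distrib, mul_assoc, ← mul_sum, ← sum_mul,
        sum_const, card_univ, nsmul_eq_mul, ← hh]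
      ring
    rw [this]; linarith
  obtain ⟨i0, -, hi0⟩ := exists_min_image univ a univ_nonempty
  have hb : ∀ i, a i - a i0 ≤ 1 := by
    intro i1
    by_contra hc
    push Not at hc
    have hrow : ∀ i, (2 : ℤ) ≤ ∑ j, (a i - a j) ^ 2 := by
      intro i
      have hne : i0 ≠ i1 := fun e => by rw [e, sub_self] at hc; omega
      refine le_trans ?_ (sum_le_sum_of_subset_of_nonneg (subset_univ {i0, i1}) fun j _ _ => sq_nonneg _)
      rw [sum_pair hne]
      nlinarith [sq_nonneg (a i - a i0 + (a i - a i1)), sq_nonneg (a i1 - a i0 - 2)]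
    have := sum_le_sum (s := univ) fun i _ => hrow i
    rw [hpair, sum_const, card_univ, nsmul_eq_mul] at this
    rw [hh] at this
    omega
  have h01 : ∀ i, (a i - a i0) ^ 2 = a i - a i0 := fun i => by
    have := hi0 i (mem_univ i)
    rcases (by have := hb i; omega : a i - a i0 = 0 ∨ a i - a i0 = 1) with e | e <;> rw [e] <;> norm_num
  set L := ∑ i, (a i - a i0) with hL
  have hsum : ∑ i, a i = L + h * a i0 := by
    rw [hL, sum_sub_distrib, sum_const, card_univ, nsmul_eq_mul, hh]; ring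
  have hLsq : L = ∑ i, a i ^ 2 - 2 * a i0 * ∑ i, a i + h * a i0 ^ 2 := by
    rw [hL, ← Finset.sum_congr rfl fun i _ => h01 i, mul_sum, hh]
    simp only [sub_sq, sum_add_distrib, sum_sub_distrib, sum_const, card_univ, nsmul_eq_mul]
    congr 2
    exact sum_congr rfl fun i _ => by ring
  have key : (L - 1) * (L - (h - 1)) = 0 := by
    rw [hsum] at hsq hLsq
    linear_combination -hsq - h * hLsq
  rcases mul_eq_zero.1 key with e | e
  · exact Or.inl ⟨a i0, by linarith⟩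
  · exact Or.inr ⟨a i0 + 1, by linarith⟩

variable {Γ : Type u} [Group Γ] [Fintype Γ] (G N T : Subgroup Γ) [hG : G.Normal] [hN : N.Normal]

/-- The count of conjugates of the elements outside `G`. -/
theorem sum_outside [Fintype G] [Fintype N] [Fintype T] (hNG : N ≤ G) (hNT : N ≤ T)
    (hTG : ∀ t ∈ T, t ∈ G → t ∈ N) (hcov : ∀ y : Γ, ∃ t ∈ T, t⁻¹ * y ∈ G)
    (hfrob : ∀ x : Γ, x ∉ G → ∀ g : Γ, g ∈ G → x * g * x⁻¹ * g⁻¹ ∈ N → g ∈ N)
    [DecidablePred (· ∈ G)]
    (f : Γ → ℂ) (hf : ∀ g y : Γ, f (g * y * g⁻¹) = f y) :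
    (Nat.card N : ℂ) * ∑ y ∈ univ.filter (fun y : Γ => y ∉ G), f y =
      (Nat.card G : ℂ) * ∑ t ∈ univ.filter (fun t : T => (t : Γ) ∉ G), f t := by
  classical
  let π := QuotientGroup.mk' N
  have hGn : ∀ g t : Γ, t ∉ G → g * t * g⁻¹ ∉ G := fun g t ht h => ht (by
    have := hG.conj_mem _ h g⁻¹
    simpa [mul_assoc] using this)
  have hsurj : ∀ y : Γ, y ∉ G → ∃ g ∈ G, ∃ t ∈ T, t ∉ G ∧ g * t * g⁻¹ = y := by
    intro y hy
    obtain ⟨t, ht, hty⟩ := hcov y
    have htG : t ∉ G := fun h => hy (by simpa using mul_mem h hty)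
    let K := G.map π
    let m : K → K := fun k => ⟨(π t)⁻¹ * k * π t * (k : Γ ⧸ N)⁻¹, by
      obtain ⟨g, hg, hgk⟩ := Subgroup.mem_map.1 k.2
      refine Subgroup.mem_map.2 ⟨t⁻¹ * g * t * g⁻¹, mul_mem ?_ (inv_mem hg), ?_⟩
      · simpa using hG.conj_mem g hg t⁻¹
      · rw [← hgk]; simp⟩
    have hinj : Function.Injective m := by
      intro a b hab
      have hab' := congrArg Subtype.val hab
      simp only [m] at hab'
      obtain ⟨g, hg, hga⟩ := Subgroup.mem_map.1 a.2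
      obtain ⟨g', hg', hgb⟩ := Subgroup.mem_map.1 b.2
      rw [← hga, ← hgb] at hab'
      have e1 : π g * π t * (π g)⁻¹ = π g' * π t * (π g')⁻¹ := by
        have := congrArg (π t * ·) hab'
        simp only [← mul_assoc, mul_inv_cancel, one_mul] at this
        exact this
      have hmem : t * (g'⁻¹ * g) * t⁻¹ * (g'⁻¹ * g)⁻¹ ∈ N := by
        rw [← QuotientGroup.eq_one_iff]
        show π _ = 1
        simp only [map_mul, map_inv]
        calc π t * ((π g')⁻¹ * π g) * (π t)⁻¹ * ((π g')⁻¹ * π g)⁻¹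
            = π t * ((π g')⁻¹ * (π g * π t * (π g)⁻¹) * π g')⁻¹ := by group
          _ = π t * ((π g')⁻¹ * (π g' * π t * (π g')⁻¹) * π g')⁻¹ := by rw [e1]
          _ = 1 := by group
      have := hfrob t htG _ (mul_mem (inv_mem hg') hg) hmem
      apply Subtype.ext
      rw [← hga, ← hgb]
      exact ((QuotientGroup.eq).2 this).symm
    obtain ⟨k, hk⟩ := (Finite.injective_iff_surjective.1 hinj) ⟨π (t⁻¹ * y), Subgroup.mem_map_of_mem _ hty⟩
    have hk' := congrArg Subtype.val hk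
    obtain ⟨g, hg, hgk⟩ := Subgroup.mem_map.1 k.2
    simp only [m, ← hgk] at hk'
    have hn : (g * t * g⁻¹)⁻¹ * y ∈ N := by
      rw [← QuotientGroup.eq_one_iff]
      show π _ = 1
      rw [map_mul, map_inv, inv_mul_eq_one, map_mul, map_mul, map_inv]
      rw [show π y = π t * π (t⁻¹ * y) by rw [← map_mul]; group, ← hk']
      group
    refine ⟨g, hg, t * (g⁻¹ * ((g * t * g⁻¹)⁻¹ * y) * g), mul_mem ht (hNT ?_), ?_, by group⟩
    · simpa using hN.conj_mem _ hn g⁻¹
    · intro h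
      have h2 := hG.conj_mem _ h g
      exact hy (by simpa [mul_assoc] using h2)
  let Φ : G × T → Γ := fun p => (p.1 : Γ) * p.2 * (p.1 : Γ)⁻¹
  have hfib : ∀ y ∈ univ.filter (fun y : Γ => y ∉ G),
      ((univ.filter fun p : G × T => (p.2 : Γ) ∉ G).filter fun p => Φ p = y).card = Nat.card N := by
    intro y hy
    simp only [mem_filter, mem_univ, true_and] at hy
    obtain ⟨g, hg, t, ht, htG, hgt⟩ := hsurj y hy
    rw [← Nat.card_eq_finsetCard]
    refine (Nat.card_congr (Equiv.ofBijective (fun n : N => (⟨(⟨g * n, mul_mem hg (hNG n.2)⟩,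
      ⟨(n : Γ)⁻¹ * t * n, mul_mem (mul_mem (inv_mem (hNT n.2)) ht) (hNT n.2)⟩), ?_⟩ :
        ((univ.filter fun p : G × T => (p.2 : Γ) ∉ G).filter fun p => Φ p = y : Finset _))) ⟨?_, ?_⟩)).symm
    · simp only [mem_filter, mem_univ, true_and, Φ]
      refine ⟨fun h => htG ?_, by rw [← hgt]; group⟩
      have := hG.conj_mem _ h (n : Γ)
      simpa [mul_assoc] using this
    · intro a b hab
      have := congrArg (fun p => ((p : G × T).1 : Γ)) (congrArg Subtype.val hab)
      exact Subtype.ext (mul_left_cancel (a := g) this)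
    · rintro ⟨⟨g', t'⟩, hp⟩
      simp only [mem_filter, mem_univ, true_and, Φ] at hp
      obtain ⟨ht', hp⟩ := hp
      have hu : g⁻¹ * (g' : Γ) ∈ N := by
        refine hfrob t' ht' _ (mul_mem (inv_mem hg) g'.2) ?_
        have e : (t' : Γ) * (g⁻¹ * g') * (t' : Γ)⁻¹ * (g⁻¹ * g')⁻¹ = (t' : Γ) * ((g⁻¹ * g') * (t' : Γ) * (g⁻¹ * g')⁻¹)⁻¹ := by group
        rw [e]
        have e2 : (g⁻¹ * g') * (t' : Γ) * (g⁻¹ * g')⁻¹ = t := by
          calc (g⁻¹ * g') * (t' : Γ) * (g⁻¹ * g')⁻¹ = g⁻¹ * ((g' : Γ) * t' * (g' : Γ)⁻¹) * g := by group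
            _ = g⁻¹ * (g * t * g⁻¹) * g := by rw [hp, hgt]
            _ = t := by group
        rw [e2]
        refine hTG _ (mul_mem t'.2 (inv_mem ht)) ?_
        rw [← e2, ← e]
        exact mul_mem (hG.conj_mem _ (mul_mem (inv_mem hg) g'.2) _) (inv_mem (mul_mem (inv_mem hg) g'.2))
      refine ⟨⟨_, hu⟩, Subtype.ext (Prod.ext (Subtype.ext (by simp)) (Subtype.ext ?_))⟩
      calc (g⁻¹ * (g' : Γ))⁻¹ * t * (g⁻¹ * g') = (g' : Γ)⁻¹ * (g * t * g⁻¹) * g' := by group
        _ = (g' : Γ)⁻¹ * ((g' : Γ) * t' * (g' : Γ)⁻¹) * g' := by rw [hp, hgt]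
        _ = t' := by group
  have hL : ∑ p ∈ univ.filter (fun p : G × T => (p.2 : Γ) ∉ G), f (Φ p) =
      (Nat.card G : ℂ) * ∑ t ∈ univ.filter (fun t : T => (t : Γ) ∉ G), f t := by
    rw [show univ.filter (fun p : G × T => (p.2 : Γ) ∉ G) =
      (univ : Finset G) ×ˢ univ.filter (fun t : T => (t : Γ) ∉ G) by ext; simp, sum_product]
    simp only [Φ, hf, sum_const, card_univ, nsmul_eq_mul, Nat.card_eq_fintype_card]
  rw [← hL, ← sum_fiberwise_of_maps_to (g := Φ) (t := univ.filter fun y : Γ => y ∉ G)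
    (fun p hp => by
      simp only [mem_filter, mem_univ, true_and] at hp ⊢
      exact hGn _ _ hp), mul_sum]
  refine sum_congr rfl fun y hy => ?_
  rw [sum_congr rfl (g := fun _ => f y) fun p hp => by rw [(mem_filter.1 hp).2], sum_const,
    hfib y hy, nsmul_eq_mul]

end H17.FrobRam
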