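import Cfsg.Agent.H17.FrobRamified

/-!
The congruence for fully ramified sections under a cyclic Frobenius action.
-/

set_option autoImplicit false
set_option linter.unusedSectionVars false

namespace H17.FrobRam

open Finset Cfsg
open scoped ComplexConjugate

universe u

variable {Γ : Type u} [Group Γ] [Fintype Γ]

theorem sum_irr_mul_conj (H : Subgroup Γ) [Fintype H] (φ : IrrCharacter H) :
    ∑ h : H, (φ : H → ℂ) h * conj ((φ : H → ℂ) h) = (Nat.card H : ℂ) := by
  rw [H12.sum_mul_conj_eq_card_mul, H12.classInner_irr_self, mul_one]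

theorem sum_split (H : Subgroup Γ) [Fintype H] [DecidablePred (· ∈ H)] (f : Γ → ℂ) :
    ∑ y, f y = (∑ h : H, f h) + ∑ y ∈ univ.filter (fun y : Γ => y ∉ H), f y := by
  rw [← sum_filter_add_sum_filter_not univ (fun y : Γ => y ∈ H),
    sum_subtype (univ.filter fun y : Γ => y ∈ H) (p := fun y => y ∈ H) (fun y => by simp)]

theorem congr_of_frobenius (G N : Subgroup Γ) [hG : G.Normal] [hN : N.Normal] [Fintype G] [Fintype N]
    (hNG : N ≤ G) (hGlt : G ≠ ⊤) (hcyc : IsCyclic (Γ ⧸ G))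
    (hfrob : ∀ x : Γ, x ∉ G → ∀ g : Γ, g ∈ G → x * g * x⁻¹ * g⁻¹ ∈ N → g ∈ N)
    (θ : IrrCharacter N)
    (hinv : ∀ (x : Γ) (n : N), (θ : N → ℂ) ⟨x * n * x⁻¹, hN.conj_mem n n.2 x⟩ = (θ : N → ℂ) n)
    (χ : IrrCharacter G) (e : ℕ)
    (hram : indFun (N.subgroupOf G) (fun n : N.subgroupOf G => (θ : N → ℂ) ⟨(n : G), n.2⟩) =
      fun g => (e : ℂ) * (χ : G → ℂ) g) :
    (G.index : ℤ) ∣ (e : ℤ) - 1 ∨ (G.index : ℤ) ∣ (e : ℤ) + 1 := by
  classical
  set N' := N.subgroupOf G
  haveI : Fintype N' := Fintype.ofFinite _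
  let ι : N' ≃* N := Subgroup.subgroupOfEquivOfLe hNG
  let θ' : N' → ℂ := fun n => (θ : N → ℂ) ⟨(n : G), n.2⟩
  have hθ' : IsIrrCharacter N' θ' := by
    have h := H12.IsIrrCharacter.comp_surjective θ.2 (f := ι.toMonoidHom) ι.surjective
    exact h
  have hindN : ∀ n : N, indFun N' θ' ⟨(n : Γ), hNG n.2⟩ = (N'.index : ℂ) * (θ : N → ℂ) n := by
    intro n
    unfold indFun
    have : ∀ x : G, extendByZero N' θ' (x⁻¹ * ⟨(n : Γ), hNG n.2⟩ * x) = (θ : N → ℂ) n := by
      intro x
      have hmem : x⁻¹ * ⟨(n : Γ), hNG n.2⟩ * x ∈ N' := by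
        show (x : Γ)⁻¹ * n * x ∈ N
        simpa using hN.conj_mem _ n.2 (x : Γ)⁻¹
      rw [H13.extendByZero_mem _ _ hmem]
      have := hinv (x : Γ)⁻¹ n
      show (θ : N → ℂ) _ = _
      rw [← this]
      exact congrArg _ (Subtype.ext (by simp))
    simp only [this, sum_const, card_univ, nsmul_eq_mul]
    rw [← mul_assoc, ← Nat.card_eq_fintype_card (α := G), ← N'.card_mul_index, Nat.cast_mul,
      ← mul_assoc, inv_mul_cancel₀ (Nat.cast_ne_zero.2 Nat.card_pos.ne'), one_mul]
  have he0 : (e : ℂ) ≠ 0 := by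
    intro h0
    have h := congrFun hram ⟨((1 : N) : Γ), hNG (1 : N).2⟩
    rw [show (fun n : N' => (θ : N → ℂ) ⟨(n : G), n.2⟩) = θ' from rfl, hindN] at h
    simp only [h0, zero_mul] at h
    exact mul_ne_zero (Nat.cast_ne_zero.2 Subgroup.index_ne_zero_of_finite)
      (H12.irr_apply_one_ne_zero θ) h
  have hχN : ∀ n : N, (χ : G → ℂ) ⟨(n : Γ), hNG n.2⟩ = (e : ℂ) * (θ : N → ℂ) n := by
    have h0 : ∀ n : N, (χ : G → ℂ) ⟨(n : Γ), hNG n.2⟩ = ((N'.index : ℂ) / e) * (θ : N → ℂ) n := by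
      intro n
      have h := congrFun hram ⟨(n : Γ), hNG n.2⟩
      rw [show (fun n : N' => (θ : N → ℂ) ⟨(n : G), n.2⟩) = θ' from rfl, hindN] at h
      field_simp
      linear_combination -h
    have hfr := H13.classInner_indFun_left N' θ' (H12.irr_isClassFunction χ)
    rw [show indFun N' θ' = (e : ℂ) • (χ : G → ℂ) from hram, H12.classInner_smul_left,
      H12.classInner_irr_self, mul_one] at hfr
    have hres : (fun n : N' => (χ : G → ℂ) (n : G)) = ((N'.index : ℂ) / e) • θ' := by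
      funext n
      exact h0 ⟨(n : G), n.2⟩
    rw [hres, H12.classInner_smul_right, H12.classInner_irr_self ⟨θ', hθ'⟩, mul_one, map_div₀,
      Complex.conj_natCast, Complex.conj_natCast] at hfr
    intro n
    rw [h0 n, ← hfr]
  -- extend to Γ
  obtain ⟨d, ρ, hρ, hρχ⟩ := χ.2
  haveI := hρ
  have hχinv : ∀ (x : Γ) (r : G), (χ : G → ℂ) (MulAut.conjNormal x r) = (χ : G → ℂ) r := by
    intro x r
    have hext : ∀ y : G, extendByZero N' θ' (MulAut.conjNormal x y) = extendByZero N' θ' y := by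
      intro y
      by_cases hy : y ∈ N'
      · have hy' : MulAut.conjNormal x y ∈ N' := by
          show ((MulAut.conjNormal x y : G) : Γ) ∈ N
          rw [MulAut.conjNormal_apply]; exact hN.conj_mem _ hy x
        rw [H13.extendByZero_mem _ _ hy', H13.extendByZero_mem _ _ hy]
        show (θ : N → ℂ) _ = (θ : N → ℂ) _
        rw [← hinv x ⟨(y : Γ), hy⟩]
        exact congrArg _ (Subtype.ext (MulAut.conjNormal_apply x y))
      · have hy' : MulAut.conjNormal x y ∉ N' := fun h => hy (by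
          have h' : ((MulAut.conjNormal x y : G) : Γ) ∈ N := h
          rw [MulAut.conjNormal_apply] at h'
          show (y : Γ) ∈ N
          simpa [mul_assoc] using hN.conj_mem _ h' x⁻¹)
        rw [H13.extendByZero_notMem _ _ hy', H13.extendByZero_notMem _ _ hy]
    have h1 := congrFun hram (MulAut.conjNormal x r)
    have h2 := congrFun hram r
    have h3 : indFun N' θ' (MulAut.conjNormal x r) = indFun N' θ' r := by
      unfold indFun
      congr 1
      rw [← Equiv.sum_comp (MulAut.conjNormal (H := G) x).toEquiv]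
      refine sum_congr rfl fun y _ => ?_
      rw [← hext (y⁻¹ * r * y)]
      congr 1
      simp
    exact mul_left_cancel₀ he0 (h1.symm.trans (h3.trans h2))
  obtain ⟨χh, hχh, hχhG⟩ := H15.extends_of_cyclic (ρ := ρ)
    (fun x r => by rw [hρχ]; exact hχinv x r) hcyc
  rw [hρχ] at hχhG
  -- the subgroup T
  obtain ⟨q0, hq0⟩ := hcyc.exists_generator
  obtain ⟨x, rfl⟩ := QuotientGroup.mk_surjective q0
  have hxG : x ∉ G := fun h => hGlt (by
    rw [eq_top_iff]; intro y _
    obtain ⟨k, hk⟩ := Subgroup.mem_zpowers_iff.1 (hq0 (y : Γ ⧸ G))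
    rw [(QuotientGroup.eq_one_iff x).2 h, one_zpow] at hk
    exact (QuotientGroup.eq_one_iff y).1 hk.symm)
  let T : Subgroup Γ := Subgroup.zpowers x ⊔ N
  have hNT : N ≤ T := le_sup_right
  have hTG : ∀ t ∈ T, t ∈ G → t ∈ N := by
    intro t ht htG
    obtain ⟨a, ha, n, hn, rfl⟩ := Subgroup.mem_sup_of_normal_right.1 ht
    obtain ⟨k, rfl⟩ := Subgroup.mem_zpowers_iff.1 ha
    refine mul_mem (hfrob x hxG _ ?_ ?_) hn
    · simpa using mul_mem htG (inv_mem (hNG hn))
    · rw [show x * x ^ k * x⁻¹ * (x ^ k)⁻¹ = 1 by group]; exact one_mem _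
  have hcov : ∀ y : Γ, ∃ t ∈ T, t⁻¹ * y ∈ G := by
    intro y
    obtain ⟨k, hk⟩ := Subgroup.mem_zpowers_iff.1 (hq0 (y : Γ ⧸ G))
    exact ⟨x ^ k, le_sup_left (α := Subgroup Γ) (Subgroup.zpow_mem_zpowers x k),
      QuotientGroup.eq.1 (by rw [← hk, QuotientGroup.mk_zpow])⟩
  haveI : Fintype T := Fintype.ofFinite _
  set NT := N.subgroupOf T
  haveI : Fintype NT := Fintype.ofFinite _
  haveI : Fintype (T ⧸ NT) := Fintype.ofFinite _
  have hkerπ : ((QuotientGroup.mk' G).comp T.subtype).ker = NT := by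
    ext t
    simp only [MonoidHom.mem_ker, MonoidHom.comp_apply, Subgroup.coe_subtype, QuotientGroup.mk'_apply,
      QuotientGroup.eq_one_iff]
    exact ⟨fun h => hTG _ t.2 h, fun h => hNG h⟩
  have hπs : Function.Surjective ((QuotientGroup.mk' G).comp T.subtype) := by
    intro q
    obtain ⟨y, rfl⟩ := QuotientGroup.mk_surjective q
    obtain ⟨t, ht, hty⟩ := hcov y
    exact ⟨⟨t, ht⟩, QuotientGroup.eq.2 hty⟩
  let eT : T ⧸ NT ≃* Γ ⧸ G := (QuotientGroup.quotientMulEquivOfEq hkerπ.symm).trans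
    (QuotientGroup.quotientKerEquivOfSurjective _ hπs)
  have hidx : Nat.card (T ⧸ NT) = G.index := Nat.card_congr eT.toEquiv
  haveI hTcyc : IsCyclic (T ⧸ NT) := isCyclic_of_surjective eT.symm.toMonoidHom eT.symm.surjective
  -- extend θ to T
  let ιT : NT ≃* N := Subgroup.subgroupOfEquivOfLe hNT
  let θT : NT → ℂ := fun n => (θ : N → ℂ) ⟨(n : T), n.2⟩
  have hθT : IsIrrCharacter NT θT :=
    H12.IsIrrCharacter.comp_surjective θ.2 (f := ιT.toMonoidHom) ιT.surjective
  obtain ⟨dθ, ρθ, hρθ, hρθχ⟩ := hθT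
  haveI := hρθ
  obtain ⟨η, hη, hηN⟩ := H15.extends_of_cyclic (ρ := ρθ) (fun t r => by
      rw [hρθχ]
      show (θ : N → ℂ) _ = (θ : N → ℂ) _
      rw [← hinv (t : Γ) ⟨((r : T) : Γ), r.2⟩]
      exact congrArg _ (Subtype.ext (by simp [MulAut.conjNormal_apply]))) hTcyc
  rw [hρθχ] at hηN
  have hθT' : IsIrrCharacter NT θT := ⟨dθ, ρθ, hρθ, hρθχ⟩
  have hres : (fun n : NT => η n) = θT := funext hηN
  have hresIrr : IsIrrCharacter NT (fun n : NT => η n) := by rw [hres]; exact hθT'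
  have hηc := H12.isCharacter_of_isIrrCharacter hη
  let ψ : IrrCharacter (T ⧸ NT) → IrrCharacter T := fun β =>
    ⟨_, H13.gallagher_isIrr NT hηc hresIrr β⟩
  have hψinj : Function.Injective ψ := fun β γ h =>
    H13.gallagher_injective NT hηc hresIrr (congrArg Subtype.val h)
  -- the restriction of χh to T
  have hres_c : IsCharacter T (fun t : T => χh t) :=
    H12.IsCharacter.res (H12.isCharacter_of_isIrrCharacter hχh) T
  choose a ha using fun φ : IrrCharacter T =>
    H12.IsCharacter.classInner_nat hres_c (H12.isCharacter_irr φ)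
  have hcl := H12.IsCharacter.isClassFunction hres_c
  have hresN : (fun n : NT => χh (n : T)) = (e : ℂ) • θT := by
    funext n
    rw [Pi.smul_apply, smul_eq_mul]
    exact (hχhG ⟨((n : T) : Γ), hNG n.2⟩).trans (hχN ⟨((n : T) : Γ), n.2⟩)
  have hexp : (fun t : T => χh t) = ∑ φ : IrrCharacter T, (a φ : ℂ) • (φ : T → ℂ) := by
    conv_lhs => rw [H12.classFunction_eq_sum hcl]
    simp only [ha]
  have hzero : ∀ φ : IrrCharacter T, φ ∉ univ.image ψ → a φ = 0 := by
    intro φ hφ
    by_contra hne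
    apply hφ
    have hd : classInner (fun n : NT => (φ : T → ℂ) n) (fun n : NT => η n) ≠ 0 := by
      intro h0
      have hφc := H12.IsCharacter.res (H12.isCharacter_irr φ) NT
      obtain ⟨ξ, hξ⟩ := H13.exists_constituent NT (H12.isCharacter_irr φ)
        (fun h => H12.irr_apply_one_ne_zero φ (congrFun h 1))
      have hall : (fun n : NT => χh (n : T)) =
          ∑ φ : IrrCharacter T, (a φ : ℂ) • (fun n : NT => (φ : T → ℂ) n) := by
        funext n
        have := congrFun hexp (n : T)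
        simpa [Finset.sum_apply] using this
      have hξθ : (ξ : NT → ℂ) ≠ θT := fun h => hξ (by rw [h, ← hres]; exact h0)
      have hz := congrArg (fun f => classInner f (ξ : NT → ℂ)) hall
      simp only [hresN, H12.classInner_smul_left, H12.classInner_sum_left,
        H12.classInner_irr_ne (χ := ⟨θT, hθT'⟩) (ψ := ξ) (fun h => hξθ (congrArg Subtype.val h).symm),
        mul_zero] at hz
      choose b hb using fun φ : IrrCharacter T => H12.IsCharacter.classInner_nat
        (H12.IsCharacter.res (H12.isCharacter_irr φ) NT) (H12.isCharacter_irr ξ)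
      simp only [hb, ← Nat.cast_mul, ← Nat.cast_sum] at hz
      have hz' := Finset.sum_eq_zero_iff.1 (Nat.cast_eq_zero.1 hz.symm) φ (mem_univ φ)
      rcases Nat.mul_eq_zero.1 hz' with h | h
      · exact hne h
      · exact hξ (by rw [hb φ, h, Nat.cast_zero])
    obtain ⟨β, hβ⟩ := H13.gallagher_exists NT hηc hresIrr φ.2 hd
    exact mem_image.2 ⟨β, mem_univ _, Subtype.ext hβ.symm⟩
  have hlin : ∀ β : IrrCharacter (T ⧸ NT), H12.degree (β : T ⧸ NT → ℂ) = 1 := by
    intro β
    letI : CommGroup (T ⧸ NT) := hTcyc.commGroup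
    have h1 := H12.sum_degree_sq_nat (G := T ⧸ NT)
    have h2 : Fintype.card (IrrCharacter (T ⧸ NT)) = Nat.card (T ⧸ NT) := by
      rw [← Nat.card_eq_fintype_card, H12.card_irrCharacter]
      exact Nat.card_congr (Equiv.ofBijective _ ⟨fun a b h => isConj_iff_eq.1
        (ConjClasses.mk_eq_mk_iff_isConj.1 h), ConjClasses.mk_surjective⟩).symm
    have hle : ∀ γ ∈ (univ : Finset (IrrCharacter (T ⧸ NT))), 1 ≤ H12.degree (γ : T ⧸ NT → ℂ) ^ 2 :=
      fun γ _ => Nat.one_le_pow _ _ (H12.irr_degree_pos γ)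
    have := (sum_eq_sum_iff_of_le hle).1 (by rw [h1, sum_const, card_univ, smul_eq_mul, mul_one, h2]) β
      (mem_univ β)
    exact Nat.pow_left_injective two_ne_zero (by simpa using this.symm)
  have hh : Fintype.card (IrrCharacter (T ⧸ NT)) = G.index := by
    have h1 := H12.sum_degree_sq_nat (G := T ⧸ NT)
    simp only [hlin, one_pow, sum_const, card_univ, smul_eq_mul, mul_one] at h1
    rw [h1, hidx]
  have he : ∑ β, (a (ψ β) : ℂ) = e := by
    have h1 : classInner (fun t : T => χh t) (indFun NT (fun n : NT => η n)) =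
        ∑ β, (a (ψ β) : ℂ) := by
      rw [H13.gallagher_decomp NT (H12.IsCharacter.isClassFunction hηc), H12.classInner_sum_right]
      refine sum_congr rfl fun β _ => ?_
      rw [H12.classInner_smul_right, H12.irr_apply_one, hlin, Nat.cast_one, map_one, one_mul,
        ← ha (ψ β)]
    rw [← h1, H13.classInner_indFun_right NT _ hcl, hresN, hres, H12.classInner_smul_left,
      H12.classInner_irr_self ⟨θT, hθT'⟩, mul_one]
  have hnorm : classInner (fun t : T => χh t) (fun t : T => χh t) = ∑ β, (a (ψ β) : ℂ) ^ 2 := by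
    conv_lhs => rw [H12.classInner_eq_sum_mul hcl hcl]
    simp only [ha, Complex.conj_natCast]
    rw [← sum_subset (subset_univ (univ.image ψ)) (fun φ _ hφ => by rw [hzero φ hφ, Nat.cast_zero, mul_zero]),
      sum_image (fun _ _ _ _ h => hψinj h)]
    simp only [sq]
  -- the norm
  set f : Γ → ℂ := fun y => χh y * conj (χh y) with hf
  have hfc : ∀ g y : Γ, f (g * y * g⁻¹) = f y := fun g y => by
    simp only [hf, H12.IsCharacter.isClassFunction (H12.isCharacter_of_isIrrCharacter hχh) y g]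
  have hΓ : ∑ y, f y = (Nat.card Γ : ℂ) := by
    show ∑ y, χh y * conj (χh y) = _
    rw [H12.sum_mul_conj_eq_card_mul, H12.classInner_irr_self ⟨χh, hχh⟩, mul_one]
  have hG1 : ∑ g : G, f g = (Nat.card G : ℂ) := by
    simp only [hf, hχhG]; exact sum_irr_mul_conj G χ
  have hout := sum_outside G N T hNG hNT hTG hcov hfrob f hfc
  have hsplitΓ := sum_split G f
  rw [hΓ, hG1] at hsplitΓ
  have hT1 : ∑ t : T, f t = (Nat.card T : ℂ) * classInner (fun t : T => χh t) (fun t : T => χh t) :=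
    H12.sum_mul_conj_eq_card_mul (fun t : T => χh t) (fun t : T => χh t)
  have hsplitT : ∑ t : T, f t = (∑ n : NT, f (n : T)) +
      ∑ t ∈ univ.filter (fun t : T => (t : Γ) ∉ G), f t := by
    rw [← sum_filter_add_sum_filter_not univ (fun t : T => (t : Γ) ∈ G)]
    congr 1
    exact sum_subtype _ (fun t => by
      simp only [mem_filter, mem_univ, true_and]
      exact ⟨fun h => hTG _ t.2 h, fun h => hNG h⟩) _
  have hNsum : ∑ n : NT, f (n : T) = (e : ℂ) ^ 2 * (Nat.card N : ℂ) := by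
    have hp : ∀ n : NT, f (n : T) = (e : ℂ) ^ 2 * (θT n * conj (θT n)) := fun n => by
      have := congrFun hresN n
      simp only [Pi.smul_apply, smul_eq_mul] at this
      show χh _ * conj (χh _) = _
      rw [this, map_mul, Complex.conj_natCast]; ring
    rw [sum_congr rfl fun n _ => hp n, ← mul_sum, H12.sum_mul_conj_eq_card_mul,
      H12.classInner_irr_self ⟨θT, hθT'⟩, mul_one, Nat.card_congr ιT.toEquiv]
  have hcT : (Nat.card T : ℂ) = (G.index : ℂ) * (Nat.card N : ℂ) := by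
    rw [Subgroup.card_eq_card_quotient_mul_card_subgroup NT, hidx, Nat.card_congr ιT.toEquiv,
      Nat.cast_mul]
  have hcΓ : (Nat.card Γ : ℂ) = (G.index : ℂ) * (Nat.card G : ℂ) := by
    rw [← G.card_mul_index, Nat.cast_mul, mul_comm]
  have hG0 : (Nat.card G : ℂ) ≠ 0 := Nat.cast_ne_zero.2 Nat.card_pos.ne'
  have hN0 : (Nat.card N : ℂ) ≠ 0 := Nat.cast_ne_zero.2 Nat.card_pos.ne'
  have hfin : (G.index : ℂ) * ∑ β, (a (ψ β) : ℂ) ^ 2 + 1 = (e : ℂ) ^ 2 + G.index := by
    rw [← hnorm]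
    refine mul_left_cancel₀ (mul_ne_zero hG0 hN0) ?_
    rw [hcT] at hT1
    rw [hcΓ] at hsplitΓ
    linear_combination (-(Nat.card G : ℂ)) * hT1 + (Nat.card G : ℂ) * hsplitT +
      (Nat.card G : ℂ) * hNsum - hout - (Nat.card N : ℂ) * hsplitΓ
  have hidx1 : 1 < Fintype.card (IrrCharacter (T ⧸ NT)) := by
    rw [hh]; exact Subgroup.one_lt_index_of_ne_top hGlt
  have hcomb := dvd_of_sum_sq (fun β => (a (ψ β) : ℤ)) hidx1 (by
    rw [hh]
    have he' : (∑ β, (a (ψ β) : ℤ)) = (e : ℤ) := by exact_mod_cast he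
    rw [he']
    exact_mod_cast hfin)
  have he' : (∑ β, (a (ψ β) : ℤ)) = (e : ℤ) := by exact_mod_cast he
  rw [hh, he'] at hcomb
  exact hcomb

end H17.FrobRam
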