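import Cfsg.Agent.H17.RankOneIrr

/-!
Counting the irreducible characters of each series.
-/

set_option autoImplicit false
set_option linter.unusedSectionVars false

namespace H17

open Finset Cfsg
open scoped ComplexConjugate Classical

namespace RankOne

variable {G : Type*} [Group G] [Fintype G] {A : Type*} [CommGroup A] [Fintype A]
variable (D : RankOne G A)

theorem comp_σT_σT (α : D.T →* ℂˣ) : (α.comp D.σT).comp D.σT = α :=
  MonoidHom.ext fun t => by simp only [MonoidHom.comp_apply, D.σT_σT]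

theorem comp_σC_σC (α : D.C →* ℂˣ) : (α.comp D.σC).comp D.σC = α :=
  MonoidHom.ext fun t => by simp only [MonoidHom.comp_apply, D.σC_σC]

theorem chT_eq_chT_iff {α β : D.T →* ℂˣ} (hα : α.comp D.σT ≠ α) :
    D.chT β = D.chT α ↔ β = α ∨ β = α.comp D.σT := by
  constructor
  · intro h
    by_contra hc
    push_neg at hc
    have h1 := D.classInner_chT_chT α β
    rw [h, D.classInner_chT_chT, if_pos rfl, if_neg hα, if_neg (Ne.symm hc.1), if_neg (Ne.symm hc.2)] at h1
    norm_num at h1
  · rintro (rfl | rfl)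
    · rfl
    · refine D.classFun_ext (D.isClassFunction_chT _) (D.isClassFunction_chT _) ?_ ?_ ?_ ?_
      · intro z
        rw [D.chT_Z, D.chT_Z, MonoidHom.comp_apply, D.σT_zT]
      · intro z a ha
        rw [D.chT_U _ z ha, D.chT_U _ z ha, MonoidHom.comp_apply, D.σT_zT]
      · intro t ht
        rw [D.chT_T _ t ht, D.chT_T _ t ht, MonoidHom.comp_apply, MonoidHom.comp_apply, D.σT_σT, add_comm]
      · intro c hc
        rw [D.chT_C _ c hc, D.chT_C _ c hc]

theorem chC_eq_chC_iff {α β : D.C →* ℂˣ} (hα : α.comp D.σC ≠ α) :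
    D.chC β = D.chC α ↔ β = α ∨ β = α.comp D.σC := by
  constructor
  · intro h
    by_contra hc
    push_neg at hc
    have h1 := D.classInner_chC_chC α β
    rw [h, D.classInner_chC_chC, if_pos rfl, if_neg hα, if_neg (Ne.symm hc.1), if_neg (Ne.symm hc.2)] at h1
    norm_num at h1
  · rintro (rfl | rfl)
    · rfl
    · refine D.classFun_ext (D.isClassFunction_chC _) (D.isClassFunction_chC _) ?_ ?_ ?_ ?_
      · intro z
        rw [D.chC_Z, D.chC_Z, MonoidHom.comp_apply, D.σC_zC]
      · intro z a ha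
        rw [D.chC_U _ z ha, D.chC_U _ z ha, MonoidHom.comp_apply, D.σC_zC]
      · intro t ht
        rw [D.chC_T _ t ht, D.chC_T _ t ht]
      · intro c hc
        rw [D.chC_C _ c hc, D.chC_C _ c hc, MonoidHom.comp_apply, MonoidHom.comp_apply, D.σC_σC, add_comm]

theorem card_seriesT :
    2 * Nat.card {χ : IrrCharacter G // ∃ α : D.T →* ℂˣ, α.comp D.σT ≠ α ∧ (χ : G → ℂ) = D.chT α}
      + Nat.card {α : D.T →* ℂˣ // α.comp D.σT = α} = Nat.card D.T := by
  let N := (univ : Finset (D.T →* ℂˣ)).filter fun α => α.comp D.σT ≠ α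
  have hN : N.card + Nat.card {α : D.T →* ℂˣ // α.comp D.σT = α} = Nat.card D.T := by
    rw [Nat.card_eq_fintype_card, Nat.card_eq_fintype_card, Fintype.card_subtype,
      ← card_dual, ← Finset.card_univ, add_comm]
    exact Finset.card_filter_add_card_filter_not _
  let f : (D.T →* ℂˣ) → (G → ℂ) := fun α => D.chT α
  have hfib : N.card = ∑ _x ∈ N.image f, 2 := by
    rw [Finset.card_eq_sum_card_image f]
    refine Finset.sum_congr rfl fun x hx => ?_
    obtain ⟨α, hα, rfl⟩ := Finset.mem_image.1 hx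
    have hα' := (Finset.mem_filter.1 hα).2
    have he : N.filter (fun β => f β = f α) = {α, α.comp D.σT} := by
      ext β
      simp only [f, N, Finset.mem_filter, Finset.mem_univ, true_and, Finset.mem_insert, Finset.mem_singleton,
        D.chT_eq_chT_iff hα']
      constructor
      · exact fun h => h.2
      · rintro (rfl | rfl)
        · exact ⟨hα', Or.inl rfl⟩
        · refine ⟨fun h => hα' ?_, Or.inr rfl⟩
          rw [D.comp_σT_σT] at h
          exact h.symm
    rw [he, Finset.card_pair (fun h => hα' h.symm)]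
  rw [Finset.sum_const, smul_eq_mul] at hfib
  have himg : (N.image f).card
      = Nat.card {χ : IrrCharacter G // ∃ α : D.T →* ℂˣ, α.comp D.σT ≠ α ∧ (χ : G → ℂ) = D.chT α} := by
    rw [← Fintype.card_coe, ← Nat.card_eq_fintype_card]
    refine (Nat.card_congr (Equiv.ofBijective
      (fun χ => (⟨(χ.1 : G → ℂ), ?_⟩ : {x // x ∈ N.image f})) ⟨?_, ?_⟩)).symm
    · obtain ⟨α, hα, e⟩ := χ.2
      exact Finset.mem_image.2 ⟨α, Finset.mem_filter.2 ⟨Finset.mem_univ _, hα⟩, e.symm⟩
    · intro a b h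
      exact Subtype.ext (Subtype.ext (congrArg Subtype.val h :))
    · rintro ⟨x, hx⟩
      obtain ⟨α, hα, rfl⟩ := Finset.mem_image.1 hx
      exact ⟨⟨⟨D.chT α, D.isIrr_chT (Finset.mem_filter.1 hα).2⟩, α, (Finset.mem_filter.1 hα).2, rfl⟩, rfl⟩
  omega

theorem card_seriesC :
    2 * Nat.card {χ : IrrCharacter G // ∃ α : D.C →* ℂˣ, α.comp D.σC ≠ α ∧ (χ : G → ℂ) = D.chC α}
      + Nat.card {α : D.C →* ℂˣ // α.comp D.σC = α} = Nat.card D.C := by
  let N := (univ : Finset (D.C →* ℂˣ)).filter fun α => α.comp D.σC ≠ α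
  have hN : N.card + Nat.card {α : D.C →* ℂˣ // α.comp D.σC = α} = Nat.card D.C := by
    rw [Nat.card_eq_fintype_card, Nat.card_eq_fintype_card, Fintype.card_subtype,
      ← card_dual, ← Finset.card_univ, add_comm]
    exact Finset.card_filter_add_card_filter_not _
  let f : (D.C →* ℂˣ) → (G → ℂ) := fun α => D.chC α
  have hfib : N.card = ∑ _x ∈ N.image f, 2 := by
    rw [Finset.card_eq_sum_card_image f]
    refine Finset.sum_congr rfl fun x hx => ?_
    obtain ⟨α, hα, rfl⟩ := Finset.mem_image.1 hx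
    have hα' := (Finset.mem_filter.1 hα).2
    have he : N.filter (fun β => f β = f α) = {α, α.comp D.σC} := by
      ext β
      simp only [f, N, Finset.mem_filter, Finset.mem_univ, true_and, Finset.mem_insert, Finset.mem_singleton,
        D.chC_eq_chC_iff hα']
      constructor
      · exact fun h => h.2
      · rintro (rfl | rfl)
        · exact ⟨hα', Or.inl rfl⟩
        · refine ⟨fun h => hα' ?_, Or.inr rfl⟩
          rw [D.comp_σC_σC] at h
          exact h.symm
    rw [he, Finset.card_pair (fun h => hα' h.symm)]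
  rw [Finset.sum_const, smul_eq_mul] at hfib
  have himg : (N.image f).card
      = Nat.card {χ : IrrCharacter G // ∃ α : D.C →* ℂˣ, α.comp D.σC ≠ α ∧ (χ : G → ℂ) = D.chC α} := by
    rw [← Fintype.card_coe, ← Nat.card_eq_fintype_card]
    refine (Nat.card_congr (Equiv.ofBijective
      (fun χ => (⟨(χ.1 : G → ℂ), ?_⟩ : {x // x ∈ N.image f})) ⟨?_, ?_⟩)).symm
    · obtain ⟨α, hα, e⟩ := χ.2
      exact Finset.mem_image.2 ⟨α, Finset.mem_filter.2 ⟨Finset.mem_univ _, hα⟩, e.symm⟩
    · intro a b h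
      exact Subtype.ext (Subtype.ext (congrArg Subtype.val h :))
    · rintro ⟨x, hx⟩
      obtain ⟨α, hα, rfl⟩ := Finset.mem_image.1 hx
      exact ⟨⟨⟨D.chC α, D.isIrr_chC (Finset.mem_filter.1 hα).2⟩, α, (Finset.mem_filter.1 hα).2, rfl⟩, rfl⟩
  omega

end RankOne

end H17
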