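import Cfsg.Agent.H17.RankOneFixed
import Cfsg.Agent.H17.RankOneCount
import Cfsg.Agent.H17.Emb2

/-!
The irreducible characters of GL₂(q).
-/

set_option autoImplicit false
set_option linter.unusedSectionVars false

namespace H17

open Finset Cfsg Matrix
open scoped Classical

variable (F : Type*) [Field F]

/-- GL₂ in itself -/
def glEmb : Emb2 (GL (Fin 2) F) F where
  emb := MonoidHom.id _
  inj := fun _ _ h => h
  Dd := ⊤
  mem_range g := ⟨fun _ => Subgroup.mem_top _, fun _ => ⟨g, rfl⟩⟩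

variable {F}

theorem mm_gl (g : GL (Fin 2) F) : (glEmb F).mm g = (g : Matrix (Fin 2) (Fin 2) F) := rfl

variable [Fintype F]

/-- linear character of GL₂ through the determinant -/
def detChar (μ : Fˣ →* ℂˣ) : GL (Fin 2) F →* ℂˣ := μ.comp Matrix.GeneralLinearGroup.det

theorem detChar_injective : Function.Injective (detChar (F := F)) := fun μ ν h =>
  MonoidHom.ext fun a => by
    obtain ⟨g, rfl⟩ := Emb2.det_surjective a
    exact DFunLike.congr_fun h g

variable {C : Subgroup (GL (Fin 2) F)} (hC : (glEmb F).NonSplit C)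

/-- the rank one datum of GL₂ -/
noncomputable abbrev glD : RankOne (GL (Fin 2) F) (Multiplicative F) := Emb2.toRankOne hC

theorem glD_q : (glD hC).q = Fintype.card F := Nat.card_eq_fintype_card

theorem det_gl_u (a : Multiplicative F) : Matrix.GeneralLinearGroup.det ((glD hC).u a) = 1 := by
  refine Units.ext ?_
  show ((glEmb F).mm ((glEmb F).uhom a)).det = 1
  rw [Emb2.mm_uhom]
  simp [Matrix.det_fin_two]

/-- the linear character as element of `LinU` -/
noncomputable def glLin (μ : Fˣ →* ℂˣ) : (glD hC).LinU :=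
  ⟨detChar μ, fun a => by rw [detChar, MonoidHom.comp_apply, det_gl_u, map_one]⟩

theorem gl_card_Z : Nat.card (glD hC).Z = Fintype.card F - 1 := by
  rw [← Nat.card_eq_fintype_card, ← Nat.card_units]
  let f : (glD hC).Z → Fˣ := fun z => Units.mk0 ((glEmb F).mm (z : GL (Fin 2) F) 0 0)
    ((glEmb F).diag_ne ⟨(z : GL (Fin 2) F), IsScal.isDiag z.2⟩).1
  refine Nat.card_congr (Equiv.ofBijective f ⟨fun a b h => ?_, fun a => ?_⟩)
  · refine Subtype.ext ((glEmb F).mm_inj ?_)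
    rw [IsScal.eq_smul a.2, IsScal.eq_smul b.2]
    exact congrArg (fun x : F => x • (1 : Matrix (Fin 2) (Fin 2) F)) (congrArg Units.val h)
  · obtain ⟨g, hg⟩ := (glEmb F).exists_of_det (Subgroup.mem_top (a * a))
      (M := !![(a : F), 0; 0, a]) (by simp [Matrix.det_fin_two])
    refine ⟨⟨g, ?_⟩, Units.ext ?_⟩
    · show IsScal ((glEmb F).mm g)
      rw [hg]
      simp [IsScal]
    · show (glEmb F).mm g 0 0 = _
      rw [hg]
      simp

theorem gl_card_T : Nat.card (glD hC).T = (Fintype.card F - 1) * (Fintype.card F - 1) := by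
  show Nat.card (glEmb F).Tsub = _
  rw [(glEmb F).card_T, show (glEmb F).Dd = ⊤ from rfl, Subgroup.card_top, Nat.card_units,
    Nat.card_eq_fintype_card]

theorem gl_card_C : Nat.card (glD hC).C = (Fintype.card F - 1) * (Fintype.card F + 1) := by
  show Nat.card C = _
  rw [hC.card, show (glEmb F).Dd = ⊤ from rfl, Subgroup.card_top, Nat.card_units,
    Nat.card_eq_fintype_card]

theorem gl_fixT (t : (glD hC).T) (h : (glD hC).σT t = t) : (t : GL (Fin 2) F) ∈ (glD hC).Z := by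
  obtain ⟨t1, t2⟩ := t.2
  have h' : (glEmb F).mm (((glD hC).σT t : (glD hC).T) : GL (Fin 2) F) 0 0
      = (glEmb F).mm (t : GL (Fin 2) F) 0 0 := by rw [h]
  rw [show (((glD hC).σT t : (glD hC).T) : GL (Fin 2) F) = (glEmb F).adj t from rfl, Emb2.mm_adj,
    Matrix.adjugate_fin_two] at h'
  simp at h'
  exact ⟨t1, t2, h'.symm⟩

theorem gl_fixC (c : (glD hC).C) (h : (glD hC).σC c = c) : (c : GL (Fin 2) F) ∈ (glD hC).Z := by
  by_contra hz
  have hN : NoEig ((glEmb F).mm (c : GL (Fin 2) F)) := hC.noEig _ c.2 hz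
  have h' : (glEmb F).mm (((glD hC).σC c : (glD hC).C) : GL (Fin 2) F)
      = (glEmb F).mm (c : GL (Fin 2) F) := by rw [h]
  rw [show (((glD hC).σC c : (glD hC).C) : GL (Fin 2) F) = (glEmb F).adj c from rfl, Emb2.mm_adj,
    Matrix.adjugate_fin_two] at h'
  set N := (glEmb F).mm (c : GL (Fin 2) F) with hNdef
  have e10 := congrFun (congrFun h' 1) 0
  have e00 := congrFun (congrFun h' 0) 0
  simp at e10 e00
  have h2 : (2 : F) = 0 := by
    have : (2 : F) * N 1 0 = 0 := by linear_combination -e10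
    exact (mul_eq_zero.1 this).resolve_right hN.lower_ne
  have hchar : ringChar F = 2 := by
    by_contra hne
    exact Ring.two_ne_zero hne h2
  obtain ⟨s, hs⟩ := FiniteField.isSquare_of_char_two hchar N.det
  refine hN.det_ne (-s) 1 (Or.inr one_ne_zero) ?_
  rw [Matrix.det_fin_two] at hs
  simp [Matrix.det_fin_two, e00]
  linear_combination hs + (s * s - N 0 0 * s) * h2 - N 0 0 * e00

theorem gl_card_LinU : Nat.card (glD hC).Z ≤ Nat.card (glD hC).LinU := by
  rw [gl_card_Z, ← Nat.card_eq_fintype_card, ← Nat.card_units]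
  have hd : Nat.card (Fˣ →* ℂˣ) = Nat.card Fˣ := CommGroup.card_monoidHom_of_hasEnoughRootsOfUnity Fˣ ℂ
  rw [← hd]
  have hinj : Function.Injective fun l : (glD hC).LinU => (glD hC).resT l.1 := (glD hC).resT_injective
  haveI : Finite (glD hC).LinU := Finite.of_injective _ hinj
  exact Nat.card_le_card_of_injective (glLin hC) fun μ ν h => detChar_injective (congrArg Subtype.val h)

theorem glLin_surjective : Function.Surjective (glLin hC) := by
  have hinj : Function.Injective (glLin hC) := fun μ ν h => detChar_injective (congrArg Subtype.val h)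
  have hres : Function.Injective fun l : (glD hC).LinU => (glD hC).resT l.1 := (glD hC).resT_injective
  haveI : Finite (glD hC).LinU := Finite.of_injective _ hres
  refine ((Nat.bijective_iff_injective_and_card _).2 ⟨hinj, le_antisymm (Nat.card_le_card_of_injective _ hinj) ?_⟩).2
  have hd : Nat.card (Fˣ →* ℂˣ) = Nat.card Fˣ := CommGroup.card_monoidHom_of_hasEnoughRootsOfUnity Fˣ ℂ
  rw [hd, Nat.card_units, Nat.card_eq_fintype_card (α := F), ← gl_card_Z hC,
    ← (glD hC).card_fixed_T (gl_fixT hC)]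
  exact Nat.card_le_card_of_injective (fun l => ⟨(glD hC).resT l.1, (glD hC).resT_σ l.1⟩)
    fun l l' e => hres (congrArg Subtype.val e)

/-- the irreducible characters of GL₂ -/
theorem gl_cases (χ : IrrCharacter (GL (Fin 2) F)) :
    (∃ α : (glD hC).T →* ℂˣ, α.comp (glD hC).σT ≠ α ∧ (χ : GL (Fin 2) F → ℂ) = (glD hC).chT α ∧
      (χ : GL (Fin 2) F → ℂ) 1 = (Fintype.card F : ℂ) + 1) ∨
    (∃ θ : (glD hC).C →* ℂˣ, θ.comp (glD hC).σC ≠ θ ∧ (χ : GL (Fin 2) F → ℂ) = (glD hC).chC θ ∧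
      (χ : GL (Fin 2) F → ℂ) 1 = (Fintype.card F : ℂ) - 1) ∨
    (∃ μ : Fˣ →* ℂˣ, (χ : GL (Fin 2) F → ℂ) = (fun g => (detChar μ g : ℂ)) ∧
      (χ : GL (Fin 2) F → ℂ) 1 = 1) ∨
    (∃ μ : Fˣ →* ℂˣ, (χ : GL (Fin 2) F → ℂ) = (glD hC).stein (detChar μ) ∧
      (χ : GL (Fin 2) F → ℂ) 1 = (Fintype.card F : ℂ)) := by
  rcases (glD hC).cases_of_card (gl_fixT hC) (gl_fixC hC) (gl_card_LinU hC) χ with
    ⟨α, hα, e⟩ | ⟨θ, hθ, e⟩ | ⟨l, e⟩ | ⟨l, e⟩
  · exact Or.inl ⟨α, hα, e, by rw [e, (glD hC).chT_one, glD_q]⟩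
  · exact Or.inr (Or.inl ⟨θ, hθ, e, by rw [e, (glD hC).chC_one, glD_q]⟩)
  · obtain ⟨μ, rfl⟩ := glLin_surjective hC l
    exact Or.inr (Or.inr (Or.inl ⟨μ, e, by rw [e]; simp⟩))
  · obtain ⟨μ, rfl⟩ := glLin_surjective hC l
    exact Or.inr (Or.inr (Or.inr ⟨μ, e, by rw [e, (glD hC).stein_one, glD_q]⟩))

theorem gl_diag {g : GL (Fin 2) F} (h01 : (g : Matrix (Fin 2) (Fin 2) F) 0 1 = 0)
    (h10 : (g : Matrix (Fin 2) (Fin 2) F) 1 0 = 0)
    (h : (g : Matrix (Fin 2) (Fin 2) F) 0 0 ≠ (g : Matrix (Fin 2) (Fin 2) F) 1 1) :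
    ∃ t : (glD hC).T, (t : GL (Fin 2) F) ∉ (glD hC).Z ∧ (t : GL (Fin 2) F) = g :=
  ⟨⟨g, h01, h10⟩, fun hz => h hz.2.2, rfl⟩

theorem gl_noEig_conj {g : GL (Fin 2) F}
    (hg : ∀ (c : F) (v : Fin 2 → F), v ≠ 0 → (g : Matrix (Fin 2) (Fin 2) F).mulVec v ≠ c • v) :
    ∃ c : (glD hC).C, (c : GL (Fin 2) F) ∉ (glD hC).Z ∧ IsConj g (c : GL (Fin 2) F) := by
  rcases (glD hC).exists_isConj_rep g with h | ⟨z, hz, a, -, h⟩ | ⟨t, -, h⟩ | h
  · exact absurd hg (NoEig.not_scal · h)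
  · exact absurd ((glEmb F).conj_noEig h hg) (not_noEig_of_upper ((glEmb F).zu_trace hz a).2.2)
  · exact absurd ((glEmb F).conj_noEig h hg) (not_noEig_of_upper t.2.2)
  · exact h

end H17
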