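import Cfsg.Agent.H16.Degree
import Cfsg.Agent.H13.Correspondence
import Cfsg.Agent.H15.Homogeneous
import Cfsg.Agent.H3.SolvableMisc
import Cfsg.Agent.H12.Induction
import Cfsg.Prelude.Def_Blocks

/-!
Characters of larger degree with smaller kernel (restriction to maximal subgroups).
-/

set_option autoImplicit false
set_option linter.unusedSectionVars false
set_option linter.style.haveILetI false

namespace H17.LargerDegree

open Cfsg Finset
open scoped ComplexConjugate commutatorElement

universe u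

section Free

/-- An abelian group acting faithfully and coprimely on an abelian group has a regular orbit. -/
theorem exists_free_vector {A : Type*} [CommGroup A] [Finite A] {V : Type*} [CommGroup V]
    [Finite V] (f : A →* MulAut V) (hf : Function.Injective f)
    (hcop : Nat.Coprime (Nat.card A) (Nat.card V)) :
    ∃ v : V, ∀ a : A, f a v = v → a = 1 := by
  classical
  let stab : V → Subgroup A := fun v =>
    { carrier := {a | f a v = v}
      one_mem' := by simp
      mul_mem' := fun {a b} ha hb => by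
        simp only [Set.mem_ofPred_eq] at ha hb ⊢
        rw [map_mul, MulAut.mul_apply, hb, ha]
      inv_mem' := fun {a} ha => by
        simp only [Set.mem_ofPred_eq] at ha ⊢
        exact (map_inv f a).symm ▸ (MulEquiv.symm_apply_eq _).2 ha.symm }
  obtain ⟨v, hv⟩ := Finite.exists_min fun v : V => Nat.card (stab v)
  refine ⟨v, fun a ha => ?_⟩
  by_contra hne
  obtain ⟨w, hw⟩ : ∃ w, f a w ≠ w := by
    by_contra h
    push Not at h
    exact hne (hf (by rw [map_one]; exact MulEquiv.ext h))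
  have : Fintype (stab v) := Fintype.ofFinite _
  let B := stab v
  let n := Fintype.card B
  let N : V → V := fun x => ∏ b : B, f b x
  have hNmul : ∀ x y, N (x * y) = N x * N y := fun x y => by
    simp only [N, map_mul, Finset.prod_mul_distrib]
  have hNfix : ∀ c ∈ B, ∀ x, f c (N x) = N x := by
    intro c hc x
    simp only [N, _root_.map_prod]
    refine Fintype.prod_equiv (Equiv.mulLeft (⟨c, hc⟩ : B)) _ _ fun b => ?_
    show f c (f b x) = f (c * b) x
    rw [map_mul, MulAut.mul_apply]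
  have hNcomm : ∀ (c : A) x, f c (N x) = N (f c x) := by
    intro c x
    simp only [N, _root_.map_prod]
    refine Finset.prod_congr rfl fun b _ => ?_
    rw [← MulAut.mul_apply, ← map_mul, mul_comm, map_mul, MulAut.mul_apply]
  have hNconst : ∀ x, (∀ b ∈ B, f b x = x) → N x = x ^ n := fun x hx => by
    simp only [N]
    rw [Finset.prod_congr rfl (g := fun _ => x) (fun b _ => hx _ b.2), Finset.prod_const,
      Finset.card_univ]
  have hcopn : Nat.Coprime (Nat.card V) n := by
    rw [show n = Nat.card B from (Nat.card_eq_fintype_card (α := B)).symm]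
    exact (Nat.Coprime.coprime_dvd_left (Subgroup.card_subgroup_dvd_card B) hcop).symm
  have hpow : Function.Injective fun x : V => x ^ n := (powCoprime hcopn).injective
  set w' := w ^ n * (N w)⁻¹ with hw'
  have hw'B : ¬ B ≤ stab w' := by
    intro hle
    have h1 : f a w' = w' := hle ha
    rw [hw', map_mul, map_inv, hNfix a ha, mul_left_inj, map_pow] at h1
    exact hw (hpow h1)
  have hN' : N w' = 1 := by
    have h1 : N (w ^ n) = N w ^ n := by simp only [N, map_pow, Finset.prod_pow]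
    have h2 : N (N w)⁻¹ = (N w ^ n)⁻¹ := by
      rw [hNconst _ (fun b hb => by rw [map_inv, hNfix b hb]), inv_pow]
    rw [hw', hNmul, h1, h2, mul_inv_cancel]
  have hsub : stab (v * w') ≤ B ⊓ stab w' := by
    intro c hc
    have hc' : f c (v * w') = v * w' := hc
    have hv' : N v = v ^ n := hNconst v fun b hb => hb
    have h1 : f c (N (v * w')) = N (v * w') := by rw [hNcomm, hc']
    rw [hNmul, hN', mul_one, hv', map_pow] at h1
    have h2 : f c v = v := hpow h1
    refine ⟨h2, ?_⟩
    rw [map_mul, h2] at hc'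
    exact mul_left_cancel hc'
  have hlt : stab (v * w') < B :=
    lt_of_le_of_ne (hsub.trans inf_le_left) fun h => hw'B (h ▸ hsub.trans inf_le_right)
  exact absurd (hv (v * w')) (not_le.2 (Set.Finite.card_lt_card (Set.toFinite _) hlt))

end Free

variable {G : Type u} [Group G] [Fintype G]

/-- Averages of `K`-invariant functions over a supplement of `K`. -/
theorem avg_supplement (K E M : Subgroup G) [K.Normal] (hKE : K ≤ E) (hME : M ≤ E)
    (hKM : E ≤ K ⊔ M) (f : G → ℂ) (hf : ∀ k ∈ K, ∀ g, f (k * g) = f g) [Fintype M] [Fintype E] :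
    (Nat.card E : ℂ) * ∑ m : M, f m = (Nat.card M : ℂ) * ∑ e : E, f e := by
  classical
  have : Fintype K := Fintype.ofFinite _
  let π : K × M → E := fun q => ⟨(q.1 : G) * q.2, E.mul_mem (hKE q.1.2) (hME q.2.2)⟩
  have hπsurj : Function.Surjective π := by
    rintro ⟨e, he⟩
    obtain ⟨k, hk, m, hm, hkm⟩ := Subgroup.mem_sup_of_normal_left.1 (hKM he)
    exact ⟨(⟨k, hk⟩, ⟨m, hm⟩), Subtype.ext hkm⟩
  have hfib : ∀ e : E, (Finset.univ.filter fun q => π q = e).card
      = Nat.card (K ⊓ M : Subgroup G) := by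
    intro e
    obtain ⟨⟨k, m⟩, rfl⟩ := hπsurj e
    rw [← Nat.card_eq_finsetCard]
    refine Nat.card_congr
      { toFun := fun q => ⟨(k : G)⁻¹ * q.1.1, ?_, ?_⟩
        invFun := fun d => ⟨(⟨(k : G) * d, K.mul_mem k.2 d.2.1⟩,
          ⟨(d : G)⁻¹ * m, M.mul_mem (M.inv_mem d.2.2) m.2⟩), by
            simp only [mem_filter, mem_univ, true_and, π, Subtype.mk.injEq]
            group⟩
        left_inv := fun q => ?_
        right_inv := fun d => Subtype.ext (by simp) }
    · exact K.mul_mem (K.inv_mem k.2) q.1.1.2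
    · have hq : (q.1.1 : G) * q.1.2 = k * m := congrArg Subtype.val (mem_filter.1 q.2).2
      have : (k : G)⁻¹ * q.1.1 = m * (q.1.2 : G)⁻¹ := by
        rw [eq_mul_inv_iff_mul_eq, mul_assoc, hq, inv_mul_cancel_left]
      rw [this]
      exact M.mul_mem m.2 (M.inv_mem q.1.2.2)
    · have hq : (q.1.1 : G) * q.1.2 = k * m := congrArg Subtype.val (mem_filter.1 q.2).2
      refine Subtype.ext (Prod.ext (Subtype.ext (by simp)) (Subtype.ext ?_))
      show ((k : G)⁻¹ * q.1.1)⁻¹ * m = q.1.2
      rw [mul_inv_rev, inv_inv, mul_assoc, ← hq, inv_mul_cancel_left]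
  have h1 : ∑ q : K × M, f ((q.1 : G) * q.2) = (Nat.card K : ℂ) * ∑ m : M, f m := by
    rw [Fintype.sum_prod_type, Finset.sum_congr rfl (g := fun _ => ∑ m : M, f m)
      (fun (k : K) _ => Finset.sum_congr rfl fun (m : M) _ => hf (k : G) k.2 (m : G))]
    simp [Nat.card_eq_fintype_card]
  have h2 : ∑ q : K × M, f ((q.1 : G) * q.2)
      = (Nat.card (K ⊓ M : Subgroup G) : ℂ) * ∑ e : E, f e := by
    rw [← Finset.sum_fiberwise Finset.univ π, Finset.mul_sum]
    refine Finset.sum_congr rfl fun e _ => ?_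
    rw [Finset.sum_congr rfl (g := fun _ => f e), Finset.sum_const, hfib, nsmul_eq_mul]
    intro q hq
    rw [← (mem_filter.1 hq).2]
  have hcard : Nat.card K * Nat.card M = Nat.card (K ⊓ M : Subgroup G) * Nat.card E := by
    calc Nat.card K * Nat.card M = Nat.card (K × M) := Nat.card_prod _ _ |>.symm
      _ = ∑ e : E, (Finset.univ.filter fun q => π q = e).card := by
          rw [Nat.card_eq_fintype_card, ← Finset.card_univ]
          exact Finset.card_eq_sum_card_fiberwise fun q _ => Finset.mem_univ (π q)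
      _ = _ := by
          simp only [hfib, Finset.sum_const, Finset.card_univ, ← Nat.card_eq_fintype_card,
            smul_eq_mul, mul_comm]
  have hc : (Nat.card K : ℂ) * Nat.card M = (Nat.card (K ⊓ M : Subgroup G) : ℂ) * Nat.card E := by
    exact_mod_cast hcard
  have hK0 : (Nat.card (K ⊓ M : Subgroup G) : ℂ) ≠ 0 := by exact_mod_cast Nat.card_pos.ne'
  refine mul_left_cancel₀ hK0 ?_
  linear_combination (Nat.card M : ℂ) * h2 - (Nat.card M : ℂ) * h1 -
    (∑ m : M, f m) * hc

theorem kernel_mul {χ : G → ℂ} (hχ : IsCharacter G χ) {k : G} (hk : χ k = χ 1) (g : G) :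
    χ (k * g) = χ g := by
  obtain ⟨n, ρ, rfl⟩ := hχ
  have h : ρ k = LinearMap.id := (H12.character_eq_finrank_iff ρ k).1 (by
    rw [hk, Representation.char_one])
  simp only [Representation.character, map_mul, h, Module.End.mul_eq_comp, LinearMap.id_comp]

/-- The kernel of a character. -/
def kerSub {χ : G → ℂ} (hχ : IsCharacter G χ) : Subgroup G where
  carrier := {g | χ g = χ 1}
  one_mem' := rfl
  mul_mem' {a b} ha hb := (kernel_mul hχ ha b).trans hb
  inv_mem' {a} ha := by
    show χ a⁻¹ = χ 1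
    rw [← kernel_mul hχ ha a⁻¹, mul_inv_cancel]

theorem mem_kerSub {χ : G → ℂ} (hχ : IsCharacter G χ) (g : G) :
    g ∈ kerSub hχ ↔ χ g = χ 1 := Iff.rfl

theorem kerSub_normal {χ : G → ℂ} (hχ : IsCharacter G χ) : (kerSub hχ).Normal :=
  ⟨fun n hn g => (H12.IsCharacter.isClassFunction hχ n g).trans hn⟩

variable (χ : IrrCharacter G) (K : Subgroup G) [K.Normal]

theorem res_irreducible (hK : ∀ k ∈ K, (χ : G → ℂ) k = (χ : G → ℂ) 1) (M : Subgroup G)
    [Fintype M] (hKM : K ⊔ M = ⊤) : IsIrrCharacter M (fun m => (χ : G → ℂ) m) := by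
  classical
  refine H12.isIrrCharacter_of_classInner_self_eq_one
    (H12.IsCharacter.res (H12.isCharacter_irr χ) M) ?_
  have h := avg_supplement K ⊤ M le_top le_top hKM.ge
    (fun g => (χ : G → ℂ) g * conj ((χ : G → ℂ) g))
    (fun k hk g => by rw [kernel_mul (H12.isCharacter_irr χ) (hK k hk) g])
  have h2 : ∑ e : (⊤ : Subgroup G), (χ : G → ℂ) e * conj ((χ : G → ℂ) e)
      = ∑ g : G, (χ : G → ℂ) g * conj ((χ : G → ℂ) g) :=
    Fintype.sum_equiv Subgroup.topEquiv.toEquiv _ _ fun e => rfl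
  rw [h2, Subgroup.card_top, H12.sum_mul_conj_eq_card_mul (χ : G → ℂ) (χ : G → ℂ),
    H12.classInner_irr_self, mul_one, mul_comm (Nat.card M : ℂ)] at h
  rw [H12.classInner_def]
  have hM : (Nat.card M : ℂ) ≠ 0 := by exact_mod_cast Nat.card_pos.ne'
  rw [mul_left_cancel₀ H12.card_ne_zero' h, inv_mul_cancel₀ hM]

theorem exists_larger_of_not_const (hK : ∀ g : G, g ∈ K ↔ (χ : G → ℂ) g = (χ : G → ℂ) 1)
    (M : Subgroup G) [Fintype M] (hM : IsCoatom M) (hKM : K ⊔ M = ⊤)
    (hnc : ∃ m : M, indFun M (fun m : M => (χ : G → ℂ) m) m ≠ (M.index : ℂ) * (χ : G → ℂ) m) :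
    ∃ ψ : IrrCharacter G, charDegree (χ : G → ℂ) < charDegree (ψ : G → ℂ) ∧
      ∃ L : Subgroup G, (∀ g : G, g ∈ L ↔ (ψ : G → ℂ) g = (ψ : G → ℂ) 1) ∧ L < K := by
  classical
  set η : M → ℂ := fun m => (χ : G → ℂ) m with hη
  have hηi : IsIrrCharacter M η := res_irreducible χ K (fun k hk => (hK k).1 hk) M hKM
  have hΘ := H12.IsCharacter.indFun (H12.isCharacter_of_isIrrCharacter hηi)
  obtain ⟨c, hc⟩ := H12.IsCharacter.exists_mult hΘ
  have happ : ∀ g, indFun M η g = ∑ ψ : IrrCharacter G, (c ψ : ℂ) * (ψ : G → ℂ) g := by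
    intro g
    rw [hc]
    simp [Finset.sum_apply]
  have hmeet : ∀ ψ : IrrCharacter G, c ψ ≠ 0 →
      classInner (fun m : M => (ψ : G → ℂ) m) η ≠ 0 := by
    intro ψ hψ h0
    rw [← H12.classInner_indFun_right M η (H12.irr_isClassFunction ψ), ← H12.conj_classInner,
      hc, H12.classInner_sum_smul_irr, Complex.conj_natCast, Nat.cast_eq_zero] at h0
    exact hψ h0
  -- some constituent has larger degree
  obtain ⟨ψ, hcψ, hdeg⟩ : ∃ ψ : IrrCharacter G, c ψ ≠ 0 ∧
      charDegree (χ : G → ℂ) < charDegree (ψ : G → ℂ) := by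
    by_contra hall
    push Not at hall
    have hres : ∀ ψ : IrrCharacter G, c ψ ≠ 0 → ∀ m : M, (ψ : G → ℂ) m = η m := by
      intro ψ hψ m
      have hd := H13.isCharacter_sub_irr (H12.IsCharacter.res (H12.isCharacter_irr ψ) M) hηi
        (hmeet ψ hψ)
      obtain ⟨k, hk⟩ := H12.IsCharacter.apply_one hd
      have hk0 : k = 0 := by
        have h1 : (ψ : G → ℂ) 1 = (χ : G → ℂ) 1 + (k : ℂ) := by
          rw [← hk]; simp [hη]
        have hχ1 : (χ : G → ℂ) 1 = (charDegree (χ : G → ℂ) : ℂ) := H12.irr_apply_one χ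
        have hψ1 : (ψ : G → ℂ) 1 = (charDegree (ψ : G → ℂ) : ℂ) := H12.irr_apply_one ψ
        rw [hχ1, hψ1, ← Nat.cast_add, Nat.cast_inj] at h1
        have := hall ψ hψ
        omega
      have hb := H12.IsCharacter.norm_le hd m
      have hdz : H12.degree ((fun h : M => (ψ : G → ℂ) h) - η) = 0 := by
        have := H12.IsCharacter.apply_one_eq_degree hd
        rw [hk, hk0, Nat.cast_inj] at this
        exact this.symm
      rw [hdz, Nat.cast_zero, norm_le_zero_iff, Pi.sub_apply] at hb
      exact sub_eq_zero.1 hb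
    have hsum : ∀ m : M, indFun M η m = (∑ ψ : IrrCharacter G, (c ψ : ℂ)) * η m := by
      intro m
      rw [happ, Finset.sum_mul]
      refine Finset.sum_congr rfl fun ψ _ => ?_
      by_cases hψ : c ψ = 0
      · simp [hψ]
      · rw [hres ψ hψ]
    obtain ⟨m, hm⟩ := hnc
    apply hm
    have h1 := hsum 1
    rw [OneMemClass.coe_one, H12.indFun_one] at h1
    have hne : η 1 ≠ 0 := by simpa [hη] using H12.irr_apply_one_ne_zero χ
    rw [hsum, ← mul_right_cancel₀ hne h1]
  refine ⟨ψ, hdeg, kerSub (H12.isCharacter_irr ψ), fun g => Iff.rfl, ?_⟩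
  have := kerSub_normal (H12.isCharacter_irr ψ)
  set L := kerSub (H12.isCharacter_irr ψ) with hL
  have hres := H12.IsCharacter.res (H12.isCharacter_irr ψ) M
  have hLM : L ≤ M := by
    by_contra hnot
    have htop : L ⊔ M = ⊤ := hM.2 _ (lt_of_le_of_ne le_sup_right fun h => hnot (h ▸ le_sup_left))
    have hi := res_irreducible ψ L (fun k hk => hk) M htop
    refine hmeet ψ hcψ (H12.classInner_irr_ne
      (χ := (⟨_, hi⟩ : IrrCharacter M)) (ψ := ⟨η, hηi⟩) fun h => ?_)
    have h1 := congrFun (congrArg Subtype.val h) 1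
    simp only [hη, OneMemClass.coe_one] at h1
    rw [H12.irr_apply_one, H12.irr_apply_one, Nat.cast_inj] at h1
    exact hdeg.ne h1.symm
  refine lt_of_le_of_ne (fun x hx => (hK x).2 ?_) ?_
  · exact H16.kernel_constituent hres hηi (hmeet ψ hcψ) (b := ⟨x, hLM hx⟩) hx
  · intro h
    refine hM.1 ?_
    rw [← hKM, sup_eq_right.2 (h ▸ hLM)]

theorem not_const_of_not_normal (hK : ∀ g : G, g ∈ K ↔ (χ : G → ℂ) g = (χ : G → ℂ) 1)
    (M : Subgroup G) [Fintype M] (hnn : ¬ (K ⊓ M).Normal) :
    ∃ m : M, indFun M (fun m : M => (χ : G → ℂ) m) m ≠ (M.index : ℂ) * (χ : G → ℂ) m := by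
  classical
  by_contra h
  push Not at h
  refine hnn ⟨fun x hx g => ?_⟩
  refine ⟨(inferInstance : K.Normal).conj_mem x hx.1 g, ?_⟩
  have hM0 : (Nat.card M : ℂ) ≠ 0 := by exact_mod_cast Nat.card_pos.ne'
  have h1 := h ⟨x, hx.2⟩
  simp only [H12.indFun_apply, (hK x).1 hx.1] at h1
  set e : G → ℂ := fun y => extendByZero M (fun m : M => (χ : G → ℂ) m) (y⁻¹ * x * y) with he
  have he1 : ∀ y : G, (e y).re ≤ ((χ : G → ℂ) 1).re ∧
      ((e y).re = ((χ : G → ℂ) 1).re → y⁻¹ * x * y ∈ M) := by
    intro y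
    by_cases hy : y⁻¹ * x * y ∈ M
    · refine ⟨?_, fun _ => hy⟩
      rw [he]
      simp only
      rw [H12.extendByZero_mk M _ hy]
      refine (Complex.re_le_norm _).trans ?_
      rw [H12.irr_apply_one, Complex.natCast_re]
      exact H12.IsCharacter.norm_le (H12.isCharacter_irr χ) _
    · rw [he]
      simp only
      rw [H12.extendByZero_of_notMem M _ hy, Complex.zero_re, H12.irr_apply_one,
        Complex.natCast_re]
      refine ⟨Nat.cast_nonneg _, fun h0 => ?_⟩
      exact absurd (Nat.cast_eq_zero.1 h0.symm) (H12.irr_degree_pos χ).ne'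
  have hsum : ∑ y : G, e y = (Nat.card G : ℂ) * (χ : G → ℂ) 1 := by
    rw [← M.card_mul_index, Nat.cast_mul, mul_assoc, ← h1, ← mul_assoc, mul_inv_cancel₀ hM0,
      one_mul]
  have hre := congrArg Complex.re hsum
  rw [Complex.re_sum, Complex.mul_re, Complex.natCast_re, Complex.natCast_im, zero_mul, sub_zero,
    Nat.card_eq_fintype_card, ← Finset.card_univ, ← nsmul_eq_mul, ← Finset.sum_const] at hre
  have hall := (Finset.sum_eq_sum_iff_of_le fun y _ => (he1 y).1).1 hre g⁻¹ (mem_univ _)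
  simpa using (he1 g⁻¹).2 hall

theorem not_const_of_conj (hK : ∀ g : G, g ∈ K ↔ (χ : G → ℂ) g = (χ : G → ℂ) 1)
    (M : Subgroup G) [Fintype M] (hKM : K ⊔ M = ⊤) (E : Subgroup G) [E.Normal] (hKE : K ≤ E)
    (hEK : ¬ E ≤ K) (g₀ : G)
    (hg₀ : ∀ x ∈ E ⊓ M, g₀⁻¹ * x * g₀ ∈ M → x ∈ K) :
    ∃ m : M, indFun M (fun m : M => (χ : G → ℂ) m) m ≠ (M.index : ℂ) * (χ : G → ℂ) m := by
  classical
  by_contra h
  push Not at h
  set Q := E ⊓ M with hQ
  have hχc := H12.isCharacter_irr χ
  have hEsum : ∑ e : E, (χ : G → ℂ) e = 0 := by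
    by_contra hne
    obtain ⟨n, hn⟩ := H12.IsCharacter.classInner_nat (H12.IsCharacter.res hχc E)
      H12.isCharacter_one
    have hn0 : classInner (fun e : E => (χ : G → ℂ) e) (fun _ => (1 : ℂ)) ≠ 0 := by
      simp only [classInner, map_one, mul_one]
      exact mul_ne_zero (inv_ne_zero (by exact_mod_cast Nat.card_pos.ne')) hne
    -- the average over `E` is a nonzero central element fixed in the representation
    obtain ⟨d, ρ, hρi, hρ⟩ := χ.2
    have := hρi
    let T : Module.End ℂ (Fin d → ℂ) := ∑ e : E, ρ (e : G)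
    have hT0 : T ≠ 0 := fun h0 => hne (by
      rw [← hρ]; simp only [Representation.character, ← _root_.map_sum]
      rw [show ∑ e : E, ρ (e : G) = T from rfl, h0, map_zero])
    have hTc : ∀ g, ρ g * T = T * ρ g := by
      intro g
      simp only [T, Finset.mul_sum, Finset.sum_mul, ← map_mul]
      refine Fintype.sum_equiv
        (MulAut.conjNormal g : MulAut E).toEquiv _ _ fun e => ?_
      simp [MulAut.conjNormal_apply, mul_assoc]
    refine hEK fun e he => (hK e).2 ?_
    have hTe : ρ e * T = T := by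
      simp only [T, Finset.mul_sum, ← map_mul]
      exact Fintype.sum_equiv (Equiv.mulLeft (⟨e, he⟩ : E)) _ _ fun _ => rfl
    obtain ⟨s, hs⟩ := H12.exists_scalar_of_commute ρ T (fun g => (hTc g).symm)
    have hs0 : s ≠ 0 := by
      rintro rfl
      exact hT0 (by rw [hs]; simp)
    have : ρ e = LinearMap.id := by
      have h2 : s • ρ e = s • (LinearMap.id : (Fin d → ℂ) →ₗ[ℂ] (Fin d → ℂ)) := by
        rw [hs] at hTe
        refine LinearMap.ext fun v => ?_
        have := congrArg (fun F : Module.End ℂ (Fin d → ℂ) => F v) hTe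
        simpa using this
      exact smul_right_injective _ hs0 h2
    rw [← hρ, (H12.character_eq_finrank_iff ρ e).2 this, Representation.char_one]
  have hQsum : ∑ q : Q, (χ : G → ℂ) q = 0 := by
    have hsup : E ≤ K ⊔ Q := by
      intro e he
      obtain ⟨k, hk, m, hm, rfl⟩ := Subgroup.mem_sup_of_normal_left.1
        (hKM.ge (Subgroup.mem_top e))
      refine Subgroup.mul_mem_sup hk ⟨?_, hm⟩
      simpa using E.mul_mem (E.inv_mem (hKE hk)) he
    have := avg_supplement K E Q hKE inf_le_left hsup (fun g => (χ : G → ℂ) g)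
      (fun k hk g => kernel_mul hχc ((hK k).1 hk) g)
    rw [hEsum, mul_zero, mul_eq_zero] at this
    exact this.resolve_left (by exact_mod_cast Nat.card_pos.ne')
  have hzero : ∑ q : Q, indFun M (fun m : M => (χ : G → ℂ) m) (q : G) = 0 := by
    rw [Finset.sum_congr rfl (g := fun q : Q => (M.index : ℂ) * (χ : G → ℂ) q)
      (fun q _ => h ⟨q, q.2.2⟩), ← Finset.mul_sum, hQsum, mul_zero]
  simp only [H12.indFun_apply] at hzero
  rw [← Finset.mul_sum, Finset.sum_comm, mul_eq_zero] at hzero
  have hz := congrArg Complex.re (hzero.resolve_left (inv_ne_zero (by exact_mod_cast Nat.card_pos.ne')))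
  rw [Complex.re_sum, Complex.zero_re] at hz
  -- every inner sum is a nonnegative multiple of an inner product
  have key : ∀ y : G, ∑ q : Q, extendByZero M (fun m : M => (χ : G → ℂ) m) (y⁻¹ * q * y) =
      ∑ x : (Q ⊓ M.map (MulAut.conj y).toMonoidHom : Subgroup G), (χ : G → ℂ) x := by
    intro y
    have hmem : ∀ q : G, q ∈ M.map (MulAut.conj y).toMonoidHom ↔ y⁻¹ * q * y ∈ M := by
      intro q
      rw [Subgroup.mem_map_equiv, MulAut.conj_symm_apply]
    rw [← Finset.sum_filter_add_sum_filter_not Finset.univ (fun q : Q => y⁻¹ * (q : G) * y ∈ M)]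
    rw [Finset.sum_eq_zero (s := Finset.univ.filter fun q : Q => ¬ y⁻¹ * (q : G) * y ∈ M)
      (fun q hq => H12.extendByZero_of_notMem M _ (mem_filter.1 hq).2), add_zero]
    refine Finset.sum_bij
      (fun q hq => ⟨(q : G), q.2, (hmem _).2 (mem_filter.1 hq).2⟩) (fun q hq => mem_univ _)
      (fun a _ b _ hab => Subtype.ext (congrArg Subtype.val hab :))
      (fun x _ => ⟨⟨(x : G), x.2.1⟩, mem_filter.2 ⟨mem_univ _, (hmem _).1 x.2.2⟩, rfl⟩) ?_
    intro q hq
    rw [H12.extendByZero_mk M _ (mem_filter.1 hq).2]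
    exact H12.IsClassFunction.of_isConj (H12.irr_isClassFunction χ)
      (isConj_iff.2 ⟨y, by group⟩)
  have hnonneg : ∀ y : G,
      0 ≤ (∑ q : Q, extendByZero M (fun m : M => (χ : G → ℂ) m) (y⁻¹ * q * y)).re := by
    intro y
    rw [key y]
    obtain ⟨n, hn⟩ := H12.IsCharacter.classInner_nat
      (H12.IsCharacter.res hχc (Q ⊓ M.map (MulAut.conj y).toMonoidHom)) H12.isCharacter_one
    simp only [classInner, map_one, mul_one] at hn
    rw [eq_comm, eq_inv_mul_iff_mul_eq₀ (by exact_mod_cast Nat.card_pos.ne')] at hn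
    rw [← hn, ← Nat.cast_mul, Complex.natCast_re]
    exact Nat.cast_nonneg _
  have h0 := (Finset.sum_eq_zero_iff_of_nonneg fun y _ => hnonneg y).1 hz g₀ (mem_univ _)
  rw [key g₀, Finset.sum_congr rfl (g := fun _ => (χ : G → ℂ) 1), Finset.sum_const,
    H12.irr_apply_one, nsmul_eq_mul, ← Nat.cast_mul, Complex.natCast_re, Nat.cast_eq_zero,
    Finset.card_univ, ← Nat.card_eq_fintype_card] at h0
  · exact (Nat.mul_pos Nat.card_pos (H12.irr_degree_pos χ)).ne' h0
  · intro x _
    refine (hK _).1 (hg₀ _ x.2.1 ?_)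
    have h3 : (x : G) ∈ M.map (MulAut.conj g₀).toMonoidHom := x.2.2
    rwa [Subgroup.mem_map_equiv, MulAut.conj_symm_apply] at h3

theorem main (hK : ∀ g : G, g ∈ K ↔ (χ : G → ℂ) g = (χ : G → ℂ) 1)
    (h : ¬ K ≤ fittingSubgroup G ∨
      (K = fittingSubgroup G ∧ Group.IsSolvable (G ⧸ K) ∧ K ≠ ⊤)) :
    ∃ ψ : IrrCharacter G, charDegree (χ : G → ℂ) < charDegree (ψ : G → ℂ) ∧
      ∃ L : Subgroup G, (∀ g : G, g ∈ L ↔ (ψ : G → ℂ) g = (ψ : G → ℂ) 1) ∧ L < K := by
  classical
  by_cases hex : ∃ M : Subgroup G, IsCoatom M ∧ ¬ K ≤ M ∧ ¬ (K ⊓ M).Normal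
  · obtain ⟨M, hM, hKM, hnn⟩ := hex
    have htop : K ⊔ M = ⊤ :=
      hM.2 _ (lt_of_le_of_ne le_sup_right fun h' => hKM (h' ▸ le_sup_left))
    exact exists_larger_of_not_const χ K hK M hM htop (not_const_of_not_normal χ K hK M hnn)
  push Not at hex
  have hnil : Group.IsNilpotent K := by
    rw [(Group.isNilpotent_of_finite_tfae (G := K)).out 0 3 rfl rfl]
    intro p hp P
    by_contra hPn
    set Q := (P : Subgroup K).map K.subtype with hQ
    have hN : Subgroup.normalizer (Q : Set G) ≠ ⊤ := by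
      intro htop
      apply hPn
      have hQn : Q.Normal := Subgroup.normalizer_eq_top_iff.1 htop
      refine ⟨fun x hx y => ?_⟩
      obtain ⟨z, hz, hzy⟩ := hQn.conj_mem _ (Subgroup.mem_map_of_mem _ hx) (y : G)
      have : z = y * x * y⁻¹ := Subtype.ext hzy
      exact this ▸ hz
    obtain ⟨M, hM, hNM⟩ := (eq_top_or_exists_le_coatom _).resolve_left hN
    have hfr : Subgroup.normalizer (Q : Set G) ⊔ K = ⊤ := Sylow.normalizer_sup_eq_top P
    have hKM : ¬ K ≤ M := fun hle => hM.1 (top_le_iff.1 (hfr ▸ sup_le hNM hle))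
    have hn := hex M hM hKM
    -- `K ⊓ M` is normal and contains a Sylow subgroup of `K`
    have hQM : Q ≤ K ⊓ M :=
      le_inf (Subgroup.map_subtype_le _) (Subgroup.le_normalizer.trans hNM)
    have hp' : Fact p.Prime := hp
    let P' : Sylow p (K ⊓ M : Subgroup G) :=
      { toSubgroup := Q.subgroupOf (K ⊓ M)
        isPGroup' := (P.2.map K.subtype).comap_subtype
        is_maximal' := by
          intro R hR hle
          have hRK : (R.map (K ⊓ M).subtype).subgroupOf K = (P : Subgroup K) := by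
            refine P.3 ((hR.map _).comap_subtype) fun x hx => ?_
            exact Subgroup.mem_map.2 ⟨⟨(x : G), hQM (Subgroup.mem_map_of_mem _ hx)⟩,
              hle (Subgroup.mem_subgroupOf.2 (Subgroup.mem_map_of_mem _ hx)), rfl⟩
          refine le_antisymm (fun r hr => Subgroup.mem_subgroupOf.2 ?_) hle
          have : (⟨(r : G), r.2.1⟩ : K) ∈ (P : Subgroup K) := by
            rw [← hRK]; exact Subgroup.mem_map_of_mem _ hr
          exact Subgroup.mem_map_of_mem K.subtype this }
    have hfr2 := Sylow.normalizer_sup_eq_top (N := K ⊓ M) P'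
    have hP'Q : (P' : Subgroup (K ⊓ M : Subgroup G)).map (K ⊓ M).subtype = Q :=
      Subgroup.map_subgroupOf_eq_of_le hQM
    rw [hP'Q] at hfr2
    exact hM.1 (top_le_iff.1 (hfr2 ▸ sup_le hNM inf_le_right))
  obtain ⟨hKF, hsolv, hKtop⟩ := h.resolve_left (not_not.2 (H1.le_fittingSubgroup hnil))
  have : Nontrivial (G ⧸ K) := QuotientGroup.nontrivial_iff.2 hKtop
  obtain ⟨Eb, q, hEbn, hq, hEb0, hEbexp, hEbab, hEbmin⟩ :=
    H15.exists_minimal_normal_elementary (G := G ⧸ K)
  set E := Eb.comap (QuotientGroup.mk' K) with hE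
  have : E.Normal := hEbn.comap _
  have hKE : K ≤ E := fun x hx => by
    show QuotientGroup.mk' K x ∈ Eb
    rw [(QuotientGroup.eq_one_iff x).2 hx |> fun h => show QuotientGroup.mk' K x = 1 from h]
    exact Eb.one_mem
  have hEK : ¬ E ≤ K := by
    intro hle
    apply hEb0
    rw [← Subgroup.map_comap_eq_self_of_surjective (QuotientGroup.mk'_surjective K) Eb,
      Subgroup.map_eq_bot_iff, QuotientGroup.ker_mk']
    exact hle
  have hEmin : ∀ C : Subgroup G, C.Normal → K ≤ C → C ≤ E → C = K ∨ C = E := by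
    intro C hC hKC hCE
    have h1 := hEbmin (C.map (QuotientGroup.mk' K)) (hC.map _ (QuotientGroup.mk'_surjective K))
      (Subgroup.map_le_iff_le_comap.2 hCE)
    have h2 : (C.map (QuotientGroup.mk' K)).comap (QuotientGroup.mk' K) = C :=
      Subgroup.comap_map_eq_self (by rwa [QuotientGroup.ker_mk'])
    rcases h1 with h1 | h1
    · left; rw [← h2, h1, MonoidHom.comap_bot, QuotientGroup.ker_mk']
    · right; rw [← h2, h1]
  -- a maximal subgroup on whose chief factor `E` acts nontrivially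
  obtain ⟨M, hM, hKM, hact⟩ : ∃ M : Subgroup G, IsCoatom M ∧ ¬ K ≤ M ∧ ¬ ⁅E, K⁆ ≤ M := by
    by_contra hno
    push Not at hno
    have hEK' : ⁅E, K⁆ ≤ frattini G := by
      rw [frattini, Order.radical]
      refine le_iInf₂ fun M hM => ?_
      by_cases hKM : K ≤ M
      · exact (Subgroup.commutator_le_right E K).trans hKM
      · exact hno M hM hKM
    apply hEK
    rw [hKF]
    refine H1.le_fittingSubgroup ?_
    have hΦK : frattini G ≤ K := hKF ▸ H1.le_fittingSubgroup frattini_nilpotent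
    refine H4.isNilpotent_of_quotient_frattini E (frattini G) (hΦK.trans hKE) le_rfl ?_
    -- `K / Φ` is central in `E / Φ` with abelian quotient
    let π : ↥E ⧸ (frattini G).subgroupOf E →* ↥E ⧸ K.subgroupOf E :=
      QuotientGroup.map _ _ (MonoidHom.id E) (fun z hz => Subgroup.mem_subgroupOf.2 (hΦK (Subgroup.mem_subgroupOf.1 hz)))
    have hab : ∀ a b : ↥E ⧸ K.subgroupOf E, a * b = b * a := by
      intro a b
      obtain ⟨a, rfl⟩ := QuotientGroup.mk_surjective a
      obtain ⟨b, rfl⟩ := QuotientGroup.mk_surjective b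
      refine (QuotientGroup.eq.2 (Subgroup.mem_subgroupOf.2 ?_))
      have := hEbab _ a.2 _ b.2
      rw [← map_mul, ← map_mul] at this
      simpa [mul_assoc] using QuotientGroup.eq.1 this
    letI : CommGroup (↥E ⧸ K.subgroupOf E) := CommGroup.mk hab
    refine Subgroup.isNilpotent_of_ker_le_center π ?_
    intro x hx
    obtain ⟨x, rfl⟩ := QuotientGroup.mk_surjective x
    have hxK : (x : G) ∈ K := Subgroup.mem_subgroupOf.1 ((QuotientGroup.eq_one_iff x).1 hx)
    rw [Subgroup.mem_center_iff]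
    intro y
    obtain ⟨y, rfl⟩ := QuotientGroup.mk_surjective y
    refine (QuotientGroup.eq.2 (Subgroup.mem_subgroupOf.2 ?_)).symm
    have h1 := hEK' (Subgroup.commutator_mem_commutator (E.inv_mem y.2) (K.inv_mem hxK))
    have h2 := (frattini G).inv_mem h1
    have h3 := (inferInstance : (frattini G).Normal).conj_mem _ h1 1
    simp only [Subgroup.coe_mul, InvMemClass.coe_inv, commutatorElement_def, inv_inv, mul_inv_rev,
      mul_assoc, one_mul, inv_one, mul_one] at h1 h2 h3 ⊢
    exact h1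
  have htop : K ⊔ M = ⊤ :=
    hM.2 _ (lt_of_le_of_ne le_sup_right fun h' => hKM (h' ▸ le_sup_left))
  set L := K ⊓ M with hL
  have : L.Normal := hex M hM hKM
  refine exists_larger_of_not_const χ K hK M hM htop ?_
  let π := QuotientGroup.mk' L
  have hLK : L ≤ K := inf_le_left
  have hker : ∀ x : G, π x = 1 ↔ x ∈ L := fun x => QuotientGroup.eq_one_iff x
  set V := K.map π with hV
  have hVn : V.Normal := (inferInstance : K.Normal).map _ (QuotientGroup.mk'_surjective L)
  -- `K / L` is a chief factor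
  have hchief : ∀ N : Subgroup G, N.Normal → L ≤ N → N ≤ K → N = L ∨ N = K := by
    intro N hN hLN hNK
    by_cases hnM : N ≤ M
    · exact Or.inl (le_antisymm (le_inf hNK hnM) hLN)
    refine Or.inr (le_antisymm hNK fun k hk => ?_)
    have hNM : N ⊔ M = ⊤ :=
      hM.2 _ (lt_of_le_of_ne le_sup_right fun h' => hnM (h' ▸ le_sup_left))
    obtain ⟨n, hn, m, hm, rfl⟩ :=
      Subgroup.mem_sup_of_normal_left.1 (hNM.ge (Subgroup.mem_top k))
    refine N.mul_mem hn (hLN ⟨?_, hm⟩)
    simpa using K.mul_mem (K.inv_mem (hNK hn)) hk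
  have hVnil : Group.IsNilpotent V :=
    Group.nilpotent_of_surjective (π.subgroupMap K) (π.subgroupMap_surjective K)
  -- the elements of `K` central modulo `L` inside a normal subgroup
  have hfixed : ∀ F : Subgroup G, F.Normal →
      ((∃ k ∈ K, k ∉ L ∧ ∀ f ∈ F, π f * π k = π k * π f) →
        ∀ k ∈ K, ∀ f ∈ F, π f * π k = π k * π f) := by
    rintro F hF ⟨k, hk, hkL, hkF⟩
    let N : Subgroup G := K ⊓ (Subgroup.centralizer ((F.map π : Subgroup (G ⧸ L)) : Set _)).comap π
    have hFn : (F.map π).Normal := hF.map _ (QuotientGroup.mk'_surjective L)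
    have hNn : N.Normal := inferInstance
    have hmem : ∀ y ∈ K, (y ∈ N ↔ ∀ f ∈ F, π f * π y = π y * π f) := by
      intro y hy
      constructor
      · intro h' f hf
        exact Subgroup.mem_centralizer_iff.1 h'.2 _ (Subgroup.mem_map_of_mem π hf)
      · intro h'
        refine ⟨hy, Subgroup.mem_centralizer_iff.2 ?_⟩
        rintro _ ⟨f, hf, rfl⟩
        exact h' f hf
    have hLN : L ≤ N := fun l hl => (hmem l (hLK hl)).2 fun f _ => by
      rw [(hker l).2 hl, mul_one, one_mul]
    rcases hchief N hNn hLN inf_le_left with h1 | h1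
    · exact absurd (h1 ▸ (hmem k hk).2 hkF) hkL
    · exact fun y hy => (hmem y hy).1 (h1.ge hy)
  have hVnt : Nontrivial V := by
    rw [Subgroup.nontrivial_iff_ne_bot, ne_eq, Subgroup.map_eq_bot_iff, QuotientGroup.ker_mk']
    exact fun h' => hKM (h'.trans inf_le_right)
  have hVab : ∀ k ∈ K, ∀ f ∈ K, π f * π k = π k * π f := by
    have : Group.IsNilpotent V := hVnil
    intro k hk f hf
    rcases hchief (⁅K, K⁆ ⊔ L) inferInstance le_sup_right
      (sup_le (Subgroup.commutator_le_self K) hLK) with h1 | h1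
    · rw [← commutatorElement_eq_one_iff_mul_comm, ← map_commutatorElement]
      exact (hker _).2 (h1.le (Subgroup.mem_sup_left (Subgroup.commutator_mem_commutator hf hk)))
    · exfalso
      have hlt := Group.IsSolvable.commutator_lt_top_of_nontrivial V
      have hVV : ⁅V, V⁆ = V := by
        have h2 := congrArg (Subgroup.map π) h1
        rw [Subgroup.map_sup, Subgroup.map_commutator, ← hV,
          show L.map π = ⊥ from (Subgroup.map_eq_bot_iff _).2 (QuotientGroup.ker_mk' L).ge,
          sup_bot_eq] at h2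
        exact h2
      refine hlt.ne (Subgroup.map_injective V.subtype_injective ?_)
      rw [Subgroup.map_subtype_commutator, hVV, ← MonoidHom.range_eq_map, Subgroup.range_subtype]
  have hnotcent : ¬ ∀ k ∈ K, ∀ f ∈ E, π f * π k = π k * π f := by
    intro hc
    apply hact
    rw [Subgroup.commutator_le]
    intro e he k hk
    refine ((hker _).1 ?_).2
    rw [map_commutatorElement, commutatorElement_eq_one_iff_mul_comm]
    exact hc k hk e he
  set A := (E ⊓ M).map π with hA
  have hAexp : ∀ a : A, a ^ q = 1 := by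
    rintro ⟨_, e, he, rfl⟩
    refine Subtype.ext ?_
    show π e ^ q = 1
    rw [← map_pow]
    refine (hker _).2 ⟨?_, M.pow_mem he.2 q⟩
    refine (QuotientGroup.eq_one_iff _).1 ?_
    show QuotientGroup.mk' K (e ^ q) = 1
    rw [map_pow]
    exact hEbexp _ he.1
  have hAab : ∀ a b : A, a * b = b * a := by
    rintro ⟨_, e, he, rfl⟩ ⟨_, f, hf, rfl⟩
    refine Subtype.ext ?_
    show π e * π f = π f * π e
    rw [← commutatorElement_eq_one_iff_mul_comm, ← map_commutatorElement]
    refine (hker _).2 ⟨?_, ?_⟩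
    · refine (QuotientGroup.eq_one_iff _).1 ?_
      show QuotientGroup.mk' K ⁅e, f⁆ = 1
      rw [map_commutatorElement, commutatorElement_eq_one_iff_mul_comm]
      exact hEbab _ he.1 _ hf.1
    · exact M.mul_mem (M.mul_mem (M.mul_mem he.2 hf.2) (M.inv_mem he.2)) (M.inv_mem hf.2)
  letI : CommGroup A := CommGroup.mk hAab
  have hVab' : ∀ a b : V, a * b = b * a := by
    rintro ⟨_, k, hk, rfl⟩ ⟨_, f, hf, rfl⟩
    exact Subtype.ext (hVab f hf k hk)
  letI : CommGroup V := CommGroup.mk hVab'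
  let act : A →* MulAut V := (MulAut.conjNormal (H := V)).comp A.subtype
  have hact_iff : ∀ (a : A) (v : V), act a v = v ↔ (a : G ⧸ L) * v = v * a := by
    intro a v
    rw [← Subtype.coe_inj]
    show (a : G ⧸ L) * v * (a : G ⧸ L)⁻¹ = v ↔ _
    rw [mul_inv_eq_iff_eq_mul]
  -- commuting with `A` is commuting with `E`
  have hEA : ∀ k ∈ K, (∀ a : A, (a : G ⧸ L) * π k = π k * a) →
      ∀ f ∈ E, π f * π k = π k * π f := by
    intro k hk hka f hf
    obtain ⟨j, hj, m, hm, rfl⟩ :=
      Subgroup.mem_sup_of_normal_left.1 (htop.ge (Subgroup.mem_top f))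
    have hmE : m ∈ E := by simpa using E.mul_mem (E.inv_mem (hKE hj)) hf
    rw [map_mul, mul_assoc, hka ⟨π m, Subgroup.mem_map_of_mem π (Subgroup.mem_inf.2 ⟨hmE, hm⟩)⟩,
      ← mul_assoc, hVab k hk j hj, mul_assoc]
  have hinj : Function.Injective act := by
    rw [injective_iff_map_eq_one]
    rintro ⟨_, e, he, rfl⟩ h1
    let C : Subgroup G := E ⊓ (Subgroup.centralizer (V : Set (G ⧸ L))).comap π
    have hCn : C.Normal := inferInstance
    have hKC : K ≤ C := fun j hj => ⟨hKE hj, Subgroup.mem_centralizer_iff.2 (by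
      rintro _ ⟨k, hk, rfl⟩; exact hVab j hj k hk)⟩
    have heC : e ∈ C := ⟨he.1, Subgroup.mem_centralizer_iff.2 (by
      rintro v hv
      exact ((hact_iff _ ⟨v, hv⟩).1 (by rw [h1]; rfl)).symm)⟩
    rcases hEmin C hCn hKC inf_le_left with h2 | h2
    · exact Subtype.ext ((hker e).2 ⟨h2 ▸ heC, he.2⟩)
    · refine absurd ?_ hnotcent
      intro k hk f hf
      exact (Subgroup.mem_centralizer_iff.1 ((h2.ge hf : f ∈ C).2) _
        (Subgroup.mem_map_of_mem π hk)).symm
  have hcop : Nat.Coprime (Nat.card A) (Nat.card V) := by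
    have : Fact q.Prime := ⟨hq⟩
    have hApg : IsPGroup q A := fun a => ⟨1, by rw [pow_one]; exact hAexp a⟩
    obtain ⟨n, hn⟩ := IsPGroup.iff_card.1 hApg
    rw [hn]
    refine Nat.Coprime.pow_left n ((hq.coprime_iff_not_dvd).2 fun hdvd => hnotcent ?_)
    refine hfixed E inferInstance ?_
    letI : MulAction A V := MulAction.compHom V act
    obtain ⟨v, hv, hv1⟩ := hApg.exists_fixed_point_of_prime_dvd_card_of_fixed_point
      (α := V) hdvd (a := 1) (fun a => map_one (act a))
    obtain ⟨k, hk, hkv⟩ := v.2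
    refine ⟨k, hk, fun hkL => hv1 (Subtype.ext ?_), hEA k hk fun a => ?_⟩
    · rw [← hkv, (hker k).2 hkL]; rfl
    · rw [hkv]; exact (hact_iff a v).1 (hv a)
  obtain ⟨v, hv⟩ := exists_free_vector act hinj hcop
  obtain ⟨k, hk, hkv⟩ := v.2
  refine not_const_of_conj χ K hK M htop E hKE hEK k fun x hx hxM => ?_
  have hcomm : π x * π k = π k * π x := by
    have hmemL : k⁻¹ * x * k * x⁻¹ ∈ L := by
      refine ⟨?_, M.mul_mem hxM (M.inv_mem hx.2)⟩
      have : k⁻¹ * x * k * x⁻¹ = k⁻¹ * (x * k * x⁻¹) := by group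
      rw [this]
      exact K.mul_mem (K.inv_mem hk) ((inferInstance : K.Normal).conj_mem k hk x)
    have := (hker _).2 hmemL
    rw [map_mul, map_mul, map_mul, map_inv, map_inv, mul_inv_eq_one, mul_assoc,
      inv_mul_eq_iff_eq_mul] at this
    exact this
  have h1 := hv ⟨π x, Subgroup.mem_map_of_mem π hx⟩ ((hact_iff _ _).2 (by rw [← hkv]; exact hcomm))
  exact hLK ((hker x).1 (congrArg Subtype.val h1))

end H17.LargerDegree
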