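import Mathlib

/-!
2×2 matrices over a finite field without eigenvector.
-/

set_option autoImplicit false

namespace H17

open Matrix

variable {F : Type*} [Field F]

/-- no eigenvector -/
def NoEig (M : Matrix (Fin 2) (Fin 2) F) : Prop :=
  ∀ (c : F) (v : Fin 2 → F), v ≠ 0 → M.mulVec v ≠ c • v

/-- diagonal form -/
def IsDiag2 (M : Matrix (Fin 2) (Fin 2) F) : Prop := M 0 1 = 0 ∧ M 1 0 = 0

/-- scalar form -/
def IsScal (M : Matrix (Fin 2) (Fin 2) F) : Prop := M 0 1 = 0 ∧ M 1 0 = 0 ∧ M 0 0 = M 1 1

theorem IsScal.isDiag {M : Matrix (Fin 2) (Fin 2) F} (h : IsScal M) : IsDiag2 M := ⟨h.1, h.2.1⟩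

theorem IsScal.eq_smul {M : Matrix (Fin 2) (Fin 2) F} (h : IsScal M) : M = M 0 0 • 1 := by
  obtain ⟨h1, h2, h3⟩ := h
  ext i j
  fin_cases i <;> fin_cases j <;> simp [h1, h2, h3]

theorem IsScal.mul_comm {M : Matrix (Fin 2) (Fin 2) F} (h : IsScal M)
    (N : Matrix (Fin 2) (Fin 2) F) : M * N = N * M := by
  rw [h.eq_smul]; simp

theorem not_noEig_of_upper {M : Matrix (Fin 2) (Fin 2) F} (h : M 1 0 = 0) : ¬ NoEig M := by
  intro hn
  refine hn (M 0 0) ![1, 0] ?_ ?_
  · intro e
    simpa using congrFun e 0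
  · funext i
    fin_cases i <;> simp [Matrix.mulVec, dotProduct, Fin.sum_univ_two, h]

theorem NoEig.not_scal {M : Matrix (Fin 2) (Fin 2) F} (h : NoEig M) : ¬ IsScal M :=
  fun hs => not_noEig_of_upper hs.2.1 h

theorem NoEig.lower_ne {M : Matrix (Fin 2) (Fin 2) F} (h : NoEig M) : M 1 0 ≠ 0 :=
  fun e => not_noEig_of_upper e h

theorem NoEig.det_ne {M : Matrix (Fin 2) (Fin 2) F} (h : NoEig M) (a b : F) (hab : a ≠ 0 ∨ b ≠ 0) :
    (a • 1 + b • M).det ≠ 0 := by
  intro hdet
  obtain ⟨v, hv, hv0⟩ := Matrix.exists_mulVec_eq_zero_iff.2 hdet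
  rw [Matrix.add_mulVec, Matrix.smul_mulVec, Matrix.smul_mulVec, Matrix.one_mulVec] at hv0
  by_cases hb : b = 0
  · subst hb
    simp only [zero_smul, add_zero] at hv0
    rcases hab with ha | ha
    · exact hv ((smul_eq_zero.1 hv0).resolve_left ha)
    · exact ha rfl
  · refine h (-(a / b)) v hv ?_
    have h2 : b • M *ᵥ v = -(a • v) := eq_neg_of_add_eq_zero_right hv0
    rw [← inv_smul_smul₀ hb (M *ᵥ v), h2, smul_neg, smul_smul, neg_smul, div_eq_inv_mul]

theorem exists_eq_add_of_commute {M N : Matrix (Fin 2) (Fin 2) F} (h : M * N = N * M)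
    (hN : N 1 0 ≠ 0) :
    M = (M 0 0 - M 1 0 / N 1 0 * N 0 0) • 1 + (M 1 0 / N 1 0) • N := by
  have e00 := congrFun (congrFun h 0) 0
  have e10 := congrFun (congrFun h 1) 0
  simp [Matrix.mul_apply, Fin.sum_univ_two] at e00 e10
  ext i j
  fin_cases i <;> fin_cases j <;> simp <;> field_simp
  · linear_combination e00
  · linear_combination e10

theorem commute_combo (N : Matrix (Fin 2) (Fin 2) F) (a b : F) :
    (a • 1 + b • N) * N = N * (a • 1 + b • N) := by
  simp [add_mul, mul_add]

theorem NoEig.combo {M : Matrix (Fin 2) (Fin 2) F} (h : NoEig M) (a b : F) (hb : b ≠ 0) :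
    NoEig (a • 1 + b • M) := by
  intro c v hv he
  refine h ((c - a) / b) v hv ?_
  rw [Matrix.add_mulVec, Matrix.smul_mulVec, Matrix.smul_mulVec, Matrix.one_mulVec,
    ← eq_sub_iff_add_eq'] at he
  rw [← inv_smul_smul₀ hb (M *ᵥ v), he, ← sub_smul, smul_smul, div_eq_inv_mul]

theorem noEig_conj {M P Q : Matrix (Fin 2) (Fin 2) F} (hPQ : P * Q = 1) (h : NoEig M) :
    NoEig (P * M * Q) := by
  intro c v hv he
  have hQP : Q * P = 1 := mul_eq_one_comm.1 hPQ
  refine h c (Q *ᵥ v) ?_ ?_
  · intro e
    apply hv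
    have := congrArg (P *ᵥ ·) e
    simp only [Matrix.mulVec_zero] at this
    rwa [Matrix.mulVec_mulVec, hPQ, Matrix.one_mulVec] at this
  · have := congrArg (Q *ᵥ ·) he
    simp only [Matrix.mulVec_mulVec, ← mul_assoc, hQP, one_mul, Matrix.mulVec_smul] at this
    rwa [Matrix.mulVec_mulVec]

theorem cayley2 (M : Matrix (Fin 2) (Fin 2) F) :
    M * M = M.trace • M - M.det • 1 := by
  ext i j
  fin_cases i <;> fin_cases j <;>
    simp [Matrix.mul_apply, Fin.sum_univ_two, Matrix.trace_fin_two, Matrix.det_fin_two] <;> ring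

theorem adjugate_eq_trace_sub (M : Matrix (Fin 2) (Fin 2) F) :
    M.adjugate = M.trace • 1 - M := by
  rw [Matrix.adjugate_fin_two]
  ext i j
  fin_cases i <;> fin_cases j <;> simp [Matrix.trace_fin_two]

theorem NoEig.eq_or_eq_adjugate {M N : Matrix (Fin 2) (Fin 2) F} (hN : NoEig N)
    (h : M * N = N * M) (ht : M.trace = N.trace) (hd : M.det = N.det) :
    M = N ∨ M = N.adjugate := by
  by_contra hc
  push_neg at hc
  have h0 : (M - N) * (M - N.adjugate) = 0 := by
    have eM := cayley2 M
    have eN := cayley2 N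
    rw [ht, hd] at eM
    rw [adjugate_eq_trace_sub]
    simp only [sub_mul, mul_sub, Matrix.mul_smul, mul_one, eM, eN, h]
    abel
  have key : ∀ K : Matrix (Fin 2) (Fin 2) F, K * N = N * K → K ≠ 0 → K.det ≠ 0 := by
    intro K hK hK0
    have e := exists_eq_add_of_commute hK hN.lower_ne
    rw [e]
    refine hN.det_ne _ _ ?_
    by_contra hh
    push_neg at hh
    rw [hh.1, hh.2] at e
    simp at e
    exact hK0 e
  have h1 := key (M - N) (by rw [sub_mul, mul_sub, h]) (sub_ne_zero.2 hc.1)
  have h2 := key (M - N.adjugate) (by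
    rw [adjugate_eq_trace_sub]
    simp [sub_mul, mul_sub, h]) (sub_ne_zero.2 hc.2)
  have := congrArg Matrix.det h0
  rw [Matrix.det_mul, Matrix.det_zero] at this
  exact mul_ne_zero h1 h2 this

theorem card_conic_le [Fintype F] {N : Matrix (Fin 2) (Fin 2) F} (hN : NoEig N) :
    Nat.card {p : F × F // (p.1 • (1 : Matrix (Fin 2) (Fin 2) F) + p.2 • N).det = 1}
      ≤ Nat.card F + 1 := by
  classical
  have hq : ∀ a b : F, (a • (1 : Matrix (Fin 2) (Fin 2) F) + b • N).det
      = a ^ 2 + a * b * N.trace + b ^ 2 * N.det := by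
    intro a b
    simp [Matrix.det_fin_two, Matrix.trace_fin_two]
    ring
  have hne : ∀ s : F, s ^ 2 + s * N.trace + N.det ≠ 0 := fun s => by
    have := hN.det_ne s 1 (Or.inr one_ne_zero)
    rw [hq] at this
    simpa using this
  let f : {p : F × F // (p.1 • (1 : Matrix (Fin 2) (Fin 2) F) + p.2 • N).det = 1} → Option F :=
    fun p => if p.1.2 = 0 then (if p.1.1 = 1 then none else some (-N.trace / 2))
      else some ((p.1.1 - 1) / p.1.2)
  refine (Nat.card_le_card_of_injective f ?_).trans_eq ?_
  · have hb : ∀ a b : F, (a • (1 : Matrix (Fin 2) (Fin 2) F) + b • N).det = 1 → b ≠ 0 →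
        2 * ((a - 1) / b) + N.trace
          + b * (((a - 1) / b) ^ 2 + ((a - 1) / b) * N.trace + N.det) = 0 := by
      intro a b h hb
      rw [hq] at h
      field_simp
      linear_combination h
    have hb0 : ∀ a : F, (a • (1 : Matrix (Fin 2) (Fin 2) F) + (0 : F) • N).det = 1 →
        a = 1 ∨ (a = -1 ∧ (2 : F) ≠ 0) := by
      intro a h
      rw [hq] at h
      have : (a - 1) * (a + 1) = 0 := by linear_combination h
      rcases mul_eq_zero.1 this with h' | h'
      · exact Or.inl (sub_eq_zero.1 h')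
      · by_cases h2 : (2 : F) = 0
        · refine Or.inl ?_
          linear_combination h' - h2
        · exact Or.inr ⟨eq_neg_of_add_eq_zero_left h', h2⟩
    rintro ⟨⟨a, b⟩, h⟩ ⟨⟨a', b'⟩, h'⟩ he
    simp only [f] at he
    simp only at h h'
    by_cases hb1 : b = 0 <;> by_cases hb2 : b' = 0
    · subst hb1 hb2
      simp only [if_true] at he
      rcases hb0 a h with ha | ⟨ha, -⟩ <;> rcases hb0 a' h' with ha' | ⟨ha', -⟩
      · simp [ha, ha']
      · simp only [ha, if_true] at he
        split_ifs at he with e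
        exact Subtype.ext (by simp [ha, e])
      · simp only [ha', if_true] at he
        split_ifs at he with e
        exact Subtype.ext (by simp [ha', e])
      · simp [ha, ha']
    · subst hb1
      simp only [if_true, if_neg hb2] at he
      split_ifs at he with e
      have h2 : (2 : F) ≠ 0 := ((hb0 a h).resolve_left e).2
      have h3 := hb a' b' h' hb2
      rw [← Option.some.inj he] at h3
      have h4 : 2 * (-N.trace / 2) + N.trace = 0 := by field_simp; ring
      rw [h4, zero_add] at h3
      exact absurd h3 (mul_ne_zero hb2 (hne _))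
    · subst hb2
      simp only [if_true, if_neg hb1] at he
      split_ifs at he with e
      have h2 : (2 : F) ≠ 0 := ((hb0 a' h').resolve_left e).2
      have h3 := hb a b h hb1
      rw [Option.some.inj he] at h3
      have h4 : 2 * (-N.trace / 2) + N.trace = 0 := by field_simp; ring
      rw [h4, zero_add] at h3
      exact absurd h3 (mul_ne_zero hb1 (hne _))
    · simp only [if_neg hb1, if_neg hb2] at he
      have hs := Option.some.inj he
      have h3 := hb a b h hb1
      have h3' := hb a' b' h' hb2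
      rw [← hs] at h3'
      have hbb : b = b' := mul_right_cancel₀ (hne ((a - 1) / b)) (by linear_combination h3 - h3')
      subst hbb
      have : a = a' := by
        field_simp at hs
        linear_combination hs
      subst this
      rfl
  · rw [Nat.card_eq_fintype_card, Fintype.card_option, Nat.card_eq_fintype_card]

theorem exists_noEig [Finite F] : ∃ N : Matrix (Fin 2) (Fin 2) F, NoEig N := by
  obtain ⟨n, hn⟩ : ∃ n : F, ∀ x : F, x * x - x ≠ n := by
    by_contra hc
    push_neg at hc
    have hinj := Finite.injective_iff_surjective.2 (hc : Function.Surjective fun x : F => x * x - x)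
    exact zero_ne_one (hinj (by simp))
  refine ⟨!![0, n; 1, 1], fun c v hv he => ?_⟩
  have e0 := congrFun he 0
  have e1 := congrFun he 1
  simp [Matrix.mulVec, dotProduct, Fin.sum_univ_two] at e0 e1
  by_cases h1 : v 1 = 0
  · apply hv
    rw [h1] at e1
    funext i
    fin_cases i
    · simpa using e1
    · simpa using h1
  · refine hn c (mul_right_cancel₀ h1 ?_)
    linear_combination -c * e1 - e0

end H17
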