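import Cfsg.Agent.H25.Galois
import Cfsg.Agent.H20.OrthConv
import Cfsg.Agent.H22.ValueMod
import Cfsg.Agent.H12.Integral

/-!
The characters conjugate to a given one over the roots of unity of order prime to `p`.
-/

set_option autoImplicit false
set_option linter.unusedSectionVars false

namespace H17.PConj

open Finset Cfsg
open scoped ComplexConjugate

theorem sum_units_pow {p : ℕ} (hp : p.Prime) (a : ℕ) [NeZero (p ^ a)] (β : ℂ)
    (hβ : β ^ (p ^ a) = 1) :
    ∃ z : ℤ, ((p : ℂ) - 1) * ∑ j : (ZMod (p ^ a))ˣ, β ^ (j : ZMod (p ^ a)).val =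
      (Fintype.card (ZMod (p ^ a))ˣ : ℂ) * z := by
  rcases a with - | a
  · refine ⟨(p : ℤ) - 1, ?_⟩
    have hβ' : β = 1 := by simpa using hβ
    rw [Finset.sum_congr rfl fun j _ => by rw [hβ', one_pow], Finset.sum_const, Finset.card_univ]
    simp [mul_comm]
  · classical
    have hb : ∑ j : (ZMod (p ^ (a + 1)))ˣ, β ^ (j : ZMod (p ^ (a + 1))).val =
        ∑ j ∈ (range (p ^ (a + 1))).filter (fun j => ¬ p ∣ j), β ^ j := by
      refine Finset.sum_bij (fun j _ => (j : ZMod (p ^ (a + 1))).val) (fun j _ => ?_)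
        (fun i _ j _ h => Units.ext (ZMod.val_injective _ h)) (fun j hj => ?_) (fun _ _ => rfl)
      · simp only [mem_filter, mem_range]
        refine ⟨ZMod.val_lt _, fun h => ?_⟩
        exact hp.ne_one (Nat.eq_one_of_dvd_coprimes (ZMod.val_coe_unit_coprime j) h
          (dvd_pow_self p a.succ_ne_zero))
      · simp only [mem_filter, mem_range] at hj
        refine ⟨ZMod.unitOfCoprime j ((hp.coprime_iff_not_dvd.2 hj.2).symm.pow_right _),
          mem_univ _, ?_⟩
        rw [ZMod.coe_unitOfCoprime, ZMod.val_natCast, Nat.mod_eq_of_lt hj.1]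
    have hm : ∑ j ∈ (range (p ^ (a + 1))).filter (fun j => p ∣ j), β ^ j =
        ∑ i ∈ range (p ^ a), (β ^ p) ^ i := by
      refine (Finset.sum_bij (fun i _ => p * i) (fun i hi => ?_)
        (fun i _ j _ h => Nat.eq_of_mul_eq_mul_left hp.pos h) (fun j hj => ?_)
        (fun i _ => by rw [pow_mul])).symm
      · simp only [mem_filter, mem_range] at hi ⊢
        refine ⟨?_, dvd_mul_right _ _⟩
        rw [pow_succ']
        exact Nat.mul_lt_mul_of_pos_left hi hp.pos
      · simp only [mem_filter, mem_range] at hj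
        obtain ⟨hlt, i, rfl⟩ := hj
        refine ⟨i, ?_, rfl⟩
        rw [pow_succ'] at hlt
        exact mem_range.2 (Nat.lt_of_mul_lt_mul_left hlt)
    have hgeo : ∀ (w : ℂ) (m : ℕ), w ^ m = 1 →
        ∃ e : ℤ, ∑ i ∈ range m, w ^ i = (m : ℂ) * e := by
      intro w m hw
      by_cases h : w = 1
      · exact ⟨1, by simp [h]⟩
      · refine ⟨0, ?_⟩
        have h2 := geom_sum_mul w m
        rw [hw, sub_self, mul_eq_zero] at h2
        rw [h2.resolve_right (sub_ne_zero.2 h)]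
        simp
    obtain ⟨e, he⟩ := hgeo β _ hβ
    obtain ⟨f, hf⟩ := hgeo (β ^ p) (p ^ a) (by rw [← pow_mul, ← pow_succ', hβ])
    have hsplit := Finset.sum_filter_add_sum_filter_not (range (p ^ (a + 1))) (fun j => p ∣ j)
      (fun j => β ^ j)
    rw [hm, hf, he] at hsplit
    refine ⟨(p : ℤ) * e - f, ?_⟩
    rw [hb, ZMod.card_units_eq_totient, Nat.totient_prime_pow_succ hp]
    push_cast [Nat.cast_sub hp.one_le] at hsplit ⊢
    linear_combination ((p : ℂ) - 1) * hsplit

theorem pow_eq_self_of_modEq {ω : ℂ} {g' m : ℕ} (hω : ω ^ g' = 1) (hm : m ≡ 1 [MOD g']) :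
    ω ^ m = ω := by
  conv_rhs => rw [← pow_one ω]
  rw [pow_eq_pow_mod m hω, pow_eq_pow_mod 1 hω, hm]

theorem modEq_one_of_pow_eq_self {ω : ℂ} {g' m : ℕ} (hω : IsPrimitiveRoot ω g') (hg : 0 < g')
    (hm : ω ^ m = ω) : m ≡ 1 [MOD g'] := by
  refine hω.pow_inj (Nat.mod_lt _ hg) (Nat.mod_lt _ hg) ?_
  rw [← pow_eq_pow_mod m hω.pow_eq_one, ← pow_eq_pow_mod 1 hω.pow_eq_one, hm, pow_one]

theorem pow_eq_one_of_mul {ω : ℂ} {g' P n : ℕ} (hω : ω ^ g' = 1) (h : P * g' = n) :
    ω ^ n = 1 := by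
  rw [← h, Nat.mul_comm, pow_mul, hω, one_pow]

theorem exists_pow_rep {n : ℕ} (hn : 0 < n) (σ : ℂ ≃+* ℂ) :
    ∃ m : ℕ, Nat.Coprime m n ∧ ∀ z : ℂ, z ^ n = 1 → σ z = z ^ m := by
  have hζ := Complex.isPrimitiveRoot_exp n hn.ne'
  have hσz := hζ.map_of_injective (f := σ) σ.injective
  have : NeZero n := ⟨hn.ne'⟩
  obtain ⟨m, -, hmc, hm⟩ := (hζ.isPrimitiveRoot_iff).1 hσz
  refine ⟨m, hmc, fun z hz => ?_⟩
  obtain ⟨i, -, rfl⟩ := hζ.eq_pow_of_pow_eq_one hz
  rw [map_pow, ← hm, ← pow_mul, ← pow_mul, Nat.mul_comm]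

universe u

variable {G : Type u} [Group G] [Fintype G]

set_option maxHeartbeats 1000000 in
open scoped Classical in
theorem main (p : ℕ) (hp : p.Prime) (χ : IrrCharacter G) (r : ℕ)
    (hr : Nat.card {ψ : IrrCharacter G // ∃ σ : ℂ ≃+* ℂ,
      σ (Complex.exp (2 * Real.pi * Complex.I /
          ((Nat.card G / p ^ (Nat.card G).factorization p) : ℕ))) =
        Complex.exp (2 * Real.pi * Complex.I /
          ((Nat.card G / p ^ (Nat.card G).factorization p) : ℕ)) ∧
      (ψ : G → ℂ) = fun g => σ ((χ : G → ℂ) g)} = r) :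
    (r * charDegree (χ : G → ℂ)).factorization p ≤ (Nat.card G).factorization p ∧
      (p ^ (Nat.card G).factorization p ∣ r * charDegree (χ : G → ℂ) →
        p ^ (Nat.card G).factorization p ∣ charDegree (χ : G → ℂ)) := by
  set n := Nat.card G with hn
  set a := n.factorization p with ha
  set P := p ^ a with hP
  set g' := n / P with hg'
  have : Fact p.Prime := ⟨hp⟩
  have hn0 : n ≠ 0 := Nat.card_pos.ne'
  have hPpos : 0 < P := pow_pos hp.pos a
  have : NeZero (p ^ a) := ⟨hPpos.ne'⟩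
  have hnPg : P * g' = n := Nat.ordProj_mul_ordCompl_eq_self n p
  have hg'0 : 0 < g' := Nat.ordCompl_pos p hn0
  have hpg : ¬ p ∣ g' := Nat.not_dvd_ordCompl hp hn0
  have hcop : Nat.Coprime g' P := ((hp.coprime_iff_not_dvd.2 hpg).symm).pow_right a
  obtain ⟨es, hes1, hes2⟩ := Nat.chineseRemainder hcop 1 0
  obtain ⟨eu, heu1, heu2⟩ := Nat.chineseRemainder hcop 0 1
  rw [← ZMod.natCast_eq_natCast_iff] at hes1 hes2 heu1 heu2
  let k : (ZMod (p ^ a))ˣ → ℕ := fun j => es + (j : ZMod (p ^ a)).val * eu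
  have hk1 : ∀ j, ((k j : ℕ) : ZMod g') = 1 := fun j => by
    simp only [k, Nat.cast_add, Nat.cast_mul, hes1, heu1]; simp
  have hk2 : ∀ j, ((k j : ℕ) : ZMod P) = (j : ZMod (p ^ a)) := fun j => by
    simp only [k, Nat.cast_add, Nat.cast_mul, hes2, heu2]
    simp only [Nat.cast_zero, zero_add, Nat.cast_one, mul_one]
    rw [ZMod.natCast_val, ZMod.cast_id]
  have hcrt : ∀ u v : ℕ, (u : ZMod g') = v → (u : ZMod P) = v → u ≡ v [MOD n] := by
    intro u v h1 h2
    rw [← hnPg]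
    exact (Nat.modEq_and_modEq_iff_modEq_mul hcop.symm).1
      ⟨(ZMod.natCast_eq_natCast_iff _ _ _).1 h2, (ZMod.natCast_eq_natCast_iff _ _ _).1 h1⟩
  have hkc : ∀ j, Nat.Coprime (k j) n := by
    intro j
    rw [← hnPg]
    refine Nat.Coprime.mul_right ?_ ?_
    · rw [← ZMod.isUnit_iff_coprime, hk2]; exact j.isUnit
    · rw [← ZMod.isUnit_iff_coprime, hk1]; exact isUnit_one
  have hkm : ∀ i j, k (i * j) ≡ k i * k j [MOD n] := fun i j =>
    hcrt _ _ (by simp [hk1]) (by simp [hk2])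
  have hpow : ∀ (g : G) (u v : ℕ), u ≡ v [MOD n] → g ^ u = g ^ v := fun g u v h =>
    pow_eq_pow_iff_modEq.2 (h.of_dvd (orderOf_dvd_natCard g))
  let Φ : (ZMod (p ^ a))ˣ → IrrCharacter G := fun j =>
    ⟨fun g => (χ : G → ℂ) (g ^ k j), H25.isIrrCharacter_comp_pow χ.2 (hkc j)⟩
  have hΦmul : ∀ i j (g : G), (Φ (i * j) : G → ℂ) g = (Φ j : G → ℂ) (g ^ k i) := by
    intro i j g
    show (χ : G → ℂ) (g ^ k (i * j)) = (χ : G → ℂ) ((g ^ k i) ^ k j)
    rw [← pow_mul, hpow g _ _ (hkm i j)]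
  let S : Finset (IrrCharacter G) := Finset.univ.image Φ
  -- the given set of conjugates is `S`
  have hζ : IsPrimitiveRoot (Complex.exp (2 * Real.pi * Complex.I / (g' : ℕ))) g' :=
    Complex.isPrimitiveRoot_exp g' hg'0.ne'
  have hS : S.card = r := by
    rw [← hr, Nat.card_eq_fintype_card, Fintype.card_subtype]
    congr 1
    ext ψ
    simp only [S, mem_image, mem_filter, mem_univ, true_and]
    constructor
    · rintro ⟨j, rfl⟩
      obtain ⟨σ, hσ⟩ := H25.exists_ringEquiv_pow_rootOfUnity n (k j) (Nat.card_pos) (hkc j)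
      refine ⟨σ, ?_, funext fun g => ?_⟩
      · rw [hσ _ (pow_eq_one_of_mul hζ.pow_eq_one hnPg)]
        exact pow_eq_self_of_modEq hζ.pow_eq_one
          ((ZMod.natCast_eq_natCast_iff _ _ _).1 (by simpa using hk1 j))
      · exact (H25.map_character_apply (H12.isCharacter_irr χ) σ (k j) hσ g).symm
    · rintro ⟨σ, hσ1, hσ2⟩
      obtain ⟨m, hmc, hσall⟩ := exists_pow_rep (Nat.pos_of_ne_zero hn0) σ
      have hm1 : m ≡ 1 [MOD g'] := modEq_one_of_pow_eq_self hζ hg'0
        ((hσall _ (pow_eq_one_of_mul hζ.pow_eq_one hnPg)).symm.trans hσ1)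
      have hmP : Nat.Coprime m P :=
        Nat.Coprime.coprime_dvd_right ⟨g', hnPg.symm⟩ hmc
      let j : (ZMod (p ^ a))ˣ := ZMod.unitOfCoprime m hmP
      refine ⟨j, Subtype.ext ?_⟩
      rw [hσ2]
      funext g
      show (χ : G → ℂ) (g ^ k j) = _
      rw [H25.map_character_apply (H12.isCharacter_irr χ) σ m hσall g]
      refine congrArg (χ : G → ℂ) (hpow g _ _ (hcrt _ _ ?_ ?_))
      · rw [hk1]
        simpa using ((ZMod.natCast_eq_natCast_iff _ _ _).2 hm1).symm
      · rw [hk2]; exact ZMod.coe_unitOfCoprime m hmP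
  -- all fibres have the same size
  set c := (Finset.univ.filter fun j => Φ j = Φ 1).card with hc
  have hfib : ∀ i, (Finset.univ.filter fun j => Φ j = Φ i).card = c := by
    intro i
    refine (Finset.card_bij (fun j _ => i * j) (fun j hj => ?_)
      (fun _ _ _ _ h => mul_left_cancel h) (fun j hj => ⟨i⁻¹ * j, ?_, by simp⟩)).symm
    · simp only [mem_filter, mem_univ, true_and] at hj ⊢
      refine Subtype.ext (funext fun g => ?_)
      conv_rhs => rw [← mul_one i]
      rw [hΦmul, hΦmul, hj]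
    · simp only [mem_filter, mem_univ, true_and] at hj ⊢
      refine Subtype.ext (funext fun g => ?_)
      rw [hΦmul, hj, ← hΦmul, inv_mul_cancel]
  have hcpos : 0 < c := Finset.card_pos.2 ⟨1, by simp⟩
  have hsumΦ : ∀ f : IrrCharacter G → ℂ, ∑ j, f (Φ j) = (c : ℂ) * ∑ ψ ∈ S, f ψ := by
    intro f
    rw [Finset.sum_comp, Finset.mul_sum]
    refine Finset.sum_congr rfl fun ψ hψ => ?_
    simp only [S, mem_image, mem_univ, true_and] at hψ
    obtain ⟨i, rfl⟩ := hψ
    rw [hfib, nsmul_eq_mul]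
  have hU : (Fintype.card (ZMod (p ^ a))ˣ : ℂ) = (c : ℂ) * r := by
    have := hsumΦ fun _ => 1
    simpa [hS, Finset.card_univ] using this
  set θ : G → ℂ := fun x => ∑ ψ ∈ S, (ψ : G → ℂ) x with hθ
  have hc0 : (c : ℂ) ≠ 0 := by exact_mod_cast hcpos.ne'
  have hr0 : 0 < r := hS ▸ Finset.card_pos.2 ⟨Φ 1, mem_image.2 ⟨1, mem_univ _, rfl⟩⟩
  -- the key divisibility of the values
  have hint : ∀ x, ∃ z : ℂ, IsIntegral ℤ z ∧ ((p : ℂ) - 1) * θ x = (r : ℂ) * z := by
    intro x
    obtain ⟨d, ρ, hρi, hρ⟩ := χ.2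
    obtain ⟨μ, h1, h2, -⟩ := H12.exists_char_eigenvalues ρ x
    have hμn : ∀ i, μ i ^ n = 1 := fun i => by
      obtain ⟨l, hl⟩ := orderOf_dvd_natCard x
      rw [hn, hl, pow_mul, h1, one_pow]
    have hz : ∀ i, ∃ z : ℤ, ((p : ℂ) - 1) * ∑ j : (ZMod (p ^ a))ˣ,
        (μ i ^ eu) ^ (j : ZMod (p ^ a)).val = (Fintype.card (ZMod (p ^ a))ˣ : ℂ) * z := by
      intro i
      refine sum_units_pow hp a _ ?_
      obtain ⟨q, hq⟩ := (ZMod.natCast_eq_zero_iff eu g').1 (by simpa using heu1) |>.imp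
        (fun q hq => hq)
      rw [← pow_mul, hq, show g' * q * p ^ a = P * g' * q by rw [hP]; ring, hnPg, pow_mul, hμn,
        one_pow]
    choose z hz using hz
    refine ⟨∑ i, μ i ^ es * (z i : ℂ), IsIntegral.sum _ fun i _ => ?_, ?_⟩
    · refine ((IsIntegral.of_pow (orderOf_pos x) ?_).pow es).mul ?_
      · rw [h1]; exact isIntegral_one
      · simpa using isIntegral_algebraMap (R := ℤ) (A := ℂ) (x := z i)
    · refine mul_left_cancel₀ hc0 ?_
      calc (c : ℂ) * (((p : ℂ) - 1) * θ x)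
          = ((p : ℂ) - 1) * ∑ j, (Φ j : G → ℂ) x := by
            rw [hsumΦ fun ψ => (ψ : G → ℂ) x]; ring
        _ = ((p : ℂ) - 1) * ∑ j : (ZMod (p ^ a))ˣ, ∑ i, μ i ^ es * (μ i ^ eu) ^ (j : ZMod (p ^ a)).val := by
            congr 1
            refine Finset.sum_congr rfl fun j _ => ?_
            show (χ : G → ℂ) (x ^ k j) = _
            rw [← hρ, h2]
            refine Finset.sum_congr rfl fun i _ => ?_
            rw [← pow_mul, ← pow_add, mul_comm eu]
        _ = ∑ i, μ i ^ es * (((p : ℂ) - 1) * ∑ j : (ZMod (p ^ a))ˣ,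
            (μ i ^ eu) ^ (j : ZMod (p ^ a)).val) := by
            rw [Finset.sum_comm, Finset.mul_sum]
            refine Finset.sum_congr rfl fun i _ => ?_
            rw [← Finset.mul_sum]; ring
        _ = _ := by
            simp only [hz, hU, Finset.mul_sum]
            exact Finset.sum_congr rfl fun i _ => by ring
  set x₁ := charDegree (χ : G → ℂ) with hx₁
  have hx₁pos : 0 < x₁ := H12.irr_degree_pos χ
  have hχ1 : (χ : G → ℂ) 1 = (x₁ : ℂ) := H12.irr_apply_one χ
  have hψ1 : ∀ ψ ∈ S, (ψ : G → ℂ) 1 = (x₁ : ℂ) := by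
    intro ψ hψ
    obtain ⟨j, -, rfl⟩ := mem_image.1 hψ
    show (χ : G → ℂ) (1 ^ k j) = _
    rw [one_pow, hχ1]
  have hχS : χ ∈ S := by
    refine mem_image.2 ⟨1, mem_univ _, Subtype.ext (funext fun g => ?_)⟩
    show (χ : G → ℂ) (g ^ k 1) = _
    conv_rhs => rw [← pow_one g]
    exact congrArg (χ : G → ℂ) (hpow g _ _ (hcrt _ _ (by simp [hk1]) (by simp [hk2])))
  have hp1 : ((p - 1 : ℕ) : ℂ) = (p : ℂ) - 1 := by rw [Nat.cast_sub hp.one_le, Nat.cast_one]
  have hp10 : 0 < p - 1 := Nat.sub_pos_of_lt hp.one_lt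
  have hrC : (r : ℂ) ≠ 0 := by exact_mod_cast hr0.ne'
  refine ⟨?_, ?_⟩
  · -- the upper bound
    have hclass : IsClassFunction G fun g => ((p : ℂ) - 1) * conj (θ g) / r := by
      intro g h
      simp only [θ, fun ψ : IrrCharacter G => H12.irr_isClassFunction ψ g h]
    have hfint : ∀ g, IsIntegral ℤ (((p : ℂ) - 1) * conj (θ g) / r) := by
      intro g
      obtain ⟨z, hz, hz'⟩ := hint g
      have h' := congrArg (starRingEnd ℂ) hz'
      simp only [map_mul, map_sub, map_one, Complex.conj_natCast] at h'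
      rw [h', mul_div_cancel_left₀ _ hrC]
      exact map_isIntegral_int (starRingEnd ℂ) hz
    obtain ⟨d, ρ, hρi, hρ⟩ := χ.2
    have := hρi
    have hdiv := H12.isIntegral_sum_mul_char_div ρ hclass hfint
    have hone : ∑ g : G, (χ : G → ℂ) g * conj (θ g) = (n : ℂ) := by
      simp only [θ, map_sum, Finset.mul_sum]
      rw [Finset.sum_comm, Finset.sum_eq_single χ (fun ψ _ hne => ?_) (fun h => absurd hχS h)]
      · rw [H12.sum_mul_conj_eq_card_mul, H12.classInner_irr_self, mul_one]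
      · rw [H12.sum_mul_conj_eq_card_mul, H12.classInner_irr_ne hne.symm, mul_zero]
    have hd : (Module.finrank ℂ (Fin d → ℂ) : ℂ) = (x₁ : ℂ) := by
      rw [← hχ1, ← hρ, Representation.char_one]
    have hsum : ∑ g : G, ((p : ℂ) - 1) * conj (θ g) / r * ρ.character g
        = (((p - 1) * n : ℕ) : ℂ) / r := by
      rw [Nat.cast_mul, hp1, ← hone, Finset.mul_sum, Finset.sum_div]
      refine Finset.sum_congr rfl fun g _ => ?_
      rw [← hρ]; ring
    rw [hsum, hd, div_div, ← Nat.cast_mul] at hdiv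
    have hdvd := H12.nat_dvd_of_isIntegral_div (Nat.mul_ne_zero hr0.ne' hx₁pos.ne') hdiv
    have hle := (Nat.factorization_le_iff_dvd (Nat.mul_ne_zero hr0.ne' hx₁pos.ne')
      (Nat.mul_ne_zero hp10.ne' hn0)).2 hdvd p
    rwa [Nat.factorization_mul hp10.ne' hn0, Finsupp.add_apply,
      Nat.factorization_eq_zero_of_not_dvd (Nat.not_dvd_of_pos_of_lt hp10 (Nat.sub_lt hp.pos one_pos)),
      zero_add] at hle
  · -- full multiplicity
    intro hdvd
    obtain ⟨q, hq⟩ := hdvd
    obtain ⟨M, hM⟩ := H22.exists_isPModular p hp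
    have := H20.isPrime_of_modular hM
    have hA : ∀ g, MemLocalRing M (blockCoeff (↑S : Set (IrrCharacter G)) g) := by
      intro g
      obtain ⟨z, hz, hz'⟩ := hint g
      have h' := congrArg (starRingEnd ℂ) hz'
      simp only [map_mul, map_sub, map_one, Complex.conj_natCast] at h'
      have hval : blockCoeff (↑S : Set (IrrCharacter G)) g =
          (((p - 1) * g' : ℕ) : ℂ)⁻¹ * ((q : ℂ) * conj z) := by
        rw [blockCoeff, finsum_mem_coe_finset, Finset.sum_congr rfl (fun ψ hψ => by rw [hψ1 ψ hψ]),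
          ← Finset.mul_sum, ← map_sum, ← hn, ← hnPg, Nat.cast_mul, Nat.cast_mul, hp1]
        have hP0 : (P : ℂ) ≠ 0 := by exact_mod_cast hPpos.ne'
        have hg0 : (g' : ℂ) ≠ 0 := by exact_mod_cast hg'0.ne'
        have hp0 : (p : ℂ) - 1 ≠ 0 := by rw [← hp1]; exact_mod_cast hp10.ne'
        have hq' : (r : ℂ) * (x₁ : ℂ) = (P : ℂ) * (q : ℂ) := by exact_mod_cast hq
        change ((P : ℂ) * g')⁻¹ * ((x₁ : ℂ) * conj (θ g)) = _
        field_simp
        linear_combination (x₁ : ℂ) * h' + conj z * hq'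
      rw [hval]
      refine H20.memRing_mul (H20.inv_natCast_memRing hM ?_)
        (H20.memRing_mul (H20.memRing_natCast q)
          (H20.memRing_of_isIntegral (map_isIntegral_int (starRingEnd ℂ) hz)))
      exact fun h => (hp.dvd_mul.1 h).elim
        (Nat.not_dvd_of_pos_of_lt hp10 (Nat.sub_lt hp.pos one_pos)) hpg
    have hvan : ∀ y : G, p ∣ orderOf y → θ y = 0 := by
      intro y hy
      have h0 := H20.singVanish_of_memRing hM hA 1 y (by rw [orderOf_one]; exact hp.not_dvd_one) hy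
      rw [finsum_mem_coe_finset, Finset.sum_congr rfl (fun ψ hψ => by rw [hψ1 ψ hψ]),
        ← Finset.mul_sum, ← map_sum, mul_eq_zero] at h0
      exact (map_eq_zero (starRingEnd ℂ)).1 (h0.resolve_left (by exact_mod_cast hx₁pos.ne'))
    let Q : Sylow p G := default
    have hQc : Nat.card Q = P := Q.card_eq_multiplicity
    have hsum1 : ∑ w : Q, θ (w : G) = (r : ℂ) * x₁ := by
      have h1 : ∑ w : Q, θ (w : G) = θ ((1 : Q) : G) :=
        Finset.sum_eq_single (1 : Q) (fun w _ hw => hvan w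
          (H20.dvd_orderOf_of_mem_pGroup Q.2 w.2 fun h => hw (Subtype.ext h))) (by simp)
      rw [h1]
      simp only [θ, OneMemClass.coe_one]
      rw [Finset.sum_congr rfl hψ1, Finset.sum_const, hS, nsmul_eq_mul]
    have hsum2 : ∑ w : Q, θ (w : G) = (r : ℂ) * ∑ w : Q, (χ : G → ℂ) (w : G) := by
      simp only [θ]
      rw [Finset.sum_comm, Finset.sum_congr rfl (g := fun _ => ∑ w : Q, (χ : G → ℂ) (w : G)),
        Finset.sum_const, hS, nsmul_eq_mul]
      intro ψ hψ
      obtain ⟨j, -, rfl⟩ := mem_image.1 hψ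
      have := H25.sum_comp_pow (G := (Q : Subgroup G)) (fun w => (χ : G → ℂ) (w : G))
        (k := k j) (Nat.Coprime.coprime_dvd_right (Subgroup.card_subgroup_dvd_card _) (hkc j))
      simpa using this
    obtain ⟨m, hm⟩ := H12.IsCharacter.classInner_nat
      (H12.IsCharacter.res (H12.isCharacter_irr χ) (Q : Subgroup G)) H12.isCharacter_one
    simp only [classInner, map_one, mul_one] at hm
    have key : (x₁ : ℂ) = (P : ℂ) * m := by
      have := mul_left_cancel₀ hrC (hsum1.symm.trans hsum2)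
      rw [← hm, ← hQc, ← mul_assoc, mul_inv_cancel₀ (by exact_mod_cast Nat.card_pos.ne'), one_mul]
      exact this
    exact ⟨m, by exact_mod_cast key⟩

end H17.PConj
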