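import Cfsg.Agent.H13.Monomial
import Cfsg.Agent.H24.Quot
import Cfsg.Agent.H25.Galois
import Cfsg.Agent.H25.GaloisExtend
import Mathlib.FieldTheory.PrimitiveElement
import Mathlib.GroupTheory.Sylow

/-!
The order of a `p`-group with a faithful irreducible character of given degree and field of values.
-/

set_option autoImplicit false
set_option linter.unusedSectionVars false

namespace H17.FieldBound

open Cfsg

universe u

variable {P : Type u} [Group P] {p : ℕ}

/-- The Galois orbit of a character of a `p`-group, given by power maps. -/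
def orbit (p : ℕ) (χ : P → ℂ) : Set (P → ℂ) :=
  {F | ∃ k : ℕ, ¬ p ∣ k ∧ F = fun g => χ (g ^ k)}

theorem coprime_card (hp : p.Prime) {a k : ℕ} (hP : Nat.card P = p ^ a) (hk : ¬ p ∣ k) :
    Nat.Coprime k (Nat.card P) :=
  hP ▸ ((hp.coprime_iff_not_dvd.2 hk).symm).pow_right a

theorem orbit_finite [Finite P] (p : ℕ) (χ : P → ℂ) : (orbit p χ).Finite := by
  refine (Set.finite_range fun i : Fin (Nat.card P) => fun g => χ (g ^ (i : ℕ))).subset ?_
  rintro _ ⟨k, -, rfl⟩
  exact ⟨⟨k % Nat.card P, Nat.mod_lt _ Nat.card_pos⟩, funext fun g => by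
    show χ (g ^ (k % Nat.card P)) = χ (g ^ k)
    rw [pow_mod_natCard]⟩

theorem irr_pow [Fintype P] (hp : p.Prime) {a : ℕ} (hP : Nat.card P = p ^ a) {χ : P → ℂ}
    (hχ : IsIrrCharacter P χ) {k : ℕ} (hk : ¬ p ∣ k) :
    IsIrrCharacter P fun g => χ (g ^ k) := by
  obtain ⟨σ, hσ⟩ := H25.exists_ringEquiv_pow_rootOfUnity (Nat.card P) k Nat.card_pos
    (coprime_card hp hP hk)
  have h := H25.isIrrCharacter_ringEquiv_comp hχ σ
  have he : (σ : ℂ → ℂ) ∘ χ = fun g => χ (g ^ k) := funext fun g =>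
    H25.map_character_apply (H12.isCharacter_of_isIrrCharacter hχ) σ k hσ g
  rwa [he] at h

theorem exists_inv (hp : p.Prime) (a : ℕ) {k : ℕ} (hk : ¬ p ∣ k) :
    ∃ l : ℕ, ¬ p ∣ l ∧ k * l ≡ 1 [MOD p ^ (a + 1)] := by
  have hc : Nat.Coprime k (p ^ (a + 1)) := ((hp.coprime_iff_not_dvd.2 hk).symm).pow_right _
  obtain ⟨l, -, hl⟩ := Nat.exists_mul_mod_eq_one_of_coprime hc
    (Nat.one_lt_pow a.succ_ne_zero hp.one_lt)
  refine ⟨l, fun hd => ?_, ?_⟩
  · have h1 : (k * l) % p ^ (a + 1) % p = 0 := by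
      rw [Nat.mod_mod_of_dvd _ (dvd_pow_self p a.succ_ne_zero)]
      exact Nat.mod_eq_zero_of_dvd (hd.mul_left k)
    rw [hl, Nat.one_mod_eq_one.2 hp.ne_one] at h1
    exact one_ne_zero h1
  · rw [Nat.ModEq, hl, Nat.one_mod_eq_one.2 (Nat.one_lt_pow a.succ_ne_zero hp.one_lt).ne']

/-- A faithful linear character: the orbit has `φ(|P|)` members. -/
theorem orbit_linear [Fintype P] (hp : p.Prime) {a : ℕ} (hP : Nat.card P = p ^ (a + 1))
    {χ : P → ℂ} (hχ : IsCharacter P χ) (h1 : χ 1 = 1) (hfaith : ∀ g, χ g = χ 1 → g = 1) :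
    Nat.card (orbit p χ) = (p - 1) * p ^ a := by
  classical
  let lam := H13.linHom hχ h1
  have hlam : ∀ g, (lam g : ℂ) = χ g := fun g => H13.linHom_apply hχ h1 g
  have hinj : Function.Injective lam := (injective_iff_map_eq_one lam).2 fun g hg =>
    hfaith g (by rw [← hlam, hg, Units.val_one, h1])
  have hcyc : IsCyclic P := isCyclic_of_subgroup_isDomain ((Units.coeHom ℂ).comp lam)
    (Units.val_injective.comp hinj)
  obtain ⟨g, hg⟩ := IsCyclic.exists_generator (α := P)
  have hord : orderOf g = Nat.card P := orderOf_eq_card_of_forall_mem_zpowers hg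
  have : NeZero (Nat.card P) := ⟨Nat.card_pos.ne'⟩
  let j : (ZMod (Nat.card P))ˣ → orbit p χ := fun u =>
    ⟨fun x => χ (x ^ (u : ZMod (Nat.card P)).val), (u : ZMod (Nat.card P)).val, fun h =>
      hp.ne_one (Nat.eq_one_of_dvd_coprimes (ZMod.val_coe_unit_coprime u) h
        (hP ▸ dvd_pow_self p a.succ_ne_zero)), rfl⟩
  have hbij : Function.Bijective j := by
    constructor
    · intro u v h
      have h' := congrFun (congrArg Subtype.val h) g
      change χ (g ^ _) = χ (g ^ _) at h'
      rw [← hlam, ← hlam] at h'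
      have h2 := pow_eq_pow_iff_modEq.1 (hinj (Units.ext h'))
      rw [hord] at h2
      exact Units.ext (ZMod.val_injective _ (Nat.ModEq.eq_of_lt_of_lt h2 (ZMod.val_lt _)
        (ZMod.val_lt _)))
    · rintro ⟨_, k, hk, rfl⟩
      refine ⟨ZMod.unitOfCoprime k (coprime_card hp hP hk), Subtype.ext (funext fun x => ?_)⟩
      show χ (x ^ (_ : ℕ)) = χ (x ^ k)
      rw [ZMod.coe_unitOfCoprime, ZMod.val_natCast, ← pow_mod_natCard x k]
  rw [← Nat.card_eq_of_bijective j hbij, Nat.card_eq_fintype_card, ZMod.card_units_eq_totient, hP,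
    Nat.totient_prime_pow_succ hp, mul_comm]

theorem indFun_pow [Fintype P] {a : ℕ} (hp : p.Prime) (hP : Nat.card P = p ^ (a + 1))
    (M : Subgroup P) (θ : M → ℂ) {k : ℕ} (hk : ¬ p ∣ k) :
    indFun M (fun m => θ (m ^ k)) = fun g => indFun M θ (g ^ k) := by
  funext g
  show (Nat.card M : ℂ)⁻¹ * _ = (Nat.card M : ℂ)⁻¹ * _
  congr 1
  refine Finset.sum_congr rfl fun x _ => ?_
  have he : x⁻¹ * g ^ k * x = (x⁻¹ * g * x) ^ k := by
    have := conj_pow (i := k) (a := x⁻¹) (b := g)
    rw [inv_inv] at this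
    exact this.symm
  rw [he]
  by_cases h : x⁻¹ * g * x ∈ M
  · rw [H13.extendByZero_mem M _ h, H13.extendByZero_mem M _ (pow_mem h k)]
    exact congrArg θ (Subtype.ext rfl)
  · rw [H13.extendByZero_notMem M _ h, H13.extendByZero_notMem M _ fun h' => h ?_]
    obtain ⟨l, -, hl⟩ := exists_inv hp a hk
    have h2 := pow_mem h' l
    rwa [← pow_mul, pow_eq_pow_iff_modEq.2 (hl.of_dvd (hP ▸ orderOf_dvd_natCard _)), pow_one] at h2

theorem twist_pow (M : Subgroup P) [M.Normal] (θ : M → ℂ) (x : P) (k : ℕ) :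
    H13.twist M x (fun m => θ (m ^ k)) = fun m => H13.twist M x θ (m ^ k) := by
  funext m
  refine congrArg θ (Subtype.ext ?_)
  show (x * (m : P) * x⁻¹) ^ k = x * ((m ^ k : M) : P) * x⁻¹
  rw [conj_pow, Subgroup.coe_pow]

/-- An index `p` subgroup from which a nonlinear irreducible character is induced. -/
theorem exists_induced [Fintype P] (hp : p.Prime) {a : ℕ} (hP : Nat.card P = p ^ (a + 1))
    (χ : IrrCharacter P) (hf : charDegree (χ : P → ℂ) ≠ 1) :
    ∃ M : Subgroup P, M.Normal ∧ Nat.card M = p ^ a ∧ M.index = p ∧ ∃ θ : M → ℂ,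
      IsIrrCharacter M θ ∧ indFun M θ = (χ : P → ℂ) := by
  classical
  have : Fact p.Prime := ⟨hp⟩
  have hPg : IsPGroup p P := IsPGroup.of_card hP
  have := hPg.isNilpotent
  obtain ⟨H, lam, hlam⟩ := H13.monomial_of_nilpotent (Nat.card P) P rfl χ χ.2
  obtain ⟨e, he⟩ := IsPGroup.iff_card.1 (hPg.to_subgroup H)
  have hea : e ≤ a := by
    have h1 : p ^ e ∣ p ^ (a + 1) := he ▸ hP ▸ Subgroup.card_subgroup_dvd_card H
    have h2 := (Nat.pow_dvd_pow_iff_le_right hp.one_lt).1 h1
    by_contra hne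
    have h3 : e = a + 1 := by omega
    have htop : H = ⊤ := Subgroup.eq_top_of_card_eq H (by rw [he, h3, hP])
    apply hf
    show ⌊((χ : P → ℂ) 1).re⌋₊ = 1
    rw [hlam, H12.indFun_one, Subgroup.index_eq_one.2 htop, Nat.cast_one, one_mul]
    simp
  obtain ⟨M, hMcard, hHM⟩ := Sylow.exists_subgroup_card_pow_prime_le p
    (m := a) (hP ▸ pow_dvd_pow p a.le_succ) H he hea
  have hMidx : M.index = p := by
    have h := M.card_mul_index
    rw [hMcard, hP, pow_succ] at h
    exact Nat.eq_of_mul_eq_mul_left (pow_pos hp.pos a) h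
  have hMn : M.Normal := Subgroup.normal_of_index_eq_minFac_card (by
    rw [hMidx, hP, Nat.pow_minFac a.succ_ne_zero, hp.minFac_eq])
  refine ⟨M, hMn, hMcard, hMidx, ?_⟩
  have : Fintype M := Fintype.ofFinite _
  set θ : M → ℂ := indFun (H.subgroupOf M)
    (fun y => (lam ⟨((y : M) : P), Subgroup.mem_subgroupOf.mp y.2⟩ : ℂ)) with hθ
  have hθc : IsCharacter M θ := H13.isCharacter_indFun _ (H12.isCharacter_monoidHom
    (lam.comp (Subgroup.subgroupOfEquivOfLe hHM).toMonoidHom))
  have hind : indFun M θ = (χ : P → ℂ) :=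
    (H12.indFun_trans H M hHM (fun h => (lam h : ℂ))).trans hlam.symm
  refine ⟨θ, H12.isIrrCharacter_of_classInner_self_eq_one hθc ?_, hind⟩
  obtain ⟨n, hn⟩ := H12.IsCharacter.classInner_nat hθc hθc
  have h1 : classInner (fun m : M => (χ : P → ℂ) m) θ = 1 := by
    rw [← H12.conj_classInner, ← H12.classInner_indFun M θ (H12.irr_isClassFunction χ), hind,
      H12.classInner_irr_self, map_one]
  rw [← hind, H13.res_indFun, H12.classInner_smul_left, H12.classInner_sum_left] at h1
  choose c hc using fun x : P => H12.IsCharacter.classInner_nat (H13.isCharacter_twist M x hθc) hθc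
  simp only [hc] at h1
  have hM0 : (Nat.card M : ℂ) ≠ 0 := Nat.cast_ne_zero.2 Nat.card_pos.ne'
  have hsum : ∑ x : P, c x = Nat.card M := by
    have h2 : ((∑ x : P, c x : ℕ) : ℂ) = (Nat.card M : ℂ) := by
      rw [Nat.cast_sum]
      rwa [inv_mul_eq_iff_eq_mul₀ hM0, mul_one] at h1
    exact_mod_cast h2
  have hin : ∀ x : P, x ∈ M → c x = n := by
    intro x hx
    have h3 : H13.twist M x θ = θ := H13.le_inertia M (H12.IsCharacter.isClassFunction hθc) hx
    have h4 := hc x
    rw [h3, hn] at h4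
    exact_mod_cast h4.symm
  have hle : Nat.card M * n ≤ Nat.card M := by
    conv_rhs => rw [← hsum]
    calc Nat.card M * n = ∑ x ∈ Finset.univ.filter (· ∈ M), c x := by
          rw [Finset.sum_congr rfl fun x hx => hin x (Finset.mem_filter.1 hx).2, Finset.sum_const,
            smul_eq_mul, Nat.card_eq_fintype_card, Fintype.card_subtype]
      _ ≤ _ := Finset.sum_le_sum_of_subset (Finset.subset_univ _)
  have hn0 : n ≠ 0 := by
    rintro rfl
    rw [Nat.cast_zero, H12.classInner_self_eq_zero_iff] at hn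
    apply H12.irr_apply_one_ne_zero χ
    rw [← hind, hn, H13.indFun_zero]; rfl
  have hnle : n ≤ 1 := Nat.le_of_mul_le_mul_left (by rwa [mul_one]) Nat.card_pos
  rw [hn, show n = 1 by omega, Nat.cast_one]

/-- The main inequality, with the orbit in place of the field. -/
theorem bound_aux (hp : p.Prime) : ∀ (a : ℕ) (P : Type u) [Group P] [Fintype P]
    (χ : IrrCharacter P), Nat.card P = p ^ (a + 1) →
    (∀ g : P, (χ : P → ℂ) g = (χ : P → ℂ) 1 → g = 1) →
    ∀ t : ℕ, Nat.card (orbit p (χ : P → ℂ)) = (p - 1) * p ^ t →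
    (p - 1) * (a + 1) ≤ (charDegree (χ : P → ℂ) - 1) +
      (p - 1) * (t + 1) * charDegree (χ : P → ℂ) := by
  intro a
  induction a using Nat.strong_induction_on with
  | _ a ih => ?_
  intro P _ _ χ hP hfaith t ht
  classical
  have : Fact p.Prime := ⟨hp⟩
  have hp2 := hp.two_le
  by_cases hf : charDegree (χ : P → ℂ) = 1
  · have h1 : (χ : P → ℂ) 1 = 1 := by rw [H24.irr_one, hf, Nat.cast_one]
    rw [orbit_linear hp hP (H12.isCharacter_irr χ) h1 hfaith] at ht
    have := Nat.pow_right_injective hp2 (Nat.eq_of_mul_eq_mul_left (by omega : 0 < p - 1) ht)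
    rw [hf, this]
    simp
  obtain ⟨M, hMn, hMcard, hMidx, θ, hθ, hind⟩ := exists_induced hp hP χ hf
  have : Fintype M := Fintype.ofFinite _
  have hθc := H12.isCharacter_of_isIrrCharacter hθ
  let θi : IrrCharacter M := ⟨θ, hθ⟩
  set f := charDegree θ with hfdef
  have hdeg : charDegree (χ : P → ℂ) = p * f := by
    have h1 : (χ : P → ℂ) 1 = ((p * f : ℕ) : ℂ) := by
      rw [← hind, H13.indFun_apply_one, hMidx, Nat.cast_mul]
      exact congrArg _ (H24.irr_one θi)
    rw [H24.irr_one] at h1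
    exact_mod_cast h1
  have hf0 : 0 < f := H24.irr_pos θi
  -- the value of `χ` on `M`
  have hker : ∀ m : M, (∀ x : P, H13.twist M x θ m = θ 1) → m = 1 := by
    intro m hm
    refine Subtype.ext (hfaith _ ?_)
    have h1 := congrFun (H13.res_indFun M θ) m
    have h2 := congrFun (H13.res_indFun M θ) 1
    simp only [Pi.smul_apply, Finset.sum_apply, smul_eq_mul, hm, hind] at h1 h2
    rw [h1]
    refine Eq.trans ?_ h2.symm
    congr 1
    exact Finset.sum_congr rfl fun x _ => (congrArg θ (Subtype.ext (by simp))).symm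
  -- twists that are Galois conjugates
  have hfix : ∀ x : P, H13.twist M x θ = θ → x ∈ M := by
    intro x hx
    have h1 := H13.classInner_indFun_indFun M hθ hθ
    rw [hind, H12.classInner_irr_self] at h1
    by_contra hxM
    have hle : M ≤ H13.inertia M θ := H13.le_inertia M (H12.IsCharacter.isClassFunction hθc)
    have hcard : Nat.card {y : P // H13.twist M y θ = θ} = Nat.card M := by
      rw [eq_comm, inv_mul_eq_iff_eq_mul₀ (Nat.cast_ne_zero.2 Nat.card_pos.ne'), mul_one] at h1
      exact_mod_cast h1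
    exact hxM ((Subgroup.eq_of_le_of_card_ge hle hcard.le).ge hx)
  set Φ : orbit p θ → orbit p (χ : P → ℂ) := fun F => ⟨indFun M F.1, by
    obtain ⟨k, hk, hF⟩ := F.2
    exact ⟨k, hk, by rw [hF, indFun_pow hp hP M θ hk, hind]⟩⟩ with hΦ
  have hsurj : Function.Surjective Φ := by
    rintro ⟨_, k, hk, rfl⟩
    exact ⟨⟨_, k, hk, rfl⟩, Subtype.ext (by rw [hΦ]; simp only [indFun_pow hp hP M θ hk, hind])⟩
  have hfib : ∀ F F' : orbit p θ, Φ F = Φ F' → ∃ x, H13.twist M x F.1 = F'.1 := by
    rintro ⟨_, k, hk, rfl⟩ ⟨_, k', hk', rfl⟩ h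
    have hi := irr_pow hp hMcard hθ hk
    have hi' := irr_pow hp hMcard hθ hk'
    have h1 := H13.classInner_indFun_indFun M hi hi'
    rw [show indFun M (fun m => θ (m ^ k)) = indFun M (fun m => θ (m ^ k')) from
      congrArg Subtype.val h] at h1
    by_contra hne
    have : IsEmpty {x : P // H13.twist M x (fun m => θ (m ^ k)) = fun m => θ (m ^ k')} :=
      ⟨fun x => hne ⟨x.1, x.2⟩⟩
    rw [Nat.card_of_isEmpty (α := {x : P // H13.twist M x (fun m => θ (m ^ k)) =
      fun m => θ (m ^ k')}), Nat.cast_zero, mul_zero, H12.classInner_self_eq_zero_iff] at h1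
    have h2 := congrFun h1 1
    rw [indFun_pow hp hP M θ hk', hind, Pi.zero_apply] at h2
    simp only [one_pow] at h2
    exact H12.irr_apply_one_ne_zero χ h2
  -- deflate
  set K := H24.kerChar θi with hK
  obtain ⟨ψ, hψ⟩ := H24.exists_deflate K θi le_rfl
  have hψf : ∀ x, ψ.1 x = ψ.1 1 → x = 1 := fun x hx =>
    (Subgroup.eq_bot_iff_forall _).1 (H24.kerChar_eq_bot_deflate θi ψ hψ) x (H24.mem_kerChar.2 hx)
  have hψd : charDegree ψ.1 = f := by rw [← H24.charDegree_inflate, hψ]
  have hψv : ∀ m : M, ψ.1 (m : M ⧸ K) = θ m := fun m => by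
    rw [← H24.inflate_apply, hψ]
  have horb : Nat.card (orbit p ψ.1) = Nat.card (orbit p θ) := by
    refine Nat.card_eq_of_bijective (fun F => ⟨fun m => F.1 (m : M ⧸ K), ?_⟩) ⟨?_, ?_⟩
    · obtain ⟨k, hk, hF⟩ := F.2
      exact ⟨k, hk, funext fun m => by rw [hF]; simp only [← QuotientGroup.mk_pow, hψv]⟩
    · intro F F' h
      refine Subtype.ext (funext fun q => ?_)
      obtain ⟨m, rfl⟩ := QuotientGroup.mk_surjective q
      exact congrFun (congrArg Subtype.val h) m
    · rintro ⟨_, k, hk, rfl⟩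
      exact ⟨⟨_, k, hk, rfl⟩, Subtype.ext (funext fun m => by
        simp only [← QuotientGroup.mk_pow, hψv])⟩
  have : Fintype (M ⧸ K) := Fintype.ofFinite _
  obtain ⟨b, hb⟩ := IsPGroup.iff_card.1 ((IsPGroup.of_card hMcard).to_quotient K)
  -- the bound for the deflated character
  have hrec : ∀ t', Nat.card (orbit p θ) = (p - 1) * p ^ t' →
      (p - 1) * b ≤ (f - 1) + (p - 1) * (t' + 1) * f := by
    intro t' ht'
    rcases b with - | b
    · simp
    have hba : b < a := by
      have h1 : p ^ (b + 1) ∣ p ^ a := by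
        rw [← hb, ← hMcard]; exact Subgroup.card_quotient_dvd_card K
      have := (Nat.pow_dvd_pow_iff_le_right hp.one_lt).1 h1
      omega
    have := ih b hba (M ⧸ K) ψ hb hψf t' (horb.trans ht')
    rwa [hψd] at this
  rw [hdeg]
  by_cases hgal : ∃ x, x ∉ M ∧ ∃ k, ¬ p ∣ k ∧ H13.twist M x θ = fun m => θ (m ^ k)
  · -- all conjugates are Galois conjugates
    obtain ⟨x₀, hx₀, k₀, hk₀, hx₀k⟩ := hgal
    let S : Subgroup P := Subgroup.closure {x₀} ⊔ M
    have hall : ∀ x : P, ∃ k, ¬ p ∣ k ∧ H13.twist M x θ = fun m => θ (m ^ k) := by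
      have hpow : ∀ i : ℕ, ∃ k, ¬ p ∣ k ∧ H13.twist M (x₀ ^ i) θ = fun m => θ (m ^ k) := by
        intro i
        induction i with
        | zero => exact ⟨1, hp.not_dvd_one, by rw [pow_zero, H13.twist_one]; simp⟩
        | succ i hi =>
          obtain ⟨k, hk, hkk⟩ := hi
          refine ⟨k₀ * k, fun h => ((hp.dvd_mul).1 h).elim hk₀ hk, ?_⟩
          rw [pow_succ', ← H13.twist_twist, hx₀k, twist_pow, hkk]
          funext m
          show θ ((m ^ k₀) ^ k) = _
          rw [← pow_mul]
      intro x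
      have hx : (QuotientGroup.mk x : P ⧸ M) ∈ Submonoid.powers (QuotientGroup.mk x₀ : P ⧸ M) := by
        rw [mem_powers_iff_mem_zpowers]
        exact mem_zpowers_of_prime_card (p := p) (by rw [← Subgroup.index_eq_card, hMidx])
          (fun h => hx₀ ((QuotientGroup.eq_one_iff x₀).1 h))
      obtain ⟨i, hi⟩ := hx
      obtain ⟨k, hk, hkk⟩ := hpow i
      refine ⟨k, hk, ?_⟩
      rw [← hkk]
      have hi' : ((x₀ ^ i : P) : P ⧸ M) = (x : P ⧸ M) := hi
      rw [QuotientGroup.eq] at hi'
      rw [show x = x₀ ^ i * ((x₀ ^ i)⁻¹ * x) by group, ← H13.twist_twist]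
      have h3 : H13.twist M (x₀ ^ i) θ = H13.twist M (x₀ ^ i) θ := rfl
      exact H13.le_inertia M (H12.IsCharacter.isClassFunction
        (H13.isCharacter_twist M _ hθc)) hi'
    have hKbot : K = ⊥ := by
      rw [Subgroup.eq_bot_iff_forall]
      intro m hm
      refine hker m fun x => ?_
      obtain ⟨k, -, hkk⟩ := hall x
      rw [hkk]
      exact H24.mem_kerChar.1 (pow_mem hm k)
    have hba : b = a := by
      have h1 : Nat.card (M ⧸ K) = Nat.card M := by
        rw [← Subgroup.index_eq_card, hKbot, Subgroup.index_bot]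
      rw [hb, hMcard] at h1
      exact Nat.pow_right_injective hp2 h1
    have hcount : Nat.card (orbit p θ) = p * Nat.card (orbit p (χ : P → ℂ)) := by
      have hcardfib : ∀ y, Nat.card {F // Φ F = y} = p := by
        intro y
        obtain ⟨⟨_, k, hk, rfl⟩, rfl⟩ := hsurj y
        refine Eq.trans ?_ hMidx
        symm
        have hwell : ∀ x : P, H13.twist M x (fun m : M => θ (m ^ k)) ∈ orbit p θ := by
          intro x
          obtain ⟨l, hl, hlk⟩ := hall x
          refine ⟨k * l, fun h => ((hp.dvd_mul).1 h).elim hk hl, ?_⟩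
          rw [twist_pow, hlk]
          funext m
          show θ ((m ^ k) ^ l) = _
          rw [← pow_mul]
        have hind' : ∀ x : P, indFun M (H13.twist M x (fun m : M => θ (m ^ k))) =
            indFun M (fun m : M => θ (m ^ k)) := by
          intro x
          funext g
          show (Nat.card M : ℂ)⁻¹ * _ = (Nat.card M : ℂ)⁻¹ * _
          congr 1
          refine Fintype.sum_equiv (Equiv.mulRight x⁻¹) _ _ fun y => ?_
          show extendByZero M _ (y⁻¹ * g * y) = extendByZero M _ ((y * x⁻¹)⁻¹ * g * (y * x⁻¹))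
          have he : (y * x⁻¹)⁻¹ * g * (y * x⁻¹) = x * (y⁻¹ * g * y) * x⁻¹ := by group
          rw [he]
          by_cases h : y⁻¹ * g * y ∈ M
          · rw [H13.extendByZero_mem M _ h, H13.extendByZero_mem M _ (hMn.conj_mem _ h x)]
            rfl
          · rw [H13.extendByZero_notMem M _ h, H13.extendByZero_notMem M _ fun h' => h ?_]
            have := hMn.conj_mem' _ h' x
            simpa [mul_assoc] using this
        rw [Subgroup.index_eq_card]
        refine Nat.card_eq_of_bijective (fun q : P ⧸ M => Quotient.liftOn' q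
          (fun x => (⟨⟨_, hwell x⁻¹⟩, Subtype.ext (hind' x⁻¹)⟩ :
            {F // Φ F = Φ ⟨fun m => θ (m ^ k), k, hk, rfl⟩})) fun x x' hxx => ?_) ⟨?_, ?_⟩
        · rw [QuotientGroup.leftRel_apply] at hxx
          refine Subtype.ext (Subtype.ext ?_)
          show H13.twist M x⁻¹ (fun m : M => θ (m ^ k)) =
            H13.twist M x'⁻¹ (fun m : M => θ (m ^ k))
          rw [show x⁻¹ = (x⁻¹ * x') * x'⁻¹ by group, ← H13.twist_twist,
            H13.le_inertia M (H12.IsCharacter.isClassFunction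
              (H12.isCharacter_of_isIrrCharacter (irr_pow hp hMcard hθ hk))) hxx]
        · intro q q'
          refine Quotient.inductionOn₂' q q' fun x x' h => ?_
          have h1 : H13.twist M x⁻¹ (fun m : M => θ (m ^ k)) =
              H13.twist M x'⁻¹ (fun m : M => θ (m ^ k)) :=
            congrArg Subtype.val (congrArg Subtype.val h)
          refine Quotient.sound' (QuotientGroup.leftRel_apply.2 (hfix _ ?_))
          rw [twist_pow, twist_pow] at h1
          have h2 : H13.twist M x⁻¹ θ = H13.twist M x'⁻¹ θ := by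
            obtain ⟨a', ha'⟩ : ∃ a', a = a' := ⟨a, rfl⟩
            obtain ⟨l, -, hl⟩ := exists_inv hp a hk
            funext m
            have h3 := congrFun h1 (m ^ l)
            rwa [← pow_mul, mul_comm, pow_eq_pow_iff_modEq.2 (hl.of_dvd
              ((orderOf_dvd_natCard m).trans (hMcard ▸ pow_dvd_pow p a.le_succ))), pow_one] at h3
          rw [← H13.twist_twist, h2, H13.twist_twist, inv_mul_cancel, H13.twist_one]
        · rintro ⟨F, hF⟩
          obtain ⟨x, hx⟩ := hfib _ _ hF.symm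
          refine ⟨Quotient.mk'' x⁻¹, Subtype.ext (Subtype.ext ?_)⟩
          show H13.twist M x⁻¹⁻¹ (fun m : M => θ (m ^ k)) = F.1
          rw [inv_inv]; exact hx
      have : Finite (orbit p θ) := (orbit_finite p θ).to_subtype
      have : Fintype (orbit p (χ : P → ℂ)) :=
        ((orbit_finite p (χ : P → ℂ))).fintype
      rw [Nat.card_congr (Equiv.sigmaFiberEquiv Φ).symm, Nat.card_sigma]
      rw [Finset.sum_congr rfl fun y _ => hcardfib y, Finset.sum_const, Finset.card_univ,
        smul_eq_mul, ← Nat.card_eq_fintype_card, mul_comm]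
    have h := hrec (t + 1) (by rw [hcount, ht, pow_succ]; ring)
    rw [hba] at h
    obtain ⟨q, rfl⟩ : ∃ q, p = q + 1 := ⟨p - 1, by omega⟩
    obtain ⟨g, hg⟩ : ∃ g, f = g + 1 := ⟨f - 1, by omega⟩
    rw [hg] at h ⊢
    simp only [Nat.add_sub_cancel] at h ⊢
    rw [show (q + 1) * (g + 1) - 1 = q * g + q + g by
      rw [show (q + 1) * (g + 1) = q * g + q + g + 1 by ring, Nat.add_sub_cancel]]
    have h1 : 1 ≤ (t + 1) * q * (g + 1) := Nat.one_le_iff_ne_zero.2
      (Nat.mul_ne_zero (Nat.mul_ne_zero t.succ_ne_zero (by omega)) g.succ_ne_zero)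
    nlinarith [Nat.mul_le_mul_left q h1]
  · -- the conjugates are in distinct Galois orbits
    have hbij : Function.Bijective Φ := by
      refine ⟨?_, hsurj⟩
      rintro ⟨_, k, hk, rfl⟩ ⟨_, k', hk', rfl⟩ h
      obtain ⟨x, hx⟩ := hfib _ _ h
      refine Subtype.ext ?_
      rw [← hx]
      by_cases hxM : x ∈ M
      · exact (H13.le_inertia M (H12.IsCharacter.isClassFunction
          (H12.isCharacter_of_isIrrCharacter (irr_pow hp hMcard hθ hk))) hxM).symm
      exfalso
      apply hgal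
      obtain ⟨l, hlp, hl⟩ := exists_inv hp a hk
      refine ⟨x, hxM, k' * l, fun h => ((hp.dvd_mul).1 h).elim hk' hlp, funext fun m => ?_⟩
      have h3 := congrFun hx (m ^ l)
      rw [twist_pow] at h3
      simp only [← pow_mul] at h3
      rw [mul_comm l, mul_comm l, pow_eq_pow_iff_modEq.2 (hl.of_dvd
        ((orderOf_dvd_natCard m).trans (hMcard ▸ pow_dvd_pow p a.le_succ))), pow_one] at h3
      exact h3
    have h := hrec t ((Nat.card_eq_of_bijective Φ hbij).trans ht)
    have hab : a ≤ p * b := by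
      let C : P ⧸ M → (M →* M ⧸ K) := fun c =>
        (QuotientGroup.mk' K).comp (MulAut.conjNormal c.out : M ≃* M).toMonoidHom
      have hinj : Function.Injective (MonoidHom.mk' (fun m c => C c m) (fun m m' => by
          funext c; exact map_mul (C c) m m') : M →* (P ⧸ M → M ⧸ K)) := by
        rw [injective_iff_map_eq_one]
        intro m hm
        refine hker m fun x => ?_
        set c : P ⧸ M := (x : P ⧸ M) with hc
        have h1 : (MulAut.conjNormal c.out m : M) ∈ K :=
          (QuotientGroup.eq_one_iff _).1 (congrFun hm c)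
        have h2 : x * (c.out)⁻¹ ∈ M := by
          have := QuotientGroup.eq.1 (QuotientGroup.out_eq' c |>.trans hc)
          have h4 := hMn.conj_mem _ this c.out
          simpa [mul_assoc] using h4
        have h5 : θ (MulAut.conjNormal c.out m) = θ 1 := H24.mem_kerChar.1 h1
        calc H13.twist M x θ m = H13.twist M (x * c.out⁻¹ * c.out) θ m := by group
          _ = H13.twist M c.out (H13.twist M (x * c.out⁻¹) θ) m := by rw [H13.twist_twist]
          _ = H13.twist M c.out θ m := by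
            rw [show H13.twist M (x * c.out⁻¹) θ = θ from
              H13.le_inertia M (H12.IsCharacter.isClassFunction hθc) h2]
          _ = θ 1 := by rw [← h5, H13.twist_eq_comp]; rfl
      have hle := Nat.card_le_card_of_injective _ hinj
      rw [Nat.card_fun, hb, ← Subgroup.index_eq_card, hMidx, hMcard, ← pow_mul] at hle
      exact ((Nat.pow_le_pow_iff_right hp.one_lt).1 hle).trans (le_of_eq (mul_comm b p))
    obtain ⟨q, rfl⟩ : ∃ q, p = q + 1 := ⟨p - 1, by omega⟩
    obtain ⟨g, hg⟩ : ∃ g, f = g + 1 := ⟨f - 1, by omega⟩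
    rw [hg] at h ⊢
    simp only [Nat.add_sub_cancel] at h ⊢
    rw [show (q + 1) * (g + 1) - 1 = q * g + q + g by
      rw [show (q + 1) * (g + 1) = q * g + q + g + 1 by ring, Nat.add_sub_cancel]]
    nlinarith

/-- The field of values has degree equal to the size of the orbit. -/
theorem finrank_adjoin [Fintype P] (hp : p.Prime) {a : ℕ} (hP : Nat.card P = p ^ (a + 1))
    (χ : IrrCharacter P) :
    Module.finrank ℚ (IntermediateField.adjoin ℚ (Set.range (χ : P → ℂ))) =
      Nat.card (orbit p (χ : P → ℂ)) := by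
  classical
  set E := IntermediateField.adjoin ℚ (Set.range (χ : P → ℂ)) with hE
  have hfin : FiniteDimensional ℚ E :=
    IntermediateField.finiteDimensional_adjoin (S := Set.range (χ : P → ℂ)) fun z hz => by
      obtain ⟨g, rfl⟩ := hz
      exact (H12.IsCharacter.isIntegral (H12.isCharacter_irr χ) g).tower_top
  rw [← AlgHom.card ℚ E ℂ, ← Nat.card_eq_fintype_card]
  have hmem : ∀ g : P, (χ : P → ℂ) g ∈ E := fun g => IntermediateField.subset_adjoin _ _ ⟨g, rfl⟩
  have horbit : ∀ f : E →ₐ[ℚ] ℂ, (fun g => f ⟨_, hmem g⟩) ∈ orbit p (χ : P → ℂ) := by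
    intro f
    have hcount : Cardinal.mk E ≤ Cardinal.aleph0 := by
      have : Countable E := (Module.finBasis ℚ E).equivFun.toEquiv.injective.countable
      exact Cardinal.mk_le_aleph0
    obtain ⟨σ, hσ⟩ := @H25.exists_ringEquiv_over_countable E _ hcount ℂ ℂ _ _ _ _
      (algebraMap E ℂ).toAlgebra f.toRingHom.toAlgebra
      (by rw [Cardinal.mk_complex]; exact Cardinal.aleph0_lt_continuum) ⟨Equiv.refl ℂ⟩
    set ζ : ℂ := Complex.exp (2 * Real.pi * Complex.I / (Nat.card P : ℕ)) with hζdef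
    have hζ : IsPrimitiveRoot ζ (Nat.card P) := Complex.isPrimitiveRoot_exp _ Nat.card_pos.ne'
    have hσζ : IsPrimitiveRoot (σ ζ) (Nat.card P) := hζ.map_of_injective σ.injective
    obtain ⟨k, hk, hk', hkk⟩ := hζ.isPrimitiveRoot_iff.1 hσζ
    refine ⟨k, fun h => hp.ne_one (Nat.eq_one_of_dvd_coprimes hk' h
      (hP ▸ dvd_pow_self p a.succ_ne_zero)), funext fun g => ?_⟩
    rw [← H25.map_character_apply (H12.isCharacter_irr χ) σ k (fun z hz => ?_) g]
    · exact (hσ ⟨_, hmem g⟩).symm
    · obtain ⟨i, -, rfl⟩ := hζ.eq_pow_of_pow_eq_one hz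
      rw [map_pow, ← hkk, ← pow_mul, ← pow_mul, mul_comm]
  refine Nat.card_eq_of_bijective (fun f => ⟨_, horbit f⟩) ⟨?_, ?_⟩
  · intro f f' h
    refine IntermediateField.algHom_ext_of_eq_adjoin _ hE fun z hz => ?_
    obtain ⟨g, rfl⟩ := hz
    exact congrFun (congrArg Subtype.val h) g
  · rintro ⟨_, k, hk, rfl⟩
    obtain ⟨σ, hσ⟩ := H25.exists_ringEquiv_pow_rootOfUnity (Nat.card P) k Nat.card_pos
      (coprime_card hp hP hk)
    refine ⟨(σ : ℂ →+* ℂ).toRatAlgHom.comp E.val, Subtype.ext (funext fun g => ?_)⟩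
    exact H25.map_character_apply (H12.isCharacter_irr χ) σ k hσ g

end H17.FieldBound
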