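import Cfsg.Agent.H25.Galois
import Cfsg.Agent.H20.LocalRing
import Cfsg.Agent.H22.ValueMod
import Cfsg.Agent.H12.Integral
import Cfsg.Prelude.Def_Blocks
import Mathlib.Data.Nat.Choose.Factorization
import Mathlib.GroupTheory.Sylow

/-!
Schur's bound for the order of a `p`-group with a faithful rational valued character.
-/

set_option autoImplicit false
set_option linter.unusedSectionVars false

namespace H17.SchurBound

open Finset Cfsg
open scoped ComplexConjugate

theorem sum_units_real {p : ℕ} (hp : p.Prime) (a : ℕ) [NeZero (p ^ a)] (β : ℂ)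
    (hβ : β ^ (p ^ a) = 1) :
    ∃ z : ℤ, ∑ j : (ZMod (p ^ a))ˣ, β ^ (j : ZMod (p ^ a)).val = z ∧
      -(Fintype.card (ZMod (p ^ a))ˣ : ℤ) ≤ ((p : ℤ) - 1) * z := by
  rcases a with - | a
  · refine ⟨1, ?_, ?_⟩
    · have hβ' : β = 1 := by simpa using hβ
      rw [Finset.sum_congr rfl fun j _ => by rw [hβ', one_pow], Finset.sum_const, Finset.card_univ,
        show Fintype.card (ZMod (p ^ 0))ˣ = 1 by rw [ZMod.card_units_eq_totient, pow_zero]; rfl]
      simp
    · have := hp.two_le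
      have h0 : (0 : ℤ) ≤ (Fintype.card (ZMod (p ^ 0))ˣ : ℤ) := Int.natCast_nonneg _
      omega
  · classical
    have hb : ∑ j : (ZMod (p ^ (a + 1)))ˣ, β ^ (j : ZMod (p ^ (a + 1))).val =
        ∑ j ∈ (range (p ^ (a + 1))).filter (fun j => ¬ p ∣ j), β ^ j := by
      refine Finset.sum_bij (fun j _ => (j : ZMod (p ^ (a + 1))).val) (fun j _ => ?_)
        (fun i _ j _ h => Units.ext (ZMod.val_injective _ h)) (fun j hj => ?_) (fun _ _ => rfl)
      · simp only [mem_filter, mem_range]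
        refine ⟨ZMod.val_lt _, fun h => ?_⟩
        exact hp.ne_one (Nat.eq_one_of_dvd_coprimes (ZMod.val_coe_unit_coprime j) h
          (dvd_pow_self p a.succ_ne_zero))
      · simp only [mem_filter, mem_range] at hj
        refine ⟨ZMod.unitOfCoprime j ((hp.coprime_iff_not_dvd.2 hj.2).symm.pow_right _),
          mem_univ _, ?_⟩
        rw [ZMod.coe_unitOfCoprime, ZMod.val_natCast, Nat.mod_eq_of_lt hj.1]
    have hm : ∑ j ∈ (range (p ^ (a + 1))).filter (fun j => p ∣ j), β ^ j =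
        ∑ i ∈ range (p ^ a), (β ^ p) ^ i := by
      refine (Finset.sum_bij (fun i _ => p * i) (fun i hi => ?_)
        (fun i _ j _ h => Nat.eq_of_mul_eq_mul_left hp.pos h) (fun j hj => ?_)
        (fun i _ => by rw [pow_mul])).symm
      · simp only [mem_filter, mem_range] at hi ⊢
        refine ⟨?_, dvd_mul_right _ _⟩
        rw [pow_succ']
        exact Nat.mul_lt_mul_of_pos_left hi hp.pos
      · simp only [mem_filter, mem_range] at hj
        obtain ⟨hlt, i, rfl⟩ := hj
        refine ⟨i, ?_, rfl⟩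
        rw [pow_succ'] at hlt
        exact mem_range.2 (Nat.lt_of_mul_lt_mul_left hlt)
    have hgeo : ∀ (w : ℂ) (m : ℕ), w ^ m = 1 →
        ∃ e : ℤ, 0 ≤ e ∧ e ≤ 1 ∧ ∑ i ∈ range m, w ^ i = (m : ℂ) * e := by
      intro w m hw
      by_cases h : w = 1
      · exact ⟨1, by norm_num, le_rfl, by simp [h]⟩
      · refine ⟨0, le_rfl, by norm_num, ?_⟩
        have h2 := geom_sum_mul w m
        rw [hw, sub_self, mul_eq_zero] at h2
        rw [h2.resolve_right (sub_ne_zero.2 h)]
        simp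
    obtain ⟨e, he0, he1, he⟩ := hgeo β _ hβ
    obtain ⟨f, hf0, hf1, hf⟩ := hgeo (β ^ p) (p ^ a) (by rw [← pow_mul, ← pow_succ', hβ])
    have hsplit := Finset.sum_filter_add_sum_filter_not (range (p ^ (a + 1))) (fun j => p ∣ j)
      (fun j => β ^ j)
    rw [hm, hf, he] at hsplit
    refine ⟨(p : ℤ) ^ (a + 1) * e - (p : ℤ) ^ a * f, ?_, ?_⟩
    · rw [hb]
      push_cast at hsplit ⊢
      linear_combination hsplit
    · rw [ZMod.card_units_eq_totient, Nat.totient_prime_pow_succ hp]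
      push_cast [Nat.cast_sub hp.one_le]
      have h1 : (0 : ℤ) ≤ (p : ℤ) - 1 := by have := hp.two_le; omega
      have h2 : (0 : ℤ) ≤ (p : ℤ) ^ (a + 1) * e := mul_nonneg (by positivity) he0
      have h3 : (p : ℤ) ^ a * f ≤ (p : ℤ) ^ a := by
        have : (0 : ℤ) ≤ (p : ℤ) ^ a := by positivity
        nlinarith
      nlinarith

universe u

variable {P : Type u} [Group P] [Fintype P]

/-- The values at nonidentity elements are `n - p * j` for `1 ≤ j ≤ n / (p - 1)`. -/
theorem value_cases {p a : ℕ} (hp : p.Prime) (hP : Nat.card P = p ^ a) {χ : P → ℂ}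
    (hχ : IsCharacter P χ) (hfaith : ∀ g : P, χ g = χ 1 → g = 1)
    (hinv : ∀ (g : P) (j : ℕ), Nat.Coprime j (p ^ a) → χ (g ^ j) = χ g) (g : P) :
    ∃ z : ℤ, χ g = z ∧ (g ≠ 1 → ∃ j, j < H12.degree χ / (p - 1) ∧
      z = (H12.degree χ : ℤ) - (p : ℤ) * (j + 1 : ℕ)) := by
  classical
  have : NeZero (p ^ a) := ⟨pow_ne_zero _ hp.ne_zero⟩
  set n := H12.degree χ with hn
  obtain ⟨d, ρ, rfl⟩ := hχ
  obtain ⟨μ, h1, h2, -⟩ := H12.exists_char_eigenvalues ρ g
  have hd : n = Module.finrank ℂ (Fin d → ℂ) := H12.degree_character ρ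
  have hμ : ∀ i, μ i ^ (p ^ a) = 1 := fun i => by
    obtain ⟨l, hl⟩ := orderOf_dvd_natCard g
    rw [← hP, hl, pow_mul, h1, one_pow]
  choose S hS hSle using fun i => sum_units_real hp a (μ i) (hμ i)
  set φ := Fintype.card (ZMod (p ^ a))ˣ with hφ
  have hφ0 : 0 < φ := Fintype.card_pos
  have hsum : (φ : ℂ) * ρ.character g = ((∑ i, S i : ℤ) : ℂ) := by
    calc (φ : ℂ) * ρ.character g = ∑ j : (ZMod (p ^ a))ˣ, ρ.character g := by
          rw [Finset.sum_const, Finset.card_univ, nsmul_eq_mul]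
      _ = ∑ j : (ZMod (p ^ a))ˣ, ∑ i, μ i ^ (j : ZMod (p ^ a)).val := by
          refine Finset.sum_congr rfl fun j _ => ?_
          rw [← hinv g _ (ZMod.val_coe_unit_coprime j), h2]
      _ = _ := by
          rw [Finset.sum_comm, Int.cast_sum]
          exact Finset.sum_congr rfl fun i _ => hS i
  have hint : IsIntegral ℤ (ρ.character g) := H12.isIntegral_character ρ g
  set q : ℚ := ((∑ i, S i : ℤ) : ℚ) / φ with hqdef
  have hq : ρ.character g = (q : ℂ) := by
    rw [hqdef]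
    push_cast
    rw [eq_div_iff (by exact_mod_cast hφ0.ne'), mul_comm, hsum]
    push_cast
    rfl
  obtain ⟨z, hz⟩ := H12.exists_int_of_isIntegral_rat (q := q) (hq ▸ hint)
  have hzv : ρ.character g = (z : ℂ) := by rw [hq, ← hz]; norm_cast
  refine ⟨z, hzv, fun hg => ?_⟩
  -- the upper bound and faithfulness
  have hupper : z < (n : ℤ) := by
    have hb := H12.norm_character_le ρ g
    rw [hzv, Complex.norm_intCast, ← hd] at hb
    have h3 : z ≤ (n : ℤ) := by
      have : (z : ℝ) ≤ ((n : ℤ) : ℝ) := by push_cast; exact le_trans (le_abs_self _) hb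
      exact_mod_cast this
    refine lt_of_le_of_ne h3 fun h => hg (hfaith g ?_)
    rw [hzv, h, Representation.char_one, ← hd]
    norm_cast
  -- the lower bound
  have hlower : -(n : ℤ) ≤ ((p : ℤ) - 1) * z := by
    have h3 : (φ : ℤ) * z = ∑ i, S i := by
      have := hsum; rw [hzv] at this; exact_mod_cast this
    have h4 : ∑ _i : Fin (Module.finrank ℂ (Fin d → ℂ)), -(φ : ℤ) ≤ ∑ i, ((p : ℤ) - 1) * S i :=
      Finset.sum_le_sum fun i _ => hSle i
    rw [← Finset.mul_sum, ← h3, Finset.sum_const, Finset.card_univ, Fintype.card_fin, ← hd,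
      nsmul_eq_mul] at h4
    have h5 : (φ : ℤ) * -(n : ℤ) ≤ (φ : ℤ) * (((p : ℤ) - 1) * z) := by linarith
    exact le_of_mul_le_mul_left h5 (by exact_mod_cast hφ0)
  -- the congruence
  obtain ⟨M, hM⟩ := H22.exists_isPModular p hp
  have := H20.isPrime_of_modular hM
  have hdvd : (p : ℤ) ∣ (n : ℤ) - z := by
    have hiff : H20.red M (((n : ℤ) - z : ℤ) : H20.O M) = 0 ↔ (p : ℤ) ∣ (n : ℤ) - z := by
      rw [H20.red_eq_zero_iff, ← H20.intCast_memIdeal_iff hM]
      push_cast
      rfl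
    rw [← hiff]
    have hmem : ∀ i, MemLocalRing M (μ i) := fun i =>
      H20.memRing_of_pow_eq_one (pow_pos hp.pos a) (hμ i)
    let w : Fin (Module.finrank ℂ (Fin d → ℂ)) → H20.O M := fun i => ⟨μ i, hmem i⟩
    have hw : ∀ i, H20.red M (w i) = 1 := fun i =>
      H20.red_eq_one_of_pow_p_pow hM (j := a) (Subtype.ext (by push_cast; exact hμ i))
    have hzw : ((z : ℤ) : H20.O M) = ∑ i, w i := by
      refine Subtype.ext ?_
      push_cast
      rw [← hzv]
      simpa using h2 1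
    rw [Int.cast_sub, map_sub, hzw, _root_.map_sum, Finset.sum_congr rfl fun i _ => hw i,
      Finset.sum_const, Finset.card_univ, Fintype.card_fin, ← hd, nsmul_one, map_intCast,
      Int.cast_natCast, sub_self]
  obtain ⟨c, hc⟩ := hdvd
  have hp2 := hp.two_le
  have hc1 : 1 ≤ c := by
    by_contra h
    have : (p : ℤ) * c ≤ 0 := mul_nonpos_of_nonneg_of_nonpos (by positivity) (by omega)
    omega
  lift c to ℕ using by omega with c'
  refine ⟨c' - 1, ?_, ?_⟩
  · have h6 : c' * (p - 1) ≤ n := by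
      have hp1 : ((p - 1 : ℕ) : ℤ) = (p : ℤ) - 1 := by omega
      have : ((c' * (p - 1) : ℕ) : ℤ) ≤ (n : ℤ) := by
        push_cast [hp1]
        have h7 : ((p : ℤ) - 1) * z = ((p : ℤ) - 1) * n - ((p : ℤ) - 1) * ((p : ℤ) * c') := by
          rw [← hc]; ring
        nlinarith
      exact_mod_cast this
    have := (Nat.le_div_iff_mul_le (show 0 < p - 1 by omega)).2 h6
    omega
  · rw [Nat.sub_add_cancel (by omega)]
    omega

theorem bound {p a : ℕ} (hp : p.Prime) (hP : Nat.card P = p ^ a) {χ : P → ℂ}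
    (hχ : IsCharacter P χ) (hfaith : ∀ g : P, χ g = χ 1 → g = 1)
    (hinv : ∀ (g : P) (j : ℕ), Nat.Coprime j (p ^ a) → χ (g ^ j) = χ g) :
    a ≤ ∑ i ∈ Finset.range (H12.degree χ + 1), H12.degree χ / ((p - 1) * p ^ i) := by
  classical
  set n := H12.degree χ with hn
  set m := n / (p - 1) with hm
  choose z hz hcases using value_cases hp hP hχ hfaith hinv
  let v : ℕ → ℤ := fun j => (n : ℤ) - (p : ℤ) * (j + 1 : ℕ)
  have hdvd : ∀ l k : ℕ, ∃ c : ℤ,
      ∑ g : P, z g ^ k * ∏ j ∈ range l, (z g - v j) = (Nat.card P : ℤ) * c := by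
    intro l
    induction l with
    | zero =>
      intro k
      obtain ⟨c, hc⟩ := H12.IsCharacter.classInner_nat (H12.IsCharacter.pow hχ k)
        (H12.isCharacter_one (G := P))
      refine ⟨c, ?_⟩
      simp only [classInner, map_one, mul_one, Pi.pow_apply, hz] at hc
      rw [inv_mul_eq_iff_eq_mul₀ (by exact_mod_cast Nat.card_pos.ne')] at hc
      simp only [range_zero, prod_empty, mul_one]
      exact_mod_cast hc
    | succ l ih =>
      intro k
      obtain ⟨c₁, hc₁⟩ := ih (k + 1)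
      obtain ⟨c₂, hc₂⟩ := ih k
      refine ⟨c₁ - v l * c₂, ?_⟩
      rw [mul_sub, mul_left_comm, ← hc₁, ← hc₂, Finset.mul_sum, ← Finset.sum_sub_distrib]
      refine Finset.sum_congr rfl fun g _ => ?_
      rw [Finset.prod_range_succ, pow_succ]; ring
  obtain ⟨c, hc⟩ := hdvd m 0
  have hsum : ∑ g : P, z g ^ 0 * ∏ j ∈ range m, (z g - v j) =
      ((p ^ m * Nat.factorial m : ℕ) : ℤ) := by
    rw [Finset.sum_eq_single (1 : P) (fun g _ hg => ?_) (by simp)]
    · have hz1 : z 1 = (n : ℤ) := by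
        have := hz 1
        rw [H12.IsCharacter.apply_one_eq_degree hχ, ← hn] at this
        exact_mod_cast this.symm
      simp only [pow_zero, one_mul, v, hz1, sub_sub_cancel]
      rw [Finset.prod_mul_distrib, Finset.prod_const, Finset.card_range, Nat.cast_mul, Nat.cast_pow,
        ← Finset.prod_range_add_one_eq_factorial, Nat.cast_prod]
    · obtain ⟨j, hj, hj'⟩ := hcases g hg
      rw [Finset.prod_eq_zero (mem_range.2 hj) (sub_eq_zero.2 hj'), mul_zero]
  rw [hsum, hP] at hc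
  have hd : p ^ a ∣ p ^ m * Nat.factorial m :=
    Int.natCast_dvd_natCast.1 ⟨c, by rw [hc]⟩
  have hne : p ^ m * Nat.factorial m ≠ 0 :=
    Nat.mul_ne_zero (pow_ne_zero _ hp.ne_zero) (Nat.factorial_ne_zero m)
  have hle := (hp.pow_dvd_iff_le_factorization hne).1 hd
  rw [Nat.factorization_mul (pow_ne_zero _ hp.ne_zero) (Nat.factorial_ne_zero m), Finsupp.add_apply,
    hp.factorization_pow, Finsupp.single_eq_same,
    Nat.factorization_factorial hp (b := n + 1)
      (Nat.lt_succ_of_le ((Nat.log_le_self p m).trans (Nat.div_le_self n (p - 1))))] at hle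
  refine hle.trans (le_of_eq ?_)
  rw [Finset.range_eq_Ico, ← Finset.add_sum_Ioo_eq_sum_Ico (Nat.succ_pos n)]
  rw [pow_zero, mul_one, ← hm]
  congr 1
  rw [show Finset.Ico 1 (n + 1) = Finset.Ioo 0 (n + 1) by ext; simp; omega]
  exact Finset.sum_congr rfl fun i _ => by rw [hm, Nat.div_div_eq_div_mul]

theorem galois_fixed_of_mem_adjoin (σ : ℂ ≃+* ℂ) (ζ : ℂ) (hζ : σ ζ = ζ) {x : ℂ}
    (hx : x ∈ IntermediateField.adjoin ℚ ({ζ} : Set ℂ)) : σ x = x := by
  induction hx using IntermediateField.adjoin_induction with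
  | mem x hx => rw [Set.mem_singleton_iff.1 hx, hζ]
  | algebraMap q => exact map_ratCast σ q
  | add x y _ _ hx hy => rw [map_add, hx, hy]
  | inv x _ hx => rw [map_inv₀, hx]
  | mul x y _ _ hx hy => rw [map_mul, hx, hy]

variable {G : Type u} [Group G] [Fintype G]

theorem main (p : ℕ) (hp : p.Prime) (χ : G → ℂ) (hχ : IsCharacter G χ)
    (hfaith : ∀ g : G, χ g = χ 1 → g = 1)
    (hrat : ∃ r : ℕ, 0 < r ∧ ¬ p ∣ r ∧ ∀ g : G, χ g ∈ IntermediateField.adjoin ℚ
      ({Complex.exp (2 * Real.pi * Complex.I / r)} : Set ℂ))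
    (n : ℕ) (hn : charDegree χ = n) :
    (Nat.card G).factorization p ≤ ∑ i ∈ Finset.range (n + 1), n / ((p - 1) * p ^ i) := by
  classical
  have : Fact p.Prime := ⟨hp⟩
  obtain ⟨r, hr0, hpr, hmem⟩ := hrat
  set a := (Nat.card G).factorization p with ha
  obtain ⟨Q⟩ : Nonempty (Sylow p G) := inferInstance
  have hQ : Nat.card (Q : Subgroup G) = p ^ a := Q.card_eq_multiplicity
  have hres := H12.IsCharacter.res hχ (Q : Subgroup G)
  have hdeg : H12.degree (fun q : (Q : Subgroup G) => χ q) = n := by rw [← hn]; rfl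
  have hinv : ∀ (g : (Q : Subgroup G)) (j : ℕ), Nat.Coprime j (p ^ a) →
      χ ((g ^ j : (Q : Subgroup G)) : G) = χ g := by
    intro g j hj
    have hcop : Nat.Coprime r (p ^ a) := ((hp.coprime_iff_not_dvd.2 hpr).symm).pow_right a
    obtain ⟨k, hk1, hk2⟩ := Nat.chineseRemainder hcop 1 j
    have hkc : Nat.Coprime k (r * p ^ a) := by
      refine Nat.Coprime.mul_right ?_ ?_
      · rw [Nat.Coprime, Nat.ModEq.gcd_eq hk1, Nat.gcd_one_left]
      · rw [Nat.Coprime, Nat.ModEq.gcd_eq hk2]; exact hj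
    obtain ⟨σ, hσ⟩ := H25.exists_ringEquiv_pow_rootOfUnity (r * p ^ a) k
      (Nat.mul_pos hr0 (pow_pos hp.pos a)) hkc
    have hζ := Complex.isPrimitiveRoot_exp r hr0.ne'
    have hfix : σ (χ g) = χ g := by
      refine galois_fixed_of_mem_adjoin σ _ ?_ (hmem g)
      rw [hσ _ (by rw [pow_mul, hζ.pow_eq_one, one_pow]), pow_eq_pow_mod k hζ.pow_eq_one, hk1,
        ← pow_eq_pow_mod 1 hζ.pow_eq_one, pow_one]
    have hmap := H25.map_character_apply hres σ k (fun z hz => hσ z (by
      rw [← hQ, mul_comm, pow_mul, hz, one_pow])) g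
    calc χ ((g ^ j : (Q : Subgroup G)) : G) = χ ((g ^ k : (Q : Subgroup G)) : G) := by
          congr 2
          refine pow_eq_pow_iff_modEq.2 ((hk2.symm).of_dvd ?_)
          rw [← hQ]
          exact orderOf_dvd_natCard g
      _ = σ (χ g) := hmap.symm
      _ = χ g := hfix
  have hb := bound hp hQ hres (fun g hg => Subtype.ext (hfaith g hg)) hinv
  rwa [hdeg] at hb

end H17.SchurBound
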