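import Cfsg.Agent.H17.CanonicalLift
import Cfsg.Agent.H17.SchurBound
import Cfsg.Agent.H10.PSolvableDual
import Cfsg.Agent.H1.SchurZassenhausConj

/-!
Schur's bound for the index of `O_p(G)` in a `p`-solvable linear group.
-/

set_option autoImplicit false
set_option linter.unusedSectionVars false

namespace H17.PSolvableBound

open Cfsg Pointwise

universe u

variable {G : Type u} [Group G] {p : ℕ}

/-- A `p`-solvable group has a `p'`-subgroup whose normalizer covers `G/O_p(G)` and whose
centralizer has all its `p`-elements in `O_p(G)`. -/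
theorem exists_structure [Finite G] (hp : p.Prime) (hs : IsPSolvable p G) :
    ∃ L : Subgroup G, ¬ p ∣ Nat.card L ∧
      (∀ g : G, ∃ o ∈ pCore p G, ∃ x ∈ Subgroup.normalizer (L : Set G), g = o * x) ∧
      ∀ x : G, (∃ k : ℕ, x ^ (p ^ k) = 1) → (∀ l ∈ L, x * l = l * x) → x ∈ pCore p G := by
  have : Fact p.Prime := ⟨hp⟩
  set O := pCore p G with hO
  set f := QuotientGroup.mk' O with hf
  set Lb := pPrimeCore p (G ⧸ O) with hLb
  set K := Lb.comap f with hK
  have hKn : K.Normal := H10.pPrimeCore_normal.comap f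
  have hOK : O ≤ K := fun x hx => by
    rw [hK, Subgroup.mem_comap, show f x = 1 from (QuotientGroup.eq_one_iff x).2 hx]
    exact one_mem _
  have hrel : O.relIndex K = Nat.card Lb := by
    rw [hK, ← Subgroup.map_comap_eq_self_of_surjective (QuotientGroup.mk'_surjective O) Lb,
      ← Subgroup.relIndex_ker, QuotientGroup.ker_mk', Subgroup.map_comap_eq_self_of_surjective
        (QuotientGroup.mk'_surjective O) Lb]
  have hcopLb : ¬ p ∣ Nat.card Lb := H10.coprime_iff_not_dvd.1 H10.pPrimeCore_coprime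
  obtain ⟨e, he⟩ := IsPGroup.iff_card.1 (H10.pCore_isPGroup (G := G) (p := p))
  have hcop : (Nat.card (O.subgroupOf K)).Coprime (O.subgroupOf K).index := by
    rw [Nat.card_congr (Subgroup.subgroupOfEquivOfLe hOK).toEquiv, show (O.subgroupOf K).index =
      O.relIndex K from rfl, hrel, he]
    exact Nat.Coprime.pow_left _ ((hp.coprime_iff_not_dvd).2 hcopLb)
  obtain ⟨L', hL'⟩ := Subgroup.exists_right_complement'_of_coprime hcop
  set L := L'.map K.subtype with hL
  have hLK : L ≤ K := Subgroup.map_subtype_le _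
  have hLcard : Nat.card L = Nat.card Lb := by
    rw [hL, Subgroup.card_subtype, ← hL'.symm.index_eq_card]; exact hrel
  have hsup : O ⊔ L = K := by
    refine le_antisymm (sup_le hOK hLK) ?_
    have h1 := congrArg (Subgroup.map K.subtype) hL'.sup_eq_top
    rw [Subgroup.map_sup, ← MonoidHom.range_eq_map, Subgroup.range_subtype,
      Subgroup.map_subgroupOf_eq_of_le hOK] at h1
    exact h1.ge
  refine ⟨L, hLcard ▸ hcopLb, fun g => ?_, fun x ⟨k, hk⟩ hx => ?_⟩
  · have hle : MulAut.conj g • L ≤ O ⊔ L := by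
      rw [hsup]
      rintro _ ⟨l, hl, rfl⟩
      exact hKn.conj_mem l (hLK hl) g
    have hcop' : (Nat.card O).Coprime (Nat.card L) := by
      rw [he, hLcard]; exact Nat.Coprime.pow_left _ ((hp.coprime_iff_not_dvd).2 hcopLb)
    have : Group.IsNilpotent O := (H10.pCore_isPGroup (G := G) (p := p)).isNilpotent
    obtain ⟨d, hd, hdL⟩ := H1.exists_conj_eq_of_solvable_left Subgroup.le_normalizer_of_normal
      hcop' inferInstance hle (H1.card_conj_smul g L)
    refine ⟨d, hd, d⁻¹ * g, ?_, by group⟩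
    rw [Subgroup.mem_normalizer_iff_map_conj_eq]
    show MulAut.conj (d⁻¹ * g) • L = L
    rw [map_mul, mul_smul, ← hdL, ← mul_smul, ← map_mul, inv_mul_cancel, map_one, one_smul]
  · have hmap : L.map f = Lb := by
      have h1 := congrArg (Subgroup.map f) hsup
      rw [Subgroup.map_sup, hK, Subgroup.map_comap_eq_self_of_surjective
        (QuotientGroup.mk'_surjective O), (Subgroup.map_eq_bot_iff O).2 (by rw [hf,
        QuotientGroup.ker_mk']), bot_sup_eq] at h1
      exact h1
    have hcen : f x ∈ Subgroup.centralizer (Lb : Set (G ⧸ O)) := by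
      rw [Subgroup.mem_centralizer_iff, ← hmap]
      rintro _ ⟨l, hl, rfl⟩
      rw [← map_mul, ← map_mul, hx l hl]
    have hmem : f x ∈ Lb := H10.centralizer_pPrimeCore_le (H10.isPSolvable_quotient hs O)
      H10.pCore_quotient_pCore hcen
    have hord : orderOf (f x) = 1 := Nat.eq_one_of_dvd_coprimes
      (Nat.Coprime.pow_left k ((hp.coprime_iff_not_dvd).2 hcopLb))
      (orderOf_dvd_of_pow_eq_one (by rw [← map_pow, hk, map_one]))
      (Subgroup.orderOf_dvd_natCard Lb hmem)
    exact (QuotientGroup.eq_one_iff x).1 (orderOf_eq_one_iff.1 hord)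

/-- Schur's bound for the image of a representation of a `p`-group whose character values are
fixed by the automorphisms fixing roots of unity of order prime to `p`. -/
theorem image_bound {P : Type u} [Group P] [Finite P] (hp : p.Prime) (hP : IsPGroup p P)
    {d : ℕ} (ρ : Representation ℂ P (Fin d → ℂ)) (r : ℕ) (hr : 0 < r) (hpr : ¬ p ∣ r)
    (hfix : ∀ σ : ℂ ≃+* ℂ, (∀ z : ℂ, z ^ r = 1 → σ z = z) →
      ∀ x, σ (ρ.character x) = ρ.character x) :
    ∃ b : ℕ, (MonoidHom.ker (show P →* Module.End ℂ (Fin d → ℂ) from ρ)).index = p ^ b ∧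
      b ≤ ∑ i ∈ Finset.range (d + 1), d / ((p - 1) * p ^ i) := by
  classical
  have : Fact p.Prime := ⟨hp⟩
  let R : P →* Module.End ℂ (Fin d → ℂ) := ρ
  have : Fintype (P ⧸ R.ker) := Fintype.ofFinite _
  let Rb : Representation ℂ (P ⧸ R.ker) (Fin d → ℂ) := QuotientGroup.lift R.ker R le_rfl
  obtain ⟨b, hb⟩ := IsPGroup.iff_card.1 (hP.to_quotient R.ker)
  obtain ⟨a, ha⟩ := IsPGroup.iff_card.1 hP
  refine ⟨b, hb, ?_⟩
  have hdeg : H12.degree Rb.character = d := by
    rw [H12.degree_character, Module.finrank_fin_fun]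
  have hval : ∀ x : P, Rb.character (x : P ⧸ R.ker) = ρ.character x := fun x => rfl
  have hinv : ∀ (g : P ⧸ R.ker) (k : ℕ), Nat.Coprime k (p ^ b) →
      Rb.character (g ^ k) = Rb.character g := by
    intro g k hk
    rcases Nat.eq_zero_or_pos b with hb0 | hb0
    · have : Subsingleton (P ⧸ R.ker) :=
        (Nat.card_eq_one_iff_unique.1 (by rw [hb, hb0, pow_zero])).1
      rw [Subsingleton.elim (g ^ k) g]
    obtain ⟨x, rfl⟩ := QuotientGroup.mk_surjective g
    have hk' : Nat.Coprime k (p ^ a) :=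
      Nat.Coprime.pow_right _ ((Nat.coprime_pow_right_iff hb0 _ _).1 hk)
    rw [← QuotientGroup.mk_pow, hval, hval]
    have hcp : Nat.Coprime r (p ^ a) := ((hp.coprime_iff_not_dvd.2 hpr).symm).pow_right a
    obtain ⟨m, hm1, hm2⟩ := Nat.chineseRemainder hcp 1 k
    have hmc : Nat.Coprime m (r * p ^ a) := by
      refine Nat.Coprime.mul_right ?_ ?_
      · rw [Nat.Coprime, Nat.ModEq.gcd_eq hm1, Nat.gcd_one_left]
      · rw [Nat.Coprime, Nat.ModEq.gcd_eq hm2]; exact hk'
    obtain ⟨σ, hσ⟩ := H25.exists_ringEquiv_pow_rootOfUnity (r * p ^ a) m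
      (Nat.mul_pos hr (pow_pos hp.pos a)) hmc
    have hfix' := hfix σ (fun z hz => by
      rw [hσ z (by rw [pow_mul, hz, one_pow]), pow_eq_pow_mod m hz, hm1, ← pow_eq_pow_mod 1 hz,
        pow_one]) x
    have : Fintype P := Fintype.ofFinite _
    have hmap := H25.map_character_apply (show IsCharacter P ρ.character from ⟨d, ρ, rfl⟩) σ m
      (fun z hz => hσ z (by rw [← ha, mul_comm, pow_mul, hz, one_pow])) x
    calc ρ.character (x ^ k) = ρ.character (x ^ m) := by
          congr 1
          refine pow_eq_pow_iff_modEq.2 ((hm2.symm).of_dvd ?_)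
          rw [← ha]
          exact orderOf_dvd_natCard x
      _ = σ (ρ.character x) := hmap.symm
      _ = ρ.character x := hfix'
  have hfaith' : ∀ g, Rb.character g = Rb.character 1 → g = 1 := by
    intro g hg
    rw [Representation.char_one, H12.character_eq_finrank_iff] at hg
    obtain ⟨x, rfl⟩ := QuotientGroup.mk_surjective g
    exact (QuotientGroup.eq_one_iff x).2 (hg : R x = 1)
  have hbound := H17.SchurBound.bound hp hb (H12.isCharacter_character Rb) hfaith' hinv
  rwa [hdeg] at hbound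

/-- An element killed by an extension of a faithful character commutes with the subgroup. -/
theorem commute_of_mem_ker {X : Type u} [Group X] (M : Subgroup X) [hMn : M.Normal] (j : X →* G)
    {χ : G → ℂ} (hfaith : ∀ g : G, χ g = χ 1 → g = 1) {d : ℕ}
    (ρ : Representation ℂ X (Fin d → ℂ)) (hψM : ∀ m : M, ρ.character m = χ (j m))
    {y : X} (hy : ρ y = 1) (m : X) (hm : m ∈ M) : j y * j m = j m * j y := by
  have hcM : y * m * y⁻¹ * m⁻¹ ∈ M := mul_mem (hMn.conj_mem m hm y) (inv_mem hm)
  have hy' : ρ y⁻¹ = 1 := by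
    have h := map_mul ρ y y⁻¹
    rw [mul_inv_cancel, map_one, hy, one_mul] at h
    exact h.symm
  have h1 : ρ (y * m * y⁻¹ * m⁻¹) = 1 := by
    rw [map_mul, map_mul, map_mul, hy, hy', one_mul, mul_one, ← map_mul, mul_inv_cancel, map_one]
  have h2 : χ (j (y * m * y⁻¹ * m⁻¹)) = χ 1 := by
    have h3 := hψM ⟨_, hcM⟩
    have h4 : ρ.character 1 = χ 1 := by
      have := hψM 1
      rwa [OneMemClass.coe_one, map_one] at this
    rw [← h3, ← h4]
    simp only [Representation.character]
    rw [h1, map_one ρ]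
  have h5 := hfaith _ h2
  rwa [map_mul, map_mul, map_mul, map_inv, map_inv, mul_inv_eq_one, mul_inv_eq_iff_eq_mul] at h5

theorem main [Finite G] (χ : G → ℂ) (hχ : IsCharacter G χ) (hfaith : ∀ g : G, χ g = χ 1 → g = 1)
    (hp : p.Prime) (hs : IsPSolvable p G) :
    ((pCore p G).index).factorization p ≤
      ∑ i ∈ Finset.range (charDegree χ + 1), charDegree χ / ((p - 1) * p ^ i) := by
  classical
  have : Fact p.Prime := ⟨hp⟩
  obtain ⟨L, hcopL, hfrat, hcent⟩ := exists_structure hp hs
  set O := pCore p G with hO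
  set N := Subgroup.normalizer (L : Set G) with hN
  obtain ⟨S⟩ : Nonempty (Sylow p N) := inferInstance
  have hLn : (L.subgroupOf N).Normal := Subgroup.normal_in_normalizer
  set X : Subgroup N := L.subgroupOf N ⊔ (S : Subgroup N) with hX
  have : Fintype X := Fintype.ofFinite _
  set M : Subgroup X := (L.subgroupOf N).subgroupOf X with hM
  have hMn : M.Normal := hLn.subgroupOf X
  have hMidx : ∃ k, M.index = p ^ k := by
    have h1 : M.index = (L.subgroupOf N).relIndex S := by
      show (L.subgroupOf N).relIndex X = _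
      rw [hX, sup_comm, Subgroup.relIndex_sup_right]
    obtain ⟨e, he⟩ := IsPGroup.iff_card.1 S.2
    obtain ⟨k, -, hk⟩ := (Nat.dvd_prime_pow hp).1
      (he ▸ Subgroup.relIndex_dvd_card (L.subgroupOf N) (S : Subgroup N))
    exact ⟨k, h1.trans hk⟩
  have hMcard : Nat.card M = Nat.card L := by
    rw [hM, Nat.card_congr (Subgroup.subgroupOfEquivOfLe (le_sup_left (a := L.subgroupOf N)
      (b := (S : Subgroup N)))).toEquiv]
    exact Nat.card_congr (Subgroup.subgroupOfEquivOfLe Subgroup.le_normalizer).toEquiv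
  let j : X →* G := N.subtype.comp X.subtype
  let φ : M → ℂ := fun m => χ (j (m : X))
  have hφ : IsCharacter M φ := H12.IsCharacter.comp hχ (j.comp M.subtype)
  obtain ⟨ψ, hψ, hψM, hψfix⟩ := H17.CanonicalLift.exists_fixed_lift M hp hMidx
    (hMcard ▸ hcopL) φ hφ (fun x => by
      funext m
      show χ (j (x * (m : X) * x⁻¹)) = χ (j (m : X))
      rw [map_mul, map_mul, map_inv]
      exact H12.IsCharacter.isClassFunction hχ _ _)
  obtain ⟨d, ρ, rfl⟩ := hψ
  let i : (S : Subgroup N) →* X := Subgroup.inclusion le_sup_right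
  let ρS : Representation ℂ (S : Subgroup N) (Fin d → ℂ) :=
    (show X →* Module.End ℂ (Fin d → ℂ) from ρ).comp i
  have hM1 : ρ.character 1 = χ 1 := by
    have h1 := hψM 1
    simp only [φ, OneMemClass.coe_one, map_one] at h1
    exact h1
  have hd : d = charDegree χ := by
    show d = ⌊(χ 1).re⌋₊
    rw [← hM1, Representation.char_one, Module.finrank_fin_fun]
    simp
  obtain ⟨b, hb, hbd⟩ := image_bound hp S.2 ρS (Nat.card L) Nat.card_pos hcopL
    (fun σ hσ x => hψfix σ (fun z hz => hσ z (hMcard ▸ hz)) (i x))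
  rw [hd] at hbd
  refine le_trans ?_ hbd
  let g : (S : Subgroup N) →* G ⧸ O :=
    (QuotientGroup.mk' O).comp (N.subtype.comp (S : Subgroup N).subtype)
  have hker : MonoidHom.ker (show (S : Subgroup N) →* Module.End ℂ (Fin d → ℂ) from ρS) ≤
      g.ker := by
    intro x hx
    refine (QuotientGroup.eq_one_iff _).2 (hcent _ ?_ ?_)
    · obtain ⟨k, hk⟩ := S.2 x
      exact ⟨k, congrArg (fun y : (S : Subgroup N) => ((y : N) : G)) hk⟩
    · intro l hl
      have hl1 : (⟨l, Subgroup.le_normalizer hl⟩ : N) ∈ L.subgroupOf N := hl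
      exact commute_of_mem_ker M j hfaith ρ hψM (y := i x) hx
        ⟨_, Subgroup.mem_sup_left hl1⟩ (Subgroup.mem_subgroupOf.2 hl1)
  have hsurj : Function.Surjective ((QuotientGroup.mk' O).comp N.subtype) := by
    intro q
    obtain ⟨q, rfl⟩ := QuotientGroup.mk_surjective q
    obtain ⟨o, ho, y, hy, rfl⟩ := hfrat q
    exact ⟨⟨y, hy⟩, by
      show (QuotientGroup.mk y : G ⧸ O) = QuotientGroup.mk (o * y)
      rw [QuotientGroup.mk_mul, (QuotientGroup.eq_one_iff o).2 ho, one_mul]⟩
  have hcard := (Sylow.mapSurjective hsurj S).card_eq_multiplicity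
  have hdvd : p ^ (O.index.factorization p) ∣ p ^ b := by
    have h1 : g.ker.index =
        Nat.card ((S : Subgroup N).map ((QuotientGroup.mk' O).comp N.subtype)) := by
      rw [Subgroup.index_ker]
      rw [show g = ((QuotientGroup.mk' O).comp N.subtype).comp (S : Subgroup N).subtype from rfl,
        MonoidHom.range_comp, Subgroup.range_subtype]
    have h2 := Subgroup.index_dvd_of_le hker
    rw [h1, hb] at h2
    rw [Subgroup.index_eq_card, ← hcard]
    exact h2
  exact (Nat.pow_dvd_pow_iff_le_right hp.one_lt).1 hdvd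

end H17.PSolvableBound
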