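import Cfsg.Agent.H12.Orth
import Cfsg.Agent.H12.Induction
import Cfsg.Agent.H12.Linear
import Cfsg.Agent.H13.Correspondence
import Cfsg.Prelude.Def_Blocks

/-!
Finite primitive linear groups of degree two: the index of the centre is 12, 24 or 60.
-/

set_option autoImplicit false
set_option linter.unusedSectionVars false
set_option linter.style.haveILetI false

namespace H17.PrimTwo

open Cfsg Finset Module
open scoped ComplexConjugate

theorem arith_three {n a b c m₁ m₂ m₃ : ℕ} (ha : a ≤ b) (hb : b ≤ c) (ha2 : 2 ≤ a)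
    (hm₁ : 2 ≤ m₁) (hm₃ : 2 ≤ m₃)
    (h1 : 2 * (m₁ * a) = n) (h2 : 2 * (m₂ * b) = n) (h3 : 2 * (m₃ * c) = n)
    (hsum : m₁ * (a - 1) + m₂ * (b - 1) + m₃ * (c - 1) = n - 1) :
    n = 12 ∨ n = 24 ∨ n = 60 := by
  have e1 : m₁ * (a - 1) + m₁ = m₁ * a := by
    nth_rewrite 2 [← Nat.mul_one m₁]; rw [← Nat.mul_add]; congr 1; omega
  have e2 : m₂ * (b - 1) + m₂ = m₂ * b := by
    nth_rewrite 2 [← Nat.mul_one m₂]; rw [← Nat.mul_add]; congr 1; omega
  have e3 : m₃ * (c - 1) + m₃ = m₃ * c := by
    nth_rewrite 2 [← Nat.mul_one m₃]; rw [← Nat.mul_add]; congr 1; omega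
  have hn : 0 < n := by
    rw [← h1]; have := Nat.mul_pos (show 0 < m₁ by omega) (show 0 < a by omega); omega
  -- `m₁ + m₂ + m₃ = n / 2 + 1`
  have hm : 2 * (m₁ + m₂ + m₃) = n + 2 := by omega
  have ha' : a = 2 := by
    by_contra hne
    have k1 : m₁ * 3 ≤ m₁ * a := Nat.mul_le_mul_left _ (by omega)
    have k2 : m₂ * 3 ≤ m₂ * b := Nat.mul_le_mul_left _ (by omega)
    have k3 : m₃ * 3 ≤ m₃ * c := Nat.mul_le_mul_left _ (by omega)
    omega
  subst ha'
  have hb' : b = 2 ∨ b = 3 := by
    by_contra hne
    have k2 : m₂ * 4 ≤ m₂ * b := Nat.mul_le_mul_left _ (by omega)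
    have k3 : m₃ * 4 ≤ m₃ * c := Nat.mul_le_mul_left _ (by omega)
    omega
  rcases hb' with rfl | rfl
  · omega
  have hc' : c ≤ 5 := by
    by_contra hne
    have k3 : m₃ * 6 ≤ m₃ * c := Nat.mul_le_mul_left _ (by omega)
    omega
  interval_cases c <;> omega

theorem arith {ι : Type*} [Fintype ι] (n : ℕ) (hn : 2 ≤ n) (a s m : ι → ℕ) (ha : ∀ i, 2 ≤ a i)
    (hs : ∀ i, s i = 1 ∨ s i = 2) (hm : ∀ i, 2 ≤ m i) (hprod : ∀ i, s i * (m i * a i) = n)
    (hsum : ∑ i, m i * (a i - 1) = n - 1) : n = 12 ∨ n = 24 ∨ n = 60 := by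
  classical
  have hterm : ∀ i, n ≤ 4 * (m i * (a i - 1)) ∧ (s i = 1 → n ≤ 2 * (m i * (a i - 1))) := by
    intro i
    have h1 : m i * a i ≤ m i * (2 * (a i - 1)) :=
      Nat.mul_le_mul_left _ (by have := ha i; omega)
    have h2 : m i * (2 * (a i - 1)) = 2 * (m i * (a i - 1)) := by ring
    have h3 := hprod i
    rcases hs i with h | h <;> rw [h] at h3 <;> constructor <;> omega
  have hcard : (Finset.univ : Finset ι).card ≤ 3 := by
    by_contra hc
    have h4 : (Finset.univ : Finset ι).card • n ≤ ∑ i, 4 * (m i * (a i - 1)) :=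
      Finset.card_nsmul_le_sum _ _ _ fun i _ => (hterm i).1
    rw [← Finset.mul_sum, hsum, smul_eq_mul] at h4
    have : 4 * n ≤ (Finset.univ : Finset ι).card * n := Nat.mul_le_mul_right _ (by omega)
    omega
  have e : ∀ i, m i * (a i - 1) + m i = m i * a i := fun i => by
    conv_lhs => arg 2; rw [← Nat.mul_one (m i)]
    rw [← Nat.mul_add]; congr 1; have := ha i; omega
  interval_cases hk : (Finset.univ : Finset ι).card
  · rw [Finset.card_eq_zero] at hk
    rw [hk, Finset.sum_empty] at hsum
    omega
  · obtain ⟨i, hi⟩ := Finset.card_eq_one.1 hk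
    rw [hi, Finset.sum_singleton] at hsum
    have hp := hprod i; have := e i; have := hm i
    have := Nat.mul_le_mul_left (m i) (ha i)
    rcases hs i with h | h <;> rw [h] at hp <;> omega
  · obtain ⟨i, j, hij, hi⟩ := Finset.card_eq_two.1 hk
    rw [hi, Finset.sum_pair hij] at hsum
    have := e i; have := e j; have hi1 := hprod i; have hj1 := hprod j
    have := hm i; have := hm j
    have k1 : m i * 2 ≤ m i * a i := Nat.mul_le_mul_left _ (ha i)
    have k2 : m j * 2 ≤ m j * a j := Nat.mul_le_mul_left _ (ha j)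
    -- the maximal abelian subgroup with `s = 1` has `a ≤ 3`
    have key : ∀ u v : ι, s u = 1 → s v = 2 → m u * (a u - 1) + m v * (a v - 1) = n - 1 →
        n = 12 ∨ n = 24 ∨ n = 60 := by
      intro u v hu hv h
      have := e u; have := e v; have hu1 := hprod u; have hv1 := hprod v
      rw [hu, one_mul] at hu1; rw [hv] at hv1
      have := hm u; have := hm v
      have kv : m v * 2 ≤ m v * a v := Nat.mul_le_mul_left _ (ha v)
      have hu4 : a u ≤ 3 := by
        by_contra hne
        have : m u * 4 ≤ m u * a u := Nat.mul_le_mul_left _ (by omega)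
        omega
      have := ha u
      interval_cases hau : a u
      · omega
      · have hv3 : a v ≤ 2 := by
          by_contra hne
          have : m v * 3 ≤ m v * a v := Nat.mul_le_mul_left _ (by omega)
          omega
        have := ha v
        interval_cases hav : a v
        omega
    rcases hs i with h | h <;> rcases hs j with h' | h'
    · rw [h, one_mul] at hi1; rw [h', one_mul] at hj1; omega
    · exact key i j h h' hsum
    · exact key j i h' h (by omega)
    · rw [h] at hi1; rw [h'] at hj1; omega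
  · obtain ⟨i, j, l, hij, hil, hjl, hi⟩ := Finset.card_eq_three.1 hk
    rw [hi, Finset.sum_insert (by simp [hij, hil]), Finset.sum_pair hjl] at hsum
    have t1 := hterm i; have t2 := hterm j; have t3 := hterm l
    have hsi : s i = 2 := (hs i).resolve_left fun h => by have := t1.2 h; omega
    have hsj : s j = 2 := (hs j).resolve_left fun h => by have := t2.2 h; omega
    have hsl : s l = 2 := (hs l).resolve_left fun h => by have := t3.2 h; omega
    have pi := hprod i; have pj := hprod j; have pl := hprod l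
    rw [hsi] at pi; rw [hsj] at pj; rw [hsl] at pl
    rcases le_total (a i) (a j) with h1 | h1 <;> rcases le_total (a j) (a l) with h2 | h2 <;>
      rcases le_total (a i) (a l) with h3 | h3
    all_goals first
      | exact arith_three h1 h2 (ha _) (hm _) (hm _) pi pj pl (by omega)
      | exact arith_three h3 h2 (ha _) (hm _) (hm _) pi pl pj (by omega)
      | exact arith_three h1 h3 (ha _) (hm _) (hm _) pj pi pl (by omega)
      | exact arith_three h2 h3 (ha _) (hm _) (hm _) pj pl pi (by omega)
      | exact arith_three h3 h1 (ha _) (hm _) (hm _) pl pi pj (by omega)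
      | exact arith_three h2 h1 (ha _) (hm _) (hm _) pl pj pi (by omega)

universe u

variable {G : Type u} [Group G] [Fintype G]

/-- Operators commuting with a diagonal operator with distinct eigenvalues are diagonal. -/
theorem diag_of_commute {V : Type*} [AddCommGroup V] [Module ℂ V] (b : Basis (Fin 2) ℂ V)
    {T S : Module.End ℂ V} {μ : Fin 2 → ℂ} (hT : ∀ i, T (b i) = μ i • b i) (hμ : μ 0 ≠ μ 1)
    (hcomm : T * S = S * T) : ∃ ν : Fin 2 → ℂ, ∀ i, S (b i) = ν i • b i := by
  refine ⟨fun i => b.repr (S (b i)) i, fun i => ?_⟩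
  have h : T (S (b i)) = μ i • S (b i) := by
    rw [← Module.End.mul_apply, hcomm, Module.End.mul_apply, hT, map_smul]
  have hrepr : ∀ (v : V) (j : Fin 2), b.repr (T v) j = μ j * b.repr v j := by
    intro v j
    have hTv : T v = ∑ i, (μ i * b.repr v i) • b i := by
      conv_lhs => rw [← b.sum_repr v]
      simp only [map_sum, map_smul, hT, smul_smul, mul_comm]
    rw [hTv, b.repr_sum_self]
  apply b.ext_elem
  intro j
  rw [map_smul, Finsupp.smul_apply, Basis.repr_self]
  rcases eq_or_ne j i with rfl | hne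
  · simp
  · have h2 := hrepr (S (b i)) j
    rw [h, map_smul, Finsupp.smul_apply, smul_eq_mul] at h2
    have hne' : μ i ≠ μ j := by
      fin_cases i <;> fin_cases j <;> first | exact hμ | exact hμ.symm | exact absurd rfl hne
    rw [Finsupp.single_eq_of_ne hne, smul_zero]
    exact (mul_eq_zero.1 (by linear_combination h2 :
      (μ i - μ j) * b.repr (S (b i)) j = 0)).resolve_left (sub_ne_zero.2 hne')

open scoped Classical in
theorem main (χ : IrrCharacter G)
    (hfaith : ∀ g : G, (χ : G → ℂ) g = (χ : G → ℂ) 1 → g = 1)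
    (h2 : charDegree (χ : G → ℂ) = 2)
    (hprim : ∀ H : Subgroup G, H ≠ ⊤ → ∀ θ : H → ℂ, IsCharacter H θ →
      (χ : G → ℂ) ≠ indFun H θ) :
    (Subgroup.center G).index = 12 ∨ (Subgroup.center G).index = 24 ∨
      (Subgroup.center G).index = 60 := by
  obtain ⟨d, ρ, hρi, hρ⟩ := χ.2
  have := hρi
  have hd : finrank ℂ (Fin d → ℂ) = 2 := by
    rw [← h2, ← hρ]; exact (H12.degree_character ρ).symm
  have hinj : Function.Injective ρ := by
    intro a b hab
    refine mul_inv_eq_one.1 (hfaith _ ?_)
    rw [← hρ, Representation.char_one]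
    refine (H12.character_eq_finrank_iff ρ _).2 ?_
    rw [map_mul, hab, ← map_mul, mul_inv_cancel, map_one]
    rfl
  set Z := Subgroup.center G with hZ
  -- eigenbases of noncentral elements
  have heig : ∀ a : G, a ∉ Z → ∃ (b : Basis (Fin 2) ℂ (Fin d → ℂ)) (μ : Fin 2 → ℂ),
      (∀ i, ρ a (b i) = μ i • b i) ∧ μ 0 ≠ μ 1 := by
    intro a ha
    obtain ⟨b, μ, hb⟩ := H12.exists_eigenbasis (orderOf_pos a).ne' (H12.rep_pow_orderOf ρ a)
    let e := finCongr hd
    refine ⟨b.reindex e, μ ∘ e.symm, fun i => by simp [(hb _).1], fun hμ => ha ?_⟩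
    rw [hZ, Subgroup.mem_center_iff]
    intro g
    apply hinj
    have hs : ρ a = μ (e.symm 0) • (1 : Module.End ℂ (Fin d → ℂ)) := by
      refine (b.reindex e).ext fun i => ?_
      rw [Basis.reindex_apply, (hb _).1, LinearMap.smul_apply, Module.End.one_apply]
      congr 1
      fin_cases i
      · rfl
      · exact hμ.symm
    rw [map_mul, map_mul, hs, mul_smul_comm, smul_mul_assoc, one_mul, mul_one]
  have hdist : ∀ (b : Basis (Fin 2) ℂ (Fin d → ℂ)) (c : G) (ν : Fin 2 → ℂ), c ∉ Z →
      (∀ i, ρ c (b i) = ν i • b i) → ν 0 ≠ ν 1 := by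
    intro b c ν hc hν h
    apply hc
    rw [hZ, Subgroup.mem_center_iff]
    intro g
    apply hinj
    have hs : ρ c = ν 0 • (1 : Module.End ℂ (Fin d → ℂ)) := by
      refine b.ext fun i => ?_
      rw [hν, LinearMap.smul_apply, Module.End.one_apply]
      congr 1
      fin_cases i
      · rfl
      · exact h.symm
    rw [map_mul, map_mul, hs, mul_smul_comm, smul_mul_assoc, one_mul, mul_one]
  let C : G → Subgroup G := fun a => Subgroup.centralizer ({a} : Set G)
  have hdiag : ∀ (b : Basis (Fin 2) ℂ (Fin d → ℂ)) (a : G) (μ : Fin 2 → ℂ),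
      (∀ i, ρ a (b i) = μ i • b i) → μ 0 ≠ μ 1 →
      ∀ c ∈ C a, ∃ ν : Fin 2 → ℂ, ∀ i, ρ c (b i) = ν i • b i := by
    intro b a μ hμ hne c hc
    refine diag_of_commute b hμ hne ?_
    rw [← map_mul, ← map_mul]
    exact congrArg ρ (Subgroup.mem_centralizer_singleton_iff.1 hc).symm
  have habel : ∀ a : G, a ∉ Z → ∀ c ∈ C a, ∀ c' ∈ C a, c * c' = c' * c := by
    intro a ha c hc c' hc'
    obtain ⟨b, μ, hμ, hne⟩ := heig a ha
    obtain ⟨ν, hν⟩ := hdiag b a μ hμ hne c hc
    obtain ⟨ν', hν'⟩ := hdiag b a μ hμ hne c' hc'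
    refine hinj (b.ext fun i => ?_)
    rw [map_mul, map_mul, Module.End.mul_apply, Module.End.mul_apply, hν', map_smul, hν,
      map_smul, hν', smul_comm]
  have hsame : ∀ a : G, a ∉ Z → ∀ c ∈ C a, c ∉ Z → C c = C a := by
    intro a ha c hc hcZ
    have hac : a ∈ C c := by
      rw [Subgroup.mem_centralizer_singleton_iff] at hc ⊢
      exact hc.symm
    refine le_antisymm (fun g hg => ?_) (fun g hg => ?_)
    · rw [Subgroup.mem_centralizer_singleton_iff]
      exact habel c hcZ g hg a hac
    · rw [Subgroup.mem_centralizer_singleton_iff]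
      exact habel a ha g hg c hc
  have hZC : ∀ a : G, Z ≤ C a := fun a z hz => by
    rw [Subgroup.mem_centralizer_singleton_iff]
    exact (Subgroup.mem_center_iff.1 hz a).symm
  -- the maximal abelian subgroups
  let 𝒜 := {A : Subgroup G // ∃ a, a ∉ Z ∧ A = C a}
  have hmap : ∀ (g a : G), a ∉ Z →
      g * a * g⁻¹ ∉ Z ∧ (C a).map (MulAut.conj g).toMonoidHom = C (g * a * g⁻¹) := by
    intro g a ha
    refine ⟨fun h => ha ?_, ?_⟩
    · have := (inferInstance : (Subgroup.center G).Normal).conj_mem _ h g⁻¹
      simpa [mul_assoc] using this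
    · ext y
      rw [Subgroup.mem_map_equiv, MulAut.conj_symm_apply, Subgroup.mem_centralizer_singleton_iff,
        Subgroup.mem_centralizer_singleton_iff]
      constructor <;> intro h
      · have := congrArg (fun z => g * z * g⁻¹) h
        simpa [mul_assoc] using this
      · have := congrArg (fun z => g⁻¹ * z * g) h
        simpa [mul_assoc] using this
  letI act : MulAction G 𝒜 :=
    { smul := fun g A => ⟨A.1.map (MulAut.conj g).toMonoidHom, by
        obtain ⟨a, ha, hA⟩ := A.2
        exact ⟨g * a * g⁻¹, (hmap g a ha).1, by rw [hA]; exact (hmap g a ha).2⟩⟩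
      one_smul := fun A => Subtype.ext (by
        show A.1.map (MulAut.conj 1).toMonoidHom = A.1
        ext y; simp)
      mul_smul := fun g g' A => Subtype.ext (by
        show A.1.map (MulAut.conj (g * g')).toMonoidHom =
          (A.1.map (MulAut.conj g').toMonoidHom).map (MulAut.conj g).toMonoidHom
        rw [Subgroup.map_map, map_mul]; rfl) }
  have hstab : ∀ A : 𝒜, MulAction.stabilizer G A = Subgroup.normalizer ((A.1 : Subgroup G) : Set G) := by
    intro A
    ext g
    rw [MulAction.mem_stabilizer_iff, Subgroup.mem_normalizer_iff, Subtype.ext_iff]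
    show A.1.map (MulAut.conj g).toMonoidHom = A.1 ↔ _
    rw [SetLike.ext_iff]
    refine ⟨fun h x => ?_, fun h x => ?_⟩
    · rw [← h (g * x * g⁻¹), Subgroup.mem_map_equiv, MulAut.conj_symm_apply]
      rw [show g⁻¹ * (g * x * g⁻¹) * g = x by group]
    · rw [Subgroup.mem_map_equiv, MulAut.conj_symm_apply, h]
      rw [show g * (g⁻¹ * x * g) * g⁻¹ = x by group]
  have hAprop : ∀ A : 𝒜, Z ≤ A.1 ∧ A.1 ≠ Z ∧
      ((A.1.subgroupOf (Subgroup.normalizer ((A.1 : Subgroup G) : Set G))).index = 1 ∨
       (A.1.subgroupOf (Subgroup.normalizer ((A.1 : Subgroup G) : Set G))).index = 2) := by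
    rintro ⟨A, a, ha, rfl⟩
    have haA : a ∈ C a := Subgroup.mem_centralizer_singleton_iff.2 rfl
    refine ⟨hZC a, fun h => ha (h ▸ haA), ?_⟩
    obtain ⟨b, μ, hμ, hne⟩ := heig a ha
    set N := Subgroup.normalizer ((C a : Subgroup G) : Set G)
    let f : (↥N ⧸ (C a).subgroupOf N) → G := Quotient.lift (fun g : N => (g : G) * a * (g : G)⁻¹)
      fun g g' h => by
        have h' := Subgroup.mem_subgroupOf.1 (QuotientGroup.leftRel_apply.1 h)
        rw [Subgroup.mem_centralizer_singleton_iff] at h'
        simp only [Subgroup.coe_mul, InvMemClass.coe_inv] at h'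
        calc (g : G) * a * (g : G)⁻¹
            = (g : G) * (a * ((g : G)⁻¹ * g')) * ((g' : G))⁻¹ := by group
          _ = (g : G) * (((g : G)⁻¹ * g') * a) * ((g' : G))⁻¹ := by rw [h']
          _ = _ := by group
    have hfinj : Function.Injective f := by
      intro x y hxy
      induction x using QuotientGroup.induction_on with | _ g => ?_
      induction y using QuotientGroup.induction_on with | _ g' => ?_
      refine QuotientGroup.eq.2 (Subgroup.mem_subgroupOf.2 ?_)
      rw [Subgroup.mem_centralizer_singleton_iff]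
      have hxy : (g : G) * a * (g : G)⁻¹ = (g' : G) * a * (g' : G)⁻¹ := hxy
      simp only [Subgroup.coe_mul, InvMemClass.coe_inv]
      calc (g : G)⁻¹ * g' * a = (g : G)⁻¹ * ((g' : G) * a * (g' : G)⁻¹) * g' := by group
        _ = (g : G)⁻¹ * ((g : G) * a * (g : G)⁻¹) * g' := by rw [hxy]
        _ = _ := by group
    -- a conjugate in `C a` is determined by one eigenvalue, which is one of two
    have key : ∀ g : N, ∃ ν : Fin 2 → ℂ,
        (∀ i, ρ ((g : G) * a * (g : G)⁻¹) (b i) = ν i • b i) ∧
          ((ν 0 = μ 0 ∧ ν 1 = μ 1) ∨ (ν 0 = μ 1 ∧ ν 1 = μ 0)) := by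
      intro g
      have hmem : (g : G) * a * (g : G)⁻¹ ∈ C a := (Subgroup.mem_normalizer_iff.1 g.2 a).1 haA
      obtain ⟨ν, hν⟩ := hdiag b a μ hμ hne _ hmem
      refine ⟨ν, hν, ?_⟩
      have hνne := hdist b _ ν (hmap g a ha).1 hν
      have hval : ∀ i, ∃ j, ν j = μ i := by
        intro i
        set v := ρ (g : G) (b i) with hv
        have hvx : ρ ((g : G) * a * (g : G)⁻¹) v = μ i • v := by
          rw [hv, ← Module.End.mul_apply, ← map_mul, inv_mul_cancel_right, map_mul,
            Module.End.mul_apply, hμ, map_smul]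
        have hv0 : v ≠ 0 := fun h0 => by
          have h1 := congrArg (ρ (g : G)⁻¹) h0
          rw [hv, ← Module.End.mul_apply, ← map_mul, inv_mul_cancel, map_one,
            Module.End.one_apply, map_zero] at h1
          exact b.ne_zero i h1
        obtain ⟨j, hj⟩ : ∃ j, b.repr v j ≠ 0 := by
          by_contra hall
          push Not at hall
          exact hv0 (b.repr.map_eq_zero_iff.1 (Finsupp.ext hall))
        refine ⟨j, ?_⟩
        have h1 := congrArg (fun w => b.repr w j) hvx
        have hTv : ρ ((g : G) * a * (g : G)⁻¹) v = ∑ k, (ν k * b.repr v k) • b k := by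
          conv_lhs => rw [← b.sum_repr v]
          simp only [map_sum, map_smul, hν, smul_smul, mul_comm]
        simp only [hTv, b.repr_sum_self, map_smul, Finsupp.smul_apply, smul_eq_mul] at h1
        exact mul_right_cancel₀ hj h1
      obtain ⟨j0, h0⟩ := hval 0
      obtain ⟨j1, h1⟩ := hval 1
      fin_cases j0 <;> fin_cases j1
      · exact absurd (h0.symm.trans h1) hne
      · exact Or.inl ⟨h0, h1⟩
      · exact Or.inr ⟨h1, h0⟩
      · exact absurd (h0.symm.trans h1) hne
    choose ν hν hνcase using key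
    have hidx : ((C a).subgroupOf N).index ≤ 2 := by
      rw [Subgroup.index]
      let F : (↥N ⧸ (C a).subgroupOf N) → Bool := fun x => decide (ν x.out 0 = μ 0)
      refine (Nat.card_le_card_of_injective F fun x y hxy => hfinj ?_).trans (by simp)
      have hx : f x = (x.out : G) * a * (x.out : G)⁻¹ := by
        conv_lhs => rw [← QuotientGroup.out_eq' x]
        rfl
      have hy : f y = (y.out : G) * a * (y.out : G)⁻¹ := by
        conv_lhs => rw [← QuotientGroup.out_eq' y]
        rfl
      rw [hx, hy]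
      refine hinj (b.ext fun i => ?_)
      rw [hν, hν]
      have hiff : ν x.out 0 = μ 0 ↔ ν y.out 0 = μ 0 := decide_eq_decide.1 hxy
      congr 1
      rcases hνcase x.out with ⟨p0, p1⟩ | ⟨p0, p1⟩ <;>
        rcases hνcase y.out with ⟨q0, q1⟩ | ⟨q0, q1⟩
      · fin_cases i <;> simp [p0, p1, q0, q1]
      · exact absurd ((hiff.1 p0).symm.trans q0) hne
      · exact absurd ((hiff.2 q0).symm.trans p0) hne
      · fin_cases i <;> simp [p0, p1, q0, q1]
    have : ((C a).subgroupOf N).index ≠ 0 := Subgroup.index_ne_zero_of_finite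
    show ((C a).subgroupOf N).index = 1 ∨ ((C a).subgroupOf N).index = 2
    omega
  -- none of them is normal
  have hnotnormal : ∀ A : 𝒜, Subgroup.normalizer ((A.1 : Subgroup G) : Set G) ≠ ⊤ := by
    rintro ⟨A, a, ha, rfl⟩ htop
    have hA := (hAprop ⟨C a, a, ha, rfl⟩).2.2
    have hidx : (C a).index = 1 ∨ (C a).index = 2 := by
      simp only at hA
      rw [htop] at hA
      rwa [← Subgroup.relIndex, Subgroup.relIndex_top_right] at hA
    rcases hidx with h1 | h1
    · apply ha
      rw [hZ, Subgroup.mem_center_iff]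
      intro g
      exact Subgroup.mem_centralizer_singleton_iff.1
        ((Subgroup.index_eq_one.1 h1).symm.le (Subgroup.mem_top g) : g ∈ C a)
    -- a constituent of the restriction induces to `χ`
    have hres := H12.IsCharacter.res (H12.isCharacter_irr χ) (C a)
    obtain ⟨c, hc⟩ := H12.IsCharacter.exists_mult hres
    obtain ⟨lam, hlam⟩ : ∃ lam, c lam ≠ 0 := by
      by_contra hall
      push Not at hall
      have h0 := congrFun hc 1
      simp only [hall, Nat.cast_zero, zero_smul, Finset.sum_const_zero, Pi.zero_apply] at h0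
      exact H12.irr_apply_one_ne_zero χ (by simpa using h0)
    have hlam1 : (lam : C a → ℂ) 1 = 1 := by
      exact H12.irr_apply_one_of_comm (fun p q => Subtype.ext (habel a ha p p.2 q q.2)) lam
    have hInd := H12.IsCharacter.indFun (H12.isCharacter_irr lam) (H := C a)
    have hne0 : classInner (indFun (C a) (lam : C a → ℂ)) (χ : G → ℂ) ≠ 0 := by
      rw [H12.classInner_indFun _ _ (H12.irr_isClassFunction χ), ← H12.conj_classInner, hc,
        H12.classInner_sum_smul_irr, Complex.conj_natCast]
      exact_mod_cast hlam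
    have hsub := H13.isCharacter_sub_irr hInd χ.2 hne0
    refine hprim (C a) (fun h => ?_) _ (H12.isCharacter_irr lam) (funext fun g => ?_)
    · rw [h, Subgroup.index_top] at h1; omega
    have hdeg : H12.degree (indFun (C a) (lam : C a → ℂ) - (χ : G → ℂ)) = 0 := by
      have := H12.IsCharacter.apply_one_eq_degree hsub
      rw [Pi.sub_apply, H12.indFun_one, h1, hlam1, H12.irr_apply_one,
        show H12.degree (χ : G → ℂ) = 2 from h2, Nat.cast_ofNat, mul_one, sub_self] at this
      exact_mod_cast this.symm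
    have hb := H12.IsCharacter.norm_le hsub g
    rw [hdeg, Nat.cast_zero, norm_le_zero_iff, Pi.sub_apply, sub_eq_zero] at hb
    exact hb.symm
  -- counting
  have hZne : ∃ a, a ∉ Z := by
    by_contra hall
    push Not at hall
    have := H12.irr_apply_one_of_comm (fun x y => Subgroup.mem_center_iff.1 (hall y) x) χ
    rw [H12.irr_apply_one, show H12.degree (χ : G → ℂ) = 2 from h2] at this
    norm_num at this
  obtain ⟨a₀, ha₀⟩ := hZne
  have hz : 0 < Nat.card Z := Nat.card_pos
  set n := Z.index with hn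
  have hn2 : 2 ≤ n := by
    have h1 : n ≠ 0 := Subgroup.index_ne_zero_of_finite
    have h2' : n ≠ 1 := fun h => ha₀ ((Subgroup.index_eq_one.1 h).symm.le (Subgroup.mem_top a₀))
    omega
  let Q := Quotient (MulAction.orbitRel G 𝒜)
  let aa : Q → ℕ := fun q => Z.relIndex q.out.1
  let ss : Q → ℕ := fun q =>
    (q.out.1.subgroupOf (Subgroup.normalizer ((q.out.1 : Subgroup G) : Set G))).index
  let mm : Q → ℕ := fun q => (Subgroup.normalizer ((q.out.1 : Subgroup G) : Set G)).index
  refine arith n hn2 aa ss mm (fun q => ?_) (fun q => (hAprop q.out).2.2) (fun q => ?_)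
    (fun q => ?_) ?_
  · have h1 : aa q ≠ 0 := Subgroup.index_ne_zero_of_finite
    have h2' : aa q ≠ 1 := fun h => (hAprop q.out).2.1
      (le_antisymm (Subgroup.relIndex_eq_one.1 h) (hAprop q.out).1)
    show 2 ≤ aa q
    omega
  · have h1 : mm q ≠ 0 := Subgroup.index_ne_zero_of_finite
    have h2' : mm q ≠ 1 := fun h => hnotnormal q.out (Subgroup.index_eq_one.1 h)
    show 2 ≤ mm q
    omega
  · show (q.out.1.relIndex _) * (_ * Z.relIndex q.out.1) = n
    rw [← mul_assoc, Subgroup.relIndex_mul_index Subgroup.le_normalizer, mul_comm,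
      Subgroup.relIndex_mul_index (hAprop q.out).1]
  · -- the nonidentity part is partitioned
    have hpart : Nat.card G - Nat.card Z = ∑ A : 𝒜, (Nat.card A.1 - Nat.card Z) := by
      have h1 : ∀ A : 𝒜, Nat.card A.1 - Nat.card Z =
          (Finset.univ.filter fun g : G => g ∈ A.1 ∧ g ∉ Z).card := by
        intro A
        rw [Finset.filter_and_not, Finset.card_sdiff_of_subset, Nat.card_eq_fintype_card,
          Nat.card_eq_fintype_card, Fintype.card_subtype, Fintype.card_subtype]
        intro g hg
        simp only [mem_filter, mem_univ, true_and] at hg ⊢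
        exact (hAprop A).1 hg
      rw [Finset.sum_congr rfl fun A _ => h1 A, ← Finset.card_biUnion]
      · rw [Nat.card_eq_fintype_card, Nat.card_eq_fintype_card, Fintype.card_subtype,
          ← Finset.card_univ, ← Finset.card_sdiff_of_subset (Finset.subset_univ _)]
        congr 1
        ext g
        simp only [Finset.mem_sdiff, mem_filter, mem_univ, true_and, Finset.mem_biUnion]
        constructor
        · exact fun hg => ⟨⟨C g, g, hg, rfl⟩, Subgroup.mem_centralizer_singleton_iff.2 rfl, hg⟩
        · rintro ⟨A, -, hg⟩; exact hg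
      · intro A _ B _ hAB
        refine Finset.disjoint_left.2 fun g hgA hgB => hAB (Subtype.ext ?_)
        simp only [mem_filter, mem_univ, true_and] at hgA hgB
        obtain ⟨a, ha, hA⟩ := A.2
        obtain ⟨b, hb, hB⟩ := B.2
        rw [hA, hB, ← hsame a ha g (hA ▸ hgA.1) hgA.2, hsame b hb g (hB ▸ hgB.1) hgB.2]
    have hconst : ∀ (q : Q) (A : 𝒜), Quotient.mk'' A = q → Nat.card A.1 = Nat.card q.out.1 := by
      intro q A hA
      have : Quotient.mk'' q.out = q := Quotient.out_eq' q
      obtain ⟨g, hg⟩ := Quotient.exact' (hA.trans this.symm)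
      rw [← hg]
      exact Nat.card_congr ((q.out.1.equivMapOfInjective _ (MulAut.conj g).injective).symm.toEquiv)
    rw [← Finset.sum_fiberwise Finset.univ (fun A : 𝒜 => (Quotient.mk'' A : Q))] at hpart
    have hfib : ∀ q : Q, ∑ A ∈ Finset.univ.filter (fun A : 𝒜 => (Quotient.mk'' A : Q) = q),
        (Nat.card A.1 - Nat.card Z) = Nat.card Z * (mm q * (aa q - 1)) := by
      intro q
      rw [Finset.sum_congr rfl (g := fun _ => Nat.card q.out.1 - Nat.card Z)
        (fun A hA => by rw [hconst q A (mem_filter.1 hA).2]), Finset.sum_const, smul_eq_mul]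
      have hcard : (Finset.univ.filter fun A : 𝒜 => (Quotient.mk'' A : Q) = q).card = mm q := by
        show _ = (Subgroup.normalizer _).index
        rw [← hstab q.out, MulAction.index_stabilizer, ← Set.ncard_coe_finset]
        congr 1
        ext A
        simp only [Finset.coe_filter, mem_univ, true_and, Set.mem_ofPred_eq]
        conv_lhs => rw [show q = (Quotient.mk'' q.out : Q) from (Quotient.out_eq' q).symm]
        exact Quotient.eq''.trans MulAction.orbitRel_apply
      have hA : Nat.card q.out.1 = Nat.card Z * aa q :=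
        (Subgroup.relIndex_bot_left q.out.1).symm.trans
          ((Subgroup.relIndex_mul_relIndex ⊥ Z q.out.1 bot_le (hAprop q.out).1).symm.trans
            (by rw [Subgroup.relIndex_bot_left]))
      rw [hcard, hA, Nat.mul_sub, Nat.mul_sub, mul_one, Nat.mul_sub]
      ring_nf
    rw [Finset.sum_congr rfl fun q _ => hfib q, ← Finset.mul_sum, ← Z.card_mul_index, ← hn,
      show Nat.card Z * n - Nat.card Z = Nat.card Z * (n - 1) by rw [Nat.mul_sub, mul_one]] at hpart
    exact (Nat.eq_of_mul_eq_mul_left hz hpart).symm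

end H17.PrimTwo
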