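import Cfsg.Agent.H17.RankOneIrr
import Cfsg.Agent.H12.Linear

/-!
When every fixed character of a torus comes from a linear character of the group.
-/

set_option autoImplicit false
set_option linter.unusedSectionVars false

namespace H17

open Finset Cfsg
open scoped ComplexConjugate Classical

theorem card_fixed_dual {X : Type*} [CommGroup X] [Fintype X] (σ : X →* X) :
    Nat.card {θ : X →* ℂˣ // θ.comp σ = θ} = Nat.card {x : X // σ x = x} := by
  have h1 : ∑ θ : X →* ℂˣ, ∑ x : X, (θ (σ x) : ℂ) * conj (θ x : ℂ)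
      = (Nat.card {θ : X →* ℂˣ // θ.comp σ = θ} : ℂ) * Fintype.card X := by
    have h : ∀ θ : X →* ℂˣ, ∑ x : X, (θ (σ x) : ℂ) * conj (θ x : ℂ)
        = if θ.comp σ = θ then (Fintype.card X : ℂ) else 0 := fun θ => sum_hom_mul_conj (θ.comp σ) θ
    rw [Finset.sum_congr rfl fun θ _ => h θ, Finset.sum_ite, Finset.sum_const_zero, add_zero,
      Finset.sum_const, nsmul_eq_mul, Nat.card_eq_fintype_card, Fintype.card_subtype]
  have h2 : ∑ θ : X →* ℂˣ, ∑ x : X, (θ (σ x) : ℂ) * conj (θ x : ℂ)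
      = (Nat.card {x : X // σ x = x} : ℂ) * Fintype.card X := by
    rw [Finset.sum_comm, Finset.sum_congr rfl fun x _ => sum_dual_mul_conj (σ x) x, Finset.sum_ite,
      Finset.sum_const_zero, add_zero, Finset.sum_const, nsmul_eq_mul, Nat.card_eq_fintype_card,
      Fintype.card_subtype]
  have h0 : (Fintype.card X : ℂ) ≠ 0 := Nat.cast_ne_zero.2 Fintype.card_ne_zero
  exact_mod_cast mul_right_cancel₀ h0 (h1.symm.trans h2)

namespace RankOne

variable {G : Type*} [Group G] [Fintype G] {A : Type*} [CommGroup A] [Fintype A]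
variable (D : RankOne G A)

/-- linear characters trivial on the root group -/
abbrev LinU : Type _ := {l : G →* ℂˣ // ∀ a, l (D.u a) = 1}

theorem stein_ne_lin (l l' : G →* ℂˣ) : D.stein l ≠ fun g => (l' g : ℂ) := by
  intro e
  have h := congrFun e 1
  rw [D.stein_one, map_one, Units.val_one] at h
  have h' : D.q = 1 := by exact_mod_cast h
  have := D.two_le
  omega

theorem classInner_chT_resT_lin (l l' : D.LinU) :
    classInner (D.chT (D.resT l.1)) (fun g => (l'.1 g : ℂ)) = if l = l' then 1 else 0 := by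
  rw [D.chT_resT l.1 l.2, H12.classInner_add_left,
    show classInner (D.stein l.1) (fun g => (l'.1 g : ℂ)) = 0 from
      H12.classInner_irr_ne (χ := ⟨_, D.isIrr_stein l.1 l.2⟩) (ψ := H12.linIrr l'.1)
        (fun e => D.stein_ne_lin _ _ (congrArg Subtype.val e)), zero_add]
  show classInner (H12.linIrr l.1 : G → ℂ) (H12.linIrr l'.1 : G → ℂ) = _
  split_ifs with h
  · subst h
    exact H12.classInner_irr_self _
  · exact H12.classInner_irr_ne fun e => h (Subtype.ext (H12.linIrr_injective e))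

theorem classInner_chC_resC_lin (l l' : D.LinU) :
    classInner (D.chC (D.resC l.1)) (fun g => (l'.1 g : ℂ)) = if l = l' then -1 else 0 := by
  rw [D.chC_resC l.1 l.2, H12.classInner_sub_left,
    show classInner (D.stein l.1) (fun g => (l'.1 g : ℂ)) = 0 from
      H12.classInner_irr_ne (χ := ⟨_, D.isIrr_stein l.1 l.2⟩) (ψ := H12.linIrr l'.1)
        (fun e => D.stein_ne_lin _ _ (congrArg Subtype.val e)), zero_sub]
  show -classInner (H12.linIrr l.1 : G → ℂ) (H12.linIrr l'.1 : G → ℂ) = _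
  split_ifs with h
  · subst h
    rw [H12.classInner_irr_self]
  · rw [H12.classInner_irr_ne fun e => h (Subtype.ext (H12.linIrr_injective e)), neg_zero]

theorem resT_injective : Function.Injective fun l : D.LinU => D.resT l.1 := by
  intro l l' e
  have h := D.classInner_chT_resT_lin l l'
  rw [show D.resT l.1 = D.resT l'.1 from e, D.classInner_chT_resT_lin l' l', if_pos rfl] at h
  by_contra hne
  rw [if_neg hne] at h
  exact one_ne_zero h

theorem resC_injective : Function.Injective fun l : D.LinU => D.resC l.1 := by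
  intro l l' e
  have h := D.classInner_chC_resC_lin l l'
  rw [show D.resC l.1 = D.resC l'.1 from e, D.classInner_chC_resC_lin l' l', if_pos rfl] at h
  by_contra hne
  rw [if_neg hne] at h
  exact one_ne_zero (neg_eq_zero.1 h)

theorem card_fixed_T (hfix : ∀ t : D.T, D.σT t = t → (t : G) ∈ D.Z) :
    Nat.card {α : D.T →* ℂˣ // α.comp D.σT = α} = Nat.card D.Z := by
  rw [card_fixed_dual]
  exact Nat.card_congr
    { toFun := fun t => ⟨(t.1 : G), hfix t.1 t.2⟩
      invFun := fun z => ⟨D.zT z, D.σT_Z _ z.2⟩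
      left_inv := fun _ => rfl
      right_inv := fun _ => rfl }

theorem card_fixed_C (hfix : ∀ c : D.C, D.σC c = c → (c : G) ∈ D.Z) :
    Nat.card {θ : D.C →* ℂˣ // θ.comp D.σC = θ} = Nat.card D.Z := by
  rw [card_fixed_dual]
  exact Nat.card_congr
    { toFun := fun t => ⟨(t.1 : G), hfix t.1 t.2⟩
      invFun := fun z => ⟨D.zC z, D.σC_Z _ z.2⟩
      left_inv := fun _ => rfl
      right_inv := fun _ => rfl }

theorem exists_resT_eq (hfix : ∀ t : D.T, D.σT t = t → (t : G) ∈ D.Z)
    (hcard : Nat.card D.Z ≤ Nat.card D.LinU) {α : D.T →* ℂˣ} (hα : α.comp D.σT = α) :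
    ∃ l : D.LinU, D.resT l.1 = α := by
  let f : D.LinU → {α : D.T →* ℂˣ // α.comp D.σT = α} := fun l => ⟨D.resT l.1, D.resT_σ l.1⟩
  have hf : Function.Injective f := fun l l' e => D.resT_injective (congrArg Subtype.val e)
  haveI : Finite D.LinU := Finite.of_injective f hf
  have hb : Function.Bijective f := (Nat.bijective_iff_injective_and_card f).2
    ⟨hf, le_antisymm (Nat.card_le_card_of_injective f hf) (by rw [D.card_fixed_T hfix]; exact hcard)⟩
  obtain ⟨l, hl⟩ := hb.2 ⟨α, hα⟩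
  exact ⟨l, congrArg Subtype.val hl⟩

theorem exists_resC_eq (hfix : ∀ c : D.C, D.σC c = c → (c : G) ∈ D.Z)
    (hcard : Nat.card D.Z ≤ Nat.card D.LinU) {θ : D.C →* ℂˣ} (hθ : θ.comp D.σC = θ) :
    ∃ l : D.LinU, D.resC l.1 = θ := by
  let f : D.LinU → {θ : D.C →* ℂˣ // θ.comp D.σC = θ} := fun l => ⟨D.resC l.1, D.resC_σ l.1⟩
  have hf : Function.Injective f := fun l l' e => D.resC_injective (congrArg Subtype.val e)
  haveI : Finite D.LinU := Finite.of_injective f hf
  have hb : Function.Bijective f := (Nat.bijective_iff_injective_and_card f).2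
    ⟨hf, le_antisymm (Nat.card_le_card_of_injective f hf) (by rw [D.card_fixed_C hfix]; exact hcard)⟩
  obtain ⟨l, hl⟩ := hb.2 ⟨θ, hθ⟩
  exact ⟨l, congrArg Subtype.val hl⟩

/-- with no exceptional fixed characters every small character is linear or Steinberg -/
theorem cases_of_card (hT : ∀ t : D.T, D.σT t = t → (t : G) ∈ D.Z)
    (hC : ∀ c : D.C, D.σC c = c → (c : G) ∈ D.Z) (hcard : Nat.card D.Z ≤ Nat.card D.LinU)
    (χ : IrrCharacter G) :
    (∃ α : D.T →* ℂˣ, α.comp D.σT ≠ α ∧ (χ : G → ℂ) = D.chT α) ∨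
    (∃ θ : D.C →* ℂˣ, θ.comp D.σC ≠ θ ∧ (χ : G → ℂ) = D.chC θ) ∨
    (∃ l : D.LinU, (χ : G → ℂ) = fun g => (l.1 g : ℂ)) ∨
    (∃ l : D.LinU, (χ : G → ℂ) = D.stein l.1) := by
  rcases D.trichotomy χ with h | h | ⟨h1, h2, hor⟩
  · exact Or.inl h
  · exact Or.inr (Or.inl h)
  refine Or.inr (Or.inr ?_)
  rcases hor with ⟨α, hα⟩ | ⟨θ, hθ⟩
  · obtain ⟨l, rfl⟩ := D.exists_resT_eq hT hcard (h1 α hα)
    exact (D.eq_of_mT_resT_ne_zero l.1 l.2 χ hα).imp (fun e => ⟨l, e⟩) fun e => ⟨l, e⟩
  · obtain ⟨l, rfl⟩ := D.exists_resC_eq hC hcard (h2 θ hθ)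
    exact (D.eq_of_mC_resC_ne_zero l.1 l.2 χ hθ).imp (fun e => ⟨l, e⟩) fun e => ⟨l, e⟩

end RankOne

end H17
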