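import Cfsg.Agent.H25.Indicator

/-!
Real forms of representations with an invariant symmetric form.
-/

set_option autoImplicit false

namespace H17

open Matrix Cfsg
open scoped ComplexConjugate ComplexOrder

variable {G : Type*} [Group G] [Fintype G] {n : ℕ}

/-- entrywise conjugation -/
noncomputable def cMat : Matrix (Fin n) (Fin n) ℂ →+* Matrix (Fin n) (Fin n) ℂ :=
  (starRingEnd ℂ).mapMatrix

theorem cMat_apply (A : Matrix (Fin n) (Fin n) ℂ) (i j : Fin n) : cMat A i j = conj (A i j) := rfl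

theorem cMat_cMat (A : Matrix (Fin n) (Fin n) ℂ) : cMat (cMat A) = A := by
  ext i j; simp [cMat_apply]

theorem cMat_smul (c : ℂ) (A : Matrix (Fin n) (Fin n) ℂ) : cMat (c • A) = conj c • cMat A := by
  ext i j; simp [cMat_apply]

theorem cMat_eq_transpose_conjTranspose (A : Matrix (Fin n) (Fin n) ℂ) : cMat A = Aᴴᵀ := rfl

/-- an anti-linear intertwiner with scalar square, normalised -/
theorem exists_conjugation (ρ : Representation ℂ G (Fin n → ℂ)) (hirr : ρ.IsIrreducible) [NeZero n]
    {M : Matrix (Fin n) (Fin n) ℂ} (hM : M ∈ invForms (rmat ρ)) (hM0 : M ≠ 0) (hsym : Mᵀ = M) :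
    ∃ K : Matrix (Fin n) (Fin n) ℂ, K * cMat K = 1 ∧ ∀ g, K * cMat (rmat ρ g) = rmat ρ g * K := by
  set X := rmat ρ with hX
  obtain ⟨U, hU⟩ := isUnit_of_mem_invForms ρ hirr hM hM0
  set A : Matrix (Fin n) (Fin n) ℂ := ((U⁻¹ : (Matrix (Fin n) (Fin n) ℂ)ˣ) : Matrix (Fin n) (Fin n) ℂ) with hA
  have hMA : M * A = 1 := by rw [hA, ← hU, Units.mul_inv]
  have hAM : A * M = 1 := by rw [hA, ← hU, Units.inv_mul]
  set H := hermAvg X with hH
  have hHpd : H.PosDef := hermAvg_posDef X
  set Hb := cMat H with hHb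
  have hinv : ∀ g, (X g)ᵀ * Hb * cMat (X g) = Hb := fun g => by
    have h := congrArg cMat (hermAvg_inv X g)
    rw [map_mul, map_mul] at h
    have e : cMat ((X g)ᴴ) = (X g)ᵀ := by ext i j; simp [cMat_apply]
    rwa [e] at h
  set N := A * Hb with hN
  have hNX : ∀ g, N * cMat (X g) = X g * N := fun g => by
    have hM' : (X g)ᵀ * M * X g = M := hM g
    have h1 : X g * A * (X g)ᵀ = A := by
      have h2 : (X g)ᵀ * (M * X g * A) = 1 := by
        rw [← mul_assoc, ← mul_assoc, hM', hMA]
      have h3 : M * X g * A * (X g)ᵀ = 1 := mul_eq_one_comm.1 h2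
      calc X g * A * (X g)ᵀ = A * (M * X g * A * (X g)ᵀ) := by
            simp only [← mul_assoc, hAM, one_mul]
        _ = A := by rw [h3, mul_one]
    calc N * cMat (X g) = X g * A * (X g)ᵀ * Hb * cMat (X g) := by rw [h1]
      _ = X g * A * ((X g)ᵀ * Hb * cMat (X g)) := by simp only [mul_assoc]
      _ = X g * N := by rw [hinv, hN, mul_assoc]
  have hcomm : ∀ g, N * cMat N * X g = X g * (N * cMat N) := fun g => by
    have h := congrArg cMat (hNX g)
    rw [map_mul cMat N, map_mul cMat (X g) N, cMat_cMat (X g)] at h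
    rw [mul_assoc, h, ← mul_assoc, hNX, mul_assoc]
  obtain ⟨c, hc⟩ := schur_scalar ρ hirr _ hcomm
  -- positivity
  have hAs : cMat A = Aᴴ := by
    have hAT : Aᵀ = A := by
      have h := congrArg Matrix.transpose hMA
      rw [transpose_mul, hsym, transpose_one] at h
      calc Aᵀ = Aᵀ * (M * A) := by rw [hMA, mul_one]
        _ = A := by rw [← mul_assoc, h, one_mul]
    rw [cMat_eq_transpose_conjTranspose]
    conv_rhs => rw [← hAT]
    rfl
  have hHU : IsUnit H.det := (Matrix.isUnit_iff_isUnit_det _).1 hHpd.isUnit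
  have hkey : A * Hb * Aᴴ = c • H⁻¹ := by
    rw [hN, map_mul, hHb, cMat_cMat, hAs] at hc
    calc A * Hb * Aᴴ = A * Hb * (Aᴴ * H) * H⁻¹ := by
          rw [← mul_assoc (A * Hb), Matrix.mul_nonsing_inv_cancel_right _ _ hHU]
      _ = c • H⁻¹ := by rw [hc, Matrix.smul_mul, one_mul]
  have hHbpd : Hb.PosDef := by
    rw [hHb, cMat_eq_transpose_conjTranspose, hHpd.isHermitian.eq]
    exact hHpd.transpose
  have hpd : (A * Hb * Aᴴ).PosDef := by
    refine hHbpd.mul_mul_conjTranspose_same ?_
    exact Matrix.vecMul_injective_iff_isUnit.2 ⟨U⁻¹, rfl⟩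
  have ht1 := hpd.trace_pos
  have ht2 := hHpd.inv.trace_pos
  rw [hkey, Matrix.trace_smul, smul_eq_mul] at ht1
  obtain ⟨r, hr, hcr⟩ : ∃ r : ℝ, 0 < r ∧ c = r := by
    rw [Complex.lt_def] at ht1 ht2
    simp only [Complex.zero_re, Complex.zero_im, Complex.mul_re, Complex.mul_im, ← ht2.2, mul_zero,
      sub_zero, zero_add] at ht1
    refine ⟨c.re, pos_of_mul_pos_left ht1.1 ht2.1.le, Complex.ext (by simp) ?_⟩
    simpa using (mul_eq_zero.1 ht1.2.symm).resolve_right ht2.1.ne'
  set s : ℝ := Real.sqrt r with hs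
  have hs0 : (s : ℂ) ≠ 0 := by exact_mod_cast (Real.sqrt_pos.2 hr).ne'
  refine ⟨(s : ℂ)⁻¹ • N, ?_, fun g => ?_⟩
  · rw [cMat_smul, Matrix.smul_mul, Matrix.mul_smul, hc, smul_smul, smul_smul, map_inv₀,
      Complex.conj_ofReal, hcr]
    have : ((s : ℂ))⁻¹ * (s : ℂ)⁻¹ * (r : ℂ) = 1 := by
      have h2 : (s : ℂ) * s = r := by exact_mod_cast Real.mul_self_sqrt hr.le
      rw [← h2]
      field_simp
    rw [this, one_smul]
  · rw [Matrix.smul_mul, Matrix.mul_smul, hNX]

/-- an invertible matrix `P` with `K * conj P = P` -/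
theorem exists_split (K : Matrix (Fin n) (Fin n) ℂ) (hK : K * cMat K = 1) :
    ∃ P : Matrix (Fin n) (Fin n) ℂ, IsUnit P ∧ K * cMat P = P := by
  let w : ℕ → ℂ := fun t => (1 + t * Complex.I) / (1 - t * Complex.I)
  have hd : ∀ t : ℕ, (1 - (t : ℂ) * Complex.I) ≠ 0 := fun t h => by
    have := congrArg Complex.re h; simp at this
  have hw : Function.Injective w := by
    intro a b h
    simp only [w] at h
    rw [div_eq_div_iff (hd a) (hd b)] at h
    have := congrArg Complex.im h
    simp at this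
    exact_mod_cast (show (a : ℝ) = b by linarith)
  obtain ⟨t, ht⟩ : ∃ t : ℕ, ((-K).charpoly).eval (w t) ≠ 0 := by
    by_contra hh
    push_neg at hh
    exact (Set.infinite_range_of_injective hw).mono (by rintro _ ⟨t, rfl⟩; exact hh t)
      (Polynomial.finite_setOf_isRoot (Matrix.charpoly_monic _).ne_zero)
  rw [Matrix.eval_charpoly] at ht
  set z : ℂ := 1 + t * Complex.I with hz
  have hzc : conj z = 1 - t * Complex.I := by simp [hz]; ring
  have hz0 : conj z ≠ 0 := by rw [hzc]; exact hd t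
  refine ⟨z • 1 + conj z • K, ?_, ?_⟩
  · rw [Matrix.isUnit_iff_isUnit_det, isUnit_iff_ne_zero]
    have e : z • (1 : Matrix (Fin n) (Fin n) ℂ) + conj z • K = conj z • (Matrix.scalar (Fin n) (w t) - -K) := by
      rw [sub_neg_eq_add, smul_add]
      congr 1
      rw [Matrix.scalar_apply, ← Matrix.smul_one_eq_diagonal, smul_smul]
      congr 1
      show z = conj z * ((1 + t * Complex.I) / (1 - t * Complex.I))
      rw [hzc, ← hz, mul_div_cancel₀ _ (hd t)]
    rw [e, Matrix.det_smul]
    exact mul_ne_zero (pow_ne_zero _ hz0) ht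
  · rw [map_add, cMat_smul, cMat_smul, map_one, Complex.conj_conj, mul_add, Matrix.mul_smul,
      Matrix.mul_smul, hK, mul_one, add_comm]

/-- a representation commuting with a conjugation is real -/
theorem exists_real_of_conjugation (X : G →* Matrix (Fin n) (Fin n) ℂ)
    (K : Matrix (Fin n) (Fin n) ℂ) (hK : K * cMat K = 1) (hKX : ∀ g, K * cMat (X g) = X g * K) :
    ∃ Y : G →* Matrix (Fin n) (Fin n) ℝ, ∀ g, ((Y g).trace : ℂ) = (X g).trace := by
  obtain ⟨P, ⟨U, rfl⟩, hP⟩ := exists_split K hK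
  set Q : Matrix (Fin n) (Fin n) ℂ := ((U⁻¹ : (Matrix (Fin n) (Fin n) ℂ)ˣ) : Matrix (Fin n) (Fin n) ℂ) with hQ
  let X' : G →* Matrix (Fin n) (Fin n) ℂ :=
    { toFun := fun g => Q * X g * U
      map_one' := by simp [hQ]
      map_mul' := fun a b => by simp [hQ, mul_assoc] }
  have hfix : ∀ g, cMat (X' g) = X' g := fun g => by
    show cMat (Q * X g * (U : Matrix (Fin n) (Fin n) ℂ)) = Q * X g * (U : Matrix (Fin n) (Fin n) ℂ)
    rw [map_mul, map_mul]
    have h1 : cMat Q * cMat (U : Matrix (Fin n) (Fin n) ℂ) = 1 := by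
      rw [← map_mul, hQ, Units.inv_mul, map_one]
    have h2 : cMat Q = Q * K := by
      calc cMat Q = (Q * (K * cMat (U : Matrix (Fin n) (Fin n) ℂ))) * cMat Q := by
            rw [hP, hQ, Units.inv_mul, one_mul]
        _ = Q * K := by
            rw [mul_assoc, mul_assoc, mul_eq_one_comm.1 h1, mul_one]
    rw [h2, mul_assoc Q K, hKX, mul_assoc Q, mul_assoc (X g), hP, ← mul_assoc]
  let ι : Matrix (Fin n) (Fin n) ℝ →+* Matrix (Fin n) (Fin n) ℂ := Complex.ofRealHom.mapMatrix
  have hι : Function.Injective ι := fun a b h => by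
    ext i j
    exact Complex.ofReal_injective (congrFun (congrFun h i) j)
  have hback : ∀ g, ι ((X' g).map Complex.re) = X' g := fun g => by
    ext i j
    exact (Complex.conj_eq_iff_re.1 (congrFun (congrFun (hfix g) i) j) :)
  refine ⟨{ toFun := fun g => (X' g).map Complex.re, map_one' := hι (by rw [hback, map_one, map_one]),
            map_mul' := fun a b => hι (by rw [hback, map_mul ι, hback, hback, map_mul X']) }, fun g => ?_⟩
  have h := congrArg Matrix.trace (hback g)
  rw [show (X' g).trace = (X g).trace from Matrix.trace_units_conj' _ _] at h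
  rw [← h]
  simp [Matrix.trace, ι]

/-- a real representation of an irreducible character gives indicator one -/
theorem fsInd_eq_one_of_real (χ : IrrCharacter G) (Y : G →* Matrix (Fin n) (Fin n) ℝ)
    (h : ∀ g, ((Y g).trace : ℂ) = (χ : G → ℂ) g) : fsInd (χ : G → ℂ) = 1 := by
  let X : G →* Matrix (Fin n) (Fin n) ℂ := (Complex.ofRealHom.mapMatrix : _ →+* _).toMonoidHom.comp Y
  have htr : (fun g => (X g).trace) = (χ : G → ℂ) := funext fun g => by
    rw [← h]; simp [X, Matrix.trace]
  have hd : Module.finrank ℂ (invForms X) = 1 := by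
    have h1 := finrank_invForms X
    have h2 := H12.classInner_irr_self χ
    rw [H12.classInner_def] at h2
    have h3 : ∀ g, (X g).trace * (X g).trace = (χ : G → ℂ) g * conj ((χ : G → ℂ) g) := fun g => by
      rw [congrFun htr g, ← h, Complex.conj_ofReal]
    simp only [h3] at h1
    rw [h2] at h1
    exact_mod_cast h1
  have hct : ∀ g, (X g)ᴴ = (X g)ᵀ := fun g => by
    ext i j; simp [X]
  have hmem : hermAvg X ∈ invForms X := fun g => by
    rw [← hct]; exact hermAvg_inv X g
  have hsym : (hermAvg X)ᵀ = hermAvg X := by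
    simp only [hermAvg, Matrix.transpose_sum, hct, Matrix.transpose_mul, Matrix.transpose_transpose]
  have h0 : hermAvg X ≠ 0 := by
    intro e
    have hn : n ≠ 0 := by
      rintro rfl
      apply H12.irr_apply_one_ne_zero χ
      rw [← h]; simp [Matrix.trace]
    haveI : NeZero n := ⟨hn⟩
    have := (hermAvg_posDef X).trace_pos
    rw [e, Matrix.trace_zero] at this
    exact lt_irrefl _ this
  have h4 := transpose_eq_fsInd_smul X hd hmem
  rw [hsym, htr] at h4
  refine smul_left_injective ℂ h0 ?_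
  simp only [one_smul]
  exact h4.symm

/-- indicator one gives a real representation -/
theorem exists_real_of_fsInd_eq_one (χ : IrrCharacter G) (h : fsInd (χ : G → ℂ) = 1) :
    ∃ (n : ℕ) (Y : G →* Matrix (Fin n) (Fin n) ℝ), ∀ g, ((Y g).trace : ℂ) = (χ : G → ℂ) g := by
  have hreal := H25.real_of_fsInd_ne_zero χ (by rw [h]; exact one_ne_zero)
  obtain ⟨n, ρ, hirr, hχ⟩ := χ.2
  have htr : (fun g => (rmat ρ g).trace) = (χ : G → ℂ) := funext fun g => by rw [trace_rmat, hχ]
  haveI : NeZero n := ⟨by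
    rintro rfl
    apply H12.irr_apply_one_ne_zero χ
    rw [← hχ]; simp [Representation.char_one]⟩
  have hd := finrank_invForms_of_real ρ hirr (fun g => by rw [hχ]; exact hreal g)
  have hne : invForms (rmat ρ) ≠ ⊥ := fun e => by rw [e, finrank_bot] at hd; exact zero_ne_one hd
  obtain ⟨M, hM, hM0⟩ := Submodule.exists_mem_ne_zero_of_ne_bot hne
  have hsym : Mᵀ = M := by rw [transpose_eq_fsInd_smul _ hd hM, htr, h, one_smul]
  obtain ⟨K, hK, hKX⟩ := exists_conjugation ρ hirr hM hM0 hsym
  obtain ⟨Y, hY⟩ := exists_real_of_conjugation (rmat ρ) K hK hKX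
  exact ⟨n, Y, fun g => (hY g).trans (congrFun htr g)⟩

end H17
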