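import Cfsg.Agent.H17.SLDegree
import Cfsg.Agent.H17.RankOneCount
import Cfsg.Agent.H12.Linear

/-!
How many irreducible characters of SL₂(q) of each degree.
-/

set_option autoImplicit false
set_option linter.unusedSectionVars false

namespace H17

open Finset Cfsg
open scoped Classical

variable {F : Type*} [Field F] [Fintype F]
variable {C : Subgroup (Matrix.SpecialLinearGroup (Fin 2) F)} (hC : (slEmb F).NonSplit C)

theorem card_fixed_T :
    Nat.card {α : (slD hC).T →* ℂˣ // α.comp (slD hC).σT = α} =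
      Nat.card {x : (slD hC).T // x * x = 1} :=
  (Nat.card_congr (Equiv.subtypeEquivRight fun α => slT_fixed_iff hC α)).trans natCard_dual_sq

theorem card_fixed_C :
    Nat.card {α : (slD hC).C →* ℂˣ // α.comp (slD hC).σC = α} =
      Nat.card {x : (slD hC).C // x * x = 1} :=
  (Nat.card_congr (Equiv.subtypeEquivRight fun α => slC_fixed_iff hC α)).trans natCard_dual_sq

theorem card_sq_one_eq_two {X : Subgroup (Matrix.SpecialLinearGroup (Fin 2) F)} (h2 : (2 : F) ≠ 0)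
    (hz : ∀ g ∈ (slEmb F).Zsub, g ∈ X) : Nat.card {x : X // x * x = 1} = 2 := by
  rw [Nat.card_eq_two_iff]
  refine ⟨⟨1, one_mul 1⟩, ⟨⟨-1, hz _ neg_one_mem_Z⟩, Subtype.ext (by simp)⟩, fun e => ?_, ?_⟩
  · exact neg_one_sl_ne_one h2 (congrArg (fun x : {x : X // x * x = 1} => (x.1 : Matrix.SpecialLinearGroup (Fin 2) F)) e).symm
  · refine Set.eq_univ_of_forall fun x => ?_
    rcases sl_mem_Z (sq_eq_one_mem_Z h2 (congrArg Subtype.val x.2)) with ⟨-, e⟩ | ⟨-, e⟩
    · exact Or.inl (Subtype.ext (Subtype.ext e))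
    · exact Or.inr (Subtype.ext (Subtype.ext e))

theorem card_sl_deg_one_iff
    (h : ∀ χ : IrrCharacter (Matrix.SpecialLinearGroup (Fin 2) F),
      (χ : Matrix.SpecialLinearGroup (Fin 2) F → ℂ) 1 = 1 →
        (χ : Matrix.SpecialLinearGroup (Fin 2) F → ℂ) = fun _ => (1 : ℂ)) :
    Nat.card {χ : IrrCharacter (Matrix.SpecialLinearGroup (Fin 2) F) //
      (χ : Matrix.SpecialLinearGroup (Fin 2) F → ℂ) 1 = 1} = 1 := by
  rw [Nat.card_eq_one_iff_unique]
  exact ⟨⟨fun a b => Subtype.ext (Subtype.ext ((h a.1 a.2).trans (h b.1 b.2).symm))⟩,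
    ⟨⟨⟨_, H12.isIrrCharacter_one⟩, rfl⟩⟩⟩

include hC in
theorem card_sl_deg_q :
    Nat.card {χ : IrrCharacter (Matrix.SpecialLinearGroup (Fin 2) F) //
      (χ : Matrix.SpecialLinearGroup (Fin 2) F → ℂ) 1 = (Fintype.card F : ℂ)} = 1 := by
  rw [Nat.card_eq_one_iff_unique]
  refine ⟨⟨fun a b => Subtype.ext (Subtype.ext ?_)⟩, ⟨⟨⟨_, (slD hC).isIrr_stein 1 fun _ => rfl⟩, ?_⟩⟩⟩
  · exact (sl_degree_q hC a.1.2 a.2).trans (sl_degree_q hC b.1.2 b.2).symm
  · show (slD hC).stein 1 1 = _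
    rw [(slD hC).stein_one, slD_q]

end H17
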