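import Cfsg.Agent.H17.SLValues

/-!
Reading off the irreducible characters of SL₂(q) from their degrees.
-/

set_option autoImplicit false
set_option linter.unusedSectionVars false

namespace H17

open Finset Cfsg
open scoped Classical

variable {F : Type*} [Field F] [Fintype F]
variable {C : Subgroup (Matrix.SpecialLinearGroup (Fin 2) F)} (hC : (slEmb F).NonSplit C)

theorem cast_half_add (hodd : Odd (Fintype.card F)) :
    (((Fintype.card F + 1) / 2 : ℕ) : ℝ) = ((Fintype.card F : ℝ) + 1) / 2 := by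
  obtain ⟨k, hk⟩ := hodd
  rw [hk, show (2 * k + 1 + 1) / 2 = k + 1 by omega]
  push_cast
  ring

theorem cast_half_sub (hodd : Odd (Fintype.card F)) :
    (((Fintype.card F - 1) / 2 : ℕ) : ℝ) = ((Fintype.card F : ℝ) - 1) / 2 := by
  obtain ⟨k, hk⟩ := hodd
  rw [hk, show (2 * k + 1 - 1) / 2 = k by omega]
  push_cast
  ring

theorem three_le_of_odd (hodd : Odd (Fintype.card F)) : 3 ≤ Fintype.card F := by
  obtain ⟨k, hk⟩ := hodd
  have := Fintype.one_lt_card (α := F)
  omega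

theorem four_le_of_even (h2 : (2 : F) = 0) : 2 ∣ Fintype.card F := by
  refine Nat.dvd_of_mod_eq_zero (FiniteField.even_card_of_char_two ?_)
  by_contra hne
  exact Ring.two_ne_zero hne h2

/-- odd `q`: what the degree says about the character -/
theorem sl_odd_by_degree (hodd : Odd (Fintype.card F)) (O : SLOdd hC)
    {χ : Matrix.SpecialLinearGroup (Fin 2) F → ℂ} (hχ : IsIrrCharacter _ χ) :
    (χ 1 = (Fintype.card F : ℂ) + 1 → ∃ α : (slD hC).T →* ℂˣ, α * α ≠ 1 ∧ χ = (slD hC).chT α) ∧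
    (χ 1 = (Fintype.card F : ℂ) → χ = (slD hC).stein 1) ∧
    (χ 1 = (Fintype.card F : ℂ) - 1 →
      (∃ θ : (slD hC).C →* ℂˣ, θ * θ ≠ 1 ∧ χ = (slD hC).chC θ) ∨
      (Fintype.card F = 3 ∧ (slD hC).mT χ O.η ≠ 0)) ∧
    (χ 1 = (((Fintype.card F + 1) / 2 : ℕ) : ℂ) →
      (slD hC).mT χ O.η ≠ 0 ∨
      (Fintype.card F = 3 ∧ ∃ θ : (slD hC).C →* ℂˣ, θ * θ ≠ 1 ∧ χ = (slD hC).chC θ)) ∧
    (χ 1 = (((Fintype.card F - 1) / 2 : ℕ) : ℂ) →
      (slD hC).mC χ O.θ₀ ≠ 0 ∨ (Fintype.card F = 3 ∧ χ = fun _ => (1 : ℂ))) ∧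
    (χ 1 = 1 → χ = (fun _ => (1 : ℂ)) ∨ (Fintype.card F = 3 ∧ (slD hC).mC χ O.θ₀ ≠ 0)) := by
  have hq3 : (3 : ℝ) ≤ Fintype.card F := by exact_mod_cast three_le_of_odd hodd
  have h3 : (Fintype.card F : ℝ) = 3 → Fintype.card F = 3 := fun h => by exact_mod_cast h
  have ha := cast_half_add hodd
  have hb := cast_half_sub hodd
  rcases sl_odd_degree hC hodd O ⟨χ, hχ⟩ with
    ⟨α, hα, e, d⟩ | ⟨θ, hθ, e, d⟩ | ⟨e, d⟩ | ⟨e, d⟩ | ⟨e, d⟩ | ⟨e, d⟩ <;>
  · simp only at e d
    refine ⟨fun h => ?_, fun h => ?_, fun h => ?_, fun h => ?_, fun h => ?_, fun h => ?_⟩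
    all_goals
      have hre := congrArg Complex.re (d.symm.trans h)
      simp only [Complex.natCast_re, Complex.add_re, Complex.sub_re, Complex.one_re, ha, hb] at hre
      first
        | exact ⟨_, hα, e⟩
        | exact e
        | exact Or.inl ⟨_, hθ, e⟩
        | exact Or.inl e
        | exact Or.inr ⟨h3 (by linarith), _, hθ, e⟩
        | exact Or.inr ⟨h3 (by linarith), e⟩
        | (exfalso; linarith)

/-- even `q`: what the degree says about the character -/
theorem sl_even_by_degree (h2 : (2 : F) = 0)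
    {χ : Matrix.SpecialLinearGroup (Fin 2) F → ℂ} (hχ : IsIrrCharacter _ χ) :
    (χ 1 = (Fintype.card F : ℂ) + 1 → ∃ α : (slD hC).T →* ℂˣ, α ≠ 1 ∧ χ = (slD hC).chT α) ∧
    (χ 1 = (Fintype.card F : ℂ) → χ = (slD hC).stein 1) ∧
    (χ 1 = (Fintype.card F : ℂ) - 1 →
      (∃ θ : (slD hC).C →* ℂˣ, θ ≠ 1 ∧ χ = (slD hC).chC θ) ∨ (Fintype.card F = 2 ∧ χ = fun _ => (1 : ℂ))) ∧
    (χ 1 = 1 → χ = (fun _ => (1 : ℂ)) ∨
      (Fintype.card F = 2 ∧ ∃ θ : (slD hC).C →* ℂˣ, θ ≠ 1 ∧ χ = (slD hC).chC θ)) := by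
  have hq2 : (2 : ℝ) ≤ Fintype.card F := by exact_mod_cast Fintype.one_lt_card (α := F)
  have h2' : (Fintype.card F : ℝ) = 2 → Fintype.card F = 2 := fun h => by exact_mod_cast h
  rcases sl_even_cases hC h2 ⟨χ, hχ⟩ with ⟨α, hα, e⟩ | ⟨θ, hθ, e⟩ | e | e <;> simp only at e
  · have d : χ 1 = (Fintype.card F : ℂ) + 1 := by rw [e, (slD hC).chT_one, slD_q]
    refine ⟨fun h => ?_, fun h => ?_, fun h => ?_, fun h => ?_⟩
    all_goals
      have hre := congrArg Complex.re (d.symm.trans h)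
      simp only [Complex.natCast_re, Complex.add_re, Complex.sub_re, Complex.one_re] at hre
      first
        | exact ⟨_, hα, e⟩
        | (exfalso; linarith)
  · have d : χ 1 = (Fintype.card F : ℂ) - 1 := by rw [e, (slD hC).chC_one, slD_q]
    refine ⟨fun h => ?_, fun h => ?_, fun h => ?_, fun h => ?_⟩
    all_goals
      have hre := congrArg Complex.re (d.symm.trans h)
      simp only [Complex.natCast_re, Complex.add_re, Complex.sub_re, Complex.one_re] at hre
      first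
        | exact Or.inl ⟨_, hθ, e⟩
        | exact Or.inr ⟨h2' (by linarith), _, hθ, e⟩
        | (exfalso; linarith)
  · have d : χ 1 = 1 := by rw [e]
    refine ⟨fun h => ?_, fun h => ?_, fun h => ?_, fun h => ?_⟩
    all_goals
      have hre := congrArg Complex.re (d.symm.trans h)
      simp only [Complex.natCast_re, Complex.add_re, Complex.sub_re, Complex.one_re] at hre
      first
        | exact Or.inl e
        | exact Or.inr ⟨h2' (by linarith), e⟩
        | (exfalso; linarith)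
  · have d : χ 1 = (Fintype.card F : ℂ) := by rw [e, (slD hC).stein_one, slD_q]
    refine ⟨fun h => ?_, fun h => ?_, fun h => ?_, fun h => ?_⟩
    all_goals
      have hre := congrArg Complex.re (d.symm.trans h)
      simp only [Complex.natCast_re, Complex.add_re, Complex.sub_re, Complex.one_re] at hre
      first
        | exact e
        | (exfalso; linarith)

theorem odd_or_two_eq_zero : Odd (Fintype.card F) ∨ (2 : F) = 0 := by
  by_cases hc : ringChar F = 2
  · haveI : CharP F 2 := ringChar.of_eq hc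
    exact Or.inr two_eq_zero_of_char
  · exact Or.inl (Nat.odd_iff.2 (FiniteField.odd_card_of_char_ne_two hc))

/-- the character of degree `q` -/
theorem sl_degree_q {χ : Matrix.SpecialLinearGroup (Fin 2) F → ℂ} (hχ : IsIrrCharacter _ χ)
    (h : χ 1 = (Fintype.card F : ℂ)) : χ = (slD hC).stein 1 := by
  rcases odd_or_two_eq_zero (F := F) with ho | he
  · obtain ⟨O⟩ := nonempty_slOdd hC ho
    exact (sl_odd_by_degree hC ho O hχ).2.1 h
  · exact (sl_even_by_degree hC he hχ).2.1 h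

theorem chT_noEig (α : (slD hC).T →* ℂˣ) {g : Matrix.SpecialLinearGroup (Fin 2) F}
    (hg : ∀ (c : F) (v : Fin 2 → F), v ≠ 0 → (g : Matrix (Fin 2) (Fin 2) F).mulVec v ≠ c • v) :
    (slD hC).chT α g = 0 := by
  obtain ⟨c, hc, hcj⟩ := sl_noEig_conj hC hg
  rw [H12.IsClassFunction.of_isConj ((slD hC).isClassFunction_chT α) hcj]
  exact (slD hC).chT_C α c hc

theorem chC_diag (θ : (slD hC).C →* ℂˣ) {g : Matrix.SpecialLinearGroup (Fin 2) F}
    (h01 : (g : Matrix (Fin 2) (Fin 2) F) 0 1 = 0) (h10 : (g : Matrix (Fin 2) (Fin 2) F) 1 0 = 0)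
    (h : (g : Matrix (Fin 2) (Fin 2) F) 0 0 ^ 2 ≠ 1) : (slD hC).chC θ g = 0 :=
  (slD hC).chC_T θ ⟨g, mem_slT hC h01 h10⟩ (slT_of_diag hC h01 h10 h)

theorem no_regular_diag_three (h3 : Fintype.card F = 3) {g : Matrix.SpecialLinearGroup (Fin 2) F}
    (h01 : (g : Matrix (Fin 2) (Fin 2) F) 0 1 = 0)
    (h : (g : Matrix (Fin 2) (Fin 2) F) 0 0 ^ 2 ≠ 1) : False := by
  have hd := g.2
  rw [Matrix.det_fin_two, h01, zero_mul, sub_zero] at hd
  have hne : (g : Matrix (Fin 2) (Fin 2) F) 0 0 ≠ 0 := fun e => by simp [e] at hd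
  have := FiniteField.pow_card_sub_one_eq_one _ hne
  rw [h3] at this
  exact h this

theorem chC_noEig_three (h3 : Fintype.card F = 3) {θ : (slD hC).C →* ℂˣ} (hθ : θ * θ ≠ 1)
    {g : Matrix.SpecialLinearGroup (Fin 2) F}
    (hg : ∀ (c : F) (v : Fin 2 → F), v ≠ 0 → (g : Matrix (Fin 2) (Fin 2) F).mulVec v ≠ c • v) :
    (slD hC).chC θ g = 0 := by
  obtain ⟨c, hc, hcj⟩ := sl_noEig_conj hC hg
  rw [H12.IsClassFunction.of_isConj ((slD hC).isClassFunction_chC θ) hcj, (slD hC).chC_C θ c hc,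
    slD_σC, map_inv, Units.val_inv_eq_inv_val]
  have hodd : Odd (Fintype.card F) := by rw [h3]; decide
  have h2 := two_ne_zero_of_odd hodd
  have hC4 : Nat.card (slD hC).C = 4 := by rw [sl_card_C, h3]
  have hcc : c * c ≠ 1 := fun e => hc (sq_eq_one_mem_Z h2 (congrArg Subtype.val e))
  have hord : orderOf c = 4 := by
    refine orderOf_eq_prime_pow (p := 2) (n := 1) ?_ ?_
    · rwa [pow_one, pow_two]
    · have := pow_card_eq_one' (x := c)
      rwa [hC4] at this
  have hgen : ∀ x : (slD hC).C, x ∈ Subgroup.zpowers c := fun x => by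
    rw [show Subgroup.zpowers c = ⊤ from Subgroup.eq_top_of_card_eq _
      (by rw [Nat.card_zpowers, hord, hC4])]
    exact Subgroup.mem_top x
  have hsq : (θ c : ℂ) * (θ c : ℂ) ≠ 1 := by
    intro e
    apply hθ
    refine MonoidHom.ext fun x => ?_
    obtain ⟨k, rfl⟩ := hgen x
    show θ (c ^ k) * θ (c ^ k) = 1
    rw [map_zpow, ← mul_zpow, show θ c * θ c = 1 from Units.ext (by rw [Units.val_mul, e, Units.val_one]),
      one_zpow]
  have h4 : (θ c : ℂ) ^ 4 = 1 := by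
    rw [← Units.val_pow_eq_pow_val, ← map_pow, ← hord, pow_orderOf_eq_one, map_one, Units.val_one]
  have hm : (θ c : ℂ) * (θ c : ℂ) = -1 := by
    have : ((θ c : ℂ) * (θ c : ℂ) - 1) * ((θ c : ℂ) * (θ c : ℂ) + 1) = 0 := by linear_combination h4
    exact eq_neg_of_add_eq_zero_left ((mul_eq_zero.1 this).resolve_left (sub_ne_zero.2 hsq))
  have hne : (θ c : ℂ) ≠ 0 := Units.ne_zero _
  field_simp
  linear_combination -hm

end H17
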