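import Cfsg.Agent.H17.Emb2
import Cfsg.Agent.H17.RankOneIrr

/-!
SL₂ as a rank one group, quadratic characters of its tori.
-/

set_option autoImplicit false
set_option linter.unusedSectionVars false

namespace H17

open Matrix Cfsg

section Quad

variable {X : Type*} [CommGroup X] [Fintype X]

theorem natCard_dual_sq :
    Nat.card {η : X →* ℂˣ // η * η = 1} = Nat.card {x : X // x * x = 1} := by
  obtain ⟨e⟩ := CommGroup.monoidHom_mulEquiv_of_hasEnoughRootsOfUnity X ℂ
  refine Nat.card_congr (e.toEquiv.subtypeEquiv fun η => ?_)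
  show η * η = 1 ↔ e η * e η = 1
  rw [← map_mul, map_eq_one_iff e e.injective]

theorem eq_one_of_sq_eq_one (h : ∀ x : X, x * x = 1 → x = 1) {η : X →* ℂˣ} (hη : η * η = 1) :
    η = 1 := by
  have h1 : Nat.card {η : X →* ℂˣ // η * η = 1} ≤ 1 := by
    rw [natCard_dual_sq, Finite.card_le_one_iff_subsingleton]
    exact ⟨fun a b => Subtype.ext ((h a.1 a.2).trans (h b.1 b.2).symm)⟩
  rw [Finite.card_le_one_iff_subsingleton] at h1
  exact congrArg Subtype.val (h1.elim (⟨η, hη⟩ : {η : X →* ℂˣ // η * η = 1}) ⟨1, MonoidHom.ext fun _ => one_mul (1 : ℂˣ)⟩)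

/-- a group with exactly one involution has exactly one character of order two -/
theorem exists_quadratic {z : X} (hz : z ≠ 1) (hz2 : z * z = 1)
    (h : ∀ x : X, x * x = 1 → x = 1 ∨ x = z) :
    ∃ η : X →* ℂˣ, η * η = 1 ∧ η ≠ 1 ∧
      (∀ η' : X →* ℂˣ, η' * η' = 1 → η' ≠ 1 → η' = η) ∧
      (η z = 1 ↔ 4 ∣ Nat.card X) ∧
      (∀ x, η x = 1 ↔ ∃ y, y * y = x) ∧ (∀ x, η x = 1 ∨ η x = -1) := by
  classical
  have h2 : Nat.card {x : X // x * x = 1} = 2 := by
    rw [Nat.card_eq_two_iff]
    refine ⟨⟨1, one_mul _⟩, ⟨z, hz2⟩, fun e => hz (congrArg Subtype.val e).symm, ?_⟩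
    ext ⟨x, hx⟩
    simpa using h x hx
  have hd : Nat.card {η : X →* ℂˣ // η * η = 1} = 2 := natCard_dual_sq.trans h2
  obtain ⟨⟨η, hη⟩, hne⟩ := ((Nat.card_eq_two_iff' (⟨1, MonoidHom.ext fun _ => one_mul (1 : ℂˣ)⟩ : {η : X →* ℂˣ // η * η = 1})).1 hd).exists
  have hη1 : η ≠ 1 := fun e => hne (Subtype.ext e)
  have huniq : ∀ η' : X →* ℂˣ, η' * η' = 1 → η' ≠ 1 → η' = η := fun η' hη' hne' => by
    have := ((Nat.card_eq_two_iff' (⟨1, MonoidHom.ext fun _ => one_mul (1 : ℂˣ)⟩ : {η : X →* ℂˣ // η * η = 1})).1 hd).unique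
      (y₁ := ⟨η', hη'⟩) (y₂ := ⟨η, hη⟩) (fun e => hne' (congrArg Subtype.val e)) hne
    exact congrArg Subtype.val this
  have hpm : ∀ x, η x = 1 ∨ η x = -1 := fun x => by
    have e : η x * η x = 1 := DFunLike.congr_fun hη x
    have e' : (η x : ℂ) * (η x : ℂ) = 1 := by
      rw [← Units.val_mul, e, Units.val_one]
    rcases mul_self_eq_one_iff.1 e' with e'' | e''
    · exact Or.inl (Units.ext e'')
    · exact Or.inr (Units.ext e'')
  let sq : X →* X := powMonoidHom 2
  have hker : Nat.card sq.ker = 2 := by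
    rw [← h2]
    exact Nat.card_congr ((Equiv.refl X).subtypeEquiv fun x => by
      show x ^ 2 = 1 ↔ x * x = 1
      rw [pow_two])
  have hrange : Nat.card X = Nat.card sq.range * 2 := by
    rw [Subgroup.card_eq_card_quotient_mul_card_subgroup sq.ker, hker,
      Nat.card_congr (QuotientGroup.quotientKerEquivRange sq).toEquiv]
  have hle : sq.range ≤ η.ker := by
    rintro _ ⟨y, rfl⟩
    show η (y ^ 2) = 1
    rw [pow_two, map_mul]
    exact DFunLike.congr_fun hη y
  have hkle : Nat.card η.ker ≤ Nat.card sq.range := by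
    have hlt : Nat.card η.ker * 2 ≤ Nat.card X := by
      rw [← Subgroup.card_mul_index η.ker]
      refine Nat.mul_le_mul le_rfl ?_
      have : η.ker.index ≠ 1 := by
        rw [Ne, Subgroup.index_eq_one, MonoidHom.ker_eq_top_iff]
        exact hη1
      have := Subgroup.index_ne_zero_of_finite (H := η.ker)
      omega
    omega
  have heq : sq.range = η.ker := Subgroup.eq_of_le_of_card_ge hle hkle
  have hiff : ∀ x, η x = 1 ↔ ∃ y, y * y = x := fun x => by
    rw [← MonoidHom.mem_ker, ← heq, MonoidHom.mem_range]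
    simp [sq, pow_two]
  refine ⟨η, hη, hη1, huniq, ?_, hiff, hpm⟩
  constructor
  · intro hz'
    have hzmem : z ∈ sq.range := heq ▸ hz'
    have : 2 ∣ Nat.card sq.range := by
      rw [← orderOf_eq_prime (p := 2) (x := (⟨z, hzmem⟩ : sq.range))
        (Subtype.ext (by simpa [pow_two] using hz2)) (fun e => hz (congrArg Subtype.val e))]
      exact orderOf_dvd_natCard _
    rw [hrange]
    omega
  · intro h4
    have h2r : 2 ∣ Nat.card sq.range := by rw [hrange] at h4; omega
    obtain ⟨r, hr⟩ := exists_prime_orderOf_dvd_card' 2 h2r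
    have hr2 : (r : X) * r = 1 := by
      have := pow_orderOf_eq_one r
      rw [hr, pow_two] at this
      exact congrArg Subtype.val this
    rcases h _ hr2 with e | e
    · rw [(Subtype.ext e : r = 1), orderOf_one] at hr
      exact absurd hr (by norm_num)
    · exact heq.le (e ▸ r.2)

end Quad

variable (F : Type*) [Field F]

/-- SL₂ inside GL₂ -/
def slEmb : Emb2 (Matrix.SpecialLinearGroup (Fin 2) F) F where
  emb := Matrix.SpecialLinearGroup.toGL
  inj := fun a b h => Subtype.ext (congrArg Units.val h)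
  Dd := ⊥
  mem_range g := by
    rw [Subgroup.mem_bot]
    constructor
    · rintro ⟨s, rfl⟩
      exact Units.ext (by simpa [Matrix.GeneralLinearGroup.val_det_apply] using s.2)
    · intro h
      refine ⟨⟨(g : Matrix (Fin 2) (Fin 2) F), ?_⟩, Units.ext rfl⟩
      simpa [Matrix.GeneralLinearGroup.val_det_apply] using congrArg Units.val h

variable {F}

theorem mm_sl (g : Matrix.SpecialLinearGroup (Fin 2) F) :
    (slEmb F).mm g = (g : Matrix (Fin 2) (Fin 2) F) := rfl

theorem det_sl (g : Matrix.SpecialLinearGroup (Fin 2) F) : ((slEmb F).mm g).det = 1 := g.2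

theorem sl_adj (g : Matrix.SpecialLinearGroup (Fin 2) F) : (slEmb F).adj g = g⁻¹ := by
  refine (slEmb F).mm_inj ?_
  rw [Emb2.mm_adj, mm_sl, mm_sl, Matrix.SpecialLinearGroup.coe_inv]

theorem sl_mem_Z {g : Matrix.SpecialLinearGroup (Fin 2) F} (hg : g ∈ (slEmb F).Zsub) :
    ((slEmb F).mm g 0 0 = 1 ∧ g = 1) ∨ ((slEmb F).mm g 0 0 = -1 ∧ g = -1) := by
  obtain ⟨h1, h2, h3⟩ := hg
  have hd := det_sl g
  rw [Matrix.det_fin_two, h1, zero_mul, sub_zero, ← h3, mul_self_eq_one_iff] at hd
  rcases hd with e | e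
  · refine Or.inl ⟨e, (slEmb F).mm_inj ?_⟩
    rw [IsScal.eq_smul ⟨h1, h2, h3⟩, e, one_smul, Emb2.mm_one]
  · refine Or.inr ⟨e, (slEmb F).mm_inj ?_⟩
    rw [IsScal.eq_smul ⟨h1, h2, h3⟩, e, mm_sl]
    simp

theorem neg_one_mem_Z : (-1 : Matrix.SpecialLinearGroup (Fin 2) F) ∈ (slEmb F).Zsub := by
  simp [Emb2.mem_Zsub, IsScal, mm_sl]

theorem neg_one_sl_ne_one (h2 : (2 : F) ≠ 0) : (-1 : Matrix.SpecialLinearGroup (Fin 2) F) ≠ 1 := by
  intro e
  have := congrArg (fun g => (slEmb F).mm g 0 0) e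
  simp [mm_sl] at this
  exact h2 (by linear_combination -this)

theorem center_eq : Subgroup.center (Matrix.SpecialLinearGroup (Fin 2) F) = (slEmb F).Zsub := by
  refine le_antisymm (fun g hg => ?_) (slEmb F).Zsub_le_center
  obtain ⟨a, ha⟩ := (slEmb F).exists_u (1 : F)
  obtain ⟨b, hb⟩ := (slEmb F).exists_of_det (Subgroup.one_mem _)
    (M := !![(1 : F), 0; 1, 1]) (d := 1) (by simp [Matrix.det_fin_two])
  have e1 := congrArg (slEmb F).mm (Subgroup.mem_center_iff.1 hg a)
  have e2 := congrArg (slEmb F).mm (Subgroup.mem_center_iff.1 hg b)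
  rw [Emb2.mm_mul, Emb2.mm_mul, ha] at e1
  rw [Emb2.mm_mul, Emb2.mm_mul, hb] at e2
  have p00 := congrFun (congrFun e1 0) 0
  have p01 := congrFun (congrFun e1 0) 1
  have q00 := congrFun (congrFun e2 0) 0
  simp [Matrix.mul_apply, Fin.sum_univ_two] at p00 p01 q00
  refine ⟨q00, p00, ?_⟩
  linear_combination -p01

theorem sq_eq_one_mem_Z {g : Matrix.SpecialLinearGroup (Fin 2) F} (h2 : (2 : F) ≠ 0) (h : g * g = 1) :
    g ∈ (slEmb F).Zsub := by
  have e := cayley2 ((slEmb F).mm g)
  rw [← Emb2.mm_mul, h, Emb2.mm_one, det_sl, one_smul] at e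
  have e01 := congrFun (congrFun e 0) 1
  have e10 := congrFun (congrFun e 1) 0
  have e00 := congrFun (congrFun e 0) 0
  have e11 := congrFun (congrFun e 1) 1
  simp at e01 e10 e00 e11
  have ht : ((slEmb F).mm g).trace ≠ 0 := by
    intro h0
    rw [h0, zero_mul, zero_sub] at e00
    exact h2 (by linear_combination e00)
  exact ⟨e01.resolve_left ht, e10.resolve_left ht, mul_left_cancel₀ ht (by linear_combination e11 - e00)⟩

variable [Fintype F]

theorem two_ne_zero_of_odd (hodd : Odd (Fintype.card F)) : (2 : F) ≠ 0 := by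
  have hc : ringChar F ≠ 2 := fun hc =>
    Nat.not_odd_iff_even.2 (Nat.even_iff.2 (FiniteField.even_card_of_char_two hc)) hodd
  exact Ring.two_ne_zero hc

theorem two_eq_zero_of_char [CharP F 2] : (2 : F) = 0 := CharP.cast_eq_zero F 2

theorem card_slT : Nat.card (slEmb F).Tsub = Fintype.card F - 1 := by
  rw [Emb2.card_T, Nat.card_eq_fintype_card (α := F)]
  simp [slEmb]

theorem isCyclic_nonSplit {C : Subgroup (Matrix.SpecialLinearGroup (Fin 2) F)}
    (hC : (slEmb F).NonSplit C) : IsCyclic C := by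
  by_cases hc : ∃ c ∈ C, c ∉ (slEmb F).Zsub
  swap
  · exfalso
    push_neg at hc
    have hle : Nat.card C ≤ Nat.card (slEmb F).Zsub := Subgroup.card_le_of_le hc
    rw [hC.card] at hle
    have h2 : Nat.card (slEmb F).Zsub ≤ 2 := by
      calc Nat.card (slEmb F).Zsub
          ≤ Nat.card ({1, -1} : Set (Matrix.SpecialLinearGroup (Fin 2) F)) :=
            Nat.card_mono (Set.toFinite _) fun g hg => by
              rcases sl_mem_Z hg with ⟨-, e⟩ | ⟨-, e⟩ <;> simp [e]
        _ ≤ 2 := by
            rw [Nat.card_coe_set_eq]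
            exact (Set.ncard_insert_le _ _).trans (by rw [Set.ncard_singleton])
    have : 1 < Fintype.card F := Fintype.one_lt_card
    simp [slEmb] at hle
    simp [slEmb] at h2
    omega
  obtain ⟨c, hc, hcz⟩ := hc
  let N := (slEmb F).mm c
  have hN : NoEig N := hC.noEig c hc hcz
  let R : Subalgebra F (Matrix (Fin 2) (Fin 2) F) := Subalgebra.centralizer F {N}
  have hcomb : ∀ x : R, ∃ a b : F, (x : Matrix (Fin 2) (Fin 2) F) = a • 1 + b • N := fun x => by
    have hx : N * (x : Matrix (Fin 2) (Fin 2) F) = x * N := x.2 N rfl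
    exact ⟨_, _, exists_eq_add_of_commute hx.symm hN.lower_ne⟩
  letI cr : CommRing R :=
    { (inferInstance : Ring R) with
      mul_comm := fun x y => by
        obtain ⟨a, b, hx⟩ := hcomb x
        obtain ⟨a', b', hy⟩ := hcomb y
        apply Subtype.ext
        show (x : Matrix (Fin 2) (Fin 2) F) * y = y * x
        rw [hx, hy]
        simp only [add_mul, mul_add, Matrix.smul_mul, Matrix.mul_smul, one_mul, mul_one, smul_smul]
        simp only [mul_comm]
        abel }
  haveI : NoZeroDivisors R := ⟨fun {x y} h => by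
    by_contra hh
    push_neg at hh
    have hdet : ∀ x : R, x ≠ 0 → (x : Matrix (Fin 2) (Fin 2) F).det ≠ 0 := fun x hx => by
      obtain ⟨a, b, e⟩ := hcomb x
      rw [e]
      refine hN.det_ne a b ?_
      by_contra hab
      push_neg at hab
      exact hx (Subtype.ext (by rw [e, hab.1, hab.2]; simp))
    have h0 := congrArg (fun z : R => (z : Matrix (Fin 2) (Fin 2) F).det) h
    simp [Matrix.det_mul] at h0
    rcases h0 with h0 | h0
    · exact hdet x hh.1 h0
    · exact hdet y hh.2 h0⟩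
  haveI : Nontrivial R := ⟨0, 1, fun e => zero_ne_one (congrArg Subtype.val e :
    (0 : Matrix (Fin 2) (Fin 2) F) = 1)⟩
  haveI : IsDomain R := NoZeroDivisors.to_isDomain R
  refine isCyclic_of_subgroup_isDomain (R := R)
    { toFun := fun g : C => (⟨(slEmb F).mm g, ?_⟩ : R)
      map_one' := Subtype.ext (Emb2.mm_one _)
      map_mul' := fun a b => Subtype.ext (Emb2.mm_mul _ _ _) } ?_
  · intro M hM
    rw [Set.mem_singleton_iff] at hM
    subst hM
    show N * _ = _ * N
    rw [← Emb2.mm_mul, ← Emb2.mm_mul, hC.comm c hc g g.2]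
  · intro a b h
    have h' := congrArg Subtype.val h
    exact Subtype.ext ((slEmb F).mm_inj h')

/-- a cyclic subgroup of order `q + 1` of SL₂ is a non-split torus -/
theorem nonSplit_of_cyclic (hodd : Odd (Fintype.card F))
    (C : Subgroup (Matrix.SpecialLinearGroup (Fin 2) F)) (hC : IsCyclic C)
    (hcard : Nat.card C = Fintype.card F + 1) : (slEmb F).NonSplit C := by
  have h2 := two_ne_zero_of_odd hodd
  have hpow : ∀ c ∈ C, c ^ (Fintype.card F + 1) = 1 := fun c hc => by
    have := pow_card_eq_one' (x := (⟨c, hc⟩ : C))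
    rw [hcard] at this
    exact congrArg Subtype.val this
  refine ⟨fun a ha b hb => ?_, ?_, ?_, ?_⟩
  · obtain ⟨g, hg⟩ := hC.exists_zpow_surjective
    obtain ⟨i, hi⟩ := hg ⟨a, ha⟩
    obtain ⟨j, hj⟩ := hg ⟨b, hb⟩
    have e : (⟨a, ha⟩ : C) * ⟨b, hb⟩ = ⟨b, hb⟩ * ⟨a, ha⟩ := by
      rw [← hi, ← hj]
      exact (Commute.refl g).zpow_zpow i j
    exact congrArg Subtype.val e
  · rw [hcard, Nat.card_eq_fintype_card (α := F)]
    simp [slEmb]
  · have hev : 2 ∣ Nat.card C := by rw [hcard]; exact (hodd.add_odd odd_one).two_dvd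
    obtain ⟨r, hr⟩ := exists_prime_orderOf_dvd_card' 2 hev
    have hr2 : (r : Matrix.SpecialLinearGroup (Fin 2) F) * r = 1 := by
      have := pow_orderOf_eq_one r
      rw [hr, pow_two] at this
      exact congrArg Subtype.val this
    intro z hz
    rcases sl_mem_Z hz with ⟨-, rfl⟩ | ⟨-, rfl⟩
    · exact C.one_mem
    · rcases sl_mem_Z (sq_eq_one_mem_Z h2 hr2) with ⟨-, e⟩ | ⟨-, e⟩
      · rw [(Subtype.ext e : r = 1), orderOf_one] at hr
        exact absurd hr (by norm_num)
      · exact e ▸ r.2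
  · intro c hc hcz l v hv he
    apply hcz
    have hl : ∀ n : ℕ, ((slEmb F).mm (c ^ n)) *ᵥ v = l ^ n • v := by
      intro n
      induction n with
      | zero => simp [Emb2.mm_one]
      | succ n ih =>
        rw [pow_succ, Emb2.mm_mul, ← Matrix.mulVec_mulVec, he, Matrix.mulVec_smul, ih, smul_smul,
          pow_succ']
    have hl1 := hl (Fintype.card F + 1)
    rw [hpow c hc, Emb2.mm_one, Matrix.one_mulVec, pow_succ, FiniteField.pow_card] at hl1
    have hll : l * l = 1 := by
      refine (smul_left_injective F hv (?_ : (1 : F) • v = (l * l) • v)).symm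
      rw [one_smul]; exact hl1
    set M := (slEmb F).mm c with hM
    have hdet : (l • (1 : Matrix (Fin 2) (Fin 2) F) - M).det = 0 :=
      Matrix.exists_mulVec_eq_zero_iff.1 ⟨v, hv, by
        rw [Matrix.sub_mulVec, Matrix.smul_mulVec, Matrix.one_mulVec, he, sub_self]⟩
    have htr : M.trace = 2 * l := by
      have hd := det_sl c
      rw [← hM, Matrix.det_fin_two] at hd
      rw [Matrix.det_fin_two] at hdet
      simp at hdet
      rw [Matrix.trace_fin_two]
      linear_combination (l - M 0 0 - M 1 1) * hll + l * hd - l * hdet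
    -- `M = l (1 + W)` with `W ^ 2 = 0`
    let W : Matrix (Fin 2) (Fin 2) F := l • M - 1
    have hMW : M = l • (1 + W) := by simp [W, smul_smul, hll]
    have hW : W * W = 0 := by
      have e := cayley2 M
      rw [htr, det_sl, one_smul] at e
      simp only [W, sub_mul, mul_sub, Matrix.smul_mul, Matrix.mul_smul, one_mul, mul_one, smul_smul,
        hll, e]
      module
    have hpw : ∀ n : ℕ, M ^ n = l ^ n • (1 + (n : F) • W) := by
      intro n
      induction n with
      | zero => simp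
      | succ n ih =>
        rw [pow_succ M, ih]
        conv_lhs => arg 2; rw [hMW]
        rw [smul_mul_smul_comm, ← pow_succ, add_mul, one_mul, Matrix.smul_mul, mul_add, mul_one, hW]
        simp only [smul_add, smul_smul, add_zero, Nat.cast_succ, add_mul, one_mul, add_smul]
        module
    have hmm : ∀ n : ℕ, (slEmb F).mm (c ^ n) = M ^ n := by
      intro n
      induction n with
      | zero => simp [Emb2.mm_one]
      | succ n ih => rw [pow_succ, pow_succ, Emb2.mm_mul, ih]
    have hlast := hpw (Fintype.card F + 1)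
    rw [← hmm, hpow c hc, Emb2.mm_one, pow_succ, FiniteField.pow_card, hll, one_smul,
      Nat.cast_succ, Nat.cast_card_eq_zero, zero_add, one_smul] at hlast
    rw [Emb2.mem_Zsub, ← hM, hMW, left_eq_add.1 hlast]
    simp [IsScal]

end H17
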