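import Cfsg.Agent.H17.RankOneIrr
import Cfsg.Agent.H13.PermChar

/-!
The permutation character of SLₙ(q) on nonzero vectors.
-/

set_option autoImplicit false
set_option linter.unusedSectionVars false

namespace H17

open Finset Cfsg
open scoped ComplexConjugate Classical

/-- twisted orbit counting -/
theorem card_twist {G X κ : Type*} [Group G] [MulAction G X] (φ : X → X)
    (hφ : ∀ (g : G) (x : X), φ (g • x) = g • φ x) (inv : X → κ)
    (hinv : ∀ (g : G) (x : X), inv (g • x) = inv x)
    (P : κ → Prop) (hP : ∀ (g : G) (x : X), g • x = φ x → P (inv x))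
    (hsurj : ∀ k, P k → ∃ (x : X) (g : G), inv x = k ∧ g • x = φ x)
    (hone : ∀ x y : X, inv x = inv y → ∃ g : G, g • x = y) :
    Nat.card (Σ g : G, {x : X // g • x = φ x}) = Nat.card {k // P k} * Nat.card G := by
  choose x₀ h₀ hx₀ using fun k : {k // P k} => hsurj k.1 k.2
  have ht : ∀ x : X, ∀ hx : P (inv x), ∃ t : G, t • x₀ ⟨inv x, hx⟩ = x := fun x hx =>
    hone _ _ (hx₀ ⟨inv x, hx⟩).1
  choose t ht using ht
  rw [← Nat.card_prod]
  have hfix : ∀ k : {k // P k}, h₀ k • x₀ k = φ (x₀ k) := fun k => (hx₀ k).2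
  have hf : ∀ p : {k // P k} × G, P (inv (p.2 • x₀ p.1)) ∧
      inv (p.2 • x₀ p.1) = p.1.1 := fun p => by
    have e := (hinv p.2 (x₀ p.1)).trans (hx₀ p.1).1
    exact ⟨e ▸ p.1.2, e⟩
  let T : {k // P k} × G → G := fun p => t (p.2 • x₀ p.1) (hf p).1
  have hT : ∀ p, T p • x₀ p.1 = p.2 • x₀ p.1 := fun p => by
    have h := ht (p.2 • x₀ p.1) (hf p).1
    rwa [show (⟨inv (p.2 • x₀ p.1), (hf p).1⟩ : {k // P k}) = p.1 from Subtype.ext (hf p).2] at h
  let f : {k // P k} × G → Σ g : G, {x : X // g • x = φ x} := fun p =>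
    ⟨T p * h₀ p.1 * (T p)⁻¹ * p.2 * (T p)⁻¹, p.2 • x₀ p.1, by
      have hs : (T p)⁻¹ • (p.2 • x₀ p.1) = x₀ p.1 := by rw [← hT, inv_smul_smul]
      simp only [mul_smul, hs]
      rw [hfix, ← hφ, hT]⟩
  refine (Nat.card_congr (Equiv.ofBijective f ⟨?_, ?_⟩)).symm
  · intro p q e
    have hx : p.2 • x₀ p.1 = q.2 • x₀ q.1 := congrArg (fun z : Σ g : G, {x : X // g • x = φ x} => z.2.1) e
    have hk : p.1 = q.1 := Subtype.ext ((hf p).2.symm.trans ((congrArg inv hx).trans (hf q).2))
    have hTT : T p = T q := by simp only [T, hx]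
    have hg := congrArg Sigma.fst e
    simp only [f, hTT, hk] at hg
    exact Prod.ext hk (mul_left_cancel (mul_right_cancel hg))
  · rintro ⟨g, x, hgx⟩
    have hx : P (inv x) := hP g x hgx
    set k : {k // P k} := ⟨inv x, hx⟩ with hk
    set s := t x hx with hs
    have hsx : s • x₀ k = x := ht x hx
    let u := (s * h₀ k * s⁻¹)⁻¹ * g * s
    have hu : u • x₀ k = x := by
      have h1 : (s * h₀ k * s⁻¹) • x = φ x := by
        rw [mul_smul, mul_smul, show s⁻¹ • x = x₀ k by rw [← hsx, inv_smul_smul], hfix, ← hφ, hsx]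
      simp only [u, mul_smul, hsx, hgx]
      rw [← h1]
      simp only [mul_inv_rev, inv_inv, mul_smul, inv_smul_smul, smul_inv_smul]
    have hT' : T (k, u) = s := by
      simp only [T, hu]
      rfl
    refine ⟨(k, u), ?_⟩
    refine Sigma.ext ?_ ?_
    · simp only [f, hT', u]
      group
    · refine (Subtype.heq_iff_coe_eq fun y => ?_).2 hu
      simp only [f, hT', u]
      constructor <;> intro h <;> (convert h using 2; group)

variable {F : Type*} [Field F] [Fintype F] {n : ℕ}

/-- nonzero vectors -/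
abbrev NZVec (F : Type*) [Field F] (n : ℕ) : Type _ := {v : Fin n → F // v ≠ 0}

theorem mulVec_ne_zero (g : Matrix.SpecialLinearGroup (Fin n) F) {v : Fin n → F} (hv : v ≠ 0) :
    (g : Matrix (Fin n) (Fin n) F).mulVec v ≠ 0 := by
  intro h
  apply hv
  have := congrArg ((g⁻¹ : Matrix.SpecialLinearGroup (Fin n) F) : Matrix (Fin n) (Fin n) F).mulVec h
  rwa [Matrix.mulVec_mulVec, ← Matrix.SpecialLinearGroup.coe_mul, inv_mul_cancel,
    Matrix.SpecialLinearGroup.coe_one, Matrix.one_mulVec, Matrix.mulVec_zero] at this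

noncomputable instance slActNZ : MulAction (Matrix.SpecialLinearGroup (Fin n) F) (NZVec F n) where
  smul g v := ⟨(g : Matrix (Fin n) (Fin n) F).mulVec v.1, mulVec_ne_zero g v.2⟩
  one_smul v := Subtype.ext (by
    show ((1 : Matrix.SpecialLinearGroup (Fin n) F) : Matrix (Fin n) (Fin n) F).mulVec v.1 = v.1
    rw [Matrix.SpecialLinearGroup.coe_one, Matrix.one_mulVec])
  mul_smul g h v := Subtype.ext (by
    show ((g * h : Matrix.SpecialLinearGroup (Fin n) F) : Matrix (Fin n) (Fin n) F).mulVec v.1 = _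
    rw [Matrix.SpecialLinearGroup.coe_mul, ← Matrix.mulVec_mulVec]
    rfl)

theorem nz_smul_val (g : Matrix.SpecialLinearGroup (Fin n) F) (v : NZVec F n) :
    (g • v).1 = (g : Matrix (Fin n) (Fin n) F).mulVec v.1 := rfl

/-- scaling a nonzero vector -/
def nzScale (a : Fˣ) (v : NZVec F n) : NZVec F n :=
  ⟨(a : F) • v.1, smul_ne_zero a.ne_zero v.2⟩

theorem nzScale_smul (a : Fˣ) (g : Matrix.SpecialLinearGroup (Fin n) F) (v : NZVec F n) :
    nzScale a (g • v) = g • nzScale a v :=
  Subtype.ext (Matrix.mulVec_smul (g : Matrix (Fin n) (Fin n) F) (a : F) v.1).symm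

theorem exists_sl_map (hn : 3 ≤ n) {v w : Fin n → F} (h : LinearIndependent F ![v, w]) :
    ∃ g : Matrix.SpecialLinearGroup (Fin n) F,
      (g : Matrix (Fin n) (Fin n) F).mulVec (Pi.single ⟨0, by omega⟩ 1) = v ∧
      (g : Matrix (Fin n) (Fin n) F).mulVec (Pi.single ⟨1, by omega⟩ 1) = w := by
  let b := Module.Basis.sumExtend h
  haveI : Finite (Fin 2 ⊕ Module.Basis.sumExtendIndex h) := Module.Finite.finite_basis b
  haveI : Finite (Module.Basis.sumExtendIndex h) := Finite.sum_right (Fin 2)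
  have hc : Nat.card (Module.Basis.sumExtendIndex h) = n - 2 := by
    have h1 := Module.finrank_eq_nat_card_basis b
    rw [Module.finrank_fin_fun, Nat.card_sum, Nat.card_fin] at h1
    omega
  let e : Fin 2 ⊕ Module.Basis.sumExtendIndex h ≃ Fin n :=
    ((Equiv.refl (Fin 2)).sumCongr ((Finite.equivFin _).trans (finCongr hc))).trans
      (finSumFinEquiv.trans (finCongr (by omega)))
  let b' := b.reindex e
  let M : Matrix (Fin n) (Fin n) F := Matrix.of fun i j => b' j i
  have hcol : ∀ j, M.mulVec (Pi.single j 1) = b' j := fun j => by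
    rw [Matrix.mulVec_single_one]
    rfl
  have hu : IsUnit M := by
    rw [← Matrix.linearIndependent_cols_iff_isUnit]
    exact b'.linearIndependent
  have hd : M.det ≠ 0 := ((Matrix.isUnit_iff_isUnit_det M).1 hu).ne_zero
  let D : Matrix (Fin n) (Fin n) F := Matrix.diagonal fun j => if j = ⟨2, by omega⟩ then M.det⁻¹ else 1
  have hD : D.det = M.det⁻¹ := by
    simp only [D, Matrix.det_diagonal]
    rw [Finset.prod_eq_single (⟨2, by omega⟩ : Fin n) (fun j _ hj => if_neg hj) (by simp), if_pos rfl]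
  have h0 : b' ⟨0, by omega⟩ = v := by
    simp only [b', Module.Basis.reindex_apply]
    rw [show e.symm ⟨0, by omega⟩ = Sum.inl 0 from by rw [Equiv.symm_apply_eq]; rfl]
    simp [b, Module.Basis.sumExtend]
    rfl
  have h1 : b' ⟨1, by omega⟩ = w := by
    simp only [b', Module.Basis.reindex_apply]
    rw [show e.symm ⟨1, by omega⟩ = Sum.inl 1 from by rw [Equiv.symm_apply_eq]; rfl]
    simp [b, Module.Basis.sumExtend]
    rfl
  have hDs : ∀ j : Fin n, j ≠ ⟨2, by omega⟩ → D.mulVec (Pi.single j 1) = Pi.single j 1 := fun j hj => by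
    ext i
    simp only [D, Matrix.mulVec_diagonal]
    by_cases hij : i = j
    · subst hij; simp [hj]
    · simp [hij]
  refine ⟨⟨M * D, by rw [Matrix.det_mul, hD, mul_inv_cancel₀ hd]⟩, ?_, ?_⟩
  · show (M * D).mulVec _ = v
    rw [← Matrix.mulVec_mulVec, hDs _ (by simp), hcol, h0]
  · show (M * D).mulVec _ = w
    rw [← Matrix.mulVec_mulVec, hDs _ (by simp), hcol, h1]

/-- the ratio of a pair of nonzero vectors, if dependent -/
noncomputable def pairRatio (p : NZVec F n × NZVec F n) : Option Fˣ :=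
  if h : ∃ c : Fˣ, p.2 = nzScale c p.1 then some h.choose else none

theorem nzScale_left_injective (v : NZVec F n) : Function.Injective fun c : Fˣ => nzScale c v :=
  fun _ _ h => Units.ext (smul_left_injective F v.2 (congrArg Subtype.val h))

theorem pairRatio_some {p : NZVec F n × NZVec F n} {c : Fˣ} (h : p.2 = nzScale c p.1) :
    pairRatio p = some c := by
  have he : ∃ c : Fˣ, p.2 = nzScale c p.1 := ⟨c, h⟩
  rw [pairRatio, dif_pos he]
  exact congrArg some (nzScale_left_injective p.1 (he.choose_spec.symm.trans h))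

theorem eq_of_pairRatio_some {p : NZVec F n × NZVec F n} {c : Fˣ} (h : pairRatio p = some c) :
    p.2 = nzScale c p.1 := by
  by_cases he : ∃ c : Fˣ, p.2 = nzScale c p.1
  · obtain ⟨d, hd⟩ := he
    rw [pairRatio_some hd] at h
    obtain rfl := Option.some.inj h
    exact hd
  · rw [pairRatio, dif_neg he] at h
    exact absurd h (by simp)

theorem indep_of_pairRatio_none {p : NZVec F n × NZVec F n} (h : pairRatio p = none) :
    LinearIndependent F ![p.1.1, p.2.1] := by
  rw [LinearIndependent.pair_iff' p.1.2]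
  intro a ha
  have ha0 : a ≠ 0 := fun e => p.2.2 (by rw [← ha, e, zero_smul])
  rw [pairRatio_some (c := Units.mk0 a ha0) (Subtype.ext ha.symm)] at h
  simp at h

theorem pairRatio_smul (g : Matrix.SpecialLinearGroup (Fin n) F) (p : NZVec F n × NZVec F n) :
    pairRatio (g • p) = pairRatio p := by
  rcases h : pairRatio p with _ | c
  · rcases h' : pairRatio (g • p) with _ | c
    · rfl
    · have e := eq_of_pairRatio_some h'
      rw [Prod.smul_fst, Prod.smul_snd, nzScale_smul] at e
      rw [pairRatio_some (smul_left_cancel g e)] at h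
      simp at h
  · exact pairRatio_some (by rw [Prod.smul_fst, Prod.smul_snd, nzScale_smul, eq_of_pairRatio_some h])

theorem pair_transitive (hn : 3 ≤ n) (p r : NZVec F n × NZVec F n) (h : pairRatio p = pairRatio r) :
    ∃ g : Matrix.SpecialLinearGroup (Fin n) F, g • p = r := by
  have key : ∀ v : NZVec F n, ∃ w : NZVec F n, pairRatio (v, w) = none := by
    intro v
    obtain ⟨w, hw⟩ : ∃ w : Fin n → F, w ∉ Submodule.span F ({v.1} : Set (Fin n → F)) := by
      by_contra hh
      push_neg at hh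
      have htop : Submodule.span F ({v.1} : Set (Fin n → F)) = ⊤ := eq_top_iff.2 fun x _ => hh x
      have := finrank_span_singleton (K := F) v.2
      rw [htop, finrank_top, Module.finrank_fin_fun] at this
      omega
    refine ⟨⟨w, fun e => hw (by rw [e]; exact Submodule.zero_mem _)⟩, ?_⟩
    rw [pairRatio, dif_neg]
    rintro ⟨c, hc⟩
    exact hw (Submodule.mem_span_singleton.2 ⟨c, (congrArg Subtype.val hc).symm⟩)
  have ind : ∀ p r : NZVec F n × NZVec F n, pairRatio p = none → pairRatio r = none →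
      ∃ g : Matrix.SpecialLinearGroup (Fin n) F, g • p = r := by
    intro p r hp hr
    obtain ⟨g, g1, g2⟩ := exists_sl_map hn (indep_of_pairRatio_none hp)
    obtain ⟨k, k1, k2⟩ := exists_sl_map hn (indep_of_pairRatio_none hr)
    refine ⟨k * g⁻¹, ?_⟩
    have h1 : ∀ (u : NZVec F n) (e : Fin n → F), (g : Matrix (Fin n) (Fin n) F).mulVec e = u.1 →
        ((k * g⁻¹) • u).1 = (k : Matrix (Fin n) (Fin n) F).mulVec e := by
      intro u e he
      rw [nz_smul_val, ← he, Matrix.mulVec_mulVec, ← Matrix.SpecialLinearGroup.coe_mul,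
        inv_mul_cancel_right]
    exact Prod.ext (Subtype.ext ((h1 p.1 _ g1).trans k1)) (Subtype.ext ((h1 p.2 _ g2).trans k2))
  rcases hp : pairRatio p with _ | c
  · exact ind p r hp (h ▸ hp)
  · obtain ⟨w, hw⟩ := key p.1
    obtain ⟨w', hw'⟩ := key r.1
    obtain ⟨g, hg⟩ := ind (p.1, w) (r.1, w') hw hw'
    have hg1 : g • p.1 = r.1 := congrArg Prod.fst hg
    refine ⟨g, Prod.ext hg1 ?_⟩
    rw [Prod.smul_snd, eq_of_pairRatio_some hp, eq_of_pairRatio_some (h ▸ hp), ← nzScale_smul, hg1]

/-- eigenvector counts -/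
noncomputable def eigCount (a : Fˣ) (g : Matrix.SpecialLinearGroup (Fin n) F) : ℕ :=
  Nat.card {v : NZVec F n // g • v = nzScale a v}

theorem sum_eigCount (hn : 3 ≤ n) (a : Fˣ) :
    ∑ g : Matrix.SpecialLinearGroup (Fin n) F, eigCount a g
      = Nat.card (Matrix.SpecialLinearGroup (Fin n) F) := by
  have h := card_twist (G := Matrix.SpecialLinearGroup (Fin n) F) (X := NZVec F n) (nzScale a)
    (fun g x => nzScale_smul a g x) (fun _ => ()) (fun _ _ => rfl) (fun _ => True) (fun _ _ _ => trivial)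
    (fun _ _ => by
      let e : NZVec F n := ⟨Pi.single ⟨0, by omega⟩ 1, fun h => by simpa using congrFun h ⟨0, by omega⟩⟩
      obtain ⟨g, hg⟩ := pair_transitive hn (e, e) (nzScale a e, nzScale a e)
        ((pairRatio_some (c := 1) (Subtype.ext (one_smul F _).symm)).trans
          (pairRatio_some (c := 1) (Subtype.ext (one_smul F _).symm)).symm)
      exact ⟨e, g, rfl, congrArg Prod.fst hg⟩)
    (fun x y _ => by
      obtain ⟨g, hg⟩ := pair_transitive hn (x, x) (y, y)
        ((pairRatio_some (c := 1) (Subtype.ext (one_smul F _).symm)).trans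
          (pairRatio_some (c := 1) (Subtype.ext (one_smul F _).symm)).symm)
      exact ⟨g, congrArg Prod.fst hg⟩)
  rw [Nat.card_sigma] at h
  simpa [eigCount] using h

theorem sum_eigCount_mul (hn : 3 ≤ n) (a b : Fˣ) :
    ∑ g : Matrix.SpecialLinearGroup (Fin n) F, eigCount a g * eigCount b g
      = (if a = b then Fintype.card F else 1) * Nat.card (Matrix.SpecialLinearGroup (Fin n) F) := by
  have h := card_twist (G := Matrix.SpecialLinearGroup (Fin n) F) (X := NZVec F n × NZVec F n)
    (fun p => (nzScale a p.1, nzScale b p.2))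
    (fun g x => Prod.ext (nzScale_smul a g x.1) (nzScale_smul b g x.2)) pairRatio pairRatio_smul
    (fun o => o.isSome → a = b)
    (fun g x hgx ho => by
      obtain ⟨c, hc⟩ := Option.isSome_iff_exists.1 ho
      have e1 : g • x.1 = nzScale a x.1 := congrArg Prod.fst hgx
      have e2 : g • x.2 = nzScale b x.2 := congrArg Prod.snd hgx
      rw [eq_of_pairRatio_some hc, ← nzScale_smul, e1] at e2
      have e3 : nzScale (c * a) x.1 = nzScale (b * c) x.1 :=
        Subtype.ext (by simpa [nzScale, smul_smul] using congrArg Subtype.val e2)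
      have := nzScale_left_injective x.1 e3
      rw [mul_comm b c] at this
      exact mul_left_cancel this)
    (fun o ho => by
      let e : NZVec F n := ⟨Pi.single ⟨0, by omega⟩ 1, fun h => by simpa using congrFun h ⟨0, by omega⟩⟩
      let e' : NZVec F n := ⟨Pi.single ⟨1, by omega⟩ 1, fun h => by simpa using congrFun h ⟨1, by omega⟩⟩
      rcases o with _ | c
      · have hee : ∀ s t : Fˣ, pairRatio (nzScale s e, nzScale t e') = none := fun s t => by
          rw [pairRatio, dif_neg]
          rintro ⟨c, hc⟩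
          have := congrFun (congrArg Subtype.val hc) ⟨1, by omega⟩
          simp [nzScale, e, e'] at this
        obtain ⟨g, hg⟩ := pair_transitive hn (nzScale 1 e, nzScale 1 e') (nzScale (a * 1) e, nzScale (b * 1) e')
          ((hee _ _).trans (hee _ _).symm)
        refine ⟨(nzScale 1 e, nzScale 1 e'), g, hee 1 1, hg.trans ?_⟩
        exact Prod.ext (Subtype.ext (by simp [nzScale])) (Subtype.ext (by simp [nzScale]))
      · obtain rfl := ho rfl
        obtain ⟨g, hg⟩ := pair_transitive hn (e, nzScale c e) (nzScale a e, nzScale a (nzScale c e))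
          ((pairRatio_some (c := c) rfl).trans (pairRatio_some (c := c)
            (Subtype.ext (by simp [nzScale, smul_smul, mul_comm]))).symm)
        exact ⟨(e, nzScale c e), g, pairRatio_some rfl, hg⟩)
    (pair_transitive hn)
  rw [Nat.card_sigma] at h
  have hcount : Nat.card {o : Option Fˣ // o.isSome = true → a = b} = if a = b then Fintype.card F else 1 := by
    split_ifs with hab
    · rw [Nat.card_congr (Equiv.subtypeUnivEquiv fun _ _ => hab), Finite.card_option, Nat.card_units,
        Nat.card_eq_fintype_card]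
      have := Fintype.card_pos (α := F)
      omega
    · rw [Nat.card_eq_one_iff_unique]
      refine ⟨⟨fun x y => Subtype.ext ?_⟩, ⟨⟨none, by simp⟩⟩⟩
      rcases hx : x.1 with _ | c
      · rcases hy : y.1 with _ | d
        · rfl
        · exact absurd (y.2 (by rw [hy]; rfl)) hab
      · exact absurd (x.2 (by rw [hx]; rfl)) hab
  rw [hcount] at h
  rw [← h]
  refine Finset.sum_congr rfl fun g _ => ?_
  rw [eigCount, eigCount, ← Nat.card_prod]
  exact Nat.card_congr
    { toFun := fun p => ⟨(p.1.1, p.2.1), Prod.ext p.1.2 p.2.2⟩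
      invFun := fun p => (⟨p.1.1, congrArg Prod.fst p.2⟩, ⟨p.1.2, congrArg Prod.snd p.2⟩)
      left_inv := fun _ => rfl
      right_inv := fun _ => rfl }

noncomputable instance slUnitsActNZ :
    MulAction (Matrix.SpecialLinearGroup (Fin n) F × Fˣ) (NZVec F n) where
  smul p v := nzScale p.2⁻¹ (p.1 • v)
  one_smul v := Subtype.ext (by
    show ((1 : Fˣ)⁻¹ : Fˣ).val • ((1 : Matrix.SpecialLinearGroup (Fin n) F) • v).1 = v.1
    rw [inv_one, Units.val_one, one_smul, one_smul])
  mul_smul p r v := by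
    show nzScale (p.2 * r.2)⁻¹ ((p.1 * r.1) • v) = nzScale p.2⁻¹ (p.1 • nzScale r.2⁻¹ (r.1 • v))
    rw [← nzScale_smul, mul_smul]
    exact Subtype.ext (by simp [nzScale, smul_smul, mul_comm])

theorem isCharacter_eigCount :
    IsCharacter (Matrix.SpecialLinearGroup (Fin n) F × Fˣ) (fun p => (eigCount p.2 p.1 : ℂ)) := by
  have h : (fun p : Matrix.SpecialLinearGroup (Fin n) F × Fˣ => (eigCount p.2 p.1 : ℂ))
      = fun p => (Nat.card (MulAction.fixedBy (NZVec F n) p) : ℂ) := funext fun p => by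
    rw [eigCount]
    refine congrArg _ (Nat.card_congr (Equiv.subtypeEquivRight fun v => ?_))
    show _ ↔ nzScale p.2⁻¹ (p.1 • v) = v
    constructor
    · intro e; rw [e]; exact Subtype.ext (by simp [nzScale, smul_smul])
    · intro e
      conv_rhs => rw [← e]
      exact Subtype.ext (by simp [nzScale, smul_smul])
  rw [h, H13.permChar_eq]
  exact H12.isCharacter_character _

/-- eigen component of the permutation character -/
noncomputable def eigChar (l : Fˣ →* ℂˣ) (g : Matrix.SpecialLinearGroup (Fin n) F) : ℂ :=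
  (Fintype.card Fˣ : ℂ)⁻¹ * ∑ a : Fˣ, conj (l a : ℂ) * (eigCount a g : ℂ)

theorem eigChar_int (l : Fˣ →* ℂˣ) (χ : IrrCharacter (Matrix.SpecialLinearGroup (Fin n) F)) :
    ∃ m : ℕ, classInner (eigChar l) (χ : Matrix.SpecialLinearGroup (Fin n) F → ℂ) = m := by
  have h1 : IsCharacter (Matrix.SpecialLinearGroup (Fin n) F × Fˣ)
      (fun p => (χ : Matrix.SpecialLinearGroup (Fin n) F → ℂ) p.1) :=
    (H12.IsCharacter.comp (H12.isCharacter_irr χ) (MonoidHom.fst (Matrix.SpecialLinearGroup (Fin n) F) Fˣ) :)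
  have h2 : IsCharacter (Matrix.SpecialLinearGroup (Fin n) F × Fˣ) (fun p => (l p.2 : ℂ)) :=
    (H12.isCharacter_monoidHom (l.comp (MonoidHom.snd (Matrix.SpecialLinearGroup (Fin n) F) Fˣ)) :)
  obtain ⟨m, hm⟩ := H12.IsCharacter.classInner_nat (isCharacter_eigCount (F := F) (n := n))
    (H12.IsCharacter.mul h1 h2)
  refine ⟨m, ?_⟩
  rw [← hm, H12.classInner_def, H12.classInner_def, Nat.card_prod, Nat.cast_mul, mul_inv,
    mul_assoc, Fintype.sum_prod_type]
  congr 1
  rw [Finset.mul_sum]
  refine Finset.sum_congr rfl fun g _ => ?_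
  rw [eigChar, Nat.card_eq_fintype_card, Finset.mul_sum, Finset.mul_sum, Finset.sum_mul]
  refine Finset.sum_congr rfl fun a _ => ?_
  simp only [Pi.mul_apply, map_mul]
  ring

theorem classInner_eigChar (hn : 3 ≤ n) (l m : Fˣ →* ℂˣ) :
    classInner (eigChar (n := n) l) (eigChar m)
      = (if l = 1 then 1 else 0) * (if m = 1 then 1 else 0) + if l = m then 1 else 0 := by
  have hcu : (Fintype.card Fˣ : ℂ) ≠ 0 := Nat.cast_ne_zero.2 Fintype.card_ne_zero
  have hG : (Nat.card (Matrix.SpecialLinearGroup (Fin n) F) : ℂ) ≠ 0 := Nat.cast_ne_zero.2 Nat.card_pos.ne'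
  have hsum : ∀ a b : Fˣ, ∑ g : Matrix.SpecialLinearGroup (Fin n) F, (eigCount a g : ℂ) * (eigCount b g : ℂ)
      = (1 + if a = b then (Fintype.card Fˣ : ℂ) else 0) * (Nat.card (Matrix.SpecialLinearGroup (Fin n) F) : ℂ) := by
    intro a b
    have h := congrArg (Nat.cast : ℕ → ℂ) (sum_eigCount_mul hn a b)
    push_cast at h
    rw [h]
    congr 1
    split_ifs
    · rw [Fintype.card_units, Nat.cast_sub Fintype.card_pos, Nat.cast_one]; ring
    · simp
  rw [H12.classInner_def]
  simp only [eigChar, map_mul, map_sum, map_inv₀, Complex.conj_natCast, Complex.conj_conj]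
  have hre : ∀ g : Matrix.SpecialLinearGroup (Fin n) F,
      (Fintype.card Fˣ : ℂ)⁻¹ * (∑ a : Fˣ, conj (l a : ℂ) * (eigCount a g : ℂ)) *
        ((Fintype.card Fˣ : ℂ)⁻¹ * ∑ b : Fˣ, (m b : ℂ) * (eigCount b g : ℂ))
      = (Fintype.card Fˣ : ℂ)⁻¹ * (Fintype.card Fˣ : ℂ)⁻¹ *
        ∑ a : Fˣ, ∑ b : Fˣ, conj (l a : ℂ) * (m b : ℂ) * ((eigCount a g : ℂ) * (eigCount b g : ℂ)) := fun g => by
    rw [mul_mul_mul_comm, Finset.sum_mul_sum]
    exact congrArg _ (Finset.sum_congr rfl fun a _ => Finset.sum_congr rfl fun b _ => by ring)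
  rw [Finset.sum_congr rfl fun g _ => hre g, ← Finset.mul_sum, Finset.sum_comm]
  have hin : ∀ a : Fˣ, ∑ g : Matrix.SpecialLinearGroup (Fin n) F,
      ∑ b : Fˣ, conj (l a : ℂ) * (m b : ℂ) * ((eigCount a g : ℂ) * (eigCount b g : ℂ))
      = (conj (l a : ℂ) * (∑ b : Fˣ, (m b : ℂ)) + (Fintype.card Fˣ : ℂ) * ((m a : ℂ) * conj (l a : ℂ)))
          * (Nat.card (Matrix.SpecialLinearGroup (Fin n) F) : ℂ) := fun a => by
    rw [Finset.sum_comm, Finset.sum_congr rfl fun b _ => by rw [← Finset.mul_sum, hsum a b],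
      Finset.mul_sum, add_mul, Finset.sum_mul]
    rw [show (Fintype.card Fˣ : ℂ) * ((m a : ℂ) * conj (l a : ℂ)) *
      (Nat.card (Matrix.SpecialLinearGroup (Fin n) F) : ℂ) = ∑ b : Fˣ, if a = b then conj (l a : ℂ) * (m b : ℂ) *
        ((Fintype.card Fˣ : ℂ) * (Nat.card (Matrix.SpecialLinearGroup (Fin n) F) : ℂ)) else 0 by
      rw [Finset.sum_ite_eq, if_pos (Finset.mem_univ _)]; ring, ← Finset.sum_add_distrib]
    exact Finset.sum_congr rfl fun b _ => by split_ifs <;> ring
  rw [Finset.sum_congr rfl fun a _ => hin a, ← Finset.sum_mul, Finset.sum_add_distrib, ← Finset.sum_mul,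
    ← Finset.mul_sum, sum_hom_mul_conj, sum_hom, ← map_sum, sum_hom]
  by_cases hlm : l = m
  · subst hlm
    by_cases hl : l = 1 <;>
      simp only [hl, if_true, if_false, Complex.conj_natCast, map_zero] <;> field_simp <;> ring
  · have hml : ¬ m = l := Ne.symm hlm
    by_cases hl : l = 1
    · subst hl
      simp only [hlm, hml, if_true, if_false, Complex.conj_natCast]
      field_simp
      ring
    · simp only [hl, hlm, hml, if_false, map_zero]
      ring

theorem classInner_eigChar_one (hn : 3 ≤ n) (l : Fˣ →* ℂˣ) :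
    classInner (eigChar (n := n) l) (fun _ : Matrix.SpecialLinearGroup (Fin n) F => (1 : ℂ))
      = if l = 1 then 1 else 0 := by
  have hcu : (Fintype.card Fˣ : ℂ) ≠ 0 := Nat.cast_ne_zero.2 Fintype.card_ne_zero
  have hG : (Nat.card (Matrix.SpecialLinearGroup (Fin n) F) : ℂ) ≠ 0 := Nat.cast_ne_zero.2 Nat.card_pos.ne'
  rw [H12.classInner_def]
  simp only [eigChar, map_one, mul_one]
  rw [← Finset.mul_sum, Finset.sum_comm]
  have hin : ∀ a : Fˣ, ∑ g : Matrix.SpecialLinearGroup (Fin n) F, conj (l a : ℂ) * (eigCount a g : ℂ)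
      = conj (l a : ℂ) * (Nat.card (Matrix.SpecialLinearGroup (Fin n) F) : ℂ) := fun a => by
    rw [← Finset.mul_sum, ← Nat.cast_sum, sum_eigCount hn a]
  rw [Finset.sum_congr rfl fun a _ => hin a, ← Finset.sum_mul, ← map_sum, sum_hom]
  split_ifs
  · rw [Complex.conj_natCast]; field_simp
  · simp

theorem isClassFunction_eigChar (l : Fˣ →* ℂˣ) :
    IsClassFunction (Matrix.SpecialLinearGroup (Fin n) F) (eigChar l) := by
  intro g h
  unfold eigChar
  refine congrArg _ (Finset.sum_congr rfl fun a _ => ?_)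
  exact congrArg (fun x => conj (l a : ℂ) * x)
    (H12.IsCharacter.isClassFunction isCharacter_eigCount (g, a) (h, 1) ▸ by simp)

theorem eigChar_one_apply (l : Fˣ →* ℂˣ) :
    eigChar (n := n) l 1 = (Fintype.card Fˣ : ℂ)⁻¹ * (Nat.card (NZVec F n) : ℂ) := by
  unfold eigChar
  rw [Finset.sum_eq_single 1]
  · rw [map_one, Units.val_one, map_one, one_mul, eigCount]
    congr 2
    exact Nat.card_congr (Equiv.subtypeUnivEquiv fun v => by
      rw [one_smul]; exact Subtype.ext (one_smul F _).symm)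
  · intro a _ ha
    have : eigCount a (1 : Matrix.SpecialLinearGroup (Fin n) F) = 0 := by
      rw [eigCount, Nat.card_eq_zero]
      refine Or.inl ⟨fun v => ha (nzScale_left_injective v.1 ?_)⟩
      refine v.2.symm.trans ?_
      rw [one_smul]
      exact Subtype.ext (one_smul F _).symm
    rw [this, Nat.cast_zero, mul_zero]
  · simp

theorem sum_eigChar (g : Matrix.SpecialLinearGroup (Fin n) F) :
    ∑ l : Fˣ →* ℂˣ, eigChar l g = (eigCount 1 g : ℂ) := by
  have hcu : (Fintype.card Fˣ : ℂ) ≠ 0 := Nat.cast_ne_zero.2 Fintype.card_ne_zero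
  simp only [eigChar]
  rw [← Finset.mul_sum, Finset.sum_comm]
  have hin : ∀ a : Fˣ, ∑ l : Fˣ →* ℂˣ, conj (l a : ℂ) * (eigCount a g : ℂ)
      = if a = 1 then (Fintype.card Fˣ : ℂ) * (eigCount a g : ℂ) else 0 := fun a => by
    rw [← Finset.sum_mul, ← map_sum, sum_dual]
    split_ifs <;> simp
  rw [Finset.sum_congr rfl fun a _ => hin a, Finset.sum_ite_eq', if_pos (Finset.mem_univ _)]
  field_simp

/-- the irreducible constituents -/
noncomputable def eigIrr (l : Fˣ →* ℂˣ) (g : Matrix.SpecialLinearGroup (Fin n) F) : ℂ :=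
  eigChar l g - if l = 1 then 1 else 0

theorem classInner_eigIrr (hn : 3 ≤ n) (l m : Fˣ →* ℂˣ) :
    classInner (eigIrr (n := n) l) (eigIrr m) = if l = m then 1 else 0 := by
  have he : ∀ l : Fˣ →* ℂˣ, eigIrr (n := n) l
      = eigChar l - (if l = 1 then (1 : ℂ) else 0) • fun _ : Matrix.SpecialLinearGroup (Fin n) F => (1 : ℂ) :=
    fun l => funext fun g => by by_cases hl : l = 1 <;> simp [eigIrr, hl]
  have hone : classInner (fun _ : Matrix.SpecialLinearGroup (Fin n) F => (1 : ℂ)) (fun _ => (1 : ℂ)) = 1 :=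
    H12.classInner_irr_self (⟨_, H12.isIrrCharacter_one⟩ : IrrCharacter (Matrix.SpecialLinearGroup (Fin n) F))
  rw [he, he, H12.classInner_sub_left, H12.classInner_sub_right, H12.classInner_sub_right,
    H12.classInner_smul_left, H12.classInner_smul_left, H12.classInner_smul_right,
    H12.classInner_smul_right, classInner_eigChar hn, classInner_eigChar_one hn, hone,
    ← H12.conj_classInner (eigChar m), classInner_eigChar_one hn]
  by_cases hl : l = 1 <;> by_cases hm : m = 1 <;> simp [hl, hm]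

theorem isIrr_eigIrr (hn : 3 ≤ n) (l : Fˣ →* ℂˣ) :
    IsIrrCharacter (Matrix.SpecialLinearGroup (Fin n) F) (eigIrr l) := by
  refine isIrr_of_norm_one ?_ ?_ (by rw [classInner_eigIrr hn, if_pos rfl]) ?_
  · intro g h
    simp only [eigIrr, isClassFunction_eigChar l g h]
  · intro χ
    obtain ⟨m, hm⟩ := eigChar_int l χ
    obtain ⟨k, hk⟩ := H12.IsCharacter.classInner_nat (H12.isCharacter_one (G := Matrix.SpecialLinearGroup (Fin n) F))
      (H12.isCharacter_irr χ)
    refine ⟨(m : ℤ) - if l = 1 then (k : ℤ) else 0, ?_⟩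
    have he : eigIrr (n := n) l
        = eigChar l - (if l = 1 then (1 : ℂ) else 0) • fun _ : Matrix.SpecialLinearGroup (Fin n) F => (1 : ℂ) :=
      funext fun g => by by_cases hl : l = 1 <;> simp [eigIrr, hl]
    rw [he, H12.classInner_sub_left, H12.classInner_smul_left, hm, hk]
    split_ifs <;> simp
  · rw [eigIrr, eigChar_one_apply]
    have h1 : Fintype.card Fˣ < Nat.card (NZVec F n) := by
      let e : NZVec F n := ⟨Pi.single ⟨0, by omega⟩ 1, fun h => by simpa using congrFun h ⟨0, by omega⟩⟩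
      let e' : NZVec F n := ⟨Pi.single ⟨1, by omega⟩ 1, fun h => by simpa using congrFun h ⟨1, by omega⟩⟩
      rw [Nat.card_eq_fintype_card]
      refine Fintype.card_lt_of_injective_of_notMem (fun c : Fˣ => nzScale c e) (nzScale_left_injective e)
        (b := e') ?_
      rintro ⟨c, hc⟩
      have := congrFun (congrArg Subtype.val hc) ⟨1, by omega⟩
      simp [nzScale, e, e'] at this
    have hc : (0 : ℝ) < (Fintype.card Fˣ : ℝ) := by exact_mod_cast Fintype.card_pos
    have h2 : (Fintype.card Fˣ : ℝ) < (Nat.card (NZVec F n) : ℝ) := by exact_mod_cast h1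
    have h3 : 1 < (Fintype.card Fˣ : ℝ)⁻¹ * (Nat.card (NZVec F n) : ℝ) := by
      rw [inv_mul_eq_div, lt_div_iff₀ hc, one_mul]; exact h2
    have h4 : ((Fintype.card Fˣ : ℂ)⁻¹ * (Nat.card (NZVec F n) : ℂ)).re
        = (Fintype.card Fˣ : ℝ)⁻¹ * (Nat.card (NZVec F n) : ℝ) := by
      rw [← Complex.ofReal_natCast, ← Complex.ofReal_natCast, ← Complex.ofReal_inv, ← Complex.ofReal_mul,
        Complex.ofReal_re]
    rw [Complex.sub_re, h4]
    split_ifs <;> simp only [Complex.zero_re, Complex.one_re] <;> linarith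

theorem eigIrr_injective (hn : 3 ≤ n) : Function.Injective (eigIrr (F := F) (n := n)) := by
  intro l m e
  by_contra hne
  have h := classInner_eigIrr hn l m
  rw [if_neg hne, e, classInner_eigIrr hn, if_pos rfl] at h
  exact one_ne_zero h

theorem exists_eigIrr_decomp (hn : 3 ≤ n) :
    ∃ χ : Fin (Fintype.card F - 1) → (Matrix.SpecialLinearGroup (Fin n) F → ℂ),
      (∀ i, IsIrrCharacter (Matrix.SpecialLinearGroup (Fin n) F) (χ i)) ∧ Function.Injective χ ∧
      ∀ g : Matrix.SpecialLinearGroup (Fin n) F, (Nat.card {v : Fin n → F // v ≠ 0 ∧ (g : Matrix (Fin n) (Fin n) F).mulVec v = v} : ℂ)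
        = 1 + ∑ i, χ i g := by
  let e : (Fˣ →* ℂˣ) ≃ Fin (Fintype.card F - 1) :=
    Fintype.equivFinOfCardEq (by rw [card_dual, Fintype.card_units])
  refine ⟨fun i => eigIrr (e.symm i), fun i => isIrr_eigIrr hn _,
    (eigIrr_injective hn).comp e.symm.injective, fun g => ?_⟩
  rw [Fintype.sum_equiv e.symm (fun i => eigIrr (e.symm i) g) (fun l => eigIrr l g) fun _ => rfl]
  simp only [eigIrr, Finset.sum_sub_distrib, Finset.sum_ite_eq', Finset.mem_univ, if_true, sum_eigChar]
  rw [eigCount, add_sub_cancel]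
  refine congrArg _ (Nat.card_congr
    { toFun := fun v => ⟨⟨v.1, v.2.1⟩, Subtype.ext (v.2.2.trans (one_smul F _).symm)⟩
      invFun := fun v => ⟨v.1.1, v.1.2, (congrArg Subtype.val v.2).trans (one_smul F _)⟩
      left_inv := fun _ => rfl
      right_inv := fun _ => rfl })

end H17
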