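import Cfsg.Agent.H17.SLInst

/-!
The character table of SL₂(q).
-/

set_option autoImplicit false
set_option linter.unusedSectionVars false

namespace H17

open Finset Cfsg
open scoped ComplexConjugate Classical

variable {F : Type*} [Field F] [Fintype F]
variable {C : Subgroup (Matrix.SpecialLinearGroup (Fin 2) F)} (hC : (slEmb F).NonSplit C)

/-- the rank one datum of SL₂ with non-split torus `C` -/
noncomputable abbrev slD : RankOne (Matrix.SpecialLinearGroup (Fin 2) F) (Multiplicative F) :=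
  Emb2.toRankOne hC

theorem slD_q : (slD hC).q = Fintype.card F := Nat.card_eq_fintype_card

theorem slD_σT (t : (slD hC).T) : (slD hC).σT t = t⁻¹ := Subtype.ext (sl_adj _)

theorem slD_σC (c : (slD hC).C) : (slD hC).σC c = c⁻¹ := Subtype.ext (sl_adj _)

theorem mul_self_iff_inv {X : Type*} [CommGroup X] (α : X →* ℂˣ) (σ : X →* X) (hσ : ∀ x, σ x = x⁻¹) :
    α.comp σ = α ↔ α * α = 1 := by
  constructor
  · intro h
    refine MonoidHom.ext fun x => ?_
    have e := DFunLike.congr_fun h x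
    rw [MonoidHom.comp_apply, hσ, map_inv, inv_eq_iff_mul_eq_one] at e
    exact e
  · intro h
    refine MonoidHom.ext fun x => ?_
    rw [MonoidHom.comp_apply, hσ, map_inv, inv_eq_iff_mul_eq_one]
    exact DFunLike.congr_fun h x

theorem slT_fixed_iff (α : (slD hC).T →* ℂˣ) : α.comp (slD hC).σT = α ↔ α * α = 1 :=
  mul_self_iff_inv α _ (slD_σT hC)

theorem slC_fixed_iff (α : (slD hC).C →* ℂˣ) : α.comp (slD hC).σC = α ↔ α * α = 1 :=
  mul_self_iff_inv α _ (slD_σC hC)

theorem sl_card_T : Nat.card (slD hC).T = Fintype.card F - 1 := card_slT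

theorem sl_card_C : Nat.card (slD hC).C = Fintype.card F + 1 := by
  show Nat.card C = _
  rw [hC.card, Nat.card_eq_fintype_card (α := F)]
  simp [slEmb]

theorem slT_mem_Z_iff (g : Matrix.SpecialLinearGroup (Fin 2) F) (hg : g ∈ (slD hC).T) :
    g ∈ (slD hC).Z ↔ (g : Matrix (Fin 2) (Fin 2) F) 0 0 ^ 2 = 1 := by
  obtain ⟨g1, g2⟩ := hg
  rw [mm_sl] at g1 g2
  have hd := g.2
  rw [Matrix.det_fin_two, g1, zero_mul, sub_zero] at hd
  constructor
  · rintro ⟨-, -, h⟩
    rw [mm_sl] at h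
    rw [sq]
    nth_rewrite 2 [h]
    exact hd
  · intro h
    refine ⟨g1, g2, ?_⟩
    rw [mm_sl]
    have : (g : Matrix (Fin 2) (Fin 2) F) 0 0 ≠ 0 := fun e => by simp [e] at h
    exact mul_left_cancel₀ this (by linear_combination h - hd)

theorem mem_slT {g : Matrix.SpecialLinearGroup (Fin 2) F} (h01 : (g : Matrix (Fin 2) (Fin 2) F) 0 1 = 0)
    (h10 : (g : Matrix (Fin 2) (Fin 2) F) 1 0 = 0) : g ∈ (slD hC).T := ⟨h01, h10⟩

theorem slT_of_diag {g : Matrix.SpecialLinearGroup (Fin 2) F} (h01 : (g : Matrix (Fin 2) (Fin 2) F) 0 1 = 0)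
    (h10 : (g : Matrix (Fin 2) (Fin 2) F) 1 0 = 0) (h : (g : Matrix (Fin 2) (Fin 2) F) 0 0 ^ 2 ≠ 1) :
    g ∉ (slD hC).Z :=
  fun hz => h ((slT_mem_Z_iff hC g (mem_slT hC h01 h10)).1 hz)

theorem sl_noEig_conj {g : Matrix.SpecialLinearGroup (Fin 2) F}
    (hg : ∀ (c : F) (v : Fin 2 → F), v ≠ 0 → (g : Matrix (Fin 2) (Fin 2) F).mulVec v ≠ c • v) :
    ∃ c : (slD hC).C, (c : Matrix.SpecialLinearGroup (Fin 2) F) ∉ (slD hC).Z ∧
      IsConj g (c : Matrix.SpecialLinearGroup (Fin 2) F) := by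
  rcases (slD hC).exists_isConj_rep g with h | ⟨z, hz, a, -, h⟩ | ⟨t, -, h⟩ | h
  · exact absurd hg (NoEig.not_scal · h)
  · exact absurd ((slEmb F).conj_noEig h hg) (not_noEig_of_upper ((slEmb F).zu_trace hz a).2.2)
  · exact absurd ((slEmb F).conj_noEig h hg) (not_noEig_of_upper t.2.2)
  · exact h

theorem sl_eq_u {g : Matrix.SpecialLinearGroup (Fin 2) F} (h10 : (g : Matrix (Fin 2) (Fin 2) F) 1 0 = 0)
    (h00 : (g : Matrix (Fin 2) (Fin 2) F) 0 0 = 1) (h11 : (g : Matrix (Fin 2) (Fin 2) F) 1 1 = 1) :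
    g = (slD hC).u (Multiplicative.ofAdd ((g : Matrix (Fin 2) (Fin 2) F) 0 1)) := by
  refine (slEmb F).mm_inj ?_
  show (g : Matrix (Fin 2) (Fin 2) F) = _
  rw [show (slD hC).u = (slEmb F).uhom from rfl, Emb2.mm_uhom, toAdd_ofAdd]
  ext i j
  fin_cases i <;> fin_cases j <;> simp [h10, h00, h11]

theorem sl_eq_zu {g : Matrix.SpecialLinearGroup (Fin 2) F} (h10 : (g : Matrix (Fin 2) (Fin 2) F) 1 0 = 0)
    (heq : (g : Matrix (Fin 2) (Fin 2) F) 0 0 = (g : Matrix (Fin 2) (Fin 2) F) 1 1)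
    (h01 : (g : Matrix (Fin 2) (Fin 2) F) 0 1 ≠ 0) :
    ∃ (z : (slD hC).Z) (a : Multiplicative F), a ≠ 1 ∧
      g = (z : Matrix.SpecialLinearGroup (Fin 2) F) * (slD hC).u a := by
  set d := (g : Matrix (Fin 2) (Fin 2) F) 0 0 with hd
  have hdd : d * d = 1 := by
    have := g.2
    rw [Matrix.det_fin_two, h10, mul_zero, sub_zero, ← hd, ← heq] at this
    exact this
  obtain ⟨z, hz⟩ := (slEmb F).exists_of_det (Subgroup.one_mem _) (M := !![d, 0; 0, d]) (d := 1)
    (by simp [Matrix.det_fin_two, hdd])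
  refine ⟨⟨z, ?_⟩, Multiplicative.ofAdd (d * (g : Matrix (Fin 2) (Fin 2) F) 0 1), ?_, ?_⟩
  · show IsScal ((slEmb F).mm z)
    rw [hz]
    simp [IsScal]
  · intro e
    have e' := congrArg Multiplicative.toAdd e
    rw [toAdd_ofAdd, toAdd_one] at e'
    rcases mul_eq_zero.1 e' with e'' | e''
    · simp [e''] at hdd
    · exact h01 e''
  · refine (slEmb F).mm_inj ?_
    rw [show (slD hC).u = (slEmb F).uhom from rfl, Emb2.mm_mul, hz, Emb2.mm_uhom, toAdd_ofAdd]
    show (g : Matrix (Fin 2) (Fin 2) F) = _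
    ext i j
    fin_cases i <;> fin_cases j <;>
      simp [Matrix.mul_apply, Fin.sum_univ_two, h10, ← heq, ← hd, ← mul_assoc, hdd]

theorem sl_conj_sq (s : F) (hs : s ≠ 0) (x : F) :
    IsConj ((slD hC).u (Multiplicative.ofAdd x)) ((slD hC).u (Multiplicative.ofAdd (s * s * x))) := by
  obtain ⟨d, hd⟩ := (slEmb F).exists_of_det (Subgroup.one_mem _) (M := !![s, 0; 0, s⁻¹]) (d := 1)
    (by simp [Matrix.det_fin_two, hs])
  refine isConj_iff.2 ⟨d, ?_⟩
  rw [show (slD hC).u = (slEmb F).uhom from rfl, mul_inv_eq_iff_eq_mul]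
  refine (slEmb F).mm_inj ?_
  rw [Emb2.mm_mul, Emb2.mm_mul, Emb2.mm_uhom, Emb2.mm_uhom, hd, toAdd_ofAdd, toAdd_ofAdd]
  ext i j
  fin_cases i <;> fin_cases j <;> simp [Matrix.mul_apply, Fin.sum_univ_two]
  field_simp

/-! ### values of the generic characters at `u` -/

theorem chT_u (α : (slD hC).T →* ℂˣ) {a : Multiplicative F} (ha : a ≠ 1) :
    (slD hC).chT α ((slD hC).u a) = 1 := by
  have := (slD hC).chT_U α 1 ha
  simpa using this

theorem chC_u (θ : (slD hC).C →* ℂˣ) {a : Multiplicative F} (ha : a ≠ 1) :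
    (slD hC).chC θ ((slD hC).u a) = -1 := by
  have := (slD hC).chC_U θ 1 ha
  simpa using this

theorem stein_u {a : Multiplicative F} (ha : a ≠ 1) :
    (slD hC).stein 1 ((slD hC).u a) = 0 := by
  have := (slD hC).stein_U 1 1 ha
  simpa using this

theorem sl_resT_one : (slD hC).resT 1 = 1 := rfl

theorem sl_resC_one : (slD hC).resC 1 = 1 := rfl

theorem sl_small_one (χ : IrrCharacter (Matrix.SpecialLinearGroup (Fin 2) F))
    (h : (slD hC).mT χ 1 ≠ 0 ∨ (slD hC).mC χ 1 ≠ 0) :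
    (χ : Matrix.SpecialLinearGroup (Fin 2) F → ℂ) = (fun _ => (1 : ℂ)) ∨ (χ : Matrix.SpecialLinearGroup (Fin 2) F → ℂ) = (slD hC).stein 1 := by
  rcases h with h | h
  · simpa using (slD hC).eq_of_mT_resT_ne_zero 1 (fun _ => rfl) χ h
  · simpa using (slD hC).eq_of_mC_resC_ne_zero 1 (fun _ => rfl) χ h

/-! ### even characteristic -/

theorem slT_sq_even (h2 : (2 : F) = 0) (t : (slD hC).T) (h : t * t = 1) : t = 1 := by
  have hm : ((t : Matrix.SpecialLinearGroup (Fin 2) F)) ∈ (slD hC).Z := by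
    rw [slT_mem_Z_iff hC _ t.2]
    have := congrArg (fun s : (slD hC).T => (slEmb F).mm (s : Matrix.SpecialLinearGroup (Fin 2) F) 0 0) h
    obtain ⟨t1, t2⟩ := t.2
    simp [Emb2.mm_mul, Emb2.mm_one, Matrix.mul_apply, Fin.sum_univ_two, t1] at this
    rw [sq]
    exact this
  rcases sl_mem_Z hm with ⟨-, e⟩ | ⟨e0, e⟩
  · exact Subtype.ext e
  · refine Subtype.ext ((slEmb F).mm_inj ?_)
    rw [e]
    show -(1 : Matrix (Fin 2) (Fin 2) F) = _
    rw [show ((1 : (slD hC).T) : Matrix.SpecialLinearGroup (Fin 2) F) = 1 from rfl, Emb2.mm_one]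
    ext i j
    fin_cases i <;> fin_cases j <;> simp
    all_goals linear_combination (-1) * h2

theorem slC_sq_even (h2 : (2 : F) = 0) (c : (slD hC).C) (h : c * c = 1) : c = 1 := by
  have hev : Even (Fintype.card F) := by
    refine Nat.even_iff.2 (FiniteField.even_card_of_char_two ?_)
    by_contra hne
    exact Ring.two_ne_zero hne h2
  have hn : c ^ (Fintype.card F + 1) = 1 := by
    rw [← sl_card_C hC]; exact pow_card_eq_one'
  obtain ⟨k, hk⟩ := hev
  rw [hk, ← two_mul, pow_succ, pow_mul, pow_two, h, one_pow, one_mul] at hn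
  exact hn

theorem sl_even_cases (h2 : (2 : F) = 0)
    (χ : IrrCharacter (Matrix.SpecialLinearGroup (Fin 2) F)) :
    (∃ α : (slD hC).T →* ℂˣ, α ≠ 1 ∧ (χ : Matrix.SpecialLinearGroup (Fin 2) F → ℂ) = (slD hC).chT α) ∨
    (∃ θ : (slD hC).C →* ℂˣ, θ ≠ 1 ∧ (χ : Matrix.SpecialLinearGroup (Fin 2) F → ℂ) = (slD hC).chC θ) ∨
    (χ : Matrix.SpecialLinearGroup (Fin 2) F → ℂ) = (fun _ => (1 : ℂ)) ∨ (χ : Matrix.SpecialLinearGroup (Fin 2) F → ℂ) = (slD hC).stein 1 := by
  rcases (slD hC).trichotomy χ with ⟨α, hα, e⟩ | ⟨θ, hθ, e⟩ | ⟨hT, hC', hor⟩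
  · refine Or.inl ⟨α, fun h => hα ?_, e⟩
    rw [slT_fixed_iff, h]
    exact MonoidHom.ext fun _ => one_mul (1 : ℂˣ)
  · refine Or.inr (Or.inl ⟨θ, fun h => hθ ?_, e⟩)
    rw [slC_fixed_iff, h]
    exact MonoidHom.ext fun _ => one_mul (1 : ℂˣ)
  · refine Or.inr (Or.inr (sl_small_one hC χ ?_))
    rcases hor with ⟨α, hα⟩ | ⟨θ, hθ⟩
    · rw [eq_one_of_sq_eq_one (slT_sq_even hC h2) ((slT_fixed_iff hC α).1 (hT α hα))] at hα
      exact Or.inl hα
    · rw [eq_one_of_sq_eq_one (slC_sq_even hC h2) ((slC_fixed_iff hC θ).1 (hC' θ hθ))] at hθ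
      exact Or.inr hθ

/-! ### odd characteristic -/

/-- the exceptional data in odd characteristic -/
structure SLOdd where
  η : (slD hC).T →* ℂˣ
  θ₀ : (slD hC).C →* ℂˣ
  η_sq : η * η = 1
  η_ne : η ≠ 1
  θ_sq : θ₀ * θ₀ = 1
  θ_ne : θ₀ ≠ 1
  η_fix : η.comp (slD hC).σT = η
  θ_fix : θ₀.comp (slD hC).σC = θ₀
  isoT : (slD hC).IsoT η
  isoC : (slD hC).IsoC θ₀
  η_val : ∀ t : (slD hC).T,
    (IsSquare ((slEmb F).mm (t : Matrix.SpecialLinearGroup (Fin 2) F) 0 0) → η t = 1) ∧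
    (¬ IsSquare ((slEmb F).mm (t : Matrix.SpecialLinearGroup (Fin 2) F) 0 0) → η t = -1)
  θ_val : ∀ c : (slD hC).C,
    (c ^ ((Fintype.card F + 1) / 2) = 1 → θ₀ c = 1) ∧
    (c ^ ((Fintype.card F + 1) / 2) ≠ 1 → θ₀ c = -1)
  cases : ∀ χ : IrrCharacter (Matrix.SpecialLinearGroup (Fin 2) F),
    (∃ α : (slD hC).T →* ℂˣ, α * α ≠ 1 ∧ (χ : Matrix.SpecialLinearGroup (Fin 2) F → ℂ) = (slD hC).chT α) ∨
    (∃ θ : (slD hC).C →* ℂˣ, θ * θ ≠ 1 ∧ (χ : Matrix.SpecialLinearGroup (Fin 2) F → ℂ) = (slD hC).chC θ) ∨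
    (χ : Matrix.SpecialLinearGroup (Fin 2) F → ℂ) = (fun _ => (1 : ℂ)) ∨ (χ : Matrix.SpecialLinearGroup (Fin 2) F → ℂ) = (slD hC).stein 1 ∨
    (slD hC).mT χ η ≠ 0 ∨ (slD hC).mC χ θ₀ ≠ 0

theorem nonempty_slOdd (hodd : Odd (Fintype.card F)) : Nonempty (SLOdd hC) := by
  have h2 := two_ne_zero_of_odd hodd
  let D := slD hC
  let zn : D.Z := ⟨-1, neg_one_mem_Z⟩
  have hne : zn ≠ 1 := fun e => neg_one_sl_ne_one h2 (congrArg Subtype.val e)
  have hsq : zn * zn = 1 := Subtype.ext (by simp [zn])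
  have hT : ∀ x : D.T, x * x = 1 → x = 1 ∨ x = D.zT zn := fun x hx => by
    rcases sl_mem_Z (sq_eq_one_mem_Z h2 (congrArg Subtype.val hx)) with ⟨-, e⟩ | ⟨-, e⟩
    · exact Or.inl (Subtype.ext e)
    · exact Or.inr (Subtype.ext e)
  have hC' : ∀ x : D.C, x * x = 1 → x = 1 ∨ x = D.zC zn := fun x hx => by
    rcases sl_mem_Z (sq_eq_one_mem_Z h2 (congrArg Subtype.val hx)) with ⟨-, e⟩ | ⟨-, e⟩
    · exact Or.inl (Subtype.ext e)
    · exact Or.inr (Subtype.ext e)
  obtain ⟨η, hη, hη1, huη, hηz, hηsq, hηpm⟩ := exists_quadratic (z := D.zT zn)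
    (fun e => hne (Subtype.ext (congrArg Subtype.val e :))) (by rw [← map_mul, hsq, map_one]) hT
  obtain ⟨θ₀, hθ, hθ1, huθ, hθz, hθsq, hθpm⟩ := exists_quadratic (z := D.zC zn)
    (fun e => hne (Subtype.ext (congrArg Subtype.val e :))) (by rw [← map_mul, hsq, map_one]) hC'
  have hηf : η.comp D.σT = η := (slT_fixed_iff hC η).2 hη
  have hθf : θ₀.comp D.σC = θ₀ := (slC_fixed_iff hC θ₀).2 hθ
  obtain ⟨k, hk⟩ := hodd
  have hcT : Nat.card D.T = 2 * k := by rw [sl_card_T, hk]; omega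
  have hcC : Nat.card D.C = 2 * k + 2 := by rw [sl_card_C, hk]
  have hkpos : 1 ≤ k := by have := Fintype.one_lt_card (α := F); omega
  have hdiff : ∀ χ : IrrCharacter (Matrix.SpecialLinearGroup (Fin 2) F),
      D.mT χ η ≠ 0 → D.mC χ θ₀ = 0 := by
    intro χ h1
    by_contra h2'
    obtain ⟨ω, hω⟩ := exists_central_char χ.2 D.Z D.Z_center
    have e1 := DFunLike.congr_fun (D.mT_central ω hω h1) zn
    have e2 := DFunLike.congr_fun (D.mC_central ω hω h2') zn
    have e : η (D.zT zn) = θ₀ (D.zC zn) := e1.trans e2.symm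
    rcases hηpm (D.zT zn) with h | h
    · have a1 := hηz.1 h
      have a2 := hθz.1 (e ▸ h)
      rw [hcT] at a1
      rw [hcC] at a2
      omega
    · have h' : θ₀ (D.zC zn) = -1 := e ▸ h
      have n1 : η (D.zT zn) ≠ 1 := by
        rw [h]; intro e'; have := congrArg Units.val e'; norm_num at this
      have n2 : θ₀ (D.zC zn) ≠ 1 := by
        rw [h']; intro e'; have := congrArg Units.val e'; norm_num at this
      have a1 := mt hηz.2 n1
      have a2 := mt hθz.2 n2
      rw [hcT] at a1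
      rw [hcC] at a2
      omega
  have hTcases : ∀ α : D.T →* ℂˣ, α.comp D.σT = α → α = 1 ∨ α = η := fun α h => by
    by_cases h1 : α = 1
    · exact Or.inl h1
    · exact Or.inr (huη α ((slT_fixed_iff hC α).1 h) h1)
  have hCcases : ∀ α : D.C →* ℂˣ, α.comp D.σC = α → α = 1 ∨ α = θ₀ := fun α h => by
    by_cases h1 : α = 1
    · exact Or.inl h1
    · exact Or.inr (huθ α ((slC_fixed_iff hC α).1 h) h1)
  have hsm : ∀ χ : IrrCharacter (Matrix.SpecialLinearGroup (Fin 2) F),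
      (D.mT χ 1 ≠ 0 ∨ D.mC χ 1 ≠ 0) → D.mT χ η = 0 ∧ D.mC χ θ₀ = 0 := by
    intro χ h
    rcases sl_small_one hC χ h with e | e <;> rw [e]
    · constructor
      · have := D.mT_lin 1 (fun _ => rfl) η
        rw [if_neg (show η ≠ D.resT 1 from hη1)] at this
        simpa using this
      · have := D.mC_lin 1 (fun _ => rfl) θ₀
        rw [if_neg (show θ₀ ≠ D.resC 1 from hθ1)] at this
        simpa using this
    · constructor
      · rw [D.mT_stein 1 (fun _ => rfl) η, if_neg (show η ≠ D.resT 1 from hη1)]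
      · rw [D.mC_stein 1 (fun _ => rfl) θ₀, if_neg (show θ₀ ≠ D.resC 1 from hθ1)]
  have hirrT : ∀ α : D.T →* ℂˣ, α.comp D.σT ≠ α → α ≠ η := fun α h e => h (e ▸ hηf)
  refine ⟨⟨η, θ₀, hη, hη1, hθ, hθ1, hηf, hθf, ?_, ?_, ?_, ?_, ?_⟩⟩
  · intro χ hχ
    refine ⟨fun α hα => ?_, fun θ => ?_⟩
    · by_contra hne'
      by_cases hf : α.comp D.σT = α
      · rcases hTcases α hf with rfl | rfl
        · exact hχ (hsm χ (Or.inl hne')).1
        · exact hα rfl
      · have e := D.eq_chT_of_mT_ne_zero hf χ hne'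
        apply hχ
        rw [e, ← D.classInner_chT (D.isClassFunction_chT α), D.classInner_chT_chT, if_neg hα,
          if_neg (fun e' => hf ?_), add_zero]
        rw [e']
        refine MonoidHom.ext fun t => ?_
        have h1 := DFunLike.congr_fun e' (D.σT t)
        have h2' := DFunLike.congr_fun hηf t
        simp only [MonoidHom.comp_apply, D.σT_σT] at h1 h2'
        rw [h1, h2']
    · by_contra hne'
      by_cases hf : θ.comp D.σC = θ
      · rcases hCcases θ hf with rfl | rfl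
        · exact hχ (hsm χ (Or.inr hne')).1
        · exact hne' (hdiff χ hχ)
      · have e := D.eq_chC_of_mC_ne_zero hf χ hne'
        apply hχ
        rw [e, ← D.classInner_chT (D.isClassFunction_chC θ), D.classInner_chC_chT]
  · intro χ hχ
    refine ⟨fun θ hθ' => ?_, fun α => ?_⟩
    · by_contra hne'
      by_cases hf : θ.comp D.σC = θ
      · rcases hCcases θ hf with rfl | rfl
        · exact hχ (hsm χ (Or.inr hne')).2
        · exact hθ' rfl
      · have e := D.eq_chC_of_mC_ne_zero hf χ hne'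
        apply hχ
        rw [e, ← D.classInner_chC (D.isClassFunction_chC θ), D.classInner_chC_chC, if_neg hθ',
          if_neg (fun e' => hf ?_), add_zero]
        rw [e']
        refine MonoidHom.ext fun t => ?_
        have h1 := DFunLike.congr_fun e' (D.σC t)
        have h2' := DFunLike.congr_fun hθf t
        simp only [MonoidHom.comp_apply, D.σC_σC] at h1 h2'
        rw [h1, h2']
    · by_contra hne'
      by_cases hf : α.comp D.σT = α
      · rcases hTcases α hf with rfl | rfl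
        · exact hχ (hsm χ (Or.inl hne')).2
        · exact hχ (hdiff χ hne')
      · have e := D.eq_chT_of_mT_ne_zero hf χ hne'
        apply hχ
        rw [e, ← D.classInner_chC (D.isClassFunction_chT α), ← H12.conj_classInner,
          D.classInner_chC_chT, map_zero]
  · intro t
    obtain ⟨t1, t2⟩ := t.2
    have hiff : η t = 1 ↔ IsSquare ((slEmb F).mm (t : Matrix.SpecialLinearGroup (Fin 2) F) 0 0) := by
      rw [hηsq]
      constructor
      · rintro ⟨y, rfl⟩
        obtain ⟨y1, y2⟩ := y.2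
        exact ⟨(slEmb F).mm (y : Matrix.SpecialLinearGroup (Fin 2) F) 0 0, by
          simp [Emb2.mm_mul, Matrix.mul_apply, Fin.sum_univ_two, y1]⟩
      · rintro ⟨b, hb⟩
        have hd := det_sl (t : Matrix.SpecialLinearGroup (Fin 2) F)
        rw [Matrix.det_fin_two, t1, zero_mul, sub_zero, hb] at hd
        have hb0 : b ≠ 0 := fun e => by simp [e] at hd
        obtain ⟨y, hy⟩ := (slEmb F).exists_of_det (Subgroup.one_mem _) (M := !![b, 0; 0, b⁻¹]) (d := 1)
          (by simp [Matrix.det_fin_two, hb0])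
        refine ⟨⟨y, by rw [show D.T = (slEmb F).Tsub from rfl, Emb2.mem_Tsub, hy]; simp [IsDiag2]⟩,
          Subtype.ext ((slEmb F).mm_inj ?_)⟩
        show (slEmb F).mm (y * y) = _
        rw [Emb2.mm_mul, hy]
        ext i j
        fin_cases i <;> fin_cases j <;> simp [Matrix.mul_apply, Fin.sum_univ_two, t1, t2, hb]
        field_simp
        linear_combination -hd
    refine ⟨hiff.2, fun h => (hηpm t).resolve_left (mt hiff.1 h)⟩
  · intro c
    have hn : (Fintype.card F + 1) / 2 = k + 1 := by omega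
    rw [hn]
    have h2 : ∀ y : D.C, (y * y) ^ (k + 1) = 1 := fun y => by
      rw [← pow_two, ← pow_mul]
      have := pow_card_eq_one' (x := y)
      rw [hcC] at this
      rwa [show 2 * (k + 1) = 2 * k + 2 by ring]
    have key : θ₀ c = 1 ↔ c ^ (k + 1) = 1 := by
      constructor
      · intro h
        obtain ⟨y, rfl⟩ := (hθsq c).1 h
        exact h2 y
      · intro h
        by_contra hne'
        have hcm : θ₀ c = -1 := (hθpm c).resolve_left hne'
        haveI : IsCyclic D.C := isCyclic_nonSplit hC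
        obtain ⟨g, hg⟩ := IsCyclic.exists_generator (α := D.C)
        obtain ⟨i, rfl⟩ := mem_powers_iff_mem_zpowers.2 (hg c)
        have hg1 : θ₀ g = -1 := by
          refine (hθpm g).resolve_left fun hg1 => hne' ?_
          rw [map_pow, hg1, one_pow]
        have hio : Odd i := by
          by_contra hev
          rw [map_pow, hg1, (Nat.not_odd_iff_even.1 hev).neg_one_pow] at hcm
          exact absurd (congrArg Units.val hcm) (by norm_num)
        rw [← pow_mul, ← orderOf_dvd_iff_pow_eq_one, orderOf_eq_card_of_forall_mem_zpowers hg, hcC,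
          show 2 * k + 2 = 2 * (k + 1) by ring] at h
        have := Nat.dvd_of_mul_dvd_mul_right (by omega) h
        exact Nat.not_even_iff_odd.2 hio (even_iff_two_dvd.2 this)
    exact ⟨key.2, fun h => (hθpm c).resolve_left (mt key.1 h)⟩
  · intro χ
    rcases D.trichotomy χ with ⟨α, hα, e⟩ | ⟨θ, hθ', e⟩ | ⟨hT', hC'', hor⟩
    · exact Or.inl ⟨α, fun h => hα ((slT_fixed_iff hC α).2 h), e⟩
    · exact Or.inr (Or.inl ⟨θ, fun h => hθ' ((slC_fixed_iff hC θ).2 h), e⟩)
    · refine Or.inr (Or.inr ?_)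
      rcases hor with ⟨α, hα⟩ | ⟨θ, hθ'⟩
      · rcases hTcases α (hT' α hα) with rfl | rfl
        · rcases sl_small_one hC χ (Or.inl hα) with e | e
          · exact Or.inl e
          · exact Or.inr (Or.inl e)
        · exact Or.inr (Or.inr (Or.inl hα))
      · rcases hCcases θ (hC'' θ hθ') with rfl | rfl
        · rcases sl_small_one hC χ (Or.inr hθ') with e | e
          · exact Or.inl e
          · exact Or.inr (Or.inl e)
        · exact Or.inr (Or.inr (Or.inr hθ'))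

end H17
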