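import Cfsg.Agent.H17.SLTable

/-!
Values of the half-degree characters of SL₂(q) at unipotent elements; degrees.
-/

set_option autoImplicit false
set_option linter.unusedSectionVars false

namespace H17

open Finset Cfsg
open scoped ComplexConjugate Classical



variable {F : Type*} [Field F] [Fintype F]
variable {C : Subgroup (Matrix.SpecialLinearGroup (Fin 2) F)} (hC : (slEmb F).NonSplit C)

noncomputable local instance (priority := 2000) decEqRootValues : DecidableEq (Multiplicative F) :=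
  fun a b => Classical.propDecidable (a = b)

/-- the root element `u x` -/
noncomputable def slu (x : F) : Matrix.SpecialLinearGroup (Fin 2) F := (slD hC).u (Multiplicative.ofAdd x)

theorem sum_erase_u (f : Matrix.SpecialLinearGroup (Fin 2) F → ℂ) :
    ∑ a ∈ univ.erase (1 : Multiplicative F), f ((slD hC).u a) = ∑ x ∈ univ.erase (0 : F), f (slu hC x) :=
  Finset.sum_bij' (fun a _ => a.toAdd) (fun x _ => Multiplicative.ofAdd x)
    (fun a ha => Finset.mem_erase.2 ⟨fun e => (Finset.mem_erase.1 ha).1 (Multiplicative.toAdd.injective e),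
      Finset.mem_univ _⟩)
    (fun x hx => Finset.mem_erase.2 ⟨fun e => (Finset.mem_erase.1 hx).1 (Multiplicative.ofAdd.injective e),
      Finset.mem_univ _⟩)
    (fun _ _ => rfl) (fun _ _ => rfl) (fun _ _ => rfl)

theorem slu_inv (x : F) : (slu hC x)⁻¹ = slu hC (-x) := by
  rw [slu, slu, ← map_inv, ofAdd_neg]

theorem natCard_slZ (hodd : Odd (Fintype.card F)) : Nat.card (slD hC).Z = 2 := by
  have h2 := two_ne_zero_of_odd hodd
  rw [Nat.card_eq_two_iff]
  refine ⟨1, ⟨-1, neg_one_mem_Z⟩, fun e => neg_one_sl_ne_one h2 (congrArg Subtype.val e).symm, ?_⟩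
  ext ⟨z, hz⟩
  rcases sl_mem_Z hz with ⟨-, e⟩ | ⟨-, e⟩ <;> simp [Subtype.ext_iff, e]

/-- a norm two class function living on the unipotent classes -/
theorem sq_eq_of_unipotent (hodd : Odd (Fintype.card F))
    {f : Matrix.SpecialLinearGroup (Fin 2) F → ℂ} (hf : IsClassFunction _ f)
    (hinv : ∀ g, f g⁻¹ = conj (f g))
    (hz : ∀ z : (slD hC).Z, f z = 0)
    (hT : ∀ t : (slD hC).T, (t : Matrix.SpecialLinearGroup (Fin 2) F) ∉ (slD hC).Z → f t = 0)
    (hc : ∀ c : (slD hC).C, (c : Matrix.SpecialLinearGroup (Fin 2) F) ∉ (slD hC).Z → f c = 0)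
    (ω : (slD hC).Z →* ℂˣ)
    (hω : ∀ (z : (slD hC).Z) (a : Multiplicative F), a ≠ 1 →
      f ((z : Matrix.SpecialLinearGroup (Fin 2) F) * (slD hC).u a) = (ω z : ℂ) * f ((slD hC).u a))
    (hsum : ∑ a ∈ univ.erase (1 : Multiplicative F), f ((slD hC).u a) = 0)
    (hnorm : classInner f f = 2) :
    f (slu hC 1) ^ 2 = (-1 : ℂ) ^ ((Fintype.card F - 1) / 2) * (Fintype.card F : ℂ) := by
  have h2 := two_ne_zero_of_odd hodd
  have hchar : ringChar F ≠ 2 := fun h => h2 (by
    haveI : CharP F 2 := ringChar.of_eq h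
    exact two_eq_zero_of_char)
  obtain ⟨ε, hε⟩ := FiniteField.exists_nonsquare hchar
  have hε0 : ε ≠ 0 := fun e => hε (e ▸ ⟨0, (mul_zero 0).symm⟩)
  set a := f (slu hC 1) with ha
  set b := f (slu hC ε) with hb
  have hclass : ∀ x : F, x ≠ 0 → (IsSquare x → f (slu hC x) = a) ∧ (¬ IsSquare x → f (slu hC x) = b) := by
    intro x hx
    constructor
    · rintro ⟨s, rfl⟩
      have hs : s ≠ 0 := fun e => hx (by rw [e, mul_zero])
      have := H12.IsClassFunction.of_isConj hf (sl_conj_sq hC s hs 1)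
      rw [mul_one] at this
      exact this.symm
    · intro hns
      obtain ⟨s, hs⟩ : IsSquare (x * ε) := by
        rw [← quadraticChar_one_iff_isSquare (mul_ne_zero hx hε0), map_mul,
          (quadraticChar_neg_one_iff_not_isSquare).2 hns, (quadraticChar_neg_one_iff_not_isSquare).2 hε]
        norm_num
      have hs0 : s / ε ≠ 0 := div_ne_zero (fun e => mul_ne_zero hx hε0 (by rw [hs, e, mul_zero])) hε0
      have := H12.IsClassFunction.of_isConj hf (sl_conj_sq hC (s / ε) hs0 ε)
      rw [show s / ε * (s / ε) * ε = x by field_simp; linear_combination -hs] at this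
      exact this.symm
  have hrw : ∀ (v : F → ℂ) (A B : ℂ),
      (∀ x : F, x ≠ 0 → (IsSquare x → v x = A) ∧ (¬ IsSquare x → v x = B)) →
      ∑ x ∈ univ.erase (0 : F), v x = ((Fintype.card F : ℂ) - 1) / 2 * (A + B) := by
    intro v A B h
    have e : ∀ x ∈ univ.erase (0 : F), v x = (A + B) / 2 + (A - B) / 2 * (quadraticChar F x : ℂ) := by
      intro x hx
      have hx0 := Finset.ne_of_mem_erase hx
      by_cases hs : IsSquare x
      · rw [(h x hx0).1 hs, (quadraticChar_one_iff_isSquare hx0).2 hs, Int.cast_one]; ring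
      · rw [(h x hx0).2 hs, quadraticChar_neg_one_iff_not_isSquare.2 hs, Int.cast_neg, Int.cast_one]
        ring
    rw [Finset.sum_congr rfl e, Finset.sum_add_distrib, Finset.sum_const, ← Finset.mul_sum,
      Finset.card_erase_of_mem (Finset.mem_univ _), Finset.card_univ]
    have e0 : ∑ x ∈ univ.erase (0 : F), (quadraticChar F x : ℂ) = 0 := by
      rw [← Int.cast_sum, Finset.sum_erase, quadraticChar_sum_zero hchar, Int.cast_zero]
      exact quadraticChar_zero
    rw [e0, nsmul_eq_mul, Nat.cast_sub (show 1 ≤ Fintype.card F from Fintype.card_pos), Nat.cast_one]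
    ring
  have hq1 : (Fintype.card F : ℂ) - 1 ≠ 0 := sub_ne_zero.2 (by
    exact_mod_cast (ne_of_gt (Fintype.one_lt_card (α := F))))
  have hab : b = -a := by
    have h := hrw (fun x => f (slu hC x)) a b hclass
    rw [← sum_erase_u hC f, hsum] at h
    have := (mul_eq_zero.1 h.symm).resolve_left (div_ne_zero hq1 two_ne_zero)
    linear_combination this
  have hnorm' : a * conj a = (Fintype.card F : ℂ) := by
    have hF : ∀ g h, (fun g => f g * conj (f g)) (h * g * h⁻¹) = (fun g => f g * conj (f g)) g :=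
      fun g h => by simp only [hf g h]
    rw [classInner, (slD hC).sum_eq hF] at hnorm
    have e0 : ∑ z : (slD hC).Z, f z * conj (f z) = 0 := Finset.sum_eq_zero fun z _ => by simp [hz z]
    have e1 : ∑ g ∈ (slD hC).ST, f g * conj (f g) = 0 := Finset.sum_eq_zero fun g hg => by
      have := hT ⟨g, ((slD hC).notMem_ST hg).1⟩ ((slD hC).notMem_ST hg).2
      simp only at this
      simp [this]
    have e2 : ∑ g ∈ (slD hC).SC, f g * conj (f g) = 0 := Finset.sum_eq_zero fun g hg => by
      have := hc ⟨g, ((slD hC).notMem_SC hg).1⟩ ((slD hC).notMem_SC hg).2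
      simp only at this
      simp [this]
    have e3 : ∀ z : (slD hC).Z, ∑ x ∈ univ.erase (1 : Multiplicative F),
        f ((z : Matrix.SpecialLinearGroup (Fin 2) F) * (slD hC).u x) *
          conj (f ((z : Matrix.SpecialLinearGroup (Fin 2) F) * (slD hC).u x))
        = ((Fintype.card F : ℂ) - 1) / 2 * (a * conj a + b * conj b) := by
      intro z
      have h := hrw (fun x => f (slu hC x) * conj (f (slu hC x))) (a * conj a) (b * conj b)
        (fun x hx => ⟨fun h => by simp only [(hclass x hx).1 h], fun h => by simp only [(hclass x hx).2 h]⟩)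
      rw [← h, ← sum_erase_u hC (fun g => f g * conj (f g))]
      refine Finset.sum_congr rfl fun x hx => ?_
      rw [hω z x (Finset.ne_of_mem_erase hx), map_mul]
      have hn : (ω z : ℂ) * conj (ω z : ℂ) = 1 := by
        rw [Complex.mul_conj']
        simp [norm_dual ω z]
      linear_combination (f ((slD hC).u x) * conj (f ((slD hC).u x))) * hn
    simp only [e0, e1, e2, e3] at hnorm
    rw [Finset.sum_const, Finset.card_univ, ← Nat.card_eq_fintype_card, natCard_slZ hC hodd, (slD hC).cardG_cast, slD_q, sl_card_T,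
      Nat.cast_sub (show 1 ≤ Fintype.card F from Fintype.card_pos), Nat.cast_one, hab, map_neg] at hnorm
    have hq : (Fintype.card F : ℂ) ≠ 0 := Nat.cast_ne_zero.2 Fintype.card_ne_zero
    have hqp : (Fintype.card F : ℂ) + 1 ≠ 0 := by exact_mod_cast Nat.succ_ne_zero (Fintype.card F)
    simp only [nsmul_eq_mul, Nat.cast_ofNat] at hnorm
    field_simp at hnorm
    refine mul_left_cancel₀ (mul_ne_zero hqp hq1) ?_
    linear_combination hnorm / 4
  have hneg : (-1 : F) ≠ 0 := neg_ne_zero.2 one_ne_zero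
  have hconj : conj a = f (slu hC (-1)) := by rw [ha, ← hinv, slu_inv]
  have hodd' : Fintype.card F % 2 = 1 := Nat.odd_iff.1 hodd
  by_cases hs : IsSquare (-1 : F)
  · rw [(hclass _ hneg).1 hs] at hconj
    have h4 := FiniteField.isSquare_neg_one_iff.1 hs
    rw [Even.neg_one_pow (Nat.even_iff.2 (by omega))]
    rw [hconj] at hnorm'
    linear_combination hnorm'
  · rw [(hclass _ hneg).2 hs, hab] at hconj
    have h4 := mt FiniteField.isSquare_neg_one_iff.2 hs
    rw [Odd.neg_one_pow (Nat.odd_iff.2 (by omega))]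
    rw [hconj] at hnorm'
    linear_combination -hnorm'

theorem char_inv_conj {χ : Matrix.SpecialLinearGroup (Fin 2) F → ℂ}
    (hχ : IsIrrCharacter _ χ) (g : Matrix.SpecialLinearGroup (Fin 2) F) : χ g⁻¹ = conj (χ g) :=
  H12.irr_inv ⟨χ, hχ⟩ g

theorem halfT_values (hodd : Odd (Fintype.card F)) (O : SLOdd hC)
    (χ : IrrCharacter (Matrix.SpecialLinearGroup (Fin 2) F)) (h : (slD hC).mT χ O.η ≠ 0) :
    (∑ a ∈ univ.erase (1 : Multiplicative F), (χ : Matrix.SpecialLinearGroup (Fin 2) F → ℂ) ((slD hC).u a)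
      = ((Fintype.card F : ℂ) - 1) / 2) ∧
    (2 * (χ : Matrix.SpecialLinearGroup (Fin 2) F → ℂ) (slu hC 1) - 1) ^ 2 =
      (-1 : ℂ) ^ ((Fintype.card F - 1) / 2) * (Fintype.card F : ℂ) := by
  set D := slD hC with hD
  obtain ⟨χ₁, χ₂, hne, hsum', hiff, hval⟩ := D.halfT O.η_fix O.isoT
  obtain ⟨hdeg, hvT, hvC⟩ := hval χ h
  let f : Matrix.SpecialLinearGroup (Fin 2) F → ℂ := (2 : ℂ) • (χ : _ → ℂ) - D.chT O.η
  have hf : IsClassFunction _ f :=
    H12.IsClassFunction.sub (H12.IsClassFunction.smul (H12.irr_isClassFunction χ) 2) (D.isClassFunction_chT _)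
  obtain ⟨ω, hω⟩ := exists_central_char χ.2 D.Z D.Z_center
  have hωη := D.mT_central ω hω h
  have hm : D.mT χ O.η = 1 := by
    obtain ⟨n, hn⟩ := D.exists_nat_mT (H12.isCharacter_irr χ) O.η
    rcases (hiff χ).1 h with rfl | rfl
    · rw [← D.classInner_chT_irr, hsum', H12.classInner_add_left, H12.classInner_irr_self,
        H12.classInner_irr_ne hne.symm, add_zero]
    · rw [← D.classInner_chT_irr, hsum', H12.classInner_add_left, H12.classInner_irr_self,
        H12.classInner_irr_ne hne, zero_add]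
  have hfg : ∀ g, f g = 2 * (χ : Matrix.SpecialLinearGroup (Fin 2) F → ℂ) g - D.chT O.η g := fun g => rfl
  have hωz : ∀ z : D.Z, (O.η (D.zT z) : ℂ) = (ω z : ℂ) := fun z =>
    congrArg Units.val (DFunLike.congr_fun hωη z)
  have hz : ∀ z : D.Z, f z = 0 := fun z => by
    have := hω z 1
    rw [mul_one, hdeg] at this
    rw [hfg, this, D.chT_Z, hωz]
    ring
  have hT : ∀ t : D.T, (t : Matrix.SpecialLinearGroup (Fin 2) F) ∉ D.Z → f t = 0 := fun t ht => by
    rw [hfg, hvT t ht, D.chT_T _ t ht, ← MonoidHom.comp_apply, O.η_fix]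
    ring
  have hc : ∀ c : D.C, (c : Matrix.SpecialLinearGroup (Fin 2) F) ∉ D.Z → f c = 0 := fun c hc => by
    rw [hfg, hvC c hc, D.chT_C _ c hc]
    ring
  have hω' : ∀ (z : D.Z) (a : Multiplicative F), a ≠ 1 →
      f ((z : Matrix.SpecialLinearGroup (Fin 2) F) * D.u a) = (ω z : ℂ) * f (D.u a) := fun z a ha => by
    rw [hfg, hfg, hω z, D.chT_U _ z ha, chT_u hC _ ha, hωz]
    ring
  have hfT : classInner f (D.chT O.η) = 0 := by
    rw [H12.classInner_sub_left, H12.classInner_smul_left, D.classInner_chT (H12.irr_isClassFunction χ),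
      D.classInner_chT_chT, hm, if_pos rfl, if_pos O.η_fix]
    ring
  have hsum : ∑ a ∈ univ.erase (1 : Multiplicative F), f (D.u a) = 0 := by
    have h' := hfT
    rw [D.classInner_chT hf, D.mT_eq hf] at h'
    have e1 : ∑ g ∈ D.ST, D.extT (fun t => conj (O.η t : ℂ)) g * f g = 0 :=
      Finset.sum_eq_zero fun g hg => by
        have := hT ⟨g, (D.notMem_ST hg).1⟩ (D.notMem_ST hg).2
        simp only at this
        simp [this]
    have e2 : ∀ z : D.Z, conj (O.η (D.zT z) : ℂ) *
        (f z + ∑ a ∈ univ.erase (1 : Multiplicative F), f ((z : Matrix.SpecialLinearGroup (Fin 2) F) * D.u a))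
        = ∑ a ∈ univ.erase (1 : Multiplicative F), f (D.u a) := fun z => by
      rw [hz, zero_add, Finset.sum_congr rfl fun a ha => hω' z a (Finset.ne_of_mem_erase ha),
        ← Finset.mul_sum, ← mul_assoc, hωz]
      have : conj (ω z : ℂ) * (ω z : ℂ) = 1 := by
        rw [mul_comm, Complex.mul_conj']; simp [norm_dual ω z]
      rw [this, one_mul]
    simp only [e1, e2] at h'
    rw [mul_zero, add_zero, Finset.sum_const, nsmul_eq_mul] at h'
    have h0 : (Nat.card D.T * D.q : ℂ)⁻¹ ≠ 0 := inv_ne_zero (mul_ne_zero D.cT_ne D.cq_ne)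
    exact (mul_eq_zero.1 ((mul_eq_zero.1 h').resolve_left h0)).resolve_left
      (Nat.cast_ne_zero.2 (Finset.card_ne_zero.2 Finset.univ_nonempty))
  constructor
  · simp only [hfg] at hsum
    rw [Finset.sum_sub_distrib, ← Finset.mul_sum,
      Finset.sum_congr (s₂ := univ.erase 1) (g := fun _ => (1 : ℂ)) rfl
        (fun a ha => chT_u hC O.η (Finset.ne_of_mem_erase ha)),
      Finset.sum_const, Finset.card_erase_of_mem (Finset.mem_univ _), Finset.card_univ,
      Fintype.card_multiplicative, nsmul_eq_mul, mul_one, Nat.cast_sub (show 1 ≤ Fintype.card F from Fintype.card_pos), Nat.cast_one] at hsum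
    linear_combination hsum / 2
  · have hinv : ∀ g, f g⁻¹ = conj (f g) := fun g => by
      rw [hfg, hfg, char_inv_conj χ.2, hsum', Pi.add_apply, Pi.add_apply, char_inv_conj χ₁.2,
        char_inv_conj χ₂.2, map_sub, map_mul, map_add, Complex.conj_ofNat]
    have hnorm : classInner f f = 2 := by
      have h' : classInner f f = classInner f ((2 : ℂ) • (χ : _ → ℂ)) - classInner f (D.chT O.η) :=
        H12.classInner_sub_right _ _ _
      rw [h', hfT, sub_zero, H12.classInner_smul_right, H12.classInner_sub_left,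
        H12.classInner_smul_left, H12.classInner_irr_self, D.classInner_chT_irr, hm, Complex.conj_ofNat]
      norm_num
    have := sq_eq_of_unipotent hC hodd hf hinv hz hT hc ω hω' hsum hnorm
    have e := chT_u hC O.η (a := Multiplicative.ofAdd (1 : F)) (by simp)
    rw [hfg, show D.chT O.η (slu hC 1) = 1 from e] at this
    exact this

theorem halfC_values (hodd : Odd (Fintype.card F)) (O : SLOdd hC)
    (χ : IrrCharacter (Matrix.SpecialLinearGroup (Fin 2) F)) (h : (slD hC).mC χ O.θ₀ ≠ 0) :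
    (∑ a ∈ univ.erase (1 : Multiplicative F), (χ : Matrix.SpecialLinearGroup (Fin 2) F → ℂ) ((slD hC).u a)
      = -(((Fintype.card F : ℂ) - 1) / 2)) ∧
    (2 * (χ : Matrix.SpecialLinearGroup (Fin 2) F → ℂ) (slu hC 1) + 1) ^ 2 =
      (-1 : ℂ) ^ ((Fintype.card F - 1) / 2) * (Fintype.card F : ℂ) := by
  set D := slD hC with hD
  obtain ⟨χ₁, χ₂, hne, hsum', hiff, hval⟩ := D.halfC O.θ_fix O.isoC
  obtain ⟨hdeg, hvT, hvC⟩ := hval χ h
  let f : Matrix.SpecialLinearGroup (Fin 2) F → ℂ := (2 : ℂ) • (χ : _ → ℂ) - D.chC O.θ₀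
  have hf : IsClassFunction _ f :=
    H12.IsClassFunction.sub (H12.IsClassFunction.smul (H12.irr_isClassFunction χ) 2) (D.isClassFunction_chC _)
  obtain ⟨ω, hω⟩ := exists_central_char χ.2 D.Z D.Z_center
  have hωη := D.mC_central ω hω h
  have hm : D.mC χ O.θ₀ = 1 := by
    rcases (hiff χ).1 h with rfl | rfl
    · rw [← D.classInner_chC_irr, hsum', H12.classInner_add_left, H12.classInner_irr_self,
        H12.classInner_irr_ne hne.symm, add_zero]
    · rw [← D.classInner_chC_irr, hsum', H12.classInner_add_left, H12.classInner_irr_self,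
        H12.classInner_irr_ne hne, zero_add]
  have hfg : ∀ g, f g = 2 * (χ : Matrix.SpecialLinearGroup (Fin 2) F → ℂ) g - D.chC O.θ₀ g := fun g => rfl
  have hωz : ∀ z : D.Z, (O.θ₀ (D.zC z) : ℂ) = (ω z : ℂ) := fun z =>
    congrArg Units.val (DFunLike.congr_fun hωη z)
  have hz : ∀ z : D.Z, f z = 0 := fun z => by
    have := hω z 1
    rw [mul_one, hdeg] at this
    rw [hfg, this, D.chC_Z, hωz]
    ring
  have hT : ∀ t : D.T, (t : Matrix.SpecialLinearGroup (Fin 2) F) ∉ D.Z → f t = 0 := fun t ht => by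
    rw [hfg, hvT t ht, D.chC_T _ t ht]
    ring
  have hc : ∀ c : D.C, (c : Matrix.SpecialLinearGroup (Fin 2) F) ∉ D.Z → f c = 0 := fun c hc => by
    rw [hfg, hvC c hc, D.chC_C _ c hc, ← MonoidHom.comp_apply, O.θ_fix]
    ring
  have hω' : ∀ (z : D.Z) (a : Multiplicative F), a ≠ 1 →
      f ((z : Matrix.SpecialLinearGroup (Fin 2) F) * D.u a) = (ω z : ℂ) * f (D.u a) := fun z a ha => by
    rw [hfg, hfg, hω z, D.chC_U _ z ha, chC_u hC _ ha, hωz]
    ring
  have hfC : classInner f (D.chC O.θ₀) = 0 := by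
    rw [H12.classInner_sub_left, H12.classInner_smul_left, D.classInner_chC (H12.irr_isClassFunction χ),
      D.classInner_chC_chC, hm, if_pos rfl, if_pos O.θ_fix]
    ring
  have hsum : ∑ a ∈ univ.erase (1 : Multiplicative F), f (D.u a) = 0 := by
    have h' := hfC
    rw [D.classInner_chC hf, D.mC_eq] at h'
    have e1 : ∑ g ∈ D.SC, D.extC (fun t => conj (O.θ₀ t : ℂ)) g * f g = 0 :=
      Finset.sum_eq_zero fun g hg => by
        have := hc ⟨g, (D.notMem_SC hg).1⟩ (D.notMem_SC hg).2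
        simp only at this
        simp [this]
    have e2 : ∀ z : D.Z, conj (O.θ₀ (D.zC z) : ℂ) *
        (((Nat.card D.T * D.q : ℂ)⁻¹ * (D.q - 1) - (Nat.card D.C : ℂ)⁻¹) * f z
          - (Nat.card D.T * D.q : ℂ)⁻¹ *
            ∑ a ∈ univ.erase (1 : Multiplicative F), f ((z : Matrix.SpecialLinearGroup (Fin 2) F) * D.u a))
        = -((Nat.card D.T * D.q : ℂ)⁻¹) * ∑ a ∈ univ.erase (1 : Multiplicative F), f (D.u a) := fun z => by
      rw [hz, Finset.sum_congr rfl fun a ha => hω' z a (Finset.ne_of_mem_erase ha),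
        ← Finset.mul_sum, hωz]
      have : conj (ω z : ℂ) * (ω z : ℂ) = 1 := by
        rw [mul_comm, Complex.mul_conj']; simp [norm_dual ω z]
      linear_combination (-(Nat.card D.T * D.q : ℂ)⁻¹ *
        ∑ a ∈ univ.erase (1 : Multiplicative F), f (D.u a)) * this
    simp only [e1, e2] at h'
    rw [mul_zero, sub_zero, Finset.sum_const, nsmul_eq_mul] at h'
    have h0 : (Nat.card D.T * D.q : ℂ)⁻¹ ≠ 0 := inv_ne_zero (mul_ne_zero D.cT_ne D.cq_ne)
    exact (mul_eq_zero.1 ((mul_eq_zero.1 h').resolve_left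
      (Nat.cast_ne_zero.2 (Finset.card_ne_zero.2 Finset.univ_nonempty)))).resolve_left (neg_ne_zero.2 h0)
  constructor
  · simp only [hfg] at hsum
    rw [Finset.sum_sub_distrib, ← Finset.mul_sum,
      Finset.sum_congr (s₂ := univ.erase 1) (g := fun _ => (-1 : ℂ)) rfl
        (fun a ha => chC_u hC O.θ₀ (Finset.ne_of_mem_erase ha)),
      Finset.sum_const, Finset.card_erase_of_mem (Finset.mem_univ _), Finset.card_univ,
      Fintype.card_multiplicative, nsmul_eq_mul, Nat.cast_sub (show 1 ≤ Fintype.card F from Fintype.card_pos), Nat.cast_one] at hsum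
    linear_combination hsum / 2
  · have hinv : ∀ g, f g⁻¹ = conj (f g) := fun g => by
      rw [hfg, hfg, char_inv_conj χ.2, hsum', Pi.add_apply, Pi.add_apply, char_inv_conj χ₁.2,
        char_inv_conj χ₂.2, map_sub, map_mul, map_add, Complex.conj_ofNat]
    have hnorm : classInner f f = 2 := by
      have h' : classInner f f = classInner f ((2 : ℂ) • (χ : _ → ℂ)) - classInner f (D.chC O.θ₀) :=
        H12.classInner_sub_right _ _ _
      rw [h', hfC, sub_zero, H12.classInner_smul_right, H12.classInner_sub_left,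
        H12.classInner_smul_left, H12.classInner_irr_self, D.classInner_chC_irr, hm, Complex.conj_ofNat]
      norm_num
    have := sq_eq_of_unipotent hC hodd hf hinv hz hT hc ω hω' hsum hnorm
    have e := chC_u hC O.θ₀ (a := Multiplicative.ofAdd (1 : F)) (by simp)
    rw [hfg, show D.chC O.θ₀ (slu hC 1) = -1 from e, sub_neg_eq_add] at this
    exact this

/-- classification by degree in odd characteristic -/
theorem sl_odd_degree (hodd : Odd (Fintype.card F)) (O : SLOdd hC)
    (χ : IrrCharacter (Matrix.SpecialLinearGroup (Fin 2) F)) :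
    (∃ α : (slD hC).T →* ℂˣ, α * α ≠ 1 ∧ (χ : Matrix.SpecialLinearGroup (Fin 2) F → ℂ) = (slD hC).chT α ∧
      (χ : Matrix.SpecialLinearGroup (Fin 2) F → ℂ) 1 = (Fintype.card F : ℂ) + 1) ∨
    (∃ θ : (slD hC).C →* ℂˣ, θ * θ ≠ 1 ∧ (χ : Matrix.SpecialLinearGroup (Fin 2) F → ℂ) = (slD hC).chC θ ∧
      (χ : Matrix.SpecialLinearGroup (Fin 2) F → ℂ) 1 = (Fintype.card F : ℂ) - 1) ∨
    ((χ : Matrix.SpecialLinearGroup (Fin 2) F → ℂ) = (fun _ => (1 : ℂ)) ∧
      (χ : Matrix.SpecialLinearGroup (Fin 2) F → ℂ) 1 = 1) ∨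
    ((χ : Matrix.SpecialLinearGroup (Fin 2) F → ℂ) = (slD hC).stein 1 ∧
      (χ : Matrix.SpecialLinearGroup (Fin 2) F → ℂ) 1 = (Fintype.card F : ℂ)) ∨
    ((slD hC).mT χ O.η ≠ 0 ∧
      (χ : Matrix.SpecialLinearGroup (Fin 2) F → ℂ) 1 = (((Fintype.card F + 1) / 2 : ℕ) : ℂ)) ∨
    ((slD hC).mC χ O.θ₀ ≠ 0 ∧
      (χ : Matrix.SpecialLinearGroup (Fin 2) F → ℂ) 1 = (((Fintype.card F - 1) / 2 : ℕ) : ℂ)) := by
  rcases O.cases χ with ⟨α, hα, e⟩ | ⟨θ, hθ, e⟩ | e | e | h | h
  · exact Or.inl ⟨α, hα, e, by rw [e, (slD hC).chT_one, slD_q]⟩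
  · exact Or.inr (Or.inl ⟨θ, hθ, e, by rw [e, (slD hC).chC_one, slD_q]⟩)
  · exact Or.inr (Or.inr (Or.inl ⟨e, by rw [e]⟩))
  · exact Or.inr (Or.inr (Or.inr (Or.inl ⟨e, by rw [e, (slD hC).stein_one, slD_q]⟩)))
  · refine Or.inr (Or.inr (Or.inr (Or.inr (Or.inl ⟨h, ?_⟩))))
    obtain ⟨-, -, -, -, -, hval⟩ := (slD hC).halfT O.η_fix O.isoT
    rw [(hval χ h).1, slD_q, Nat.cast_div (hodd.add_odd odd_one).two_dvd (by norm_num), Nat.cast_add]
    norm_num
  · refine Or.inr (Or.inr (Or.inr (Or.inr (Or.inr ⟨h, ?_⟩))))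
    obtain ⟨-, -, -, -, -, hval⟩ := (slD hC).halfC O.θ_fix O.isoC
    rw [(hval χ h).1, slD_q, Nat.cast_div (Nat.Odd.sub_odd hodd odd_one).two_dvd (by norm_num),
      Nat.cast_sub (show 1 ≤ Fintype.card F from Fintype.card_pos)]
    norm_num

end H17
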