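import Cfsg.Agent.H12.Orth
import Cfsg.Prelude.Def_Blocks
import Mathlib.GroupTheory.Transfer
import Mathlib.NumberTheory.LegendreSymbol.AddCharacter

/-!
A self-centralizing element of prime order `p` and a character of degree `p - 1`: the determinant
of the character on a generator of the automizer.
-/

set_option autoImplicit false
set_option linter.unusedSectionVars false

namespace H17.SelfCent

open Finset Cfsg Module
open scoped ComplexConjugate

theorem even_index_of_hom {G : Type*} [Group G] [Finite G] (f : G →* ℂˣ) (g : G)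
    (hg : (f g : ℂ) = -1) : Even (commutator G).index := by
  have ho : orderOf (f g) = 2 := by
    refine orderOf_eq_prime ?_ ?_
    · exact Units.ext (by rw [Units.val_pow_eq_pow_val, hg, Units.val_one]; norm_num)
    · intro h
      rw [h, Units.val_one] at hg
      norm_num at hg
  refine even_iff_two_dvd.2 ?_
  have h1 : orderOf (f g) ∣ orderOf (QuotientGroup.mk' (commutator G) g) := by
    have := orderOf_map_dvd (Abelianization.lift f) (Abelianization.of g)
    rw [Abelianization.lift_apply_of] at this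
    exact this
  rw [Subgroup.index]
  exact ho ▸ h1.trans (orderOf_dvd_natCard _)

theorem prod_pow_root {e : ℕ} (he : Even e) (he0 : 0 < e) {ζ : ℂ} (hζ : IsPrimitiveRoot ζ e) :
    ∏ j ∈ range e, ζ ^ j = -1 := by
  obtain ⟨d, rfl⟩ := he
  have hd : 0 < d := by omega
  have hhalf : ζ ^ d = -1 := by
    have h2 : (ζ ^ d) ^ 2 = 1 := by rw [← pow_mul, show d * 2 = d + d by ring, hζ.pow_eq_one]
    refine (sq_eq_one_iff.1 h2).resolve_left fun h => ?_
    have := Nat.le_of_dvd hd ((hζ.pow_eq_one_iff_dvd d).1 h)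
    omega
  rw [prod_pow_eq_pow_sum]
  have hs : ∑ j ∈ range (d + d), j = d * (2 * d - 1) := by
    rw [Finset.sum_range_id, show (d + d) * (d + d - 1) = 2 * (d * (2 * d - 1)) by
      rw [show d + d = 2 * d by omega]; ring, Nat.mul_div_cancel_left _ (by norm_num)]
  rw [hs, pow_mul, hhalf]
  exact Odd.neg_one_pow ⟨d - 1, by omega⟩

universe u

variable {G : Type u} [Group G] [Fintype G]

open scoped Classical in
theorem two_case (x : G) (hx : orderOf x = 2)
    (Q : Sylow 2 G) (hQ : (Q : Subgroup G) = Subgroup.zpowers x) :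
    Even (commutator G).index := by
  have : Fact (Nat.Prime 2) := ⟨Nat.prime_two⟩
  have hle : Subgroup.normalizer ((Q : Subgroup G) : Set G) ≤
      Subgroup.centralizer ((Q : Subgroup G) : Set G) := by
    intro g hg
    rw [hQ, Subgroup.zpowers_eq_closure, Subgroup.centralizer_closure,
      Subgroup.mem_centralizer_singleton_iff]
    have hm := (Subgroup.mem_normalizer_iff.1 hg x).1 (hQ ▸ Subgroup.mem_zpowers x)
    rw [hQ, mem_zpowers_iff_mem_range_orderOf, hx] at hm
    simp only [Finset.mem_image, Finset.mem_range] at hm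
    obtain ⟨i, hi, hxi⟩ := hm
    have hx1 : x ≠ 1 := fun h => by rw [h, orderOf_one] at hx; omega
    interval_cases i
    · exfalso
      rw [pow_zero, eq_comm, conj_eq_one_iff] at hxi
      exact hx1 hxi
    · rw [pow_one] at hxi
      exact (eq_mul_inv_iff_mul_eq.1 hxi).symm
  have hcompl := MonoidHom.ker_transferSylow_isComplement' Q hle
  set K := (MonoidHom.transferSylow Q hle).ker with hK
  have hKi : K.index = 2 := by
    have := hcompl.symm.index_eq_card
    rw [this, hQ, Nat.card_zpowers, hx]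
  have hKc : commutator G ≤ K := by
    have : IsCyclic (G ⧸ K) := isCyclic_of_prime_card (p := 2) hKi
    exact Subgroup.Normal.quotient_commutative_iff_commutator_le.1 (inferInstance)
  exact even_iff_two_dvd.2 (hKi ▸ Subgroup.index_dvd_of_le hKc)

open scoped Classical in
theorem main (p : ℕ) (hp : p.Prime) (x : G) (hx : orderOf x = p)
    (hC : Subgroup.centralizer ({x} : Set G) = Subgroup.zpowers x) (t : ℕ)
    (ht : Nat.card {C : ConjClasses G // ∃ g ∈ C.carrier, orderOf g = p} = t)
    (χ : IrrCharacter G) (hχ : charDegree (χ : G → ℂ) + 1 = p) :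
    Even t ∨ Even (commutator G).index := by
  by_cases htodd : Even t
  · exact Or.inl htodd
  refine Or.inr ?_
  have hpf : Fact p.Prime := ⟨hp⟩
  have hx1 : x ≠ 1 := fun h => by rw [h, orderOf_one] at hx; exact hp.ne_one hx.symm
  let X : ZMod p → G := fun a => x ^ a.val
  have hXnat : ∀ n : ℕ, X (n : ZMod p) = x ^ n := fun n => by
    show x ^ (n : ZMod p).val = x ^ n
    rw [ZMod.val_natCast, ← hx, pow_mod_orderOf]
  have hXadd : ∀ a b, X a * X b = X (a + b) := fun a b => by
    rw [← ZMod.natCast_zmod_val a, ← ZMod.natCast_zmod_val b, ← Nat.cast_add, hXnat, hXnat, hXnat,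
      pow_add]
  have hX1 : X 1 = x := by rw [← Nat.cast_one, hXnat, pow_one]
  have hX0 : X 0 = 1 := by rw [← Nat.cast_zero, hXnat, pow_zero]
  have hXinv : ∀ a, (X a)⁻¹ = X (-a) := fun a => inv_eq_of_mul_eq_one_right (by
    rw [hXadd, add_neg_cancel, hX0])
  have hXinj : Function.Injective X := fun a b h => by
    have h' : x ^ a.val = x ^ b.val := h
    have h1 := pow_eq_pow_iff_modEq.1 h'
    simp only [hx] at h1
    have := (ZMod.natCast_eq_natCast_iff _ _ _).2 h1
    rwa [ZMod.natCast_zmod_val, ZMod.natCast_zmod_val] at this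
  have hXmem : ∀ a, X a ∈ Subgroup.zpowers x := fun a => Subgroup.npow_mem_zpowers x _
  have hXsurj : ∀ v ∈ Subgroup.zpowers x, ∃ a, X a = v := fun v hv => by
    rw [mem_zpowers_iff_mem_range_orderOf] at hv
    obtain ⟨i, -, rfl⟩ := Finset.mem_image.1 hv
    exact ⟨(i : ZMod p), hXnat i⟩
  have hXconj : ∀ (y : G) (r a : ZMod p), y * x * y⁻¹ = X r → y * X a * y⁻¹ = X (r * a) := by
    intro y r a h
    rw [← ZMod.natCast_zmod_val a, hXnat, ← conj_pow, h]
    show (x ^ r.val) ^ a.val = _
    rw [← pow_mul, ← hXnat, Nat.cast_mul, ZMod.natCast_zmod_val]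
  -- centralisers of the nontrivial powers
  have hCX : ∀ a : ZMod p, a ≠ 0 → Subgroup.centralizer ({X a} : Set G) = Subgroup.zpowers x := by
    intro a ha
    refine le_antisymm (fun g hg => ?_) (fun g hg => ?_)
    · rw [← hC, Subgroup.mem_centralizer_singleton_iff]
      rw [Subgroup.mem_centralizer_singleton_iff] at hg
      have : X a ^ (a⁻¹).val = x := by
        show (x ^ a.val) ^ (a⁻¹).val = x
        rw [← pow_mul, ← hXnat, Nat.cast_mul, ZMod.natCast_zmod_val, ZMod.natCast_zmod_val,
          mul_inv_cancel₀ ha, hX1]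
      rw [← this]
      exact ((show Commute g (X a) from hg).pow_right _).eq
    · rw [Subgroup.mem_centralizer_singleton_iff]
      obtain ⟨b, rfl⟩ := hXsurj g hg
      rw [hXadd, hXadd, add_comm]
  -- the Sylow subgroup
  obtain ⟨Q, hxQ⟩ := (IsPGroup.of_card (n := 1) (by rw [Nat.card_zpowers, hx, pow_one]) :
    IsPGroup p (Subgroup.zpowers x)).exists_le_sylow
  have hQ : (Q : Subgroup G) = Subgroup.zpowers x := by
    have hxmem : x ∈ (Q : Subgroup G) := hxQ (Subgroup.mem_zpowers x)
    have : Nontrivial (Q : Subgroup G) :=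
      ⟨⟨⟨x, hxmem⟩, 1, fun h => hx1 (congrArg Subtype.val h)⟩⟩
    have : Nontrivial (Subgroup.center (Q : Subgroup G)) := Q.isPGroup'.center_nontrivial
    obtain ⟨w, hw⟩ := exists_ne (1 : Subgroup.center (Q : Subgroup G))
    have hwQ : ∀ q ∈ (Q : Subgroup G), Commute q ((w : (Q : Subgroup G)) : G) := fun q hq =>
      congrArg Subtype.val (Subgroup.mem_center_iff.1 w.2 ⟨q, hq⟩)
    have hwx : ((w : (Q : Subgroup G)) : G) ∈ Subgroup.zpowers x := by
      rw [← hC, Subgroup.mem_centralizer_singleton_iff]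
      exact (hwQ x hxmem).symm.eq
    obtain ⟨a, ha⟩ := hXsurj _ hwx
    have ha0 : a ≠ 0 := fun h => hw (Subtype.ext (Subtype.ext (by rw [← ha, h, hX0]; rfl)))
    refine le_antisymm (fun q hq => ?_) hxQ
    rw [← hCX a ha0, Subgroup.mem_centralizer_singleton_iff, ha]
    exact (hwQ q hq).eq
  by_cases hp2 : p = 2
  · subst hp2; exact two_case x hx Q hQ
  have hconjQ : ∀ g : G, orderOf g = p → ∃ a : ZMod p, a ≠ 0 ∧ IsConj (X a) g := by
    intro g hg
    obtain ⟨S, hS⟩ := (IsPGroup.of_card (n := 1) (by rw [Nat.card_zpowers, hg, pow_one]) :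
      IsPGroup p (Subgroup.zpowers g)).exists_le_sylow
    obtain ⟨c, hc⟩ := MulAction.exists_smul_eq G Q S
    have hgS : g ∈ (S : Subgroup G) := hS (Subgroup.mem_zpowers g)
    rw [← hc, Sylow.coe_subgroup_smul] at hgS
    obtain ⟨w, hw, hwg⟩ := hgS
    have hwg : c * w * c⁻¹ = g := hwg
    obtain ⟨a, rfl⟩ := hXsurj w (hQ ▸ hw)
    refine ⟨a, ?_, isConj_iff.2 ⟨c, hwg⟩⟩
    rintro rfl
    rw [hX0, mul_one, mul_inv_cancel] at hwg
    rw [← hwg, orderOf_one] at hg
    exact hp.ne_one hg.symm
  -- the automizer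
  let R : Subgroup (ZMod p)ˣ :=
    { carrier := {r | ∃ y : G, y * x * y⁻¹ = X r}
      one_mem' := ⟨1, by simp [hX1]⟩
      mul_mem' := by
        rintro r s ⟨y, hy⟩ ⟨z, hz⟩
        refine ⟨y * z, ?_⟩
        rw [show y * z * x * (y * z)⁻¹ = y * (z * x * z⁻¹) * y⁻¹ by group, hz, hXconj y _ _ hy]
        simp
      inv_mem' := by
        rintro r ⟨y, hy⟩
        refine ⟨y⁻¹, ?_⟩
        have h := hXconj y _ (r⁻¹ : (ZMod p)ˣ) hy
        rw [Units.mul_inv, hX1] at h
        calc y⁻¹ * x * y⁻¹⁻¹ = y⁻¹ * (y * X (r⁻¹ : (ZMod p)ˣ) * y⁻¹) * y⁻¹⁻¹ := by rw [h]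
          _ = _ := by group }
  have hRiff : ∀ i j : (ZMod p)ˣ, IsConj (X i) (X j) ↔ i⁻¹ * j ∈ R := by
    intro i j
    rw [isConj_iff]
    constructor
    · rintro ⟨y, hy⟩
      have hyx : ∃ r : ZMod p, y * x * y⁻¹ = X r := by
        have : X i ^ ((i⁻¹ : (ZMod p)ˣ) : ZMod p).val = x := by
          show (x ^ (i : ZMod p).val) ^ _ = x
          rw [← pow_mul, ← hXnat, Nat.cast_mul, ZMod.natCast_zmod_val, ZMod.natCast_zmod_val,
            Units.mul_inv, hX1]
        rw [← this, ← conj_pow, hy]
        obtain ⟨r, hr⟩ := hXsurj _ ((Subgroup.zpowers x).pow_mem (hXmem (j : ZMod p)) _)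
        exact ⟨r, hr.symm⟩
      obtain ⟨r, hr⟩ := hyx
      have h2 := hXconj y r i hr
      rw [hy] at h2
      refine ⟨y, ?_⟩
      rw [hr, Units.val_mul, hXinj h2, mul_comm r, Units.inv_mul_cancel_left]
    · rintro ⟨y, hy⟩
      refine ⟨y, ?_⟩
      rw [hXconj y _ _ hy, Units.val_mul, mul_comm, Units.mul_inv_cancel_left]
  set e := Nat.card R with he
  have hfibR : ∀ j : (ZMod p)ˣ,
      (Finset.univ.filter fun i : (ZMod p)ˣ => IsConj (X i) (X j)).card = e := by
    intro j
    rw [he, ← Nat.card_eq_finsetCard]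
    refine Nat.card_congr
      { toFun := fun i => ⟨(i : (ZMod p)ˣ)⁻¹ * j, (hRiff _ _).1 (mem_filter.1 i.2).2⟩
        invFun := fun r => ⟨j * (r : (ZMod p)ˣ)⁻¹, mem_filter.2 ⟨mem_univ _, (hRiff _ _).2 (by simp)⟩⟩
        left_inv := fun i => Subtype.ext (by simp)
        right_inv := fun r => Subtype.ext (by simp) }
  -- the number of classes
  have hte : t * e = p - 1 := by
    have hbij : Nat.card ((ZMod p)ˣ ⧸ R) = t := by
      rw [← ht]
      refine Nat.card_eq_of_bijective
        (Quotient.lift (fun i : (ZMod p)ˣ =>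
          (⟨ConjClasses.mk (X i), X i, ConjClasses.mem_carrier_mk, by
            refine orderOf_eq_prime ?_ ?_
            · show (x ^ (i : ZMod p).val) ^ p = 1
              have hxp : x ^ p = 1 := orderOf_dvd_iff_pow_eq_one.1 hx.dvd
              rw [← pow_mul, mul_comm, pow_mul, hxp, one_pow]
            · intro h
              exact i.ne_zero (hXinj (h.trans hX0.symm))⟩ :
            {C : ConjClasses G // ∃ g ∈ C.carrier, orderOf g = p}))
          fun i j h => Subtype.ext (ConjClasses.mk_eq_mk_iff_isConj.2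
            ((hRiff i j).2 (QuotientGroup.leftRel_apply.1 h)))) ⟨?_, ?_⟩
      · intro a b
        induction a using QuotientGroup.induction_on with | _ i => ?_
        induction b using QuotientGroup.induction_on with | _ j => ?_
        intro h
        exact QuotientGroup.eq.2 ((hRiff i j).1 (ConjClasses.mk_eq_mk_iff_isConj.1
          (congrArg Subtype.val h)))
      · rintro ⟨C, g, hgC, hg⟩
        obtain ⟨a, ha, hag⟩ := hconjQ g hg
        refine ⟨QuotientGroup.mk (Units.mk0 a ha), Subtype.ext ?_⟩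
        show ConjClasses.mk (X a) = C
        rw [ConjClasses.mem_carrier_iff_mk_eq] at hgC
        rw [← hgC]
        exact ConjClasses.mk_eq_mk_iff_isConj.2 hag
    rw [← hbij, ← Subgroup.card_eq_card_quotient_mul_card_subgroup, Nat.card_eq_fintype_card,
      ZMod.card_units_eq_totient, Nat.totient_prime hp]
  have htodd' : Odd t := Nat.not_even_iff_odd.1 htodd
  have hpodd : Even (p - 1) := hp.even_sub_one hp2
  have heven : Even e := by
    rw [← hte, Nat.even_mul] at hpodd
    exact hpodd.resolve_left htodd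
  have hepos : 0 < e := Nat.card_pos
  -- the eigenvalues of x
  obtain ⟨d, ρ, hρi, hρ⟩ := χ.2
  have hd : finrank ℂ (Fin d → ℂ) + 1 = p := by
    rw [← hρ] at hχ
    rwa [← H12.degree_character ρ]
  have hTx : (ρ x) ^ p = 1 := by rw [← map_pow, ← hx, pow_orderOf_eq_one, map_one]
  obtain ⟨b, μ, hb⟩ := H12.exists_eigenbasis hp.ne_zero hTx
  obtain ⟨ζ, hζ⟩ : ∃ ζ : ℂ, IsPrimitiveRoot ζ p := ⟨_, Complex.isPrimitiveRoot_exp p hp.ne_zero⟩
  let E : AddChar (ZMod p) ℂ := AddChar.zmodChar p hζ.pow_eq_one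
  have hEprim : E.IsPrimitive := AddChar.zmodChar_primitive_of_primitive_root p hζ
  have hEconj : ∀ a, conj (E a) = E (-a) := fun a => (AddChar.map_neg_eq_conj E a).symm
  have hEsum : ∀ c : ZMod p, ∑ a, E (a * c) = if c = 0 then (p : ℂ) else 0 := by
    intro c
    rw [AddChar.sum_mulShift c hEprim, ZMod.card]
    split_ifs <;> simp
  have hcex : ∀ l, ∃ c : ZMod p, E c = μ l := by
    intro l
    obtain ⟨i, -, hi⟩ := hζ.eq_pow_of_pow_eq_one (hb l).2
    exact ⟨(i : ZMod p), by rw [← hi]; exact AddChar.zmodChar_apply' hζ.pow_eq_one i⟩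
  choose c hc using hcex
  have hρX : ∀ (a : ZMod p) l, ρ (X a) (b l) = E (c l * a) • b l := by
    intro a l
    have hk : ∀ k : ℕ, ((ρ x) ^ k) (b l) = μ l ^ k • b l := by
      intro k
      induction k with
      | zero => simp
      | succ k ih => rw [pow_succ, Module.End.mul_apply, (hb l).1, map_smul, ih, smul_smul, ← pow_succ']
    rw [show ρ (X a) = ρ x ^ a.val from map_pow ρ x a.val, hk, ← hc l, ← AddChar.map_nsmul_eq_pow,
      nsmul_eq_mul, ZMod.natCast_zmod_val, mul_comm]
  have hχX : ∀ a, (χ : G → ℂ) (X a) = ∑ l, E (c l * a) := by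
    intro a
    rw [← hρ, Representation.character, LinearMap.trace_eq_matrix_trace ℂ b, Matrix.trace]
    exact Finset.sum_congr rfl fun l _ => by simp [LinearMap.toMatrix_apply, hρX]
  set m : ZMod p → ℕ := fun j => (Finset.univ.filter fun l => c l = j).card with hm
  have hfourier : ∀ j, ∑ a, (χ : G → ℂ) (X a) * E (-(j * a)) = (p : ℂ) * m j := by
    intro j
    simp only [hχX, Finset.sum_mul]
    rw [Finset.sum_comm, hm]
    simp only [Finset.card_filter, Nat.cast_sum, Finset.mul_sum]
    refine Finset.sum_congr rfl fun l _ => ?_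
    rw [Finset.sum_congr rfl fun a _ => by
      rw [← AddChar.map_add_eq_mul, show c l * a + -(j * a) = a * (c l - j) by ring], hEsum]
    simp only [sub_eq_zero]
    split_ifs <;> simp
  have hminv : ∀ (r : (ZMod p)ˣ), r ∈ R → ∀ j, m (j * r) = m j := by
    rintro r ⟨y, hy⟩ j
    have h : (p : ℂ) * m (j * r) = (p : ℂ) * m j := by
      rw [← hfourier, ← hfourier]
      refine Fintype.sum_equiv (Units.mulLeft r) _ _ fun a => ?_
      show _ = (χ : G → ℂ) (X ((r : ZMod p) * a)) * E (-(j * ((r : ZMod p) * a)))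
      rw [← hXconj y _ a hy, H12.irr_isClassFunction χ, mul_assoc j]
    exact_mod_cast mul_left_cancel₀ (Nat.cast_ne_zero.2 hp.ne_zero) h
  -- m 0 is divisible by e
  have hedvd : e ∣ m 0 := by
    have htot : ∑ j, m j = p - 1 := by
      simp only [hm]
      rw [← Finset.card_eq_sum_card_fiberwise (fun l _ => Finset.mem_univ (c l)), Finset.card_univ,
        Fintype.card_fin]
      omega
    have hsplit : m 0 + ∑ i : (ZMod p)ˣ, m i = p - 1 := by
      rw [← htot, ← Finset.add_sum_erase _ _ (Finset.mem_univ (0 : ZMod p))]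
      congr 1
      refine Finset.sum_bij (fun i _ => (i : ZMod p)) (fun i _ => by simp)
        (fun _ _ _ _ h => Units.ext h)
        (fun a ha => ⟨Units.mk0 a (Finset.ne_of_mem_erase ha), mem_univ _, rfl⟩) (fun _ _ => rfl)
    have hdiv : e ∣ ∑ i : (ZMod p)ˣ, m i := by
      rw [← Finset.sum_fiberwise Finset.univ (fun i : (ZMod p)ˣ => (QuotientGroup.mk i : (ZMod p)ˣ ⧸ R))]
      refine Finset.dvd_sum fun q _ => ?_
      induction q using QuotientGroup.induction_on with | _ j => ?_
      rw [Finset.sum_congr rfl (g := fun _ => m j), Finset.sum_const, smul_eq_mul]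
      · refine Dvd.dvd.mul_right (dvd_of_eq ?_) _
        rw [← hfibR j]
        congr 1
        ext i
        simp only [mem_filter, mem_univ, true_and, QuotientGroup.eq, hRiff]
      · intro i hi
        simp only [mem_filter, mem_univ, true_and, QuotientGroup.eq] at hi
        show m (i : ZMod p) = m (j : ZMod p)
        rw [← hminv _ hi (i : ZMod p), Units.val_mul, Units.mul_inv_cancel_left]
    have hpe : e ∣ p - 1 := Dvd.intro_left t hte
    exact (Nat.dvd_add_left hdiv).1 (hsplit ▸ hpe)
  -- a test function shows that x has no fixed points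
  have hm0 : m 0 = 0 := by
    by_contra hne
    have hj0 : ∃ j0 : (ZMod p)ˣ, m j0 = 0 := by
      by_contra hall
      push Not at hall
      have h1 : (Finset.univ : Finset (ZMod p)).card ≤ (Finset.univ.image c).card :=
        Finset.card_le_card fun j _ => by
          rcases eq_or_ne j 0 with rfl | hj
          · obtain ⟨l, hl⟩ := Finset.card_pos.1 (Nat.pos_of_ne_zero hne)
            exact mem_image.2 ⟨l, mem_univ _, (mem_filter.1 hl).2⟩
          · obtain ⟨l, hl⟩ := Finset.card_pos.1 (Nat.pos_of_ne_zero (hall (Units.mk0 j hj)))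
            exact mem_image.2 ⟨l, mem_univ _, (mem_filter.1 hl).2⟩
      have h2 := Finset.card_image_le (s := (Finset.univ : Finset (Fin (finrank ℂ (Fin d → ℂ))))) (f := c)
      rw [Finset.card_univ, ZMod.card] at h1
      rw [Finset.card_univ, Fintype.card_fin] at h2
      omega
    obtain ⟨j0, hj0⟩ := hj0
    let f : ZMod p → ℂ := fun a => (e : ℂ) - ∑ r : R, E (a * ((r : (ZMod p)ˣ) : ZMod p) * j0)
    let Φ : G → ℂ := fun g =>
      (e : ℂ)⁻¹ * ∑ i : (ZMod p)ˣ, if IsConj (X i) g then f i else 0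
    have hf0 : f 0 = 0 := by
      simp [f, he, Nat.card_eq_fintype_card]
    have hfinv : ∀ i j : (ZMod p)ˣ, IsConj (X i) (X j) → f i = f j := by
      intro i j hij
      have hmem := (hRiff i j).1 hij
      simp only [f]
      congr 1
      refine Fintype.sum_equiv (Equiv.mulLeft (⟨i⁻¹ * j, hmem⟩ : R)⁻¹) _ _ fun r => ?_
      congr 1
      simp only [Equiv.coe_mulLeft, Subgroup.coe_mul, InvMemClass.coe_inv, Units.val_mul,
        mul_inv_rev, inv_inv]
      rw [← mul_assoc, ← mul_assoc, Units.mul_inv, one_mul]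
    have heC : (e : ℂ) ≠ 0 := by exact_mod_cast hepos.ne'
    have hΦX : ∀ j : (ZMod p)ˣ, Φ (X j) = f j := by
      intro j
      show (e : ℂ)⁻¹ * _ = _
      rw [← Finset.sum_filter, Finset.sum_congr rfl (g := fun _ => f j), Finset.sum_const, hfibR,
        nsmul_eq_mul, ← mul_assoc, inv_mul_cancel₀ heC, one_mul]
      exact fun i hi => hfinv i j (mem_filter.1 hi).2
    have hΦclass : IsClassFunction G Φ := by
      intro g h
      simp only [Φ]
      congr 1
      refine Finset.sum_congr rfl fun i _ => if_congr ⟨fun hh => hh.trans ?_, fun hh => hh.trans ?_⟩ rfl rfl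
      · exact (isConj_iff.2 ⟨h, rfl⟩ : IsConj g (h * g * h⁻¹)).symm
      · exact isConj_iff.2 ⟨h, rfl⟩
    have hinner : ∀ F : G → ℂ, IsClassFunction G F →
        (e : ℂ) * p * classInner Φ F = ∑ a : ZMod p, f a * conj (F (X a)) := by
      intro F hF
      have hone : ∀ i : (ZMod p)ˣ, (p : ℂ) * ∑ g : G,
          (if IsConj (X i) g then f i else 0) * conj (F g) =
            (Nat.card G : ℂ) * (f i * conj (F (X i))) := by
        intro i
        simp only [ite_mul, zero_mul]
        rw [← Finset.sum_filter, Finset.sum_congr rfl (g := fun _ => f i * conj (F (X i))),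
          Finset.sum_const, nsmul_eq_mul, ← mul_assoc, ← Nat.cast_mul]
        · congr 2
          have := H12.card_conjClass_mul_card_centralizer (X (i : ZMod p))
          rw [hCX _ i.ne_zero, Nat.card_zpowers, hx] at this
          rw [mul_comm]
          exact this
        · intro g hg
          obtain ⟨h, rfl⟩ := isConj_iff.1 (mem_filter.1 hg).2
          rw [hF]
      have hn0 : (Nat.card G : ℂ) ≠ 0 := H12.card_ne_zero'
      calc (e : ℂ) * p * classInner Φ F
          = (Nat.card G : ℂ)⁻¹ * ((p : ℂ) * ((e : ℂ) * ∑ g : G, Φ g * conj (F g))) := by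
            rw [H12.classInner_def]; ring
        _ = (Nat.card G : ℂ)⁻¹ * ∑ i : (ZMod p)ˣ, (p : ℂ) * ∑ g : G,
              (if IsConj (X i) g then f i else 0) * conj (F g) := by
            rw [← Finset.mul_sum, Finset.sum_comm, Finset.mul_sum]
            congr 2
            refine Finset.sum_congr rfl fun g _ => ?_
            simp only [Φ]
            rw [← mul_assoc, ← mul_assoc, mul_inv_cancel₀ heC, one_mul, Finset.sum_mul]
        _ = ∑ i : (ZMod p)ˣ, f i * conj (F (X i)) := by
            rw [Finset.sum_congr rfl fun i _ => hone i, ← Finset.mul_sum, ← mul_assoc,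
              inv_mul_cancel₀ hn0, one_mul]
        _ = _ := by
            rw [← Finset.add_sum_erase _ _ (Finset.mem_univ (0 : ZMod p)), hf0, zero_mul, zero_add]
            exact Finset.sum_bij (fun i _ => (i : ZMod p)) (fun i _ => by simp)
              (fun _ _ _ _ h => Units.ext h)
              (fun a ha => ⟨Units.mk0 a (Finset.ne_of_mem_erase ha), mem_univ _, rfl⟩) (fun _ _ => rfl)
    have hep : (e : ℂ) * p ≠ 0 := mul_ne_zero heC (Nat.cast_ne_zero.2 hp.ne_zero)
    have hf1 : ∀ u : ZMod p, u ≠ 0 → ∑ a, E (a * u) = 0 := fun u hu => by rw [hEsum, if_neg hu]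
    have hrne : ∀ r : R, ((r : (ZMod p)ˣ) : ZMod p) * j0 ≠ 0 := fun r =>
      mul_ne_zero (r : (ZMod p)ˣ).ne_zero j0.ne_zero
    have hsumf : ∑ a, f a = (e : ℂ) * p := by
      simp only [f, Finset.sum_sub_distrib, Finset.sum_const, Finset.card_univ, ZMod.card,
        nsmul_eq_mul]
      rw [Finset.sum_comm, Finset.sum_eq_zero (fun r _ => ?_), sub_zero, mul_comm]
      simp only [mul_assoc]
      exact hf1 _ (hrne r)
    have hΦone : classInner Φ (fun _ => (1 : ℂ)) = 1 := by
      refine mul_left_cancel₀ hep ?_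
      rw [hinner _ (fun _ _ => rfl), mul_one]
      simpa using hsumf
    have hΦχ : classInner Φ (χ : G → ℂ) = (m 0 : ℂ) := by
      refine mul_left_cancel₀ hep ?_
      rw [hinner _ (H12.irr_isClassFunction χ)]
      have h0 := congrArg (starRingEnd ℂ) (hfourier 0)
      simp only [zero_mul, neg_zero, AddChar.map_zero_eq_one, mul_one, map_sum, map_mul,
        Complex.conj_natCast] at h0
      simp only [f, sub_mul, Finset.sum_sub_distrib, ← Finset.mul_sum, h0, Finset.sum_mul]
      rw [Finset.sum_comm, Finset.sum_eq_zero (fun r _ => ?_), sub_zero, mul_assoc]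
      simp only [hχX, map_sum, hEconj, Finset.mul_sum, ← AddChar.map_add_eq_mul]
      rw [Finset.sum_comm]
      refine Finset.sum_eq_zero fun l _ => ?_
      rw [Finset.sum_congr rfl fun a _ => by
        rw [show a * ((r : (ZMod p)ˣ) : ZMod p) * j0 + -(c l * a) =
          a * (((r : (ZMod p)ˣ) : ZMod p) * j0 - c l) by ring]]
      refine hf1 _ (sub_ne_zero.2 fun hl => ?_)
      have hz := hminv (r : (ZMod p)ˣ) r.2 (j0 : ZMod p)
      rw [hj0] at hz
      exact Finset.card_ne_zero.2 ⟨l, mem_filter.2 ⟨mem_univ _, by rw [← hl, mul_comm]⟩⟩ hz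
    have hΦΦ : classInner Φ Φ = (e : ℂ) + 1 := by
      refine mul_left_cancel₀ hep ?_
      rw [hinner _ hΦclass]
      have hstep : ∀ a, f a * conj (Φ (X a)) = f a * conj (f a) := by
        intro a
        rcases eq_or_ne a 0 with rfl | ha
        · simp [hf0]
        · rw [show a = ((Units.mk0 a ha : (ZMod p)ˣ) : ZMod p) from rfl, hΦX]
      simp only [hstep]
      have hexp : ∀ a, f a * conj (f a) = (e : ℂ) * f a -
          (e : ℂ) * ∑ s : R, E (a * -(((s : (ZMod p)ˣ) : ZMod p) * j0)) +
          ∑ r : R, ∑ s : R,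
            E (a * (((r : (ZMod p)ˣ) : ZMod p) * j0 - ((s : (ZMod p)ˣ) : ZMod p) * j0)) := by
        intro a
        have hprod : ∑ r : R, ∑ s : R,
            E (a * (((r : (ZMod p)ˣ) : ZMod p) * j0 - ((s : (ZMod p)ˣ) : ZMod p) * j0)) =
            (∑ r : R, E (a * ((r : (ZMod p)ˣ) : ZMod p) * j0)) *
              ∑ s : R, E (a * -(((s : (ZMod p)ˣ) : ZMod p) * j0)) := by
          rw [Finset.sum_mul_sum]
          refine Finset.sum_congr rfl fun r _ => Finset.sum_congr rfl fun s _ => ?_
          rw [← AddChar.map_add_eq_mul]; ring_nf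
        rw [hprod]
        simp only [f, map_sub, Complex.conj_natCast, map_sum, hEconj]
        simp only [show ∀ s : R, -(a * ((s : (ZMod p)ˣ) : ZMod p) * j0) =
          a * -(((s : (ZMod p)ˣ) : ZMod p) * j0) from fun s => by ring]
        ring
      simp only [hexp, Finset.sum_add_distrib, Finset.sum_sub_distrib, ← Finset.mul_sum, hsumf]
      have h2 : ∑ a, ∑ s : R, E (a * -(((s : (ZMod p)ˣ) : ZMod p) * j0)) = 0 := by
        rw [Finset.sum_comm]
        exact Finset.sum_eq_zero fun s _ => hf1 _ (neg_ne_zero.2 (hrne s))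
      have h3 : ∑ a, ∑ r : R, ∑ s : R,
          E (a * (((r : (ZMod p)ˣ) : ZMod p) * j0 - ((s : (ZMod p)ˣ) : ZMod p) * j0)) =
            (e : ℂ) * p := by
        rw [Finset.sum_comm]
        rw [Finset.sum_congr rfl (g := fun _ => (p : ℂ)), Finset.sum_const, Finset.card_univ,
          nsmul_eq_mul, he, Nat.card_eq_fintype_card]
        intro r _
        rw [Finset.sum_comm, Finset.sum_eq_single r (fun s _ hs => hf1 _ (sub_ne_zero.2 fun h => hs
          (Subtype.ext (Units.ext (mul_right_cancel₀ j0.ne_zero h)).symm))) (by simp)]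
        simp [ZMod.card]
      rw [h2, h3]; ring
    have hχne : χ ≠ H12.oneIrr G := by
      intro h
      have h1 := H12.irr_apply_one χ
      rw [h, H12.oneIrr_apply] at h1
      have : charDegree (χ : G → ℂ) = 1 := by rw [h]; exact_mod_cast h1.symm
      omega
    have hχone : classInner (χ : G → ℂ) (fun _ => (1 : ℂ)) = 0 := by
      have := H12.classInner_irr_ne hχne
      rwa [show (H12.oneIrr G : G → ℂ) = fun _ => (1 : ℂ) from funext fun g => H12.oneIrr_apply ..] at this
    have honeone : classInner (fun _ : G => (1 : ℂ)) (fun _ => (1 : ℂ)) = 1 := by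
      simp [H12.classInner_def]
    set Ψ : G → ℂ := Φ - ((m 0 : ℂ) • (χ : G → ℂ) + fun _ => (1 : ℂ)) with hΨ
    have hval : classInner Ψ Ψ = (e : ℂ) - (m 0 : ℂ) * m 0 := by
      have c1 : classInner (χ : G → ℂ) Φ = (m 0 : ℂ) := by
        rw [← H12.conj_classInner, hΦχ, Complex.conj_natCast]
      have c2 : classInner (fun _ => (1 : ℂ)) Φ = 1 := by
        rw [← H12.conj_classInner, hΦone, map_one]
      have c3 : classInner (fun _ => (1 : ℂ)) (χ : G → ℂ) = 0 := by
        rw [← H12.conj_classInner, hχone, map_zero]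
      simp only [hΨ, H12.classInner_sub_left, H12.classInner_sub_right, H12.classInner_add_left,
        H12.classInner_add_right, H12.classInner_smul_left, H12.classInner_smul_right,
        Complex.conj_natCast, hΦΦ, hΦχ, hΦone, c1, c2, c3, hχone, honeone, H12.classInner_irr_self]
      ring
    have hnn : 0 ≤ (classInner Ψ Ψ).re := by
      simp only [H12.classInner_def, Complex.mul_conj, ← Complex.ofReal_natCast,
        ← Complex.ofReal_inv, ← Complex.ofReal_sum, ← Complex.ofReal_mul, Complex.ofReal_re]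
      exact mul_nonneg (inv_nonneg.2 (Nat.cast_nonneg _))
        (Finset.sum_nonneg fun g _ => Complex.normSq_nonneg _)
    rw [hval] at hnn
    have hle : m 0 * m 0 ≤ e := by
      simp only [Complex.sub_re, Complex.natCast_re, Complex.mul_re, Complex.natCast_im, mul_zero,
        sub_zero] at hnn
      exact_mod_cast (sub_nonneg.1 hnn)
    have hem := Nat.le_of_dvd (Nat.pos_of_ne_zero hne) hedvd
    have he2 : 2 ≤ e := by obtain ⟨k, hk⟩ := heven; omega
    have := Nat.mul_le_mul hem hem
    have h2e : 2 * e ≤ e * e := Nat.mul_le_mul_right e he2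
    omega
  have hcne : ∀ l, c l ≠ 0 := fun l hl =>
    Finset.card_ne_zero.2 ⟨l, mem_filter.2 ⟨mem_univ _, hl⟩⟩ hm0
  have hsum0 : ∑ a, ρ (X a) = 0 := by
    refine b.ext fun l => ?_
    rw [LinearMap.sum_apply, Finset.sum_congr rfl fun a _ => hρX a l, ← Finset.sum_smul,
      Finset.sum_congr rfl fun a _ => by rw [mul_comm (c l)], hEsum, if_neg (hcne l), zero_smul,
      LinearMap.zero_apply]
  -- the generator of the automizer
  obtain ⟨⟨r0, hr0R⟩, hgen⟩ := IsCyclic.exists_generator (α := R)
  have hord : orderOf r0 = e := by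
    rw [← Subgroup.orderOf_mk r0 hr0R, orderOf_eq_card_of_forall_mem_zpowers hgen]
  obtain ⟨y, hy⟩ := hr0R
  have hyk : ∀ k : ℕ, y ^ k * x * (y ^ k)⁻¹ = X ((r0 ^ k : (ZMod p)ˣ)) := by
    intro k
    induction k with
    | zero => simp [hX1]
    | succ k ih =>
      rw [pow_succ', show y * y ^ k * x * (y * y ^ k)⁻¹ = y * (y ^ k * x * (y ^ k)⁻¹) * y⁻¹ by
        group, ih, hXconj y _ _ hy, pow_succ', Units.val_mul]
  have hr0ne : ((r0 : ZMod p)) - 1 ≠ 0 := by
    intro h
    rw [sub_eq_zero, ← Units.val_one] at h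
    rw [Units.ext h, orderOf_one] at hord
    obtain ⟨k, hk⟩ := heven; omega
  have hye : y ^ e = 1 := by
    have hmem : y ^ e ∈ Subgroup.zpowers x := by
      rw [← hC, Subgroup.mem_centralizer_singleton_iff]
      have := hyk e
      rw [← hord, pow_orderOf_eq_one, Units.val_one, hX1, mul_inv_eq_iff_eq_mul] at this
      rw [← hord]; exact this
    obtain ⟨s, hs⟩ := hXsurj _ hmem
    have h := hXconj y _ s hy
    rw [hs, show y * y ^ e * y⁻¹ = y ^ e by rw [← pow_succ', pow_succ, mul_inv_cancel_right],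
      ← hs] at h
    have h2 : ((r0 : ZMod p) - 1) * s = 0 := by rw [sub_mul, one_mul, ← hXinj h, sub_self]
    rw [← hs, (mul_eq_zero.1 h2).resolve_left hr0ne, hX0]
  have hvan : ∀ k : ℕ, ¬ e ∣ k → (χ : G → ℂ) (y ^ k) = 0 := by
    intro k hk
    have hr : ((r0 ^ k : (ZMod p)ˣ) : ZMod p) ≠ 1 := by
      intro h
      rw [← Units.val_one] at h
      exact hk (hord ▸ orderOf_dvd_of_pow_eq_one (Units.ext h))
    have hconst : ∀ a, (χ : G → ℂ) (X a * y ^ k) = (χ : G → ℂ) (y ^ k) := by
      intro a
      set bb := a / (1 - ((r0 ^ k : (ZMod p)ˣ) : ZMod p)) with hbb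
      have h := H12.irr_isClassFunction χ (y ^ k) (X bb)
      rw [show X bb * y ^ k * (X bb)⁻¹ = X bb * (y ^ k * X (-bb) * (y ^ k)⁻¹) * y ^ k by
        rw [hXinv]; group, hXconj _ _ _ (hyk k), hXadd] at h
      rw [← h]
      refine congrArg (fun v => (χ : G → ℂ) (X v * y ^ k)) ?_
      have := sub_ne_zero.2 hr.symm
      rw [hbb]; field_simp; ring
    have h0 : ∑ a, (χ : G → ℂ) (X a * y ^ k) = 0 := by
      rw [← hρ]
      simp only [Representation.character, map_mul, ← map_sum, ← Finset.sum_mul, hsum0, zero_mul,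
        map_zero]
    rw [Finset.sum_congr rfl fun a _ => hconst a, Finset.sum_const, Finset.card_univ, ZMod.card,
      nsmul_eq_mul, mul_eq_zero] at h0
    exact h0.resolve_left (Nat.cast_ne_zero.2 hp.ne_zero)
  -- the determinant at y
  have hTy : (ρ y) ^ e = 1 := by rw [← map_pow, hye, map_one]
  obtain ⟨b', ν, hb'⟩ := H12.exists_eigenbasis hepos.ne' hTy
  have hdet : LinearMap.det (ρ y) = ∏ l, ν l := by
    rw [← LinearMap.det_toMatrix b', show LinearMap.toMatrix b' b' (ρ y) = Matrix.diagonal ν from ?_,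
      Matrix.det_diagonal]
    ext i j
    simp [LinearMap.toMatrix_apply, (hb' j).1, Finsupp.single_apply, Matrix.diagonal, eq_comm]
    by_cases hij : i = j <;> simp [hij]
  have htr : ∀ k : ℕ, (χ : G → ℂ) (y ^ k) = ∑ l, ν l ^ k := by
    intro k
    have hk : ∀ l, ((ρ y) ^ k) (b' l) = ν l ^ k • b' l := by
      intro l
      induction k with
      | zero => simp
      | succ k ih => rw [pow_succ, Module.End.mul_apply, (hb' l).1, map_smul, ih, smul_smul, ← pow_succ']
    rw [← hρ, Representation.character, map_pow, LinearMap.trace_eq_matrix_trace ℂ b', Matrix.trace]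
    exact Finset.sum_congr rfl fun l _ => by simp [LinearMap.toMatrix_apply, hk l]
  obtain ⟨η, hη⟩ : ∃ η : ℂ, IsPrimitiveRoot η e := ⟨_, Complex.isPrimitiveRoot_exp e hepos.ne'⟩
  have hcount : ∀ j ∈ range e, (Finset.univ.filter fun l => ν l = η ^ j).card = t := by
    intro j _
    refine Nat.eq_of_mul_eq_mul_right hepos (?_ : _ = t * e)
    rw [hte]
    have hw : (η ^ j) ^ e = 1 := by rw [← pow_mul, mul_comm, pow_mul, hη.pow_eq_one, one_pow]
    have hw0 : η ^ j ≠ 0 := pow_ne_zero _ (hη.ne_zero hepos.ne')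
    have h : ∑ k ∈ range e, ∑ l, (ν l / η ^ j) ^ k = ((p - 1 : ℕ) : ℂ) := by
      rw [Finset.sum_eq_single 0 (fun k hk hk0 => ?_) (fun h => absurd (mem_range.2 hepos) h)]
      · rw [Finset.sum_congr rfl (fun l _ => pow_zero _), Finset.sum_const, Finset.card_univ,
          Fintype.card_fin, nsmul_eq_mul, mul_one]
        congr 1; omega
      · simp only [div_pow, ← Finset.sum_div, ← htr]
        rw [hvan k (Nat.not_dvd_of_pos_of_lt (Nat.pos_of_ne_zero hk0) (mem_range.1 hk)), zero_div]
    rw [Finset.sum_comm] at h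
    have h' : ((((Finset.univ.filter fun l => ν l = η ^ j).card * e : ℕ)) : ℂ) = ((p - 1 : ℕ) : ℂ) := by
      rw [← h, Finset.card_filter, Finset.sum_mul, Nat.cast_sum]
      refine Finset.sum_congr rfl fun l _ => ?_
      split_ifs with hl
      · simp [hl, hw0]
      · have h2 := geom_sum_mul (ν l / η ^ j) e
        rw [div_pow, (hb' l).2, hw, div_one, sub_self, mul_eq_zero] at h2
        rw [h2.resolve_right (sub_ne_zero.2 fun h3 => hl ((div_eq_one_iff_eq hw0).1 h3))]
        simp
    exact_mod_cast h'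
  have hmaps : ∀ l ∈ (Finset.univ : Finset (Fin (finrank ℂ (Fin d → ℂ)))),
      ν l ∈ (range e).image (η ^ ·) := by
    intro l _
    have : NeZero e := ⟨hepos.ne'⟩
    obtain ⟨i, hi, hi'⟩ := hη.eq_pow_of_pow_eq_one (hb' l).2
    exact mem_image.2 ⟨i, mem_range.2 hi, hi'⟩
  have hval : LinearMap.det (ρ y) = -1 := by
    rw [hdet, ← Finset.prod_fiberwise_of_maps_to hmaps,
      Finset.prod_image (fun i hi j hj h => hη.pow_inj (mem_range.1 hi) (mem_range.1 hj) h)]
    rw [Finset.prod_congr rfl (g := fun j => (η ^ j) ^ t), Finset.prod_pow,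
      prod_pow_root heven hepos hη, Odd.neg_one_pow htodd']
    intro j hj
    rw [Finset.prod_congr rfl (g := fun _ => η ^ j) (fun l hl => (mem_filter.1 hl).2),
      Finset.prod_const, hcount j hj]
  let fdet : G →* ℂ := (LinearMap.det (A := ℂ) (M := Fin d → ℂ)).comp ρ
  exact even_index_of_hom fdet.toHomUnits y hval

end H17.SelfCent
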