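import Cfsg.Agent.H13.Clifford
import Cfsg.Agent.H24.CharBasic
import Cfsg.Prelude.Def_DegreeGraph
import Mathlib.Analysis.SpecialFunctions.Complex.CircleAddChar
import Mathlib.GroupTheory.SemidirectProduct
import Mathlib.GroupTheory.Solvable

/-!
A solvable group of order 6048 with an irreducible character of degree 42.
-/

set_option autoImplicit false
set_option linter.unusedSectionVars false

namespace H17.SemiEx

open Finset Cfsg

/-- the underlying abelian group of order 144 -/
abbrev V : Type := (ZMod 2 × ZMod 2 × ZMod 2 × ZMod 2) × ZMod 3 × ZMod 3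

/-- an automorphism of order 42 -/
def fAdd : V ≃+ V where
  toFun := fun ((x0, x1, x2, x3), a, b) => ((x2, x0 + x2, x1, x3), -a - b, -b)
  invFun := fun ((x0, x1, x2, x3), a, b) => ((x1 - x0, x2, x0, x3), -a + b, -b)
  left_inv := fun ((x0, x1, x2, x3), a, b) => by simp
  right_inv := fun ((x0, x1, x2, x3), a, b) => by simp
  map_add' := fun ((x0, x1, x2, x3), a, b) ((y0, y1, y2, y3), c, d) => by
    simp only [Prod.mk_add_mk, Prod.mk.injEq]
    and_intros <;> first | trivial | ring

/-- the multiplicative version -/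
def fMul : MulAut (Multiplicative V) := AddEquiv.toMultiplicative fAdd

/-- iterate -/
def iter : ℕ → V → V
  | 0, v => v
  | k + 1, v => fAdd (iter k v)

theorem pow_fMul (k : ℕ) (v : V) :
    (fMul ^ k) (Multiplicative.ofAdd v) = Multiplicative.ofAdd (iter k v) := by
  induction k with
  | zero => rfl
  | succ k ih => rw [pow_succ', MulAut.mul_apply, ih]; rfl

theorem iter_42 : ∀ v : V, iter 42 v = v := by decide +kernel

theorem fMul_pow_42 : fMul ^ 42 = 1 := by
  refine MulEquiv.ext fun v => ?_
  obtain ⟨w, rfl⟩ := Multiplicative.ofAdd.surjective v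
  rw [pow_fMul, iter_42]; rfl

/-- the action of the cyclic group of order 42 -/
def act : Multiplicative (ZMod 42) →* MulAut (Multiplicative V) :=
  MonoidHom.mk' (fun k => fMul ^ k.toAdd.val) fun a b => by
    show fMul ^ (a.toAdd + b.toAdd).val = fMul ^ a.toAdd.val * fMul ^ b.toAdd.val
    rw [ZMod.val_add, ← pow_add]
    conv_rhs => rw [← Nat.mod_add_div (a.toAdd.val + b.toAdd.val) 42, pow_add, pow_mul, fMul_pow_42,
      one_pow, mul_one]

/-- the group -/
abbrev SG : Type := Multiplicative V ⋊[act] Multiplicative (ZMod 42)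

noncomputable instance : Fintype SG := Fintype.ofEquiv _ SemidirectProduct.equivProd.symm

theorem card_SG : Nat.card SG = 6048 := by
  rw [Nat.card_congr SemidirectProduct.equivProd, Nat.card_prod]
  simp only [Nat.card_eq_fintype_card, Fintype.card_multiplicative, Fintype.card_prod, ZMod.card]

theorem isSolvable_SG : Group.IsSolvable SG :=
  solvable_of_ker_le_range (SemidirectProduct.inl (φ := act)) SemidirectProduct.rightHom
    (le_of_eq SemidirectProduct.range_inl_eq_ker_rightHom.symm)

/-- an additive map to `ZMod 6` -/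
def lfun (v : V) : ZMod 6 := (v.1.1.val * 3 + v.2.1.val * 2 : ℕ)

theorem lfun_add_aux : ∀ x y : ZMod 2, ∀ a b : ZMod 3,
    (((x + y).val * 3 + (a + b).val * 2 : ℕ) : ZMod 6) =
      ((x.val * 3 + a.val * 2 : ℕ) : ZMod 6) + ((y.val * 3 + b.val * 2 : ℕ) : ZMod 6) := by
  decide +kernel

theorem lfun_moved : ∀ k : ZMod 42, k ≠ 0 → ∃ v : V, lfun (iter k.val v) ≠ lfun v := by
  decide +kernel

theorem exists_deg_42 : 42 ∈ charDegrees SG := by
  classical
  let N : Subgroup SG := (SemidirectProduct.inl (φ := act)).range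
  haveI hN : N.Normal := by
    rw [show N = SemidirectProduct.rightHom.ker from SemidirectProduct.range_inl_eq_ker_rightHom]
    infer_instance
  haveI : Fintype N := Fintype.ofFinite _
  have hleft : ∀ a b : N, ((a * b : N) : SG).left = (a : SG).left * (b : SG).left := by
    rintro ⟨_, x, rfl⟩ ⟨_, y, rfl⟩
    simp
  let lam : N →* ℂˣ := MonoidHom.mk'
    (fun n => Units.mk0 (ZMod.stdAddChar (lfun (n : SG).left.toAdd) : ℂ) (by
      rw [ZMod.stdAddChar_apply]; exact Circle.coe_ne_zero _))
    fun a b => Units.ext (by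
      simp only [Units.val_mk0, Units.val_mul, hleft, ← AddChar.map_add_eq_mul, toAdd_mul]
      congr 1
      exact lfun_add_aux _ _ _ _)
  have hirr : IsIrrCharacter N (fun n => (lam n : ℂ)) := H12.isIrrCharacter_monoidHom lam
  have hin : H13.inertia N (fun n => (lam n : ℂ)) ≤ N := by
    intro g hg
    rw [H13.mem_inertia] at hg
    by_contra hgN
    have hr : g.right ≠ 1 := fun h => hgN (by
      rw [show N = SemidirectProduct.rightHom.ker from SemidirectProduct.range_inl_eq_ker_rightHom,
        MonoidHom.mem_ker]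
      exact h)
    obtain ⟨v, hv⟩ := lfun_moved g.right.toAdd (fun h => hr (by
      rw [← ofAdd_toAdd g.right, h, ofAdd_zero]))
    have h := congrFun hg ⟨SemidirectProduct.inl (Multiplicative.ofAdd v), ⟨_, rfl⟩⟩
    rw [H13.twist_apply] at h
    simp only [lam, MonoidHom.mk'_apply, Units.val_mk0] at h
    have h2 := ZMod.injective_stdAddChar h
    refine hv ?_
    have e : (g * SemidirectProduct.inl (Multiplicative.ofAdd v) * g⁻¹).left =
        act g.right (Multiplicative.ofAdd v) := by
      rw [SemidirectProduct.mul_left, SemidirectProduct.mul_left, SemidirectProduct.mul_right,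
        SemidirectProduct.left_inl, SemidirectProduct.right_inl, mul_one, SemidirectProduct.inv_left,
        ← MulAut.mul_apply, ← map_mul, mul_inv_cancel, map_one, MulAut.one_apply, mul_comm,
        ← mul_assoc, inv_mul_cancel, one_mul]
    rw [e, show act g.right = fMul ^ g.right.toAdd.val from rfl, pow_fMul] at h2
    exact h2
  have h := H13.isIrrCharacter_indFun_of_inertia N hirr hin
  refine ⟨⟨_, h⟩, ?_⟩
  have hidx : N.index = 42 := by
    rw [show N = SemidirectProduct.rightHom.ker from SemidirectProduct.range_inl_eq_ker_rightHom,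
      Subgroup.index_ker, MonoidHom.range_eq_top.2 SemidirectProduct.rightHom_surjective,
      Subgroup.card_top]
    simp only [Nat.card_eq_fintype_card, Fintype.card_multiplicative, ZMod.card]
  show charDegree (indFun N fun n => (lam n : ℂ)) = 42
  rw [charDegree, H13.indFun_apply_one, hidx]
  simp

theorem dvd_6048 {d p : ℕ} (hp : p.Prime) (hd : p ∣ d) (h : d ∣ 6048) : p = 2 ∨ p = 3 ∨ p = 7 := by
  have h6 : p ∣ 2 ^ 5 * (3 ^ 3 * 7) := hd.trans h
  rcases hp.dvd_mul.1 h6 with h | h
  · exact Or.inl ((Nat.prime_dvd_prime_iff_eq hp Nat.prime_two).1 (hp.dvd_of_dvd_pow h))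
  rcases hp.dvd_mul.1 h with h | h
  · exact Or.inr (Or.inl ((Nat.prime_dvd_prime_iff_eq hp Nat.prime_three).1 (hp.dvd_of_dvd_pow h)))
  · exact Or.inr (Or.inr ((Nat.prime_dvd_prime_iff_eq hp (by norm_num)).1 h))

/-- Two groups of order 6048 having the three pairs joined have equal graphs. -/
theorem graph_of_card {G : Type*} [Group G] [Fintype G] (hc : Nat.card G = 6048)
    (h6 : ∃ d ∈ charDegrees G, 6 ∣ d) (h14 : ∃ d ∈ charDegrees G, 14 ∣ d)
    (h21 : ∃ d ∈ charDegrees G, 21 ∣ d) :
    degreePrimes G = {2, 3, 7} ∧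
      ∀ p q, (degreeGraph G).Adj p q ↔ p ≠ q ∧ p ∈ ({2, 3, 7} : Set ℕ) ∧ q ∈ ({2, 3, 7} : Set ℕ) := by
  have hdiv : ∀ d ∈ charDegrees G, d ∣ 6048 := by
    rintro d ⟨χ, rfl⟩
    rw [← hc]; exact H24.charDegree_dvd_card χ
  obtain ⟨a, ha, h6⟩ := h6
  obtain ⟨b, hb, h14⟩ := h14
  obtain ⟨c, hcc, h21⟩ := h21
  constructor
  · ext p
    simp only [degreePrimes, Set.mem_setOf_eq, Set.mem_insert_iff, Set.mem_singleton_iff]
    constructor
    · rintro ⟨hp, d, hd, hpd⟩
      exact dvd_6048 hp hpd (hdiv d hd)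
    · rintro (rfl | rfl | rfl)
      · exact ⟨Nat.prime_two, a, ha, dvd_trans (by norm_num) h6⟩
      · exact ⟨Nat.prime_three, a, ha, dvd_trans (by norm_num) h6⟩
      · exact ⟨by norm_num, b, hb, dvd_trans (by norm_num) h14⟩
  · intro p q
    simp only [degreeGraph, Set.mem_insert_iff, Set.mem_singleton_iff]
    constructor
    · rintro ⟨hne, hp, hq, d, hd, hpq⟩
      exact ⟨hne, dvd_6048 hp ((dvd_mul_right p q).trans hpq) (hdiv d hd),
        dvd_6048 hq ((dvd_mul_left q p).trans hpq) (hdiv d hd)⟩
    · rintro ⟨hne, hp, hq⟩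
      refine ⟨hne, ?_, ?_, ?_⟩
      · rcases hp with rfl | rfl | rfl <;> norm_num
      · rcases hq with rfl | rfl | rfl <;> norm_num
      · rcases hp with rfl | rfl | rfl <;> rcases hq with rfl | rfl | rfl <;>
          first
            | exact absurd rfl hne
            | exact ⟨a, ha, h6⟩
            | exact ⟨b, hb, h14⟩
            | exact ⟨c, hcc, h21⟩

theorem same_graph {G : Type*} [Group G] [Fintype G] (hc : Nat.card G = 6048)
    (h6 : ∃ d ∈ charDegrees G, 6 ∣ d) (h14 : ∃ d ∈ charDegrees G, 14 ∣ d)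
    (h21 : ∃ d ∈ charDegrees G, 21 ∣ d) :
    degreePrimes SG = degreePrimes G ∧ degreeGraph SG = degreeGraph G := by
  have h1 := graph_of_card card_SG ⟨42, exists_deg_42, by norm_num⟩ ⟨42, exists_deg_42, by norm_num⟩
    ⟨42, exists_deg_42, by norm_num⟩
  have h2 := graph_of_card hc h6 h14 h21
  exact ⟨h1.1.trans h2.1.symm, SimpleGraph.ext (funext fun p => funext fun q =>
    propext ((h1.2 p q).trans (h2.2 p q).symm))⟩

end H17.SemiEx
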