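import Cfsg.Agent.H12.Blichfeldt
import Cfsg.Agent.H13.Correspondence
import Cfsg.Agent.H13.Linear
import Cfsg.Agent.H24.CharBasic
import Cfsg.Agent.H10.Basic
import Cfsg.Agent.H6.Basic
import Cfsg.Agent.H25.Galois
import Mathlib.Data.Nat.Choose.Factorization

/-!
Linear groups of degree below `2p` with a non-abelian Sylow `p`-subgroup, `p ≥ 7`.
-/

set_option autoImplicit false
set_option linter.unusedSectionVars false

open Module
open scoped ComplexConjugate commutatorElement

namespace H17.SevenBound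

open Cfsg

universe u

/-- A complex matrix group is conjugate to a unitary one. -/
theorem exists_unitary_equiv {G : Type u} [Group G] [Finite G] {n : ℕ}
    (X : G →* Module.End ℂ (Fin n → ℂ)) (hX : Function.Injective X) :
    ∃ (E : Type) (_ : NormedAddCommGroup E) (_ : InnerProductSpace ℂ E)
      (_ : FiniteDimensional ℂ E) (R : G →* (E →L[ℂ] E)),
      H12.Blichfeldt.IsIso R ∧ Function.Injective R ∧
        ∃ e : (Fin n → ℂ) ≃ₗ[ℂ] E, ∀ g v, R g (e v) = e (X g v) := by
  classical
  let m := Nat.card G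
  let idx : Fin m ≃ G := (Finite.equivFin G).symm
  let J : (Fin n → ℂ) →ₗ[ℂ] EuclideanSpace ℂ (Fin m × Fin n) :=
    { toFun := fun v => WithLp.toLp 2 fun k => X (idx k.1) v k.2
      map_add' := fun u v => by ext k; simp
      map_smul' := fun c v => by ext k; simp }
  have hJ : Function.Injective J := by
    intro u v h
    funext i
    have := congrArg (fun f : EuclideanSpace ℂ (Fin m × Fin n) => f (idx.symm 1, i)) h
    simpa [J] using this
  let e : (Fin n → ℂ) ≃ₗ[ℂ] LinearMap.range J := LinearEquiv.ofInjective J hJ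
  let R : G →* (LinearMap.range J →L[ℂ] LinearMap.range J) :=
    { toFun := fun g => LinearMap.toContinuousLinearMap (e.conj (X g))
      map_one' := ContinuousLinearMap.ext fun x => by simp [LinearEquiv.conj_apply]
      map_mul' := fun g h => ContinuousLinearMap.ext fun x => by
        show e.conj (X (g * h)) x = e.conj (X g) (e.conj (X h) x)
        rw [map_mul, Module.End.mul_eq_comp, LinearEquiv.conj_comp, LinearMap.comp_apply] }
  refine ⟨LinearMap.range J, inferInstance, inferInstance, inferInstance, R, ?_, ?_, e, fun g v => ?_⟩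
  · intro g x
    obtain ⟨v, rfl⟩ := e.surjective x
    have h1 : R g (e v) = e (X g v) := by
      show e.conj (X g) (e v) = _
      simp [LinearEquiv.conj_apply]
    rw [h1, Submodule.coe_norm, Submodule.coe_norm, LinearEquiv.ofInjective_apply,
      LinearEquiv.ofInjective_apply, EuclideanSpace.norm_eq, EuclideanSpace.norm_eq]
    congr 1
    let σ : Fin m ≃ Fin m := idx.trans ((Equiv.mulRight g).trans idx.symm)
    refine Fintype.sum_equiv (σ.prodCongr (Equiv.refl _)) _ _ fun k => ?_
    simp [J, σ, map_mul]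
  · intro g h hgh
    apply hX
    apply e.conj.injective
    exact LinearMap.toContinuousLinearMap.injective hgh
  · show e.conj (X g) (e v) = _
    simp [LinearEquiv.conj_apply]


variable {G : Type u} [Group G]

theorem factorization_factorial_one {p n : ℕ} (hp : p.Prime) (hn2 : n < 2 * p) :
    (Nat.factorial n).factorization p ≤ 1 := by
  have h2 := hp.two_le
  rw [Nat.factorization_factorial hp (b := n + 1)
    (Nat.lt_succ_of_le (Nat.log_le_self p n))]
  calc ∑ i ∈ Finset.Ico 1 (n + 1), n / p ^ i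
      ≤ ∑ i ∈ Finset.Ico 1 (n + 1), if i = 1 then 1 else 0 := by
        refine Finset.sum_le_sum fun i hi => ?_
        split_ifs with h
        · rw [h, pow_one]
          exact Nat.lt_succ_iff.1 ((Nat.div_lt_iff_lt_mul hp.pos).2 (by omega))
        · refine (Nat.div_eq_of_lt ?_).le
          have hi2 : 2 ≤ i := by have := (Finset.mem_Ico.1 hi).1; omega
          calc n < 2 * p := hn2
            _ ≤ p * p := Nat.mul_le_mul_right p h2
            _ = p ^ 2 := (sq p).symm
            _ ≤ p ^ i := Nat.pow_le_pow_right hp.pos hi2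
    _ ≤ 1 := by rw [Finset.sum_ite_eq']; split_ifs <;> omega

/-- The eigenvalues of an element with the power sums of `p` copies of `e` and `n - p` ones. -/
theorem eigen_two [Finite G] {p m : ℕ} (hp : p.Prime) {d : ℕ}
    (ρ : Representation ℂ G (Fin d → ℂ)) (x : G) (hx : x ^ p = 1) (e : ℂ) (he : e ^ p = 1)
    (hval : ∀ k : ℕ, ρ.character (x ^ k) = (p : ℂ) * e ^ k + (m : ℂ)) (a : ℂ)
    (v : Fin d → ℂ) (hv : v ≠ 0) (hav : ρ x v = a • v) : a = 1 ∨ a = e := by
  by_contra hne
  simp only [not_or] at hne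
  have hpow : ∀ k : ℕ, ρ (x ^ k) v = a ^ k • v := by
    intro k
    induction k with
    | zero => simp
    | succ k ih => rw [pow_succ, map_mul, Module.End.mul_apply, hav, map_smul, ih, smul_smul,
        ← pow_succ']
  have hap : a ^ p = 1 := by
    have h := hpow p
    rw [hx, map_one, Module.End.one_apply] at h
    exact smul_left_injective ℂ hv (h.symm.trans (one_smul ℂ v).symm)
  -- the averaged projection on the eigenspace of `a`
  have ha0 : a ≠ 0 := fun h => by rw [h, zero_pow hp.ne_zero] at hap; exact zero_ne_one hap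
  have hgeo : ∀ w : ℂ, w ^ p = 1 → w ≠ 1 → ∑ k ∈ Finset.range p, w ^ k = 0 := by
    intro w hw hw1
    have h := geom_sum_mul w p
    rw [hw, sub_self, mul_eq_zero] at h
    exact h.resolve_right (sub_ne_zero.2 hw1)
  set T : Module.End ℂ (Fin d → ℂ) := ∑ k ∈ Finset.range p, (a⁻¹) ^ k • ρ (x ^ k) with hT
  have htr : LinearMap.trace ℂ _ T = 0 := by
    rw [hT, map_sum]
    have h1 : ∀ k : ℕ, LinearMap.trace ℂ (Fin d → ℂ) ((a⁻¹) ^ k • ρ (x ^ k)) =
        (p : ℂ) * (a⁻¹ * e) ^ k + (m : ℂ) * (a⁻¹) ^ k := by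
      intro k
      rw [map_smul, smul_eq_mul]
      show (a⁻¹) ^ k * ρ.character (x ^ k) = _
      rw [hval, mul_pow]
      ring
    rw [Finset.sum_congr rfl fun k _ => h1 k, Finset.sum_add_distrib, ← Finset.mul_sum,
      ← Finset.mul_sum, hgeo _ (by rw [mul_pow, inv_pow, hap, he, inv_one, one_mul]) ?_,
      hgeo _ (by rw [inv_pow, hap, inv_one]) ?_]
    · simp
    · intro h
      exact hne.1 (inv_eq_one.1 h)
    · intro h
      rw [inv_mul_eq_iff_eq_mul₀ ha0, mul_one] at h
      exact hne.2 h.symm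
  have hTv : T v = (p : ℂ) • v := by
    rw [hT, LinearMap.sum_apply, Finset.sum_congr rfl fun k _ => show
      ((a⁻¹) ^ k • ρ (x ^ k)) v = v by
        rw [LinearMap.smul_apply, hpow, smul_smul, ← mul_pow, inv_mul_cancel₀ ha0, one_pow,
          one_smul]]
    rw [Finset.sum_const, Finset.card_range, ← Nat.cast_smul_eq_nsmul ℂ]
  have hxT : ρ x * T = a • T := by
    have hshift : ∀ f : ℕ → Module.End ℂ (Fin d → ℂ), f p = f 0 →
        ∑ k ∈ Finset.range p, f (k + 1) = ∑ k ∈ Finset.range p, f k := by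
      intro f hf
      have h1 := Finset.sum_range_succ f p
      rw [Finset.sum_range_succ' f p, hf] at h1
      exact add_right_cancel h1
    rw [hT, Finset.mul_sum, Finset.smul_sum]
    refine Eq.trans ?_ (hshift (fun k => a • ((a⁻¹) ^ k • ρ (x ^ k))) (by
      rw [inv_pow, hap, hx, pow_zero, pow_zero, inv_one]))
    refine Finset.sum_congr rfl fun k _ => ?_
    rw [mul_smul_comm, ← map_mul, ← pow_succ', smul_smul, pow_succ' (a⁻¹), ← mul_assoc,
      mul_inv_cancel₀ ha0, one_mul]
  have hidem : T * T = (p : ℂ) • T := by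
    have hk : ∀ k : ℕ, ρ (x ^ k) * T = a ^ k • T := by
      intro k
      induction k with
      | zero => simp
      | succ k ih => rw [pow_succ, map_mul, mul_assoc, hxT, mul_smul_comm, ih, smul_smul,
          ← pow_succ']
    conv_lhs => arg 1; rw [hT]
    rw [Finset.sum_mul, Finset.sum_congr rfl fun k _ => show
      ((a⁻¹) ^ k • ρ (x ^ k)) * T = T by
        rw [smul_mul_assoc, hk, smul_smul, ← mul_pow, inv_mul_cancel₀ ha0, one_pow, one_smul]]
    rw [Finset.sum_const, Finset.card_range, ← Nat.cast_smul_eq_nsmul ℂ]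
  have hp0 : (p : ℂ) ≠ 0 := Nat.cast_ne_zero.2 hp.ne_zero
  set P₀ : Module.End ℂ (Fin d → ℂ) := (p : ℂ)⁻¹ • T
  have hP : IsIdempotentElem P₀ := by
    show P₀ * P₀ = P₀
    simp only [P₀, smul_mul_assoc, mul_smul_comm, hidem, smul_smul]
    congr 1
    field_simp
  have htr0 : LinearMap.trace ℂ _ P₀ = (0 : ℂ) := by
    simp [P₀, htr]
  rw [(LinearMap.isProj_range_iff_isIdempotentElem P₀).2 hP |>.trace, Nat.cast_eq_zero,
    Submodule.finrank_eq_zero, LinearMap.range_eq_bot] at htr0
  apply hv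
  have h := LinearMap.congr_fun htr0 v
  simp only [P₀, LinearMap.smul_apply, hTv, smul_smul, inv_mul_cancel₀ hp0, one_smul,
    LinearMap.zero_apply] at h
  exact h


theorem eq_one_of_constituents' [Finite G] (N : Subgroup G) [Fintype N] {χ : G → ℂ}
    (hχ : IsCharacter G χ) (hfaith : ∀ g : G, χ g = χ 1 → g = 1) (c : N)
    (h : ∀ θ : IrrCharacter N, classInner (fun n : N => χ n) (θ : N → ℂ) ≠ 0 →
      (θ : N → ℂ) c = (θ : N → ℂ) 1) : c = 1 := by
  have hcl := H12.IsCharacter.isClassFunction (H12.IsCharacter.res hχ N)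
  refine Subtype.ext (hfaith _ ?_)
  show χ (c : G) = χ ((1 : N) : G)
  rw [H12.classFunction_apply_eq_sum (f := fun n : N => χ n) hcl c,
    H12.classFunction_apply_eq_sum (f := fun n : N => χ n) hcl 1]
  refine Finset.sum_congr rfl fun θ _ => ?_
  by_cases h0 : classInner (fun n : N => χ n) (θ : N → ℂ) = 0
  · rw [h0, zero_mul, zero_mul]
  · rw [h θ h0]

/-- Linear characters are trivial on commutators. -/
theorem linear_commutator_mem {H : Type u} [Group H] {l : H → ℂ} (hl : IsCharacter H l)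
    (h1 : l 1 = 1) {z : H} (hz : z ∈ commutator H) : l z = 1 := by
  rw [← H13.linHom_apply hl h1,
    MonoidHom.mem_ker.1 (Abelianization.commutator_subset_ker (H13.linHom hl h1) hz),
    Units.val_one]

/-- A character is its irreducible decomposition at the degree. -/
theorem degree_eq_sum {H : Type u} [Group H] [Fintype H] {φ : H → ℂ} (hφ : IsCharacter H φ) :
    ∃ m : IrrCharacter H → ℕ, φ = ∑ l, (m l : ℂ) • (l : H → ℂ) ∧
      H12.degree φ = ∑ l, m l * charDegree (l : H → ℂ) := by
  obtain ⟨m, hm⟩ := H12.IsCharacter.exists_mult hφ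
  refine ⟨m, hm, ?_⟩
  have h1 := congrFun hm 1
  simp only [H12.IsCharacter.apply_one_eq_degree hφ, Finset.sum_apply, Pi.smul_apply,
    smul_eq_mul, H24.irr_one] at h1
  exact_mod_cast h1

/-- The `p`-part of a non-abelian Sylow subgroup splits off one constituent of degree `p`. -/
theorem exists_theta {P : Type u} [Group P] [Fintype P] {p : ℕ} (hp : p.Prime) (hP : IsPGroup p P)
    (hnc : ∃ x y : P, x * y ≠ y * x) {φ : P → ℂ} (hφ : IsCharacter P φ)
    (hfaith : ∀ g : P, φ g = φ 1 → g = 1) (hn2 : H12.degree φ < 2 * p) :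
    ∃ (θ : IrrCharacter P) (m : IrrCharacter P → ℕ), charDegree (θ : P → ℂ) = p ∧
      φ = ∑ l, (m l : ℂ) • (l : P → ℂ) ∧ m θ = 1 ∧ p ≤ H12.degree φ ∧
      ∀ l, l ≠ θ → m l ≠ 0 → charDegree (l : P → ℂ) = 1 := by
  classical
  have : Fact p.Prime := ⟨hp⟩
  have h2 := hp.two_le
  obtain ⟨m, hm, hdeg⟩ := degree_eq_sum hφ
  obtain ⟨e, he⟩ := IsPGroup.iff_card.1 hP
  have hpow : ∀ l : IrrCharacter P, charDegree (l : P → ℂ) = 1 ∨ p ∣ charDegree (l : P → ℂ) := by
    intro l
    obtain ⟨k, -, hk⟩ := (Nat.dvd_prime_pow hp).1 (he ▸ H24.charDegree_dvd_card l)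
    rcases k with - | k
    · left; rw [hk, pow_zero]
    · right; rw [hk]; exact dvd_pow_self p k.succ_ne_zero
  have hbig : ∀ l, m l ≠ 0 → charDegree (l : P → ℂ) ≠ 1 → p ≤ m l * charDegree (l : P → ℂ) :=
    fun l h0 h1 => le_trans (Nat.le_of_dvd (H24.irr_pos l) ((hpow l).resolve_left h1))
      (Nat.le_mul_of_pos_left _ (Nat.pos_of_ne_zero h0))
  obtain ⟨θ, hθm, hθd⟩ : ∃ θ, m θ ≠ 0 ∧ charDegree (θ : P → ℂ) ≠ 1 := by
    by_contra h
    simp only [not_exists, not_and, not_not] at h
    obtain ⟨x, y, hxy⟩ := hnc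
    apply hxy
    have h1 : x * y * x⁻¹ * y⁻¹ = 1 := hfaith _ (by
      rw [hm, Finset.sum_apply, Finset.sum_apply]
      refine Finset.sum_congr rfl fun l _ => ?_
      by_cases h0 : m l = 0
      · simp [h0]
      have hl1 : (l : P → ℂ) 1 = 1 := by rw [H24.irr_one, h l h0, Nat.cast_one]
      rw [Pi.smul_apply, Pi.smul_apply, H13.linear_commutator (H12.isCharacter_irr l) hl1, hl1])
    rwa [mul_inv_eq_one, mul_inv_eq_iff_eq_mul] at h1
  have hsplit := Finset.add_sum_erase Finset.univ (fun l => m l * charDegree (l : P → ℂ))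
    (Finset.mem_univ θ)
  rw [← hdeg] at hsplit
  have hθp := hbig θ hθm hθd
  obtain ⟨c, hc⟩ := (hpow θ).resolve_left hθd
  have hc1 : m θ * c = 1 := by
    have hle : p * (m θ * c) < p * 2 := by
      calc p * (m θ * c) = m θ * charDegree (θ : P → ℂ) := by rw [hc]; ring
        _ < p * 2 := by omega
    have h := Nat.lt_of_mul_lt_mul_left hle
    have h0 : m θ * c ≠ 0 := by
      intro h0
      have : m θ * charDegree (θ : P → ℂ) = 0 := by
        rw [hc, mul_left_comm, h0, mul_zero]
      omega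
    omega
  refine ⟨θ, m, ?_, hm, Nat.eq_one_of_mul_eq_one_right hc1, by omega, fun l hl h0 => ?_⟩
  · rw [hc, Nat.eq_one_of_mul_eq_one_left hc1, mul_one]
  by_contra h1
  have hlp := hbig l h0 h1
  have hle := Finset.single_le_sum (f := fun l => m l * charDegree (l : P → ℂ))
    (fun _ _ => Nat.zero_le _) (Finset.mem_erase.2 ⟨hl, Finset.mem_univ l⟩)
  omega

/-- The element with two eigenvalues. -/
theorem exists_two_valued {P : Type u} [Group P] [Fintype P] {p : ℕ} (hp : p.Prime)
    (hP : IsPGroup p P) {φ : P → ℂ} (hfaith : ∀ g : P, φ g = φ 1 → g = 1) {θ : IrrCharacter P}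
    {m : IrrCharacter P → ℕ} (hθ : charDegree (θ : P → ℂ) = p)
    (hm : φ = ∑ l, (m l : ℂ) • (l : P → ℂ)) (hmθ : m θ = 1)
    (hlin : ∀ l, l ≠ θ → m l ≠ 0 → charDegree (l : P → ℂ) = 1)
    (hnc : ∃ x y : P, x * y ≠ y * x) :
    ∃ x : P, x ≠ 1 ∧ x ^ p = 1 ∧ x ∈ commutator P ∧ ∃ r : ℕ, H12.degree φ = p + r ∧ ∀ k : ℕ,
      φ (x ^ k) = (p : ℂ) * (Complex.exp (2 * Real.pi * Complex.I / p)) ^ k + (r : ℂ) := by
  classical
  have : Fact p.Prime := ⟨hp⟩
  have hC : commutator P ≠ ⊥ := by
    obtain ⟨x, y, hxy⟩ := hnc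
    intro h
    apply hxy
    have hmem : ⁅x, y⁆ ∈ commutator P :=
      Subgroup.commutator_mem_commutator (Subgroup.mem_top x) (Subgroup.mem_top y)
    rw [h, Subgroup.mem_bot, commutatorElement_eq_one_iff_mul_comm] at hmem
    exact hmem
  have hne := H6.inf_center_ne_bot hP (N := commutator P) hC
  have hdvd : p ∣ Nat.card ↥(commutator P ⊓ Subgroup.center P) :=
    ((hP.to_subgroup _).card_eq_or_dvd).resolve_left fun h => hne (Subgroup.card_eq_one.1 h)
  obtain ⟨z, hz⟩ := exists_prime_orderOf_dvd_card' p hdvd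
  have hzord : orderOf (z : P) = p := by rw [Subgroup.orderOf_coe]; exact hz
  have hzp : (z : P) ^ p = 1 := by rw [← hzord, pow_orderOf_eq_one]
  -- the scalar
  obtain ⟨d, ρ, hρ, hρθ⟩ := θ.2
  have := hρ
  obtain ⟨ω, hω⟩ := H12.exists_scalar_of_commute ρ (ρ (z : P)) (fun g => by
    rw [← map_mul, ← map_mul, Subgroup.mem_center_iff.1 z.2.2 g])
  have hd : (d : ℂ) = (p : ℂ) := by
    rw [← hθ, ← H24.irr_one θ, ← hρθ, Representation.char_one, Module.finrank_fin_fun]
  have hθk : ∀ k : ℕ, (θ : P → ℂ) ((z : P) ^ k) = (p : ℂ) * ω ^ k := by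
    intro k
    rw [← hρθ]
    show LinearMap.trace ℂ _ (ρ ((z : P) ^ k)) = _
    rw [map_pow, hω, smul_pow, one_pow, map_smul, LinearMap.trace_one, Module.finrank_fin_fun, hd,
      smul_eq_mul, mul_comm]
  set r := ∑ l ∈ Finset.univ.erase θ, m l * charDegree (l : P → ℂ) with hr
  have hval : ∀ k : ℕ, φ ((z : P) ^ k) = (p : ℂ) * ω ^ k + (r : ℂ) := by
    intro k
    rw [hm, Finset.sum_apply, ← Finset.add_sum_erase _ _ (Finset.mem_univ θ), Pi.smul_apply, hmθ,
      Nat.cast_one, one_smul, hθk, hr, Nat.cast_sum]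
    refine congrArg₂ _ rfl (Finset.sum_congr rfl fun l hl => ?_)
    rw [Pi.smul_apply, smul_eq_mul, Nat.cast_mul]
    by_cases h0 : m l = 0
    · simp [h0]
    have hd1 := hlin l (Finset.mem_erase.1 hl).1 h0
    rw [hd1, Nat.cast_one]
    congr 1
    exact linear_commutator_mem (H12.isCharacter_irr l) (by rw [H24.irr_one, hd1, Nat.cast_one])
      (pow_mem z.2.1 k)
  have h0 := hval 0
  rw [pow_zero, pow_zero, mul_one] at h0
  have hω1 : ω ≠ 1 := by
    intro h
    have h1 := hval 1
    rw [pow_one, pow_one, h, mul_one, ← h0] at h1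
    have h2 := hfaith _ h1
    rw [h2, orderOf_one] at hzord
    exact hp.one_lt.ne hzord
  have hωp : ω ^ p = 1 := by
    have h1 := hθk p
    rw [hzp, H24.irr_one, hθ] at h1
    exact (mul_eq_left₀ (Nat.cast_ne_zero.2 hp.ne_zero)).1 h1.symm
  have hprim : IsPrimitiveRoot ω p := by
    have h := IsPrimitiveRoot.orderOf ω
    rwa [orderOf_eq_prime hωp hω1] at h
  obtain ⟨j, hj, hje⟩ := hprim.eq_pow_of_pow_eq_one
    (Complex.isPrimitiveRoot_exp p hp.ne_zero).pow_eq_one
  refine ⟨(z : P) ^ j, ?_, by rw [← pow_mul, mul_comm, pow_mul, hzp, one_pow],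
    pow_mem z.2.1 j, r, ?_, fun k => ?_⟩
  · intro h
    have h1 := (orderOf_dvd_of_pow_eq_one h)
    rw [hzord] at h1
    rcases Nat.eq_zero_or_pos j with hj0 | hj0
    · rw [hj0, pow_zero] at hje
      exact (Complex.isPrimitiveRoot_exp p hp.ne_zero).ne_one hp.one_lt hje.symm
    · have := Nat.le_of_dvd hj0 h1; omega
  · have h1 : φ 1 = ((p + r : ℕ) : ℂ) := by rw [h0, Nat.cast_add]
    show ⌊(φ 1).re⌋₊ = p + r
    rw [h1, Complex.natCast_re, Nat.floor_natCast]
  · rw [← pow_mul, hval, pow_mul, hje]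

/-- Conjugates of an element near to a scalar generate an abelian normal subgroup. -/
theorem conjugates_commute [Finite G] {p r d : ℕ} (hp : p.Prime) (h7 : 7 ≤ p)
    (ρ : Representation ℂ G (Fin d → ℂ))
    (hinj : Function.Injective (show G →* Module.End ℂ (Fin d → ℂ) from ρ)) (x : G)
    (hx : x ^ p = 1)
    (hval : ∀ k : ℕ, ρ.character (x ^ k) =
      (p : ℂ) * (Complex.exp (2 * Real.pi * Complex.I / p)) ^ k + (r : ℂ)) (g h : G) :
    Commute (g * x * g⁻¹) (h * x * h⁻¹) := by
  obtain ⟨E, _, _, _, R, hR, hRinj, e, he⟩ :=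
    exists_unitary_equiv (show G →* Module.End ℂ (Fin d → ℂ) from ρ) hinj
  set ε : ℂ := Complex.exp (2 * Real.pi * Complex.I / p) with hε
  have hεp : ε ^ p = 1 := (Complex.isPrimitiveRoot_exp p hp.ne_zero).pow_eq_one
  set θa : ℝ := Real.pi / p with hθa
  set w : ℂ := Complex.exp (θa * Complex.I) with hw
  have hεw : ε = w * w := by
    rw [hw, hε, ← Complex.exp_add, hθa]
    congr 1
    push_cast
    ring
  have hp7 : (7 : ℝ) ≤ p := by exact_mod_cast h7
  have hθ0 : 0 < θa := div_pos Real.pi_pos (by linarith)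
  have hθ7 : θa ≤ Real.pi / 7 := div_le_div_of_nonneg_left Real.pi_pos.le (by norm_num) hp7
  have hθ2 : θa < 1 / 2 := by have := Real.pi_lt_d2; linarith
  set c : ℝ := Real.cos θa with hc
  set s : ℝ := Real.sin θa with hs
  have hws : w = (c : ℂ) + (s : ℂ) * Complex.I := by
    rw [hw, Complex.exp_mul_I, hc, hs]
    push_cast
    rfl
  have hcc : (c : ℂ) ^ 2 + (s : ℂ) ^ 2 = 1 := by
    exact_mod_cast (Real.cos_sq_add_sin_sq θa)
  have hwn : ‖w‖ = 1 := Complex.norm_exp_ofReal_mul_I θa
  have hs2 : |s| < 1 / 2 := by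
    rw [abs_of_nonneg (Real.sin_nonneg_of_nonneg_of_le_pi hθ0.le
      (by linarith [Real.pi_gt_three]))]
    exact lt_of_le_of_lt (Real.sin_le hθ0.le) hθ2
  have hc2 : 1 / 2 ≤ |c| := by
    have h1 : s ^ 2 < 1 / 4 := by nlinarith [abs_nonneg s, sq_abs s]
    have h2 : c ^ 2 + s ^ 2 = 1 := Real.cos_sq_add_sin_sq θa
    nlinarith [abs_nonneg c, sq_abs c]
  have hnear : x ∈ H12.Blichfeldt.Near R := by
    refine ⟨(c : ℂ) * w, ?_, ?_⟩
    · rw [norm_mul, hwn, mul_one, Complex.norm_real, Real.norm_eq_abs]; exact hc2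
    · refine lt_of_le_of_lt (H12.Blichfeldt.norm_sub_le_of_eigen hR x _ |s| (abs_nonneg s)
        fun a v hv hav => ?_) hs2
      obtain ⟨v, rfl⟩ := e.surjective v
      rw [he, ← map_smul] at hav
      have hv' : v ≠ 0 := fun h0 => hv (by rw [h0, map_zero])
      rcases eigen_two hp ρ x hx ε hεp hval a v hv' (e.injective hav) with rfl | rfl
      · have h1 : (1 : ℂ) - (c : ℂ) * w = (-(s : ℂ) * Complex.I) * w := by
          rw [hws]; linear_combination (-1 : ℂ) * hcc + (-(s : ℂ) ^ 2) * Complex.I_sq * (-1)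
        rw [h1, norm_mul, norm_mul, hwn, Complex.norm_I, norm_neg, Complex.norm_real,
          Real.norm_eq_abs, mul_one, mul_one]
      · have h1 : ε - (c : ℂ) * w = ((s : ℂ) * Complex.I) * w := by
          rw [hεw, hws]; ring
        rw [h1, norm_mul, norm_mul, hwn, Complex.norm_I, Complex.norm_real,
          Real.norm_eq_abs, mul_one, mul_one]
  exact H12.Blichfeldt.commute_of_near hR hRinj (H12.Blichfeldt.near_conj hR hnear g)
    (H12.Blichfeldt.near_conj hR hnear h)

/-- A normal abelian `p`-subgroup moved by the Sylow subgroup has multiplicity free restriction. -/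
theorem orbit_count [Fintype G] {p : ℕ} (hp : p.Prime) (χ : IrrCharacter G)
    (hfaith : ∀ g : G, (χ : G → ℂ) g = (χ : G → ℂ) 1 → g = 1) (P : Sylow p G)
    [Fintype (P : Subgroup G)] (hn2 : charDegree (χ : G → ℂ) < 2 * p)
    (θ : IrrCharacter (P : Subgroup G)) (m : IrrCharacter (P : Subgroup G) → ℕ)
    (hθ : charDegree θ.1 = p) (hmθ : m θ = 1)
    (hm : (fun y : (P : Subgroup G) => (χ : G → ℂ) y) =
      ∑ l, (m l : ℂ) • l.1)
    (hlin : ∀ l, l ≠ θ → m l ≠ 0 → charDegree l.1 = 1)
    (N : Subgroup G) [hN : N.Normal] [Fintype N] (hab : ∀ a ∈ N, ∀ b ∈ N, a * b = b * a)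
    (hNP : N ≤ (P : Subgroup G))
    (hns : ∀ μ : IrrCharacter N, ¬ ∀ y : N,
      (χ : G → ℂ) y = (charDegree (χ : G → ℂ) : ℂ) * (μ : N → ℂ) y) :
    ∀ μ : IrrCharacter N, classInner (fun y : N => (χ : G → ℂ) y) (μ : N → ℂ) ≠ 0 →
      classInner (fun y : N => (χ : G → ℂ) y) (μ : N → ℂ) = 1 := by
  classical
  have hlin1 : ∀ μ : IrrCharacter N, (μ : N → ℂ) 1 = 1 := fun μ =>
    H13.degree_one_of_commutative (fun a b => Subtype.ext (hab a a.2 b b.2)) μ
  have hcl : IsClassFunction G (χ : G → ℂ) := H12.irr_isClassFunction χ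
  let ι : N →* (P : Subgroup G) := Subgroup.inclusion hNP
  have hθN := H12.IsCharacter.comp (H12.isCharacter_irr θ) ι
  -- restriction through `P`
  have hsplit : (fun y : N => (χ : G → ℂ) y) =
      ∑ l, (m l : ℂ) • fun y : N => l.1 (ι y) := by
    funext y
    have h := congrFun hm (ι y)
    rw [Finset.sum_apply] at h ⊢
    exact h
  -- one constituent of the restriction of `θ`
  obtain ⟨μ, hμ⟩ : ∃ μ : IrrCharacter N,
      classInner (fun y : N => θ.1 (ι y)) (μ : N → ℂ) ≠ 0 := by
    by_contra h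
    simp only [not_exists, not_not] at h
    have h0 := congrFun (H12.eq_zero_of_classInner_irr_eq_zero
      (H12.IsCharacter.isClassFunction hθN) h) 1
    simp only [Pi.zero_apply, map_one] at h0
    exact H12.irr_apply_one_ne_zero θ h0
  obtain ⟨a, ha⟩ := H12.IsCharacter.classInner_nat hθN (H12.isCharacter_irr μ)
  have ha0 : a ≠ 0 := fun h => hμ (by rw [show (fun y : N => θ.1 (ι y)) =
    θ.1 ∘ ι from rfl, ha, h, Nat.cast_zero])
  choose b hb using fun l : IrrCharacter (P : Subgroup G) => H12.IsCharacter.classInner_nat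
    (H12.IsCharacter.comp (H12.isCharacter_irr l) ι) (H12.isCharacter_irr μ)
  have hμχ : classInner (fun y : N => (χ : G → ℂ) y) (μ : N → ℂ) = ((∑ l, m l * b l : ℕ) : ℂ) := by
    rw [hsplit, H12.classInner_sum_left, Nat.cast_sum]
    refine Finset.sum_congr rfl fun l _ => ?_
    rw [H12.classInner_smul_left, Nat.cast_mul, ← hb l]
    rfl
  have hba : b θ = a := by
    have := hb θ
    rw [ha] at this
    exact_mod_cast this.symm
  have hχμ0 : classInner (fun y : N => (χ : G → ℂ) y) (μ : N → ℂ) ≠ 0 := by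
    rw [hμχ, Nat.cast_ne_zero]
    intro h
    have := (Finset.sum_eq_zero_iff.1 h) θ (Finset.mem_univ θ)
    rw [hmθ, one_mul, hba] at this
    exact ha0 this
  have hdeg := H13.clifford_degree N χ.2 μ.2 hχμ0
  rw [hμχ, hlin1, mul_one, H24.irr_one] at hdeg
  have hdeg' : charDegree (χ : G → ℂ) = (∑ l, m l * b l) * (H13.inertia N (μ : N → ℂ)).index := by
    exact_mod_cast hdeg
  -- `P` moves `μ`
  have hmove : ∃ y ∈ (P : Subgroup G), H13.twist N y (μ : N → ℂ) ≠ μ := by
    by_contra hfix
    simp only [not_exists, not_and, not_not] at hfix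
    set N' := N.subgroupOf (P : Subgroup G)
    have hN' : N'.Normal := hN.subgroupOf _
    let eN : N' ≃* N := Subgroup.subgroupOfEquivOfLe hNP
    let μ' : IrrCharacter N' := ⟨(μ : N → ℂ) ∘ eN.toMonoidHom,
      H12.IsIrrCharacter.comp_surjective μ.2 eN.surjective⟩
    have : Fintype N' := Fintype.ofFinite _
    have hin : classInner (fun y : N' => θ.1 y) (μ' : N' → ℂ) = a := by
      rw [← ha]
      unfold classInner
      rw [Nat.card_congr eN.toEquiv]
      congr 1
      exact Fintype.sum_equiv eN.toEquiv _ _ fun y => rfl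
    have hinv : H13.inertia N' (μ' : N' → ℂ) = ⊤ := by
      rw [eq_top_iff]
      intro y _
      funext z
      exact congrFun (hfix y y.2) (eN z)
    have h := H13.clifford_degree N' θ.2 μ'.2 (by rw [hin]; exact Nat.cast_ne_zero.2 ha0)
    rw [hin, hinv, Subgroup.index_top, Nat.cast_one, mul_one, H24.irr_one, hθ] at h
    have hμ'1 : (μ' : N' → ℂ) 1 = 1 := (congrArg (μ : N → ℂ) (map_one eN)).trans (hlin1 μ)
    rw [hμ'1, mul_one, Nat.cast_inj] at h
    have hge : p ≤ ∑ l, m l * b l := by
      refine le_trans (le_of_eq ?_) (Finset.single_le_sum (fun l _ => Nat.zero_le (m l * b l))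
        (Finset.mem_univ θ))
      rw [hmθ, one_mul, hba, h]
    have hidx : (H13.inertia N (μ : N → ℂ)).index = 1 := by
      have h0 : (H13.inertia N (μ : N → ℂ)).index ≠ 0 := Subgroup.index_ne_zero_of_finite
      by_contra hne
      have : p * 2 ≤ charDegree (χ : G → ℂ) := by
        rw [hdeg']; exact Nat.mul_le_mul hge (by omega)
      omega
    apply hns μ
    intro y
    have hs : ∀ ψ : IrrCharacter N, ψ ∈ ({μ} : Finset _) ↔
        ∃ x, H13.twist N x (μ : N → ℂ) = ψ := by
      intro ψ
      rw [Finset.mem_singleton]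
      have htop := Subgroup.index_eq_one.1 hidx
      constructor
      · rintro rfl; exact ⟨1, H13.twist_one N _⟩
      · rintro ⟨x, hx⟩
        exact Subtype.ext (hx.symm.trans (H13.mem_inertia N |>.1 (htop ▸ Subgroup.mem_top x)))
    have h2 := congrFun (H13.clifford_res N χ.2 μ.2 hχμ0 _ hs) y
    rw [hμχ, Finset.sum_singleton, Pi.smul_apply, smul_eq_mul] at h2
    rw [h2, hdeg', hidx, mul_one]
  obtain ⟨y, hyP, hy⟩ := hmove
  -- the other constituents are fixed by `P`
  have hb0 : ∀ l, l ≠ θ → m l * b l = 0 := by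
    intro l hl
    by_contra hne
    obtain ⟨hml, hbl⟩ := not_or.1 (fun h => hne (Nat.mul_eq_zero.2 h))
    have hl1 : l.1 1 = 1 := by
      rw [H24.irr_one, hlin l hl hml, Nat.cast_one]
    have hlin' : IsIrrCharacter N fun z : N => l.1 (ι z) := by
      have h := H12.isIrrCharacter_monoidHom ((H13.linHom (H12.isCharacter_irr l) hl1).comp ι)
      have he : (fun z : N => (((H13.linHom (H12.isCharacter_irr l) hl1).comp ι) z : ℂ)) =
          fun z : N => l.1 (ι z) :=
        funext fun z => H13.linHom_apply (H12.isCharacter_irr l) hl1 _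
      rwa [he] at h
    have h1 := H12.classInner_irr (⟨_, hlin'⟩ : IrrCharacter N) μ
    rw [show classInner (fun z : N => l.1 (ι z)) (μ : N → ℂ) = (b l : ℂ) from
      hb l] at h1
    by_cases heq : (⟨_, hlin'⟩ : IrrCharacter N) = μ
    · apply hy
      rw [← heq]
      funext z
      show l.1 (ι ⟨y * z * y⁻¹, _⟩) = l.1 (ι z)
      rw [← H12.irr_isClassFunction l (ι z) ⟨y, hyP⟩]
      exact congrArg _ (Subtype.ext rfl)
    · rw [if_neg heq] at h1
      exact hbl (by exact_mod_cast h1)
  have hsum : ∑ l, m l * b l = a := by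
    rw [Finset.sum_eq_single θ (fun l _ hl => hb0 l hl) (by simp), hmθ, one_mul, hba]
  -- the multiplicity in `θ`
  have ha1 : a = 1 := by
    set N' := N.subgroupOf (P : Subgroup G)
    have hN' : N'.Normal := hN.subgroupOf _
    let eN : N' ≃* N := Subgroup.subgroupOfEquivOfLe hNP
    let μ' : IrrCharacter N' := ⟨(μ : N → ℂ) ∘ eN.toMonoidHom,
      H12.IsIrrCharacter.comp_surjective μ.2 eN.surjective⟩
    have : Fintype N' := Fintype.ofFinite _
    have hin : classInner (fun y : N' => θ.1 y) (μ' : N' → ℂ) = a := by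
      rw [← ha]
      unfold classInner
      rw [Nat.card_congr eN.toEquiv]
      congr 1
      exact Fintype.sum_equiv eN.toEquiv _ _ fun y => rfl
    have h := H13.clifford_degree N' θ.2 μ'.2 (by rw [hin]; exact Nat.cast_ne_zero.2 ha0)
    have hμ'1 : (μ' : N' → ℂ) 1 = 1 := (congrArg (μ : N → ℂ) (map_one eN)).trans (hlin1 μ)
    rw [hin, hμ'1, mul_one, H24.irr_one, hθ, ← Nat.cast_mul, Nat.cast_inj] at h
    have hne1 : (H13.inertia N' (μ' : N' → ℂ)).index ≠ 1 := by
      intro h1
      apply hy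
      have hmem : (⟨y, hyP⟩ : (P : Subgroup G)) ∈ H13.inertia N' (μ' : N' → ℂ) := by
        rw [Subgroup.index_eq_one.1 h1]; trivial
      funext z
      exact congrFun hmem (eN.symm z)
    rcases (Nat.dvd_prime hp).1 ⟨a, h.trans (mul_comm _ _)⟩ with h1 | h1
    · exact absurd h1 hne1
    · rw [h1] at h
      exact Nat.eq_of_mul_eq_mul_right hp.pos (by rw [one_mul]; exact h.symm)
  intro ν hν
  have hconj : ∃ x, H13.twist N x (μ : N → ℂ) = ν := by
    by_contra hne
    exact hν (H13.classInner_res_eq_zero_of_not_conj N χ.2 μ.2 ν.2 hχμ0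
      (fun x hx => hne ⟨x, hx⟩))
  obtain ⟨x, hx⟩ := hconj
  rw [← hx, H13.classInner_res_twist N hcl, hμχ, hsum, ha1, Nat.cast_one]

/-- An abelian normal subgroup of small index modulo the symmetric group. -/
theorem exists_abelian [Fintype G] (χ : IrrCharacter G)
    (hfaith : ∀ g : G, (χ : G → ℂ) g = (χ : G → ℂ) 1 → g = 1)
    (N : Subgroup G) [hN : N.Normal] [Fintype N] (hab : ∀ a ∈ N, ∀ b ∈ N, a * b = b * a)
    (hone : ∀ μ : IrrCharacter N, classInner (fun y : N => (χ : G → ℂ) y) (μ : N → ℂ) ≠ 0 →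
      classInner (fun y : N => (χ : G → ℂ) y) (μ : N → ℂ) = 1) :
    ∃ A : Subgroup G, A.Normal ∧ (∀ a ∈ A, ∀ b ∈ A, a * b = b * a) ∧
      A.index ∣ Nat.factorial (charDegree (χ : G → ℂ)) := by
  classical
  set A := Subgroup.centralizer (N : Set G) with hA
  have hAn : A.Normal := Subgroup.normal_centralizer
  have : Fintype A := Fintype.ofFinite _
  have hNA : N ≤ A := fun a ha => Subgroup.mem_centralizer_iff.2 fun b hb => hab b hb a ha
  have hlin1 : ∀ μ : IrrCharacter N, (μ : N → ℂ) 1 = 1 := fun μ =>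
    H13.degree_one_of_commutative (fun a b => Subtype.ext (hab a a.2 b b.2)) μ
  refine ⟨A, hAn, fun a ha b hb => ?_, ?_⟩
  · -- all constituents on `A` are linear
    have hc : (⟨a, ha⟩ * ⟨b, hb⟩ * (⟨a, ha⟩ : A)⁻¹ * (⟨b, hb⟩ : A)⁻¹ : A) = 1 := by
      refine eq_one_of_constituents' A (H12.isCharacter_irr χ) hfaith _ fun α hα => ?_
      have hα1 : (α : A → ℂ) 1 = 1 := by
        obtain ⟨d, ρ, hρ, hρα⟩ := α.2
        have := hρ
        have hsc : ∀ z : N, ∃ c : ℂ, ρ (Subgroup.inclusion hNA z) =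
            c • (1 : Module.End ℂ (Fin d → ℂ)) := fun z =>
          H12.exists_scalar_of_commute ρ _ fun g => by
            rw [← map_mul, ← map_mul]
            exact congrArg ρ (Subtype.ext (Subgroup.mem_centralizer_iff.1 g.2 z z.2))
        choose c hc using hsc
        have hd0 : d ≠ 0 := fun h => H12.irr_apply_one_ne_zero α (by
          rw [← hρα, Representation.char_one, Module.finrank_fin_fun, h, Nat.cast_zero])
        have : Nonempty (Fin d) := ⟨⟨0, Nat.pos_of_ne_zero hd0⟩⟩
        have hinj : Function.Injective fun z : ℂ => z • (1 : Module.End ℂ (Fin d → ℂ)) := by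
          intro z w h
          have h' := congrFun (LinearMap.congr_fun h fun _ => (1 : ℂ)) ⟨0, Nat.pos_of_ne_zero hd0⟩
          simpa using h'
        have hc1 : c 1 = 1 := hinj (by
          show c 1 • (1 : Module.End ℂ (Fin d → ℂ)) = (1 : ℂ) • 1
          rw [← hc 1, map_one, map_one, one_smul])
        have hcmul : ∀ z w : N, c (z * w) = c z * c w := fun z w => hinj (by
          show c (z * w) • (1 : Module.End ℂ (Fin d → ℂ)) = (c z * c w) • 1
          rw [← hc, map_mul, map_mul, hc z, hc w, smul_mul_smul_comm, one_mul])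
        let μh : N →* ℂ := { toFun := c, map_one' := hc1, map_mul' := hcmul }
        let μ : IrrCharacter N := ⟨fun z => c z, by
          have h := H12.isIrrCharacter_monoidHom (μh.toHomUnits)
          exact h⟩
        have hαz : ∀ z : N, (α : A → ℂ) (Subgroup.inclusion hNA z) = (d : ℂ) * c z := fun z => by
          rw [← hρα]
          show LinearMap.trace ℂ _ (ρ _) = _
          rw [hc, map_smul, LinearMap.trace_one, Module.finrank_fin_fun, smul_eq_mul, mul_comm]
        have hin : classInner (fun z : N => (α : A → ℂ) (Subgroup.inclusion hNA z))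
            (μ : N → ℂ) = d := by
          have he : (fun z : N => (α : A → ℂ) (Subgroup.inclusion hNA z)) =
              (d : ℂ) • (μ : N → ℂ) := funext fun z => hαz z
          rw [he, H12.classInner_smul_left, H12.classInner_irr_self, mul_one]
        obtain ⟨m, hm⟩ := H12.IsCharacter.exists_mult (H12.IsCharacter.res (H12.isCharacter_irr χ) A)
        have hmα : m α ≠ 0 := by
          intro h
          apply hα
          rw [hm, H12.classInner_sum_smul_irr, h, Nat.cast_zero]
        choose b' hb' using fun l : IrrCharacter A => H12.IsCharacter.classInner_nat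
          (H12.IsCharacter.comp (H12.isCharacter_irr l) (Subgroup.inclusion hNA))
          (H12.isCharacter_irr μ)
        have hb'α : b' α = d := by
          have h' := hb' α
          rw [show ((α : A → ℂ) ∘ Subgroup.inclusion hNA) =
            fun z : N => (α : A → ℂ) (Subgroup.inclusion hNA z) from rfl, hin] at h'
          exact_mod_cast h'.symm
        have htot : classInner (fun y : N => (χ : G → ℂ) y) (μ : N → ℂ) =
            ((∑ l, m l * b' l : ℕ) : ℂ) := by
          have hres : (fun y : N => (χ : G → ℂ) y) =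
              ∑ l, (m l : ℂ) • fun y : N => (l : A → ℂ) (Subgroup.inclusion hNA y) := by
            funext y
            have h := congrFun hm (Subgroup.inclusion hNA y)
            rw [Finset.sum_apply] at h ⊢
            exact h
          rw [hres, H12.classInner_sum_left, Nat.cast_sum]
          refine Finset.sum_congr rfl fun l _ => ?_
          rw [H12.classInner_smul_left, Nat.cast_mul, ← hb' l]
          rfl
        have hge : d ≤ ∑ l, m l * b' l := by
          refine le_trans ?_ (Finset.single_le_sum (fun l _ => Nat.zero_le (m l * b' l))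
            (Finset.mem_univ α))
          rw [hb'α]
          exact Nat.le_mul_of_pos_left _ (Nat.pos_of_ne_zero hmα)
        have h1 := hone μ (by rw [htot, Nat.cast_ne_zero]; omega)
        rw [htot] at h1
        have h1' : ∑ l, m l * b' l = 1 := by exact_mod_cast h1
        rw [← hρα, Representation.char_one, Module.finrank_fin_fun, show d = 1 by omega,
          Nat.cast_one]
      rw [H13.linear_commutator (H12.isCharacter_irr α) hα1, hα1]
    have h := congrArg Subtype.val hc
    simp only [Subgroup.coe_mul, Subgroup.coe_inv, Subgroup.coe_one] at h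
    rwa [mul_inv_eq_one, mul_inv_eq_iff_eq_mul] at h
  · -- the action on the constituents
    set Λ := {μ : IrrCharacter N // classInner (fun y : N => (χ : G → ℂ) y) (μ : N → ℂ) ≠ 0}
      with hΛ
    letI : MulAction G Λ :=
      { smul := fun g μ => ⟨H13.twistIrr N g⁻¹ μ.1, by
          rw [H13.twistIrr_apply, H13.classInner_res_twist N (H12.irr_isClassFunction χ)]
          exact μ.2⟩
        one_smul := fun μ => Subtype.ext (Subtype.ext (by
          show H13.twist N (1 : G)⁻¹ (μ.1 : N → ℂ) = μ.1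
          rw [inv_one, H13.twist_one]))
        mul_smul := fun g h μ => Subtype.ext (Subtype.ext (by
          show H13.twist N (g * h)⁻¹ (μ.1 : N → ℂ) =
            H13.twist N g⁻¹ (H13.twist N h⁻¹ (μ.1 : N → ℂ))
          rw [H13.twist_twist, mul_inv_rev])) }
    let π : G →* Equiv.Perm Λ := MulAction.toPermHom G Λ
    have hker : π.ker ≤ A := by
      intro g hg
      refine Subgroup.mem_centralizer_iff.2 fun a ha => ?_
      have hc : (⟨g⁻¹ * a * g, hN.conj_mem' a ha g⟩ * (⟨a, ha⟩ : N)⁻¹ : N) = 1 := by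
        refine eq_one_of_constituents' N (H12.isCharacter_irr χ) hfaith _ fun μ hμ => ?_
        have hfix : H13.twist N g⁻¹ (μ : N → ℂ) = μ := by
          have h := congrArg (fun q : Equiv.Perm Λ => ((q ⟨μ, hμ⟩).1 : N → ℂ)) hg
          exact h
        have h1 := hlin1 μ
        have h2 : (μ : N → ℂ) ⟨g⁻¹ * a * g, hN.conj_mem' a ha g⟩ = (μ : N → ℂ) ⟨a, ha⟩ := by
          have h := congrFun hfix ⟨a, ha⟩
          rw [← h]
          exact congrArg _ (Subtype.ext (by simp))
        rw [← H13.linHom_apply (H12.isCharacter_irr μ) h1,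
          ← H13.linHom_apply (H12.isCharacter_irr μ) h1] at h2
        rw [← H13.linHom_apply (H12.isCharacter_irr μ) h1, map_mul, map_inv, Units.ext h2,
          mul_inv_cancel, Units.val_one, h1]
      have h := congrArg Subtype.val hc
      simp only [Subgroup.coe_mul, Subgroup.coe_inv, Subgroup.coe_one] at h
      rw [mul_inv_eq_one, mul_assoc, inv_mul_eq_iff_eq_mul] at h
      exact h
    have hcard : Nat.card Λ = charDegree (χ : G → ℂ) := by
      have h := H12.classFunction_apply_eq_sum (f := fun y : N => (χ : G → ℂ) y)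
        (H12.IsCharacter.isClassFunction (H12.IsCharacter.res (H12.isCharacter_irr χ) N)) 1
      simp only [hlin1, mul_one, OneMemClass.coe_one, H24.irr_one] at h
      rw [Finset.sum_congr rfl fun (μ : IrrCharacter N) _ => show classInner (fun y : N => (χ : G → ℂ) y)
          (μ : N → ℂ) = if classInner (fun y : N => (χ : G → ℂ) y) (μ : N → ℂ) ≠ 0 then 1 else 0 by
        split_ifs with h0
        · exact hone μ h0
        · exact not_not.1 h0, Finset.sum_boole] at h
      rw [Nat.card_eq_fintype_card, Fintype.card_subtype]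
      exact_mod_cast h.symm
    refine (Subgroup.index_dvd_of_le hker).trans ?_
    rw [Subgroup.index_ker, ← hcard, ← Nat.card_perm]
    exact Subgroup.card_subgroup_dvd_card π.range

/-- The `p`-part of the index of `O_p` is small. -/
theorem main [Fintype G] {p : ℕ} (hp : p.Prime) (h7 : 7 ≤ p) (χ : IrrCharacter G)
    (hfaith : ∀ g : G, (χ : G → ℂ) g = (χ : G → ℂ) 1 → g = 1)
    (hn2 : charDegree (χ : G → ℂ) < 2 * p) (hnp : charDegree (χ : G → ℂ) ≠ p) (P : Sylow p G)
    (hnc : ∃ x ∈ (P : Subgroup G), ∃ y ∈ (P : Subgroup G), x * y ≠ y * x) :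
    ¬ p ^ 2 ∣ (pCore p G).index := by
  classical
  have : Fact p.Prime := ⟨hp⟩
  have : Fintype (P : Subgroup G) := Fintype.ofFinite _
  set φ : ↥(P : Subgroup G) → ℂ := fun y => (χ : G → ℂ) y with hφ
  have hφc : IsCharacter _ φ := H12.IsCharacter.res (H12.isCharacter_irr χ) _
  have hφf : ∀ g, φ g = φ 1 → g = 1 := fun g hg => Subtype.ext (hfaith g hg)
  have hφd : H12.degree φ = charDegree (χ : G → ℂ) := rfl
  have hnc' : ∃ x y : (P : Subgroup G), x * y ≠ y * x := by
    obtain ⟨x, hx, y, hy, hxy⟩ := hnc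
    exact ⟨⟨x, hx⟩, ⟨y, hy⟩, fun h => hxy (congrArg Subtype.val h)⟩
  obtain ⟨θ, m, hθ, hm, hmθ, hpn, hlin⟩ :=
    exists_theta hp P.2 hnc' hφc hφf (hφd ▸ hn2)
  obtain ⟨x, hx1, hxp, -, r, hr, hval⟩ := exists_two_valued hp P.2 hφf hθ hm hmθ hlin hnc'
  rw [hφd] at hr hpn
  have hr0 : r ≠ 0 := by omega
  obtain ⟨d, ρ, hρ, hρχ⟩ := χ.2
  have hinj : Function.Injective (show G →* Module.End ℂ (Fin d → ℂ) from ρ) := by
    rw [injective_iff_map_eq_one]
    intro g hg
    refine hfaith g ?_
    rw [← hρχ]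
    show LinearMap.trace ℂ _ (ρ g) = LinearMap.trace ℂ _ (ρ 1)
    rw [show ρ g = 1 from hg, map_one ρ]
  have hcomm := conjugates_commute hp h7 ρ hinj (x : G) (congrArg Subtype.val hxp) (r := r)
    (fun k => by rw [hρχ]; exact hval k)
  set N := Subgroup.normalClosure ({(x : G)} : Set G) with hN
  have : Fintype N := Fintype.ofFinite _
  have hNn : N.Normal := Subgroup.normalClosure_normal
  have hab : ∀ a ∈ N, ∀ b ∈ N, a * b = b * a := by
    have h1 : N ≤ Subgroup.centralizer (Group.conjugatesOfSet ({(x : G)} : Set G)) := by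
      refine (Subgroup.closure_le _).2 fun a ha => Subgroup.mem_centralizer_iff.2 fun b hb => ?_
      obtain ⟨_, rfl, ha'⟩ := Group.mem_conjugatesOfSet_iff.1 ha
      obtain ⟨_, rfl, hb'⟩ := Group.mem_conjugatesOfSet_iff.1 hb
      obtain ⟨g, rfl⟩ := isConj_iff.1 ha'
      obtain ⟨h, rfl⟩ := isConj_iff.1 hb'
      exact (hcomm h g).eq
    have h2 : N ≤ Subgroup.centralizer (N : Set G) := by
      refine (Subgroup.closure_le _).2 fun a ha => Subgroup.mem_centralizer_iff.2 fun b hb => ?_
      exact (Subgroup.mem_centralizer_iff.1 (h1 hb) a ha).symm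
    exact fun a ha b hb => Subgroup.mem_centralizer_iff.1 (h2 hb) a ha
  have hNp : IsPGroup p N := by
    have hexp : ∀ a ∈ N, a ^ p = 1 := by
      intro a ha
      induction ha using Subgroup.closure_induction with
      | mem y hy =>
        obtain ⟨_, rfl, hy'⟩ := Group.mem_conjugatesOfSet_iff.1 hy
        obtain ⟨g, rfl⟩ := isConj_iff.1 hy'
        rw [conj_pow, show (x : G) ^ p = 1 from congrArg Subtype.val hxp, mul_one, mul_inv_cancel]
      | one => exact one_pow p
      | mul a b ha hb iha ihb =>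
        rw [Commute.mul_pow (hab a ha b hb), iha, ihb, one_mul]
      | inv a _ iha => rw [inv_pow, iha, inv_one]
    exact fun a => ⟨1, Subtype.ext (by simpa using hexp a a.2)⟩
  have hNP : N ≤ (P : Subgroup G) :=
    (H10.le_pCore hNn hNp).trans (H10.pCore_le_sylow P)
  have hns : ∀ μ : IrrCharacter N, ¬ ∀ y : N,
      (χ : G → ℂ) y = (charDegree (χ : G → ℂ) : ℂ) * (μ : N → ℂ) y := by
    intro μ hμ
    have hxN : (x : G) ∈ N := Subgroup.subset_normalClosure rfl
    have h1 := H13.degree_one_of_commutative (fun a b => Subtype.ext (hab a a.2 b b.2)) μ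
    set c : ℂ := (μ : N → ℂ) ⟨x, hxN⟩
    set ε : ℂ := Complex.exp (2 * Real.pi * Complex.I / p)
    have hk : ∀ k : ℕ, (charDegree (χ : G → ℂ) : ℂ) * c ^ k = (p : ℂ) * ε ^ k + (r : ℂ) := by
      intro k
      rw [← hval k]
      have h2 := hμ (⟨x, hxN⟩ ^ k)
      rw [show (μ : N → ℂ) (⟨x, hxN⟩ ^ k) = c ^ k by
        rw [← H13.linHom_apply (H12.isCharacter_irr μ) h1, map_pow, Units.val_pow_eq_pow_val,
          H13.linHom_apply]] at h2
      exact h2.symm
    have hcp : c ^ p = 1 := by
      have h3 : (⟨x, hxN⟩ : N) ^ p = 1 := Subtype.ext (congrArg Subtype.val hxp : (x : G) ^ p = 1)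
      show ((μ : N → ℂ) ⟨x, hxN⟩) ^ p = 1
      rw [← H13.linHom_apply (H12.isCharacter_irr μ) h1, ← Units.val_pow_eq_pow_val, ← map_pow, h3,
        map_one, Units.val_one]
    have hεs : ∑ k ∈ Finset.range p, ε ^ k = 0 :=
      (Complex.isPrimitiveRoot_exp p hp.ne_zero).geom_sum_eq_zero hp.one_lt
    have hsum : (charDegree (χ : G → ℂ) : ℂ) * ∑ k ∈ Finset.range p, c ^ k = (p : ℂ) * r := by
      rw [Finset.mul_sum, Finset.sum_congr rfl fun k _ => hk k, Finset.sum_add_distrib,
        ← Finset.mul_sum, hεs, mul_zero, zero_add, Finset.sum_const, Finset.card_range,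
        nsmul_eq_mul]
    by_cases hc : c = 1
    · rw [hc] at hsum
      simp only [one_pow, Finset.sum_const, Finset.card_range, nsmul_eq_mul, mul_one] at hsum
      have h4 : charDegree (χ : G → ℂ) * p = p * r := by exact_mod_cast hsum
      have h5 : r < charDegree (χ : G → ℂ) := by have := hp.pos; omega
      have h6 := Nat.mul_lt_mul_of_pos_left h5 hp.pos
      rw [mul_comm] at h4
      omega
    · have hcs : ∑ k ∈ Finset.range p, c ^ k = 0 := by
        have h := geom_sum_mul c p
        rw [hcp, sub_self, mul_eq_zero] at h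
        exact h.resolve_right (sub_ne_zero.2 hc)
      rw [hcs, mul_zero] at hsum
      have h4 : p * r = 0 := by exact_mod_cast hsum.symm
      exact Nat.mul_ne_zero hp.ne_zero hr0 h4
  have hone := orbit_count hp χ hfaith P hn2 θ m hθ hmθ hm hlin N hab hNP hns
  obtain ⟨A, hAn, hAab, hAidx⟩ := exists_abelian χ hfaith N hab hone
  intro hd
  -- the Sylow subgroup of `A` lies in the core
  obtain ⟨SA⟩ : Nonempty (Sylow p A) := inferInstance
  have hSn : (SA : Subgroup A).Normal :=
    ⟨fun a ha g => by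
      have : g * a * g⁻¹ = a := by
        rw [show g * a = a * g from Subtype.ext (hAab g g.2 a a.2), mul_inv_cancel_right]
      rwa [this]⟩
  have := Sylow.characteristic_of_normal SA hSn
  have hle : (SA : Subgroup A).map A.subtype ≤ pCore p G :=
    H10.le_pCore (H10.map_subtype_normal hAn _) (SA.2.map A.subtype)
  have hd1 : p ^ (Nat.card A).factorization p ∣ Nat.card (pCore p G) := by
    rw [← SA.card_eq_multiplicity, ← Subgroup.card_subtype A (SA : Subgroup A)]
    exact Subgroup.card_dvd_of_le hle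
  have hO := (hp.pow_dvd_iff_le_factorization Nat.card_pos.ne').1 hd1
  have hI := (hp.pow_dvd_iff_le_factorization Subgroup.index_ne_zero_of_finite).1 hd
  have h1 := congrArg (fun k : ℕ => k.factorization p) (Subgroup.card_mul_index (pCore p G))
  have h2 := congrArg (fun k : ℕ => k.factorization p) (Subgroup.card_mul_index A)
  simp only [Nat.factorization_mul Nat.card_pos.ne' Subgroup.index_ne_zero_of_finite,
    Finsupp.add_apply] at h1 h2
  have h3 := Nat.factorization_le_iff_dvd Subgroup.index_ne_zero_of_finite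
    (Nat.factorial_ne_zero _) |>.2 hAidx p
  have h4 := factorization_factorial_one hp hn2
  omega

end H17.SevenBound
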