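import Cfsg.Agent.H17.PSolvableBound
import Cfsg.Agent.H24.Quot

/-!
`p`-solvable linear groups of degree at most `p - 1` with a non-normal Sylow `p`-subgroup.
-/

set_option autoImplicit false
set_option linter.unusedSectionVars false

namespace H17.SmallDegree

open Cfsg Pointwise

universe u

variable {G : Type u} [Group G] {p : ℕ}

theorem normal_of_index [Finite G] (hp : p.Prime) (h : ¬ p ∣ (pCore p G).index) (P : Sylow p G) :
    (P : Subgroup G).Normal := by
  have : Fact p.Prime := ⟨hp⟩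
  have hle : pCore p G ≤ (P : Subgroup G) := H10.pCore_le_sylow P
  have heq : (P : Subgroup G) = pCore p G := by
    refine (Subgroup.eq_of_le_of_card_ge hle (Nat.le_of_dvd Nat.card_pos ?_)).symm
    obtain ⟨e, he⟩ := IsPGroup.iff_card.1 P.2
    have h1 : Nat.card (P : Subgroup G) ∣ Nat.card (pCore p G) * (pCore p G).index :=
      Subgroup.card_mul_index (pCore p G) ▸ Subgroup.card_subgroup_dvd_card _
    rw [he] at h1 ⊢
    exact (Nat.Coprime.pow_left e ((hp.coprime_iff_not_dvd).2 h)).dvd_of_dvd_mul_right h1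
  rw [heq]; exact H10.pCore_normal

theorem normal_of_degree_lt [Finite G] (hp : p.Prime) (hs : IsPSolvable p G) (χ : G → ℂ)
    (hχ : IsCharacter G χ) (hfaith : ∀ g : G, χ g = χ 1 → g = 1) (hlt : charDegree χ + 1 < p)
    (P : Sylow p G) : (P : Subgroup G).Normal := by
  refine normal_of_index hp (fun h => ?_) P
  have hb := H17.PSolvableBound.main χ hχ hfaith hp hs
  have hz : ∑ i ∈ Finset.range (charDegree χ + 1), charDegree χ / ((p - 1) * p ^ i) = 0 := by
    refine Finset.sum_eq_zero fun i _ => Nat.div_eq_of_lt ?_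
    calc charDegree χ < p - 1 := by omega
      _ = (p - 1) * 1 := (mul_one _).symm
      _ ≤ (p - 1) * p ^ i := Nat.mul_le_mul_left _ (Nat.one_le_pow _ _ hp.pos)
  rw [hz, Nat.le_zero] at hb
  exact (Nat.pos_iff_ne_zero.1 (hp.factorization_pos_of_dvd Subgroup.index_ne_zero_of_finite h)) hb

theorem irreducible [Fintype G] (hp : p.Prime) (hs : IsPSolvable p G) (χ : G → ℂ)
    (hχ : IsCharacter G χ) (hfaith : ∀ g : G, χ g = χ 1 → g = 1) (hn : charDegree χ + 1 ≤ p)
    (P : Sylow p G) (hP : ¬ (P : Subgroup G).Normal) : IsIrrCharacter G χ := by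
  classical
  have : Fact p.Prime := ⟨hp⟩
  by_contra hirr
  apply hP
  obtain ⟨m, hm⟩ := H12.IsCharacter.exists_mult hχ
  have hdeg : charDegree χ = ∑ ζ : IrrCharacter G, m ζ * charDegree (ζ : G → ℂ) := by
    have h1 := congrFun hm 1
    simp only [H12.IsCharacter.apply_one_eq_degree hχ, Finset.sum_apply, Pi.smul_apply,
      smul_eq_mul, H24.irr_one] at h1
    rw [show charDegree χ = H12.degree χ from rfl]
    exact_mod_cast h1
  -- every constituent has smaller degree
  have hlt : ∀ ζ : IrrCharacter G, m ζ ≠ 0 → charDegree (ζ : G → ℂ) < charDegree χ := by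
    intro ζ hζ
    rw [hdeg, ← Finset.add_sum_erase Finset.univ _ (Finset.mem_univ ζ)]
    by_contra hge
    apply hirr
    have hpos := H24.irr_pos ζ
    have hrest : ∑ x ∈ Finset.univ.erase ζ, m x * charDegree (x : G → ℂ) = 0 := by
      have : charDegree (ζ : G → ℂ) ≤ m ζ * charDegree (ζ : G → ℂ) :=
        Nat.le_mul_of_pos_left _ (Nat.pos_of_ne_zero hζ)
      omega
    have hm1 : m ζ = 1 := by
      have h : m ζ * charDegree (ζ : G → ℂ) ≤ 1 * charDegree (ζ : G → ℂ) := by omega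
      have := Nat.le_of_mul_le_mul_right h hpos
      omega
    have hzero : ∀ x, x ≠ ζ → m x = 0 := fun x hx =>
      (Nat.mul_eq_zero.1 (Finset.sum_eq_zero_iff.1 hrest x
        (Finset.mem_erase.2 ⟨hx, Finset.mem_univ x⟩))).resolve_right (H24.irr_pos x).ne'
    rw [hm, Finset.sum_eq_single ζ (fun x _ hx => by simp [hzero x hx]) (by simp), hm1]
    simpa using ζ.2
  let M : Subgroup G := ⨅ ζ : {ζ : IrrCharacter G // m ζ ≠ 0},
    (P : Subgroup G) ⊔ H24.kerChar ζ.1
  have hMn : M.Normal := by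
    refine Subgroup.normal_iInf_normal fun ζ => ?_
    obtain ⟨ψ, hψ⟩ := H24.exists_deflate (H24.kerChar ζ.1) ζ.1 le_rfl
    have hfψ : ∀ x, ψ.1 x = ψ.1 1 → x = 1 := fun x hx =>
      (Subgroup.eq_bot_iff_forall _).1 (H24.kerChar_eq_bot_deflate ζ.1 ψ hψ) x
        (H24.mem_kerChar.2 hx)
    have hdeg' : charDegree ψ.1 < charDegree χ := by
      rw [← H24.charDegree_inflate, hψ]; exact hlt ζ.1 ζ.2
    have hn' := normal_of_degree_lt hp (H10.isPSolvable_quotient hs _) ψ.1
      (H12.isCharacter_irr ψ) hfψ (by omega)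
      (Sylow.mapSurjective (QuotientGroup.mk'_surjective (H24.kerChar ζ.1)) P)
    have h := hn'.comap (QuotientGroup.mk' (H24.kerChar ζ.1))
    rwa [Sylow.coe_mapSurjective, Subgroup.comap_map_eq, QuotientGroup.ker_mk'] at h
  have hPM : (P : Subgroup G) ≤ M := le_iInf fun ζ => le_sup_left
  have hM : IsPGroup p M := by
    intro x
    obtain ⟨e, he⟩ := IsPGroup.iff_card.1 P.2
    refine ⟨e, Subtype.ext (hfaith _ ?_)⟩
    rw [Subgroup.coe_pow, hm, Finset.sum_apply, Finset.sum_apply]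
    refine Finset.sum_congr rfl fun ζ _ => ?_
    by_cases h0 : m ζ = 0
    · simp [h0]
    have hx := (Subgroup.mem_iInf.1 x.2) ⟨ζ, h0⟩
    have hxe : (x : G) ^ (p ^ e) ∈ H24.kerChar ζ := by
      obtain ⟨a, ha, b, hb, hab⟩ := Subgroup.mem_sup_of_normal_right.1 hx
      have hq : (QuotientGroup.mk' (H24.kerChar ζ) x) = QuotientGroup.mk' (H24.kerChar ζ) a := by
        rw [← hab, map_mul, show QuotientGroup.mk' (H24.kerChar ζ) b = 1 from
          (QuotientGroup.eq_one_iff b).2 hb, mul_one]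
      refine (QuotientGroup.eq_one_iff _).1 ?_
      show QuotientGroup.mk' (H24.kerChar ζ) ((x : G) ^ (p ^ e)) = 1
      rw [map_pow, hq, ← map_pow, orderOf_dvd_iff_pow_eq_one.1
        (he ▸ Subgroup.orderOf_dvd_natCard (P : Subgroup G) ha), map_one]
    simp only [Pi.smul_apply, H24.mem_kerChar.1 hxe]
  rw [← P.3 hM hPM]; exact hMn

theorem exists_invariant_sylow [Finite G] (L : Subgroup G) (x : G)
    (hx : x ∈ Subgroup.normalizer (L : Set G)) (hp : p.Prime) (k : ℕ) (hxk : x ^ (p ^ k) = 1)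
    (hL : ¬ p ∣ Nat.card L) (q : ℕ) [Fact q.Prime] :
    ∃ Q : Sylow q L,
      x ∈ Subgroup.normalizer ((Q : Subgroup L).map L.subtype : Set G) := by
  have : Fact p.Prime := ⟨hp⟩
  let xN : Subgroup.normalizer (L : Set G) := ⟨x, hx⟩
  let Z := Subgroup.zpowers xN
  let φ : Z →* MulAut L := L.normalizerMonoidHom.comp Z.subtype
  letI : MulDistribMulAction Z L := MulDistribMulAction.compHom L φ
  have hZ : IsPGroup p Z := by
    intro y
    obtain ⟨l, hl⟩ := Subgroup.mem_zpowers_iff.1 y.2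
    refine ⟨k, Subtype.ext ?_⟩
    have hxN : xN ^ (p ^ k) = 1 := Subtype.ext hxk
    rw [Subgroup.coe_pow, ← hl, ← zpow_natCast, zpow_comm, zpow_natCast, hxN, one_zpow,
      Subgroup.coe_one]
  obtain ⟨Q, hQ⟩ := hZ.nonempty_fixed_point_of_prime_not_dvd_card (Sylow q L) (fun h =>
    hL (h.trans ((Sylow.card_dvd_index (default : Sylow q L)).trans
      (Subgroup.index_dvd_card _))))
  refine ⟨Q, Subgroup.mem_normalizer_iff_map_conj_eq.2 ?_⟩
  have h := congrArg (fun R : Sylow q L => (R : Subgroup L))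
    (hQ ⟨xN, Subgroup.mem_zpowers xN⟩)
  ext y
  constructor
  · rintro ⟨_, ⟨a, ha, rfl⟩, rfl⟩
    refine ⟨φ ⟨xN, Subgroup.mem_zpowers xN⟩ a, ?_, rfl⟩
    exact h ▸ ⟨a, ha, rfl⟩
  · rintro ⟨a, ha, rfl⟩
    obtain ⟨b, hb, rfl⟩ := (h.symm ▸ ha : a ∈ _)
    exact ⟨b, ⟨b, hb, rfl⟩, rfl⟩

theorem main [Fintype G] (hp : p.Prime) (hs : IsPSolvable p G) (χ : G → ℂ)
    (hχ : IsCharacter G χ) (hfaith : ∀ g : G, χ g = χ 1 → g = 1) (hn : charDegree χ + 1 ≤ p)
    (P : Sylow p G) (hP : ¬ (P : Subgroup G).Normal) :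
    charDegree χ + 1 = p ∧ (∃ k : ℕ, charDegree χ = 2 ^ k) ∧ IsIrrCharacter G χ := by
  classical
  have : Fact p.Prime := ⟨hp⟩
  have heq : charDegree χ + 1 = p := by
    by_contra hne
    exact hP (normal_of_degree_lt hp hs χ hχ hfaith (lt_of_le_of_ne hn hne) P)
  refine ⟨heq, ?_, irreducible hp hs χ hχ hfaith hn P hP⟩
  rcases hp.eq_two_or_odd' with rfl | hodd
  · exact ⟨0, by omega⟩
  obtain ⟨L, hL, hfrat, hcent⟩ := H17.PSolvableBound.exists_structure hp hs
  set O := pCore p G with hO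
  set N := Subgroup.normalizer (L : Set G) with hN
  -- a `p`-element normalising but not centralising `L`
  obtain ⟨x, hxN, k, hxk, hxL⟩ : ∃ x ∈ N, ∃ k, x ^ (p ^ k) = 1 ∧ ¬ ∀ l ∈ L, x * l = l * x := by
    by_contra h
    simp only [not_exists, not_and, not_not] at h
    apply hP
    refine normal_of_index hp (fun hd => ?_) P
    obtain ⟨S⟩ : Nonempty (Sylow p N) := inferInstance
    have hsurj : Function.Surjective ((QuotientGroup.mk' O).comp N.subtype) := by
      intro q
      obtain ⟨q, rfl⟩ := QuotientGroup.mk_surjective q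
      obtain ⟨o, ho, y, hy, rfl⟩ := hfrat q
      exact ⟨⟨y, hy⟩, by
        show (QuotientGroup.mk y : G ⧸ O) = QuotientGroup.mk (o * y)
        rw [QuotientGroup.mk_mul, (QuotientGroup.eq_one_iff o).2 ho, one_mul]⟩
    have hbot : ((Sylow.mapSurjective hsurj S : Sylow p (G ⧸ O)) : Subgroup (G ⧸ O)) = ⊥ := by
      rw [eq_bot_iff]
      rintro _ ⟨s, hs', rfl⟩
      obtain ⟨j, hj⟩ := S.2 ⟨s, hs'⟩
      have hj' : (s : G) ^ (p ^ j) = 1 :=
        congrArg (fun y : (S : Subgroup N) => ((y : N) : G)) hj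
      exact (QuotientGroup.eq_one_iff _).2 (hcent s ⟨j, hj'⟩ (h s s.2 j hj'))
    have := (Sylow.mapSurjective hsurj S).not_dvd_index
    rw [hbot, Subgroup.index_bot] at this
    exact this (Subgroup.index_eq_card O ▸ hd)
  -- an invariant Sylow subgroup of `L` not centralised by `x`
  obtain ⟨q, hq, Q, hQx, hQc⟩ : ∃ q, q.Prime ∧ ∃ Q : Sylow q L,
      x ∈ Subgroup.normalizer ((Q : Subgroup L).map L.subtype : Set G) ∧
      ¬ (Q : Subgroup L).map L.subtype ≤ Subgroup.centralizer ({x} : Set G) := by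
    by_contra h
    simp only [not_exists, not_and, not_not] at h
    apply hxL
    have htop : ((Subgroup.centralizer ({x} : Set G)).subgroupOf L) = ⊤ := by
      refine Subgroup.eq_top_of_card_eq _ (Nat.dvd_antisymm (Subgroup.card_subgroup_dvd_card _) ?_)
      rw [← Nat.factorization_prime_le_iff_dvd Nat.card_pos.ne' Nat.card_pos.ne']
      intro r hr
      have : Fact r.Prime := ⟨hr⟩
      obtain ⟨Q, hQ⟩ := exists_invariant_sylow L x hxN hp k hxk hL r
      have hle : (Q : Subgroup L) ≤ (Subgroup.centralizer ({x} : Set G)).subgroupOf L :=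
        fun y hy => h r hr Q hQ ⟨y, hy, rfl⟩
      rw [← hr.pow_dvd_iff_le_factorization Nat.card_pos.ne', ← Q.card_eq_multiplicity]
      exact Subgroup.card_dvd_of_le hle
    intro l hl
    have hl' : (⟨l, hl⟩ : L) ∈ (Subgroup.centralizer ({x} : Set G)).subgroupOf L :=
      htop ▸ Subgroup.mem_top _
    exact (Subgroup.mem_centralizer_singleton_iff.1 hl').symm
  have : Fact q.Prime := ⟨hq⟩
  set Q₀ := (Q : Subgroup L).map L.subtype with hQ₀
  set H := Q₀ ⊔ Subgroup.zpowers x with hH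
  have : Fintype H := Fintype.ofFinite _
  obtain ⟨e, he⟩ := IsPGroup.iff_card.1 (Q.2.map L.subtype)
  have he' : Nat.card Q₀ = q ^ e := he
  have hpQ : ¬ p ∣ Nat.card Q₀ := fun h =>
    hL (h.trans (Subgroup.card_dvd_of_le (Subgroup.map_subtype_le _)))
  have hcardH : Nat.card H = Nat.card Q₀ * Nat.card (Subgroup.zpowers x) :=
    H1.card_sup_of_coprime (Subgroup.zpowers_le.2 hQx) (by
      rw [Nat.card_zpowers]
      obtain ⟨j, -, hj⟩ := (Nat.dvd_prime_pow hp).1 (orderOf_dvd_of_pow_eq_one hxk)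
      rw [hj]
      exact Nat.Coprime.pow_right j ((hp.coprime_iff_not_dvd.2 hpQ).symm))
  obtain ⟨R⟩ : Nonempty (Sylow p H) := inferInstance
  have hnot : ¬ (R : Subgroup H).Normal := by
    intro hR
    apply hQc
    intro y hy
    rw [Subgroup.mem_centralizer_singleton_iff]
    let xH : H := ⟨x, Subgroup.mem_sup_right (Subgroup.mem_zpowers x)⟩
    let yH : H := ⟨y, Subgroup.mem_sup_left hy⟩
    have hxR : xH ∈ (R : Subgroup H) := by
      have hz : IsPGroup p (Subgroup.zpowers xH) := by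
        intro z
        obtain ⟨l, hl⟩ := Subgroup.mem_zpowers_iff.1 z.2
        refine ⟨k, Subtype.ext ?_⟩
        have hxH : xH ^ (p ^ k) = 1 := Subtype.ext (by simpa using hxk)
        rw [Subgroup.coe_pow, ← hl, ← zpow_natCast, zpow_comm, zpow_natCast, hxH, one_zpow,
          Subgroup.coe_one]
      obtain ⟨R', hR'⟩ := hz.exists_le_sylow
      have hu := Sylow.unique_of_normal R hR
      rw [hu.uniq R', ← hu.uniq R] at hR'
      exact hR' (Subgroup.mem_zpowers xH)
    have hc1 : xH * yH * xH⁻¹ * yH⁻¹ ∈ (R : Subgroup H) := by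
      have := mul_mem hxR (hR.conj_mem _ (inv_mem hxR) yH)
      simpa [mul_assoc] using this
    have hc2 : x * y * x⁻¹ * y⁻¹ ∈ Q₀ :=
      mul_mem ((Subgroup.mem_normalizer_iff.1 hQx y).1 hy) (inv_mem hy)
    obtain ⟨j, hj⟩ := R.2 ⟨_, hc1⟩
    have hj' : (x * y * x⁻¹ * y⁻¹) ^ (p ^ j) = 1 :=
      congrArg (fun z : (R : Subgroup H) => ((z : H) : G)) hj
    have hone : orderOf (x * y * x⁻¹ * y⁻¹) = 1 := Nat.eq_one_of_dvd_coprimes
      (Nat.Coprime.pow_left j (hp.coprime_iff_not_dvd.2 hpQ))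
      (orderOf_dvd_of_pow_eq_one hj') (Subgroup.orderOf_dvd_natCard Q₀ hc2)
    rw [orderOf_eq_one_iff, mul_inv_eq_one, mul_inv_eq_iff_eq_mul] at hone
    exact hone.symm
  have hres := H12.IsCharacter.res hχ H
  have hdegH : charDegree (fun h : H => χ h) = charDegree χ := rfl
  have hirrH := irreducible (G := H) hp (H10.isPSolvable_subgroup hs H) _ hres
    (fun g hg => Subtype.ext (hfaith g hg)) (hdegH ▸ hn) R hnot
  have hdvd : charDegree χ ∣ q ^ e * Nat.card (Subgroup.zpowers x) := by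
    rw [← he', ← hcardH, ← hdegH]
    exact H24.charDegree_dvd_card (G := H) ⟨_, hirrH⟩
  have hd2 : charDegree χ ∣ q ^ e := by
    refine Nat.Coprime.dvd_of_dvd_mul_right ?_ hdvd
    rw [Nat.card_zpowers]
    obtain ⟨j, -, hj⟩ := (Nat.dvd_prime_pow hp).1 (orderOf_dvd_of_pow_eq_one hxk)
    rw [hj]
    refine Nat.Coprime.pow_right j ((hp.coprime_iff_not_dvd.2 fun h => ?_).symm)
    have h2 := hp.two_le
    have := Nat.le_of_dvd (by omega) h
    omega
  obtain ⟨i, -, hi⟩ := (Nat.dvd_prime_pow hq).1 hd2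
  have h2 : 2 ∣ charDegree χ := by
    obtain ⟨t, ht⟩ := hodd
    exact ⟨t, by omega⟩
  have hq2 : q = 2 :=
    ((Nat.prime_dvd_prime_iff_eq Nat.prime_two hq).1
      (Nat.prime_two.dvd_of_dvd_pow (hi ▸ h2))).symm
  exact ⟨i, hq2 ▸ hi⟩

end H17.SmallDegree
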