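import Cfsg.Agent.H12.Induction
import Cfsg.Agent.H12.Linear
import Cfsg.Agent.H12.Integral
import Cfsg.Agent.H13.Correspondence
import Cfsg.Prelude.Def_Blocks
import Mathlib.GroupTheory.Sylow

/-!
All degrees less than `p`: a Sylow `p`-subgroup is normal and abelian.
-/

set_option autoImplicit false
set_option linter.unusedSectionVars false

namespace H17.SmallDegrees

open Cfsg Finset
open scoped ComplexConjugate commutatorElement

universe u

variable {G : Type u} [Group G] [Fintype G] {p : ℕ} [Fact p.Prime]

theorem sylow_comm (hb : ∀ χ : IrrCharacter G, H12.degree (χ : G → ℂ) < p) (P : Sylow p G) :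
    ∀ x ∈ (P : Subgroup G), ∀ y ∈ (P : Subgroup G), x * y = y * x := by
  classical
  intro x hx y hy
  have hp : p.Prime := Fact.out
  rw [← commutatorElement_eq_one_iff_mul_comm, ← isConj_one_right, H12.isConj_iff_irr]
  intro χ
  let z : (P : Subgroup G) := ⁅(⟨x, hx⟩ : (P : Subgroup G)), ⟨y, hy⟩⁆
  have hres := H12.IsCharacter.res (H12.isCharacter_irr χ) (P : Subgroup G)
  obtain ⟨c, hc⟩ := H12.IsCharacter.exists_mult hres
  have key : ∀ η : IrrCharacter (P : Subgroup G), c η ≠ 0 → η.1 z =
      η.1 1 := by
    intro η hη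
    have hle : H12.degree η.1 < p := by
      have h1 := congrFun hc 1
      simp only [OneMemClass.coe_one, Finset.sum_apply, Pi.smul_apply, smul_eq_mul,
        H12.irr_apply_one, ← Nat.cast_mul, ← Nat.cast_sum, Nat.cast_inj] at h1
      have h2 := Finset.single_le_sum
        (f := fun η => c η * H12.degree η.1) (s := Finset.univ)
        (fun _ _ => Nat.zero_le _) (Finset.mem_univ η)
      simp only [← h1] at h2
      have := Nat.le_mul_of_pos_left (H12.degree η.1) (Nat.pos_of_ne_zero hη)
      have := hb χ
      omega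
    have hone : H12.degree η.1 = 1 := by
      obtain ⟨k, hk⟩ := IsPGroup.iff_card.1 P.2
      have hd := H12.irr_degree_dvd_card η
      rw [hk] at hd
      obtain ⟨j, -, hj⟩ := (Nat.dvd_prime_pow hp).1 hd
      rcases j with - | j
      · rw [hj, pow_zero]
      · exfalso
        rw [hj] at hle
        exact absurd hle (not_lt.2 (Nat.le_self_pow j.succ_ne_zero p))
    obtain ⟨f, hf⟩ := H12.exists_monoidHom_of_apply_one_eq_one (H12.isCharacter_irr η)
      (by rw [H12.irr_apply_one, hone, Nat.cast_one])
    rw [← hf]; show (f z : ℂ) = f 1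
    have hz : f z = 1 := by
      rw [map_commutatorElement, commutatorElement_eq_one_iff_mul_comm, mul_comm]
    rw [hz, map_one]
  have hz : ((z : (P : Subgroup G)) : G) = ⁅x, y⁆ := rfl
  have h1 := congrFun hc 1
  have h2 := congrFun hc z
  simp only [OneMemClass.coe_one, hz, Finset.sum_apply, Pi.smul_apply, smul_eq_mul] at h1 h2
  rw [h1, h2]
  refine Finset.sum_congr rfl fun η _ => ?_
  by_cases hη : c η = 0
  · simp [hη]
  · rw [key η hη]

open scoped Classical in
theorem sylow_normal (hb : ∀ χ : IrrCharacter G, H12.degree (χ : G → ℂ) < p) (P : Sylow p G) :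
    (P : Subgroup G).Normal := by
  have hp : p.Prime := Fact.out
  set N := Subgroup.normalizer ((P : Subgroup G) : Set G) with hN
  rw [← Subgroup.normalizer_eq_top_iff]
  set Q : Subgroup G := (P : Subgroup G) with hQ
  set π := indFun N (fun _ : N => (1 : ℂ)) with hπ
  obtain ⟨c, hc⟩ := H12.IsCharacter.exists_mult
    (H12.IsCharacter.indFun (H12.isCharacter_one (G := N)))
  -- the multiplicity of the trivial character of `P`
  have hnat : ∀ ψ : IrrCharacter G, ∃ m : ℕ,
      classInner (fun w : Q => (ψ : G → ℂ) w) (fun _ => (1 : ℂ)) = m := fun ψ =>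
    H12.IsCharacter.classInner_nat (H12.IsCharacter.res (H12.isCharacter_irr ψ) Q) H12.isCharacter_one
  choose m hm using hnat
  have happ : ∀ g, π g = ∑ ψ : IrrCharacter G, (c ψ : ℂ) * (ψ : G → ℂ) g := fun g => by
    rw [hπ, hc]; simp [Finset.sum_apply]
  have hinner : ∀ ψ : IrrCharacter G, classInner (fun _ : N => (1 : ℂ)) (fun h : N => (ψ : G → ℂ) h)
      = c ψ := fun ψ => by
    rw [← H12.classInner_indFun N _ (H12.irr_isClassFunction ψ), hc, H12.classInner_sum_smul_irr]
  have hpos : ∀ ψ : IrrCharacter G, c ψ ≠ 0 → 1 ≤ m ψ := by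
    intro ψ hψ
    have hne : classInner (fun h : N => (ψ : G → ℂ) h) (H12.oneIrr N : N → ℂ) ≠ 0 := by
      rw [show (H12.oneIrr N : N → ℂ) = fun _ => (1 : ℂ) from funext (H12.oneIrr_apply (G := N)),
        ← H12.conj_classInner, hinner, Complex.conj_natCast]
      exact_mod_cast hψ
    have hd := H13.isCharacter_sub_irr (H12.IsCharacter.res (H12.isCharacter_irr ψ) N)
      (H12.oneIrr N).2 hne
    have hQN : Q ≤ N := Subgroup.le_normalizer
    obtain ⟨k, hk⟩ := H12.IsCharacter.classInner_nat
      (H12.IsCharacter.comp hd (Subgroup.inclusion hQN)) (H12.isCharacter_one (G := Q))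
    have : (m ψ : ℂ) = k + 1 := by
      have hone : classInner (fun _ : Q => (1 : ℂ)) (fun _ => (1 : ℂ)) = 1 := by
        simp [H12.classInner_def]
      have hsplit := fun A : Q → ℂ => H12.classInner_add_left A (fun _ => (1 : ℂ)) (fun _ => (1 : ℂ))
      rw [hone] at hsplit
      rw [← hm ψ, ← hk, ← hsplit]
      congr 1
      funext w
      simp [H12.oneIrr_apply]
    have : m ψ = k + 1 := by exact_mod_cast this
    omega
  -- degrees
  have hdeg : ∑ ψ : IrrCharacter G, c ψ * H12.degree (ψ : G → ℂ) = N.index := by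
    have h1 := happ 1
    rw [hπ, H12.indFun_one] at h1
    simp only [H12.irr_apply_one, mul_one, ← Nat.cast_mul, ← Nat.cast_sum, Nat.cast_inj] at h1
    exact h1.symm
  set O := ∑ ψ : IrrCharacter G, c ψ * m ψ with hO
  have hone : 1 ≤ c (H12.oneIrr G) := by
    have h1 := hinner (H12.oneIrr G)
    simp only [H12.oneIrr_apply] at h1
    rw [show classInner (fun _ : N => (1 : ℂ)) (fun _ => (1 : ℂ)) = 1 by simp [H12.classInner_def]]
      at h1
    have : c (H12.oneIrr G) = 1 := by exact_mod_cast h1.symm
    omega
  have hone_deg : H12.degree (H12.oneIrr G : G → ℂ) = 1 := by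
    have := H12.irr_apply_one (H12.oneIrr G)
    rw [H12.oneIrr_apply] at this
    exact_mod_cast this.symm
  have hup : N.index + (p - 1) ≤ (p - 1) * O + 1 := by
    rw [← hdeg, hO, Finset.mul_sum,
      ← Finset.add_sum_erase _ _ (Finset.mem_univ (H12.oneIrr G)),
      ← Finset.add_sum_erase _ _ (Finset.mem_univ (H12.oneIrr G))]
    have hle : ∀ ψ ∈ Finset.univ.erase (H12.oneIrr G),
        c ψ * H12.degree (ψ : G → ℂ) ≤ (p - 1) * (c ψ * m ψ) := by
      intro ψ _
      rcases Nat.eq_zero_or_pos (c ψ) with h | h
      · simp [h]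
      · have h1 := hpos ψ h.ne'
        have h2 := hb ψ
        calc c ψ * H12.degree (ψ : G → ℂ) ≤ c ψ * (p - 1) := Nat.mul_le_mul_left _ (by omega)
          _ ≤ c ψ * (p - 1) * m ψ := Nat.le_mul_of_pos_right _ h1
          _ = _ := by ring
    have := Finset.sum_le_sum hle
    have hc1 : c (H12.oneIrr G) = 1 := by
      have h1 := hinner (H12.oneIrr G)
      simp only [H12.oneIrr_apply] at h1
      rw [show classInner (fun _ : N => (1 : ℂ)) (fun _ => (1 : ℂ)) = 1 by simp [H12.classInner_def]]
        at h1
      exact_mod_cast h1.symm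
    have hm1 : m (H12.oneIrr G) = 1 := by
      have h1 := hm (H12.oneIrr G)
      simp only [H12.oneIrr_apply] at h1
      rw [show classInner (fun _ : Q => (1 : ℂ)) (fun _ => (1 : ℂ)) = 1 by simp [H12.classInner_def]]
        at h1
      exact_mod_cast h1.symm
    rw [hc1, hm1, hone_deg]
    omega
  -- orbits of `P` on the cosets of its normaliser
  let T : G → ℕ := fun g => (Finset.univ.filter fun w : Q => g⁻¹ * (w : G) * g ∈ N).card
  have hsum : O * Nat.card Q * Nat.card N = ∑ g : G, T g := by
    have h1 : (O : ℂ) * Nat.card Q = ∑ w : Q, π (w : G) := by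
      simp only [happ]
      rw [Finset.sum_comm, hO, Nat.cast_sum, Finset.sum_mul]
      refine Finset.sum_congr rfl fun ψ _ => ?_
      have h := hm ψ
      simp only [classInner, map_one, mul_one] at h
      rw [inv_mul_eq_iff_eq_mul₀ (by exact_mod_cast Nat.card_pos.ne')] at h
      rw [← Finset.mul_sum, h]; push_cast; ring
    have h2 : ((O * Nat.card Q * Nat.card N : ℕ) : ℂ) = ((∑ g : G, T g : ℕ) : ℂ) := by
      push_cast
      rw [h1]
      simp only [hπ, H12.indFun_apply, ← Finset.mul_sum]
      rw [mul_comm (Nat.card N : ℂ)⁻¹, mul_assoc, inv_mul_cancel₀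
        (by exact_mod_cast Nat.card_pos.ne'), mul_one, Finset.sum_comm]
      refine Finset.sum_congr rfl fun g _ => ?_
      simp only [T, Finset.card_filter, Nat.cast_sum]
      refine Finset.sum_congr rfl fun w _ => ?_
      split_ifs with h
      · rw [H12.extendByZero_mk N _ h, Nat.cast_one]
      · rw [H12.extendByZero_of_notMem N _ h, Nat.cast_zero]
    exact_mod_cast h2
  have hT : ∀ g : G, p * T g ≤ if g ∈ N then p * Nat.card Q else Nat.card Q := by
    intro g
    have hle : T g ≤ Nat.card Q := by
      rw [Nat.card_eq_fintype_card]; exact Finset.card_le_univ _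
    split_ifs with hg
    · exact Nat.mul_le_mul_left p hle
    let H : Subgroup Q := (N.comap (MulAut.conj g⁻¹).toMonoidHom).comap Q.subtype
    have hTH : T g = Nat.card H := by
      show (Finset.univ.filter fun w : Q => g⁻¹ * (w : G) * g ∈ N).card = _
      rw [← Nat.card_eq_finsetCard]
      exact Nat.card_congr (Equiv.subtypeEquivRight fun w => by
        rw [Finset.mem_filter]
        simp [H, Subgroup.mem_subgroupOf])
    have hne : H ≠ ⊤ := by
      intro htop
      apply hg
      let S : Sylow p G := g⁻¹ • P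
      have hS : (S : Subgroup G) ≤ N := by
        rw [show (S : Subgroup G) = Q.map (MulAut.conj g⁻¹).toMonoidHom from
          Sylow.coe_subgroup_smul .. , Subgroup.map_le_iff_le_comap]
        intro w hw
        exact (Subgroup.mem_top (⟨w, hw⟩ : Q) |> htop.ge :)
      have hSP : (S : Subgroup G) = Q := by
        have hQn : (Q.subgroupOf N).Normal := Subgroup.normal_in_normalizer
        have hP' : IsPGroup p (Q.subgroupOf N) := P.2.comap_subtype
        have hsup : IsPGroup p ((S : Subgroup G).subgroupOf N ⊔ Q.subgroupOf N : Subgroup N) :=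
          IsPGroup.to_sup_of_normal_right (S.2.comap_subtype) hP'
        have hmap := hsup.map N.subtype
        rw [Subgroup.map_sup, Subgroup.map_subgroupOf_eq_of_le hS,
          Subgroup.map_subgroupOf_eq_of_le Subgroup.le_normalizer] at hmap
        have h1 := S.3 hmap le_sup_left
        have h2 := P.3 hmap le_sup_right
        exact h1.symm.trans h2
      have hfix : g⁻¹ • P = P := Sylow.ext hSP
      exact inv_mem_iff.1 (Sylow.smul_eq_iff_mem_normalizer.1 hfix :)
    have hidx : p ≤ H.index := by
      obtain ⟨k, hk⟩ := (IsPGroup.iff_card.1 P.2 : ∃ n, Nat.card Q = p ^ n)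
      have hd := H.index_dvd_card
      rw [hk] at hd
      obtain ⟨j, -, hj⟩ := (Nat.dvd_prime_pow hp).1 hd
      rcases j with - | j
      · exact absurd (Subgroup.index_eq_one.1 hj) hne
      · rw [hj]; exact Nat.le_self_pow j.succ_ne_zero p
    rw [hTH, ← H.card_mul_index, mul_comm]
    exact Nat.mul_le_mul_left _ hidx
  have hlow : p * O + 1 ≤ p + N.index := by
    have h1 := Finset.sum_le_sum (s := Finset.univ) fun g _ => hT g
    rw [← Finset.mul_sum, ← hsum, Finset.sum_ite, Finset.sum_const, Finset.sum_const, smul_eq_mul,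
      smul_eq_mul] at h1
    have hin : (Finset.univ.filter fun g : G => g ∈ N).card = Nat.card N := by
      rw [Nat.card_eq_fintype_card, Fintype.card_subtype]
    have hout : (Finset.univ.filter fun g : G => g ∉ N).card + Nat.card N = Nat.card N * N.index := by
      rw [N.card_mul_index, ← hin, add_comm, Finset.card_filter_add_card_filter_not,
        Finset.card_univ, Nat.card_eq_fintype_card]
    rw [hin] at h1
    have hQN0 : 0 < Nat.card Q * Nat.card N := Nat.mul_pos Nat.card_pos Nat.card_pos
    refine Nat.le_of_mul_le_mul_left ?_ hQN0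
    calc Nat.card Q * Nat.card N * (p * O + 1)
        = p * (O * Nat.card Q * Nat.card N) + Nat.card Q * Nat.card N := by ring
      _ ≤ Nat.card N * (p * Nat.card Q) +
          (Finset.univ.filter fun g : G => g ∉ N).card * Nat.card Q + Nat.card Q * Nat.card N := by
            omega
      _ = Nat.card N * (p * Nat.card Q) +
          ((Finset.univ.filter fun g : G => g ∉ N).card + Nat.card N) * Nat.card Q := by ring
      _ = _ := by rw [hout]; ring
  have hidx : N.index = 1 := by
    have h1 : N.index ≠ 0 := Subgroup.index_ne_zero_of_finite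
    have h2 := hp.two_le
    have h4 : (p - 1) * O + O = p * O := by
      nth_rewrite 2 [← Nat.one_mul O]; rw [← Nat.add_mul]; congr 1; omega
    have h5 : O ≤ 1 := by omega
    interval_cases O <;> omega
  exact Subgroup.index_eq_one.1 hidx

end H17.SmallDegrees
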