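import Cfsg.Agent.H89.Orbit.Bounds

/-!
Orders of solvable linear groups on modules of order 9, 16 and 64, and of primitive solvable
permutation groups.
-/

set_option autoImplicit false
set_option linter.style.haveILetI false
set_option linter.unusedSectionVars false

namespace H17.SmallOrders

open MulAction
open H35.OddBase (IsCR)
open scoped commutatorElement

theorem exists_toGL_aux {X N : Type} [Group X] [Finite X] [AddCommGroup N] [Finite N]
    [DistribMulAction X N] [FaithfulSMul X N] {p : ℕ} [Fact p.Prime] [Module (ZMod p) N]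
    {k : ℕ} (hk : Nat.card N = p ^ k) :
    ∃ f : X →* GL (Fin k) (ZMod p), Function.Injective f := by
  classical
  haveI : SMulCommClass X (ZMod p) N :=
    ⟨fun g c x => ZMod.map_smul (DistribSMul.toAddMonoidHom N g) c x⟩
  haveI := Fintype.ofFinite N
  haveI : Module.Finite (ZMod p) N := Module.Finite.of_finite
  have hfr : Module.finrank (ZMod p) N = k := by
    have h := Module.card_eq_pow_finrank (K := ZMod p) (V := N)
    rw [← Nat.card_eq_fintype_card, hk, ZMod.card] at h
    exact (Nat.pow_right_injective (Fact.out (p := p.Prime)).two_le h).symm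
  let b := Module.finBasisOfFinrankEq (ZMod p) N hfr
  let e : (Module.End (ZMod p) N) ≃* Matrix (Fin k) (Fin k) (ZMod p) :=
    (LinearMap.toMatrixAlgEquiv b).toMulEquiv
  refine ⟨((e.toMonoidHom).comp (DistribMulAction.toModuleEnd (ZMod p) N)).toHomUnits,
    fun x y h => ?_⟩
  have h2 : DistribMulAction.toModuleEnd (ZMod p) N x = DistribMulAction.toModuleEnd (ZMod p) N y :=
    e.injective (congrArg Units.val h)
  exact eq_of_smul_eq_smul fun v => LinearMap.congr_fun h2 v

/-- A faithful group on an elementary abelian group is a linear group. -/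
theorem exists_toGL {X N : Type} [Group X] [Finite X] [AddCommGroup N] [Finite N]
    [DistribMulAction X N] [FaithfulSMul X N] {p : ℕ} [Fact p.Prime] {k : ℕ}
    (hexp : ∀ v : N, p • v = 0) (hk : Nat.card N = p ^ k) :
    ∃ f : X →* GL (Fin k) (ZMod p), Function.Injective f := by
  letI : Module (ZMod p) N := AddCommGroup.zmodModule hexp
  exact exists_toGL_aux hk

/-- A diagonal element of `GL₂(3)`. -/
def dThree : GL (Fin 2) (ZMod 3) := ⟨!![2, 0; 0, 1], !![2, 0; 0, 1], by decide, by decide⟩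

/-- An upper unitriangular element of `GL₂(3)`. -/
def uThree : GL (Fin 2) (ZMod 3) := ⟨!![1, 1; 0, 1], !![1, 2; 0, 1], by decide, by decide⟩

/-- A lower unitriangular element of `GL₂(3)`. -/
def lThree : GL (Fin 2) (ZMod 3) := ⟨!![1, 0; 1, 1], !![1, 0; 2, 1], by decide, by decide⟩

theorem comm_du : ⁅dThree, uThree⁆ = uThree := Units.ext (by decide +kernel)

theorem comm_dl : ⁅dThree, lThree⁆ = lThree := Units.ext (by decide +kernel)

theorem comm_comm_ne : ⁅⁅uThree, lThree⁆, ⁅uThree * uThree, lThree⁆⁆ ≠ 1 := fun h =>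
  absurd (congrArg Units.val h) (by decide +kernel)

/-- An elementary transvection of `GL₃(2)`. -/
def el (i j : Fin 3) : GL (Fin 3) (ZMod 2) :=
  if h : i = j then 1 else
    ⟨Matrix.transvection i j 1, Matrix.transvection i j 1,
      by rw [Matrix.transvection_mul_transvection_same _ _ h,
        show (1 : ZMod 2) + 1 = 0 from by decide, Matrix.transvection_zero],
      by rw [Matrix.transvection_mul_transvection_same _ _ h,
        show (1 : ZMod 2) + 1 = 0 from by decide, Matrix.transvection_zero]⟩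

theorem el_comm : ∀ i j k : Fin 3, i ≠ j → j ≠ k → i ≠ k → ⁅el i j, el j k⁆ = el i k := by
  intro i j k h1 h2 h3
  apply Units.ext
  simp only [el, dif_neg h1, dif_neg h2, dif_neg h3]
  revert h3 h2 h1 k j i
  decide +kernel

theorem el_ne : el 0 1 ≠ 1 := fun h => absurd (congrArg Units.val h) (by decide +kernel)

/-! ### Order nine -/

/-- A solvable group of derived length three on a module of order nine. -/
theorem card_le_24 {G N : Type} [Group G] [Finite G] [AddCommGroup N] [Finite N]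
    [DistribMulAction G N] [FaithfulSMul G N] (hexp : ∀ x : N, 3 • x = 0) (hN : Nat.card N = 9)
    (h : derivedSeries G 3 = ⊥) : Nat.card G ≤ 24 := by
  haveI : Fact (Nat.Prime 3) := ⟨Nat.prime_three⟩
  obtain ⟨f, hf⟩ := exists_toGL (X := G) hexp (k := 2) (hN.trans (by norm_num))
  have hGL : Nat.card (GL (Fin 2) (ZMod 3)) = 48 := by
    rw [Matrix.card_GL_field, ZMod.card]; simp [Fin.prod_univ_two]
  have hd : Nat.card G ∣ 48 := by
    rw [← hGL, Nat.card_congr (MonoidHom.ofInjective hf).toEquiv]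
    exact Subgroup.card_subgroup_dvd_card _
  by_contra hlt
  have h48 : Nat.card G = 48 := by
    obtain ⟨c, hc⟩ := hd
    rcases (show c = 0 ∨ c = 1 ∨ 2 ≤ c by omega) with rfl | rfl | hc2
    · omega
    · omega
    · exact absurd (show Nat.card G * 2 ≤ 48 from hc ▸ Nat.mul_le_mul_left _ hc2) (by omega)
  have hsur : Function.Surjective f :=
    ((Nat.bijective_iff_injective_and_card f).2 ⟨hf, h48.trans hGL.symm⟩).2
  have h3 : derivedSeries (GL (Fin 2) (ZMod 3)) 3 = ⊥ := by
    rw [← map_derivedSeries_eq hsur, h, Subgroup.map_bot]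
  have hgen : ∀ a b : GL (Fin 2) (ZMod 3), ⁅a, b⁆ ∈ derivedSeries (GL (Fin 2) (ZMod 3)) 1 := by
    intro a b
    rw [derivedSeries_succ, derivedSeries_zero]
    exact Subgroup.commutator_mem_commutator (Subgroup.mem_top _) (Subgroup.mem_top _)
  have hU : uThree ∈ derivedSeries (GL (Fin 2) (ZMod 3)) 1 := comm_du ▸ hgen dThree uThree
  have hL : lThree ∈ derivedSeries (GL (Fin 2) (ZMod 3)) 1 := comm_dl ▸ hgen dThree lThree
  have h2 : ∀ a ∈ derivedSeries (GL (Fin 2) (ZMod 3)) 1,
      ∀ b ∈ derivedSeries (GL (Fin 2) (ZMod 3)) 1,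
      ⁅a, b⁆ ∈ derivedSeries (GL (Fin 2) (ZMod 3)) 2 := fun a ha b hb => by
    rw [derivedSeries_succ _ 1]; exact Subgroup.commutator_mem_commutator ha hb
  have h1 : ⁅⁅uThree, lThree⁆, ⁅uThree * uThree, lThree⁆⁆ ∈ derivedSeries (GL (Fin 2) (ZMod 3)) 3 := by
    rw [derivedSeries_succ _ 2]
    exact Subgroup.commutator_mem_commutator (h2 _ hU _ hL) (h2 _ (mul_mem hU hU) _ hL)
  rw [h3, Subgroup.mem_bot] at h1
  exact comm_comm_ne h1

/-! ### Invariant summands -/

/-- The image on an invariant subgroup. -/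
theorem exists_image {G N : Type} [Group G] [Finite G] [AddCommGroup N] [Finite N]
    [DistribMulAction G N] (U : AddSubgroup N) (hU : ∀ g : G, ∀ v ∈ U, g • v ∈ U) :
    ∃ (H : Type) (_ : Group H) (_ : Finite H) (_ : DistribMulAction H ↥U) (f : G →* H),
      FaithfulSMul H ↥U ∧ Function.Surjective f ∧
        ∀ (g : G) (u : ↥U), ((f g • u : ↥U) : N) = g • (u : N) := by
  letI := H89.Orbit.subAct U hU
  let f : G →* Equiv.Perm ↥U := MulAction.toPermHom G ↥U
  letI : DistribMulAction ↥f.range ↥U :=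
    { smul := fun u x => (u : Equiv.Perm ↥U) x
      one_smul := fun x => rfl
      mul_smul := fun u w x => rfl
      smul_zero := fun u => by
        obtain ⟨g, hg⟩ := u.2
        show (u : Equiv.Perm ↥U) 0 = 0
        rw [← hg]; exact smul_zero g
      smul_add := fun u x y => by
        obtain ⟨g, hg⟩ := u.2
        show (u : Equiv.Perm ↥U) (x + y) = (u : Equiv.Perm ↥U) x + (u : Equiv.Perm ↥U) y
        rw [← hg]; exact smul_add g x y }
  exact ⟨↥f.range, inferInstance, inferInstance, inferInstance, f.rangeRestrict,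
    ⟨fun {a b} h => Subtype.ext (Equiv.ext h)⟩, f.rangeRestrict_surjective, fun g u => rfl⟩

/-- An order bound from two invariant subgroups spanning the module. -/
theorem card_le_of_split {G N : Type} [Group G] [Finite G] [AddCommGroup N] [Finite N]
    [DistribMulAction G N] [FaithfulSMul G N] (hs : Group.IsSolvable G) (U W : AddSubgroup N)
    (hU : ∀ g : G, ∀ v ∈ U, g • v ∈ U) (hW : ∀ g : G, ∀ v ∈ W, g • v ∈ W) (htop : U ⊔ W = ⊤)
    {a b : ℕ}
    (ha : ∀ (H : Type) [Group H] [Finite H] [DistribMulAction H ↥U] [FaithfulSMul H ↥U],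
      Group.IsSolvable H → Nat.card H ≤ a)
    (hb : ∀ (H : Type) [Group H] [Finite H] [DistribMulAction H ↥W] [FaithfulSMul H ↥W],
      Group.IsSolvable H → Nat.card H ≤ b) :
    Nat.card G ≤ a * b := by
  haveI := hs
  obtain ⟨H, _, _, _, f, hF, hfs, hf⟩ := exists_image U hU
  obtain ⟨H', _, _, _, f', hF', hfs', hf'⟩ := exists_image W hW
  haveI := hF
  haveI := hF'
  have hinj : Function.Injective fun g : G => (f g, f' g) := by
    intro g g' h
    simp only [Prod.mk.injEq] at h
    refine eq_of_smul_eq_smul fun x : N => ?_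
    obtain ⟨u, hu, w, hw, rfl⟩ := AddSubgroup.mem_sup.1 (htop.symm.le (AddSubgroup.mem_top x))
    rw [smul_add, smul_add, ← hf g ⟨u, hu⟩, ← hf g' ⟨u, hu⟩, ← hf' g ⟨w, hw⟩, ← hf' g' ⟨w, hw⟩,
      h.1, h.2]
  have h1 := Nat.card_le_card_of_injective _ hinj
  rw [Nat.card_prod] at h1
  exact h1.trans (Nat.mul_le_mul (ha H (Group.isSolvable_of_surjective hfs))
    (hb H' (Group.isSolvable_of_surjective hfs')))

theorem card_le_one_of_two {H U : Type} [Group H] [Finite H] [AddCommGroup U] [Finite U]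
    [DistribMulAction H U] [FaithfulSMul H U] (hexp : ∀ v : U, 2 • v = 0) (hU : Nat.card U = 2) :
    Nat.card H ≤ 1 := by
  haveI : Fact (Nat.Prime 2) := ⟨Nat.prime_two⟩
  have h := H35.OddBase.card_dvd_GL (X := H) hexp (k := 1) (hU.trans (by norm_num))
  exact Nat.le_of_dvd one_pos (by simpa using h)

theorem card_le_six_of_four {H U : Type} [Group H] [Finite H] [AddCommGroup U] [Finite U]
    [DistribMulAction H U] [FaithfulSMul H U] (hexp : ∀ v : U, 2 • v = 0) (hU : Nat.card U = 4) :
    Nat.card H ≤ 6 := by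
  haveI : Fact (Nat.Prime 2) := ⟨Nat.prime_two⟩
  have h := H35.OddBase.card_dvd_GL (X := H) hexp (k := 2) (hU.trans (by norm_num))
  exact Nat.le_of_dvd (by norm_num) (by simpa [Fin.prod_univ_two] using h)

/-- Solvable groups on a module of order eight. -/
theorem card_le_of_eight {H U : Type} [Group H] [Finite H] [AddCommGroup U] [Finite U]
    [DistribMulAction H U] [FaithfulSMul H U] (hs : Group.IsSolvable H)
    (hexp : ∀ v : U, 2 • v = 0) (hU : Nat.card U = 8) : Nat.card H ≤ 56 := by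
  haveI : Fact (Nat.Prime 2) := ⟨Nat.prime_two⟩
  obtain ⟨f, hf⟩ := exists_toGL (X := H) hexp (k := 3) (hU.trans (by norm_num))
  have hGL : Nat.card (GL (Fin 3) (ZMod 2)) = 168 := by
    rw [Matrix.card_GL_field, ZMod.card]; simp [Fin.prod_univ_three]
  rw [Nat.card_congr (MonoidHom.ofInjective hf).toEquiv]
  have hsR : Group.IsSolvable ↥f.range :=
    haveI := hs
    Group.isSolvable_of_surjective f.rangeRestrict_surjective
  set R := f.range
  have h168 := R.card_mul_index
  rw [hGL] at h168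
  by_contra hlt
  have hidx : R.index ≤ 2 := by nlinarith
  have hidx0 : R.index ≠ 0 := fun h0 => by rw [h0, mul_zero] at h168; norm_num at h168
  have hcomm : ∀ a b : GL (Fin 3) (ZMod 2), ⁅a, b⁆ ∈ R := by
    intro a b
    rcases (show R.index = 1 ∨ R.index = 2 by omega) with h1 | h2
    · rw [Subgroup.index_eq_one.1 h1]; exact Subgroup.mem_top _
    · simp only [commutatorElement_def, Subgroup.mul_mem_iff_of_index_two h2, inv_mem_iff]
      tauto
  have hthird : ∀ i k : Fin 3, i ≠ k → ∃ j, i ≠ j ∧ j ≠ k := by decide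
  have hmem : ∀ n : ℕ, ∀ i k : Fin 3, i ≠ k →
      el i k ∈ (derivedSeries ↥R n).map R.subtype := by
    intro n
    induction n with
    | zero =>
      intro i k hik
      obtain ⟨j, hij, hjk⟩ := hthird i k hik
      rw [derivedSeries_zero, ← MonoidHom.range_eq_map, Subgroup.range_subtype, ← el_comm i j k hij hjk hik]
      exact hcomm _ _
    | succ n ih =>
      intro i k hik
      obtain ⟨j, hij, hjk⟩ := hthird i k hik
      rw [derivedSeries_succ, Subgroup.map_commutator, ← el_comm i j k hij hjk hik]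
      exact Subgroup.commutator_mem_commutator (ih i j hij) (ih j k hjk)
  obtain ⟨n, hn⟩ := (Group.isSolvable_def ↥R).1 hsR
  have h01 := hmem n 0 1 (by decide)
  rw [hn, Subgroup.map_bot, Subgroup.mem_bot] at h01
  exact el_ne h01

/-! ### Order sixteen -/

section Sixteen

variable {G N : Type} [Group G] [Finite G] [AddCommGroup N] [Finite N] [DistribMulAction G N]
  [FaithfulSMul G N]

/-- The fixed points of an element. -/
def fixed (g : G) : AddSubgroup N :=
  (DistribSMul.toAddMonoidHom N g).eqLocus (AddMonoidHom.id N)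

theorem mem_fixed {g : G} {v : N} : v ∈ fixed g ↔ g • v = v := Iff.rfl

theorem mem_fixed_conj {g x : G} {v : N} : g • v ∈ fixed (g * x * g⁻¹) ↔ v ∈ fixed x := by
  rw [mem_fixed, mem_fixed, mul_smul, mul_smul, inv_smul_smul, smul_left_cancel_iff]

theorem eq_one_of_fixed {g : G} (h : Nat.card ↥(fixed (N := N) g) = Nat.card N) : g = 1 :=
  eq_of_smul_eq_smul fun v => by
    rw [one_smul]
    exact mem_fixed.1 ((AddSubgroup.eq_top_of_card_eq (fixed g) h).symm ▸ AddSubgroup.mem_top v)

/-- Invariant subgroups of a fixed-point-free `r`-group have order `1` modulo `r`. -/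
theorem card_invariant {r : ℕ} [Fact r.Prime] (A : Subgroup G) (hA : IsPGroup r ↥A)
    (hfree : ∀ v : N, (∀ a ∈ A, a • v = v) → v = 0) (W : AddSubgroup N)
    (hW : ∀ a ∈ A, ∀ v ∈ W, a • v ∈ W) : Nat.card ↥W ≡ 1 [MOD r] := by
  letI : MulAction ↥A ↥W :=
    { smul := fun a w => ⟨(a : G) • (w : N), hW a a.2 w w.2⟩
      one_smul := fun w => Subtype.ext (one_smul G (w : N))
      mul_smul := fun a b w => Subtype.ext (mul_smul (a : G) (b : G) (w : N)) }
  refine (hA.card_modEq_card_fixedPoints ↥W).trans ?_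
  suffices h : Nat.card (fixedPoints ↥A ↥W) = 1 by rw [h]
  refine Nat.card_eq_one_iff_unique.2 ⟨⟨fun u v => ?_⟩, ⟨0, fun a => Subtype.ext (smul_zero (a : G))⟩⟩
  have h0 : ∀ u : fixedPoints ↥A ↥W, (u.1 : N) = 0 := fun u =>
    hfree _ fun a ha => congrArg Subtype.val (u.2 ⟨a, ha⟩)
  exact Subtype.ext (Subtype.ext ((h0 u).trans (h0 v).symm))

theorem card_prod_of_compl (U W : AddSubgroup N) (hb : U ⊓ W = ⊥) (ht : U ⊔ W = ⊤) :
    Nat.card ↥U * Nat.card ↥W = Nat.card N := by
  rw [← Nat.card_prod]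
  refine Nat.card_eq_of_bijective (fun p : ↥U × ↥W => (p.1 : N) + p.2) ⟨?_, fun x => ?_⟩
  · rintro ⟨a, b⟩ ⟨a', b'⟩ e
    dsimp only at e
    have h : (a : N) - a' = b' - b := by rw [sub_eq_sub_iff_add_eq_add, e, add_comm]
    have h0 : (a : N) - a' = 0 := AddSubgroup.mem_bot.1
      (hb.le ⟨U.sub_mem a.2 a'.2, h ▸ W.sub_mem b'.2 b.2⟩)
    rw [h0, eq_comm, sub_eq_zero] at h
    exact Prod.ext (Subtype.ext (sub_eq_zero.1 h0)) (Subtype.ext h.symm)
  · obtain ⟨u, hu, w, hw, h⟩ := AddSubgroup.mem_sup.1 (ht.symm.le (AddSubgroup.mem_top x))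
    exact ⟨(⟨u, hu⟩, ⟨w, hw⟩), h⟩

theorem card_le_split_sixteen (hs : Group.IsSolvable G) (hexp : ∀ v : N, 2 • v = 0)
    (hN : Nat.card N = 16) (U W : AddSubgroup N) (hU : ∀ g : G, ∀ v ∈ U, g • v ∈ U)
    (hW : ∀ g : G, ∀ v ∈ W, g • v ∈ W) (hb : U ⊓ W = ⊥) (ht : U ⊔ W = ⊤) (hU0 : U ≠ ⊥)
    (hW0 : W ≠ ⊥) : Nat.card G ≤ 56 := by
  have hp := (card_prod_of_compl U W hb ht).trans hN
  have h1 : Nat.card ↥U ≠ 1 := fun h => hU0 (AddSubgroup.eq_bot_of_card_eq U h)
  have h2 : Nat.card ↥W ≠ 1 := fun h => hW0 (AddSubgroup.eq_bot_of_card_eq W h)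
  have e : ∀ (W : AddSubgroup N) (u : ↥W), 2 • u = 0 := fun W u => Subtype.ext (hexp u)
  have hd : Nat.card ↥U ∣ 2 ^ 4 := Dvd.intro _ (hp.trans (by norm_num))
  obtain ⟨i, hi, hi'⟩ := (Nat.dvd_prime_pow Nat.prime_two).1 hd
  rw [hi'] at hp h1
  interval_cases i
  · simp at h1
  · have h8 : Nat.card ↥W = 8 := by omega
    exact (card_le_of_split hs U W hU hW ht (a := 1) (b := 56)
      (fun H _ _ _ _ _ => card_le_one_of_two (e U) hi') fun H _ _ _ _ hsH =>
      card_le_of_eight hsH (e W) h8).trans (by norm_num)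
  · have h4 : Nat.card ↥W = 4 := by omega
    exact (card_le_of_split hs U W hU hW ht (a := 6) (b := 6)
      (fun H _ _ _ _ _ => card_le_six_of_four (e U) hi') fun H _ _ _ _ _ =>
      card_le_six_of_four (e W) h4).trans (by norm_num)
  · have h4 : Nat.card ↥W = 2 := by omega
    exact (card_le_of_split hs U W hU hW ht (a := 56) (b := 1)
      (fun H _ _ _ _ hsH => card_le_of_eight hsH (e U) hi') fun H _ _ _ _ _ =>
      card_le_one_of_two (e W) h4).trans (by norm_num)
  · omega

/-- The case of a normal subgroup of order five. -/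
theorem card_le_five (hN : Nat.card N = 16) (A : Subgroup G) [A.Normal] (hA : Nat.card ↥A = 5)
    (hfree : ∀ v : N, (∀ a ∈ A, a • v = v) → v = 0) : Nat.card G ≤ 60 := by
  classical
  haveI : Fact (Nat.Prime 5) := ⟨by norm_num⟩
  obtain ⟨v, hv⟩ : ∃ v : N, v ≠ 0 :=
    haveI : Nontrivial N := Finite.one_lt_card_iff_nontrivial.1 (by omega)
    exists_ne 0
  obtain ⟨x, hx⟩ : ∃ x : ↥A, x ≠ 1 :=
    haveI : Nontrivial ↥A := Finite.one_lt_card_iff_nontrivial.1 (by omega)
    exists_ne 1
  have hgen : ∀ a : ↥A, a ∈ Subgroup.zpowers x := fun a => mem_zpowers_of_prime_card hA hx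
  let φ : G → {n : N // n ≠ 0} × {a : ↥A // a ≠ 1} := fun g =>
    (⟨g • v, fun h => hv (by rwa [← smul_zero g, smul_left_cancel_iff] at h)⟩,
      ⟨MulAut.conjNormal g x, fun h => hx ((MulEquiv.map_eq_one_iff _).1 h)⟩)
  have hinj : Function.Injective φ := by
    intro g g' h
    simp only [φ, Prod.mk.injEq, Subtype.mk.injEq] at h
    refine inv_mul_eq_one.1 (eq_one_of_fixed (N := N) ?_)
    set c := g⁻¹ * g' with hc
    have hcv : v ∈ fixed c := by rw [mem_fixed, hc, mul_smul, ← h.1, inv_smul_smul]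
    have hcx : c * (x : G) * c⁻¹ = x := by
      have h' := congrArg Subtype.val h.2
      simp only [MulAut.conjNormal_apply] at h'
      calc c * (x : G) * c⁻¹ = g⁻¹ * (g' * x * g'⁻¹) * g := by rw [hc]; group
        _ = g⁻¹ * (g * x * g⁻¹) * g := by rw [h']
        _ = x := by group
    have hinv : ∀ a ∈ A, ∀ w ∈ fixed (N := N) c, a • w ∈ fixed c := by
      intro a ha w hw
      obtain ⟨i, hi⟩ := Subgroup.mem_zpowers_iff.1 (hgen ⟨a, ha⟩)
      have hcomm : Commute c a := by
        have h1 : Commute c (x : G) := mul_inv_eq_iff_eq_mul.1 hcx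
        have h2 := h1.zpow_right i
        rwa [← SubgroupClass.coe_zpow, hi] at h2
      rw [mem_fixed] at hw ⊢
      rw [← mul_smul, hcomm.eq, mul_smul, hw]
    have hmod := card_invariant A (IsPGroup.of_card (n := 1) (by rw [hA, pow_one])) hfree _ hinv
    have h2 : 1 < Nat.card ↥(fixed (N := N) c) :=
      Finite.one_lt_card_iff_nontrivial.2 ⟨⟨⟨v, hcv⟩, 0, fun h => hv (congrArg Subtype.val h)⟩⟩
    obtain ⟨i, hi, hi'⟩ := (Nat.dvd_prime_pow Nat.prime_two).1
      (show Nat.card ↥(fixed (N := N) c) ∣ 2 ^ 4 by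
        rw [show (2 : ℕ) ^ 4 = Nat.card N by rw [hN]; rfl]
        exact (fixed (N := N) c).card_addSubgroup_dvd_card)
    rw [hi'] at hmod h2 ⊢
    rw [hN]
    interval_cases i <;> first | rfl | omega | exact absurd hmod (by decide)
  have h := Nat.card_le_card_of_injective φ hinj
  rw [Nat.card_prod] at h
  have h1 : Nat.card {n : N // n ≠ 0} < 16 := hN ▸ Finite.card_subtype_lt (x := (0 : N)) (by simp)
  have h2 : Nat.card {a : ↥A // a ≠ 1} < 5 := hA ▸ Finite.card_subtype_lt (x := (1 : ↥A)) (by simp)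
  exact h.trans ((Nat.mul_le_mul (show _ ≤ 15 by omega) (show _ ≤ 4 by omega)).trans (by norm_num))

/-- Solvable permutation groups of degree five. -/
theorem card_le_of_perm_five (R : Subgroup (Equiv.Perm (Fin 5))) (hs : Group.IsSolvable ↥R) :
    Nat.card ↥R ≤ 24 := by
  by_contra hlt
  haveI := hs
  have h120 : Nat.card ↥R * R.index = 120 := by
    rw [R.card_mul_index, Nat.card_perm, Nat.card_fin]; rfl
  have hidx : R.index ≤ 4 := by nlinarith
  have hidx0 : R.index ≠ 0 := fun h0 => by rw [h0, mul_zero] at h120; norm_num at h120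
  let A5 : Subgroup (Equiv.Perm (Fin 5)) := alternatingGroup (Fin 5)
  haveI : IsSimpleGroup ↥A5 := alternatingGroup.isSimpleGroup (by simp)
  have hA60 : Nat.card ↥A5 = 60 := by
    rw [show Nat.card ↥A5 = Nat.card (alternatingGroup (Fin 5)) from rfl,
      nat_card_alternatingGroup, Nat.card_fin]
    rfl
  set K := R.subgroupOf A5 with hK
  have hKidx : K.index ≤ 4 := by
    have : R.relIndex A5 ≤ R.index := by
      rw [← R.relIndex_top_right]
      exact Subgroup.relIndex_le_of_le_right le_top (by rw [R.relIndex_top_right]; exact hidx0)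
    exact this.trans hidx
  rcases IsSimpleGroup.eq_bot_or_eq_top_of_normal K.normalCore inferInstance with h | h
  · have h1 : Nat.card ↥A5 ∣ Nat.card (Equiv.Perm (↥A5 ⧸ K)) := by
      refine Subgroup.card_dvd_of_injective (MulAction.toPermHom ↥A5 (↥A5 ⧸ K)) ?_
      rw [← MonoidHom.ker_eq_bot_iff, ← Subgroup.normalCore_eq_ker, h]
    rw [hA60, Nat.card_perm] at h1
    have h2 : (Nat.card (↥A5 ⧸ K)).factorial ∣ (4 : ℕ).factorial := Nat.factorial_dvd_factorial hKidx
    exact absurd (Nat.le_of_dvd (by norm_num) (h1.trans h2)) (by decide)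
  · have hle : A5 ≤ R := fun a ha =>
      (K.normalCore_le (h ▸ Subgroup.mem_top (⟨a, ha⟩ : ↥A5)) : (⟨a, ha⟩ : ↥A5) ∈ K)
    haveI : Group.IsSolvable ↥A5 :=
      Group.isSolvable_of_isSolvable_injective (Subgroup.inclusion_injective hle)
    have hp : Group.IsSolvable (Equiv.Perm (Fin 5)) :=
      haveI : Group.IsSolvable ↥(Equiv.Perm.sign (α := Fin 5)).ker := ‹Group.IsSolvable ↥A5›
      Group.isSolvable_of_ker_le_range ((Equiv.Perm.sign (α := Fin 5)).ker.subtype) Equiv.Perm.sign
        (by rw [Subgroup.range_subtype])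
    exact Equiv.Perm.not_isSolvable_fin_5 hp

/-- The case of a normal subgroup of order three. -/
theorem card_le_three (hs : Group.IsSolvable G) (hexp : ∀ v : N, 2 • v = 0) (hN : Nat.card N = 16)
    (A : Subgroup G) [A.Normal] (hA : Nat.card ↥A = 3)
    (hfree : ∀ v : N, (∀ a ∈ A, a • v = v) → v = 0) : Nat.card G ≤ 72 := by
  classical
  haveI := hs
  haveI : Fact (Nat.Prime 3) := ⟨Nat.prime_three⟩
  haveI : Fintype ↥A := Fintype.ofFinite _
  have hneg : ∀ v : N, -v = v := fun v => neg_eq_of_add_eq_zero_left (by rw [← two_nsmul, hexp])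
  have hsub : ∀ u v : N, u - v = u + v := fun u v => by rw [sub_eq_add_neg, hneg]
  -- the free action
  have hfix : ∀ (a : ↥A) (v : N), v ≠ 0 → (a : G) • v = v → a = 1 := by
    intro a v hv h
    by_contra ha
    refine hv (hfree v fun b hb => ?_)
    obtain ⟨i, hi⟩ := Subgroup.mem_zpowers_iff.1 (mem_zpowers_of_prime_card hA ha :
      (⟨b, hb⟩ : ↥A) ∈ Subgroup.zpowers a)
    have hm : (a : G) ^ i ∈ stabilizer G v := zpow_mem (mem_stabilizer_iff.2 h) i
    rw [← SubgroupClass.coe_zpow, hi] at hm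
    exact hm
  have hcard : Fintype.card ↥A = 3 := Nat.card_eq_fintype_card.symm.trans hA
  -- the line through a vector
  have hline : ∀ (w : N) (a b : ↥A), (a : G) • w + (b : G) • w = 0 ∨
      ∃ c : ↥A, (a : G) • w + (b : G) • w = (c : G) • w := by
    intro w a b
    by_cases hab : a = b
    · left; rw [hab, ← two_nsmul, hexp]
    right
    have hsum : ∑ c : ↥A, (c : G) • w = 0 := hfree _ fun g hg => by
      rw [Finset.smul_sum]
      refine Fintype.sum_equiv (Equiv.mulLeft (⟨g, hg⟩ : ↥A)) _ _ fun c => ?_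
      rw [Equiv.coe_mulLeft, Subgroup.coe_mul, mul_smul]
    obtain ⟨c, hc⟩ := Finset.card_eq_one.1 (show ((Finset.univ.erase a).erase b).card = 1 by
      rw [Finset.card_erase_of_mem (Finset.mem_erase.2 ⟨Ne.symm hab, Finset.mem_univ b⟩),
        Finset.card_erase_of_mem (Finset.mem_univ a), Finset.card_univ, hcard])
    refine ⟨c, ?_⟩
    rw [← Finset.add_sum_erase _ _ (Finset.mem_univ a), ← Finset.add_sum_erase _ _
      (Finset.mem_erase.2 ⟨Ne.symm hab, Finset.mem_univ b⟩), hc, Finset.sum_singleton,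
      ← add_assoc, add_eq_zero_iff_eq_neg, hneg] at hsum
    exact hsum
  let Lw : N → AddSubgroup N := fun w =>
    { carrier := {v | v = 0 ∨ ∃ a : ↥A, (a : G) • w = v}
      zero_mem' := Or.inl rfl
      add_mem' := by
        rintro u v (rfl | ⟨a, rfl⟩) hv
        · rwa [zero_add]
        · rcases hv with rfl | ⟨b, rfl⟩
          · rw [add_zero]; exact Or.inr ⟨a, rfl⟩
          · rcases hline w a b with h | ⟨c, hc⟩
            · exact Or.inl h
            · exact Or.inr ⟨c, hc.symm⟩
      neg_mem' := fun {v} hv => by rwa [hneg] }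
  -- the five lines
  have horb : ∀ (g : G) (v : N), (fun u => g • u) '' orbit ↥A v = orbit ↥A (g • v) := by
    intro g v
    ext u
    constructor
    · rintro ⟨_, ⟨a, rfl⟩, rfl⟩
      exact ⟨⟨g * a * g⁻¹, Subgroup.Normal.conj_mem inferInstance _ a.2 g⟩, by
        show (g * (a : G) * g⁻¹) • g • v = g • (a : G) • v
        rw [← mul_smul, ← mul_smul, inv_mul_cancel_right]⟩
    · rintro ⟨a, rfl⟩
      refine ⟨_, ⟨⟨g⁻¹ * a * g, by
        simpa using Subgroup.Normal.conj_mem (inferInstance : A.Normal) _ a.2 g⁻¹⟩, rfl⟩, ?_⟩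
      show g • (g⁻¹ * (a : G) * g) • v = (a : G) • g • v
      rw [← mul_smul, ← mul_smul, mul_assoc g⁻¹, mul_inv_cancel_left]
  let Ω := {S : Set N // ∃ v : N, v ≠ 0 ∧ S = orbit ↥A v}
  haveI : Finite Ω := Subtype.finite
  letI : MulAction G Ω :=
    { smul := fun g S => ⟨(fun u => g • u) '' S.1, by
        obtain ⟨v, hv, h⟩ := S.2
        exact ⟨g • v, fun h0 => hv (by rwa [← smul_zero g, smul_left_cancel_iff] at h0),
          by rw [h, horb]⟩⟩
      one_smul := fun S => Subtype.ext (by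
        show (fun u => (1 : G) • u) '' S.1 = S.1
        simp)
      mul_smul := fun g h S => Subtype.ext (by
        show (fun u => (g * h) • u) '' S.1 = (fun u => g • u) '' ((fun u => h • u) '' S.1)
        rw [Set.image_image]; simp only [mul_smul]) }
  have hΩ : Nat.card Ω = 5 := by
    let rep : Ω → N := fun S => Classical.choose S.2
    have hrep : ∀ S : Ω, rep S ≠ 0 ∧ S.1 = orbit ↥A (rep S) := fun S => Classical.choose_spec S.2
    have hb : Function.Bijective fun p : Ω × ↥A => (⟨(p.2 : G) • rep p.1, fun h =>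
        (hrep p.1).1 (by rwa [← smul_zero (p.2 : G), smul_left_cancel_iff] at h)⟩ : {v : N // v ≠ 0}) := by
      constructor
      · rintro ⟨S, a⟩ ⟨S', a'⟩ h
        have h' : a • rep S = a' • rep S' := congrArg Subtype.val h
        have hS : S = S' := Subtype.ext (by
          rw [(hrep S).2, (hrep S').2, ← orbit_smul a, h', orbit_smul])
        subst hS
        have h1 : ((a'⁻¹ * a : ↥A) : G) • rep S = rep S := by
          show (a'⁻¹ * a) • rep S = rep S
          rw [mul_smul, h', inv_smul_smul]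
        rw [inv_mul_eq_one.1 (hfix _ _ (hrep S).1 h1)]
      · rintro ⟨v, hv⟩
        let S : Ω := ⟨orbit ↥A v, v, hv, rfl⟩
        obtain ⟨a, ha⟩ : v ∈ orbit ↥A (rep S) := (hrep S).2 ▸ mem_orbit_self v
        exact ⟨(S, a), Subtype.ext ha⟩
    have h := Nat.card_eq_of_bijective _ hb
    rw [Nat.card_prod, hA] at h
    have h15 : Nat.card {v : N // v ≠ 0} = 15 := by
      have h' := Nat.card_congr (Equiv.sumCompl fun v : N => v = 0)
      rw [Nat.card_sum, hN, Nat.card_unique] at h'
      change 1 + Nat.card {v : N // v ≠ 0} = 16 at h'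
      omega
    rw [h15] at h
    omega
  let f : G →* Equiv.Perm Ω := MulAction.toPermHom G Ω
  have hker : f.ker ≤ A := by
    intro k hk
    have hk' : ∀ v : N, v ≠ 0 → ∃ a : ↥A, (a : G) • v = k • v := fun v hv => by
      have h1 : k • (⟨orbit ↥A v, v, hv, rfl⟩ : Ω) = ⟨orbit ↥A v, v, hv, rfl⟩ :=
        DFunLike.congr_fun (MonoidHom.mem_ker.1 hk) _
      have h1' : (fun u => k • u) '' orbit ↥A v = orbit ↥A v := congrArg Subtype.val h1
      have h2 : k • v ∈ orbit ↥A v := h1'.subset ⟨v, mem_orbit_self v, rfl⟩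
      exact h2
    obtain ⟨v₀, hv₀⟩ : ∃ v : N, v ≠ 0 :=
      haveI : Nontrivial N := Finite.one_lt_card_iff_nontrivial.1 (by omega)
      exists_ne 0
    obtain ⟨a, ha⟩ := hk' v₀ hv₀
    let h := (a : G)⁻¹ * k
    have hh0 : h • v₀ = v₀ := by rw [mul_smul, ← ha, inv_smul_smul]
    have hh : ∀ v : N, v ≠ 0 → ∃ b : ↥A, (b : G) • v = h • v := fun v hv => by
      obtain ⟨b, hb⟩ := hk' v hv
      exact ⟨a⁻¹ * b, by rw [Subgroup.coe_mul, Subgroup.coe_inv, mul_smul, hb, ← mul_smul]⟩
    have hout : ∀ w : N, w ∉ Lw v₀ → h • w = w := by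
      intro w hw
      have hw0 : w ≠ 0 := fun h0 => hw (h0 ▸ zero_mem _)
      obtain ⟨b, hb⟩ := hh w hw0
      have hvw : v₀ + w ≠ 0 := fun h0 => hw (by
        rw [add_eq_zero_iff_eq_neg, hneg] at h0
        exact Or.inr ⟨1, by rw [Subgroup.coe_one, one_smul, h0]⟩)
      obtain ⟨c, hc⟩ := hh (v₀ + w) hvw
      rw [smul_add, smul_add, hh0, ← hb] at hc
      by_cases hc1 : c = 1
      · rw [hc1, Subgroup.coe_one, one_smul, one_smul, add_right_inj] at hc
        exact hb.symm.trans hc.symm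
      exfalso
      have hmem : (c : G) • v₀ + v₀ ∈ Lw w := by
        have h1 : (c : G) • v₀ + v₀ = (c : G) • w + (b : G) • w := by
          rw [← sub_eq_zero, hsub]
          calc (c : G) • v₀ + v₀ + ((c : G) • w + (b : G) • w)
              = ((c : G) • v₀ + (c : G) • w) + (v₀ + (b : G) • w) := by abel
            _ = 0 := by rw [hc, ← two_nsmul, hexp]
        rw [h1]
        exact add_mem (Or.inr ⟨c, rfl⟩) (Or.inr ⟨b, rfl⟩)
      rcases hline v₀ c 1 with h0 | ⟨d, hd⟩
      · rw [Subgroup.coe_one, one_smul, ← hsub, sub_eq_zero] at h0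
        exact hc1 (hfix c v₀ hv₀ h0)
      rw [Subgroup.coe_one, one_smul] at hd
      have h8 : v₀ ∈ Lw w := by
        rcases hd ▸ hmem with h0 | ⟨e, he⟩
        · exact Or.inl (by rwa [smul_eq_zero_iff_eq] at h0)
        · exact Or.inr ⟨d⁻¹ * e, by
            rw [Subgroup.coe_mul, mul_smul, he, Subgroup.coe_inv, inv_smul_smul]⟩
      rcases h8 with h0 | ⟨d, hd⟩
      · exact hv₀ h0
      · exact hw (Or.inr ⟨d⁻¹, by rw [← hd, Subgroup.coe_inv, inv_smul_smul]⟩)
    obtain ⟨u, hu⟩ : ∃ u : N, u ∉ Lw v₀ := by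
      by_contra hall
      push Not at hall
      have hle : Nat.card N ≤ Nat.card (Option ↥A) := by
        refine Nat.card_le_card_of_surjective
          (fun o => o.elim (0 : N) fun a => (a : G) • v₀) fun v => ?_
        rcases hall v with h0 | ⟨d, hd⟩
        · exact ⟨none, h0.symm⟩
        · exact ⟨some d, hd⟩
      rw [Finite.card_option, hN, hA] at hle
      omega
    have hall : ∀ w : N, h • w = w := fun w => by
      by_cases hw : w ∈ Lw v₀
      · have h1 := hout (w + u) fun h => hu (by simpa using (Lw v₀).sub_mem h hw)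
        rw [smul_add, hout u hu] at h1
        exact add_right_cancel h1
      · exact hout w hw
    have h1 : h = 1 := eq_of_smul_eq_smul fun w => (hall w).trans (one_smul G w).symm
    rw [inv_mul_eq_one] at h1
    exact h1 ▸ a.2
  obtain ⟨e⟩ : Nonempty (Ω ≃ Fin 5) := ⟨(Finite.equivFin Ω).trans (finCongr hΩ)⟩
  let f' : G →* Equiv.Perm (Fin 5) := e.permCongrHom.toMonoidHom.comp f
  have hker' : f'.ker ≤ A := fun k hk =>
    hker (MonoidHom.mem_ker.2 (e.permCongrHom.injective (hk.trans (map_one e.permCongrHom).symm)))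
  have h1 := Subgroup.card_mul_index f'.ker
  rw [Subgroup.index_ker] at h1
  rw [← h1]
  calc Nat.card ↥f'.ker * Nat.card ↥f'.range
      ≤ 3 * 24 := Nat.mul_le_mul (hA ▸ Nat.card_le_card_of_injective _
          (Subgroup.inclusion_injective hker'))
        (card_le_of_perm_five _ (Group.isSolvable_of_surjective f'.rangeRestrict_surjective))
    _ = 72 := by norm_num

/-- The case of a normal subgroup of order nine. -/
theorem card_le_nine (hs : Group.IsSolvable G) (hexp : ∀ v : N, 2 • v = 0) (hN : Nat.card N = 16)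
    (A : Subgroup G) [A.Normal] [IsMulCommutative ↥A] (hA : Nat.card ↥A = 9)
    (hA3 : ∀ a ∈ A, a ^ 3 = 1) (hfree : ∀ v : N, (∀ a ∈ A, a • v = v) → v = 0) :
    Nat.card G ≤ 72 := by
  classical
  haveI : Fact (Nat.Prime 3) := ⟨Nat.prime_three⟩
  haveI : Fact (Nat.Prime 2) := ⟨Nat.prime_two⟩
  have hneg : ∀ v : N, -v = v := fun v => neg_eq_of_add_eq_zero_left (by rw [← two_nsmul, hexp])
  have hApg : IsPGroup 3 ↥A := IsPGroup.of_card (n := 2) (by rw [hA]; norm_num)
  have hAc : ∀ a ∈ A, ∀ b ∈ A, a * b = b * a := fun a ha b hb =>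
    congrArg Subtype.val (mul_comm' (⟨a, ha⟩ : ↥A) ⟨b, hb⟩)
  have hsize : ∀ W : AddSubgroup N, (∀ a ∈ A, ∀ v ∈ W, a • v ∈ W) → W ≠ ⊥ → W ≠ ⊤ →
      Nat.card ↥W = 4 := by
    intro W hW h0 h1
    have hmod := card_invariant A hApg hfree W hW
    have h0' : Nat.card ↥W ≠ 1 := fun h => h0 (AddSubgroup.eq_bot_of_card_eq W h)
    have h1' : Nat.card ↥W ≠ 16 := fun h => h1 (AddSubgroup.eq_top_of_card_eq W (h.trans hN.symm))
    obtain ⟨i, hi, hi'⟩ := (Nat.dvd_prime_pow Nat.prime_two).1
      (show Nat.card ↥W ∣ 2 ^ 4 by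
        rw [show (2 : ℕ) ^ 4 = Nat.card N by rw [hN]; rfl]
        exact W.card_addSubgroup_dvd_card)
    rw [hi'] at hmod h0' h1' ⊢
    interval_cases i <;> first | rfl | omega | exact absurd hmod (by decide)
  have hfixinv : ∀ z ∈ A, ∀ a ∈ A, ∀ v ∈ fixed (N := N) z, a • v ∈ fixed z := by
    intro z hz a ha v hv
    rw [mem_fixed] at hv ⊢
    rw [← mul_smul, hAc z hz a ha, mul_smul, hv]
  have hfixsize : ∀ z ∈ A, z ≠ 1 → fixed (N := N) z ≠ ⊥ → Nat.card ↥(fixed (N := N) z) = 4 :=
    fun z hz h1 h0 => hsize _ (hfixinv z hz) h0 fun h =>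
      h1 (eq_one_of_fixed (N := N) (by rw [h, AddSubgroup.card_top]))
  -- an element with a fixed point
  obtain ⟨x, hxA, hx1, hx0⟩ : ∃ x ∈ A, x ≠ (1 : G) ∧ fixed (N := N) x ≠ ⊥ := by
    by_contra hall
    push Not at hall
    have hfx : ∀ (a b : ↥A) (v : N), v ≠ 0 → (a : G) • v = (b : G) • v → a = b := by
      intro a b v hv h
      refine (inv_mul_eq_one.1 (Subtype.ext ?_)).symm
      by_contra hne
      have h1 : v ∈ fixed ((b⁻¹ * a : ↥A) : G) := by
        rw [mem_fixed, Subgroup.coe_mul, Subgroup.coe_inv, mul_smul, h, inv_smul_smul]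
      rw [hall _ (b⁻¹ * a).2 hne, AddSubgroup.mem_bot] at h1
      exact hv h1
    obtain ⟨v, hv⟩ : ∃ v : N, v ≠ 0 :=
      haveI : Nontrivial N := Finite.one_lt_card_iff_nontrivial.1 (by omega)
      exists_ne 0
    obtain ⟨w, hw, hwv⟩ : ∃ w : N, w ≠ 0 ∧ ∀ a : ↥A, (a : G) • v ≠ w := by
      by_contra h
      push Not at h
      have hle : Nat.card N ≤ Nat.card (Option ↥A) := by
        refine Nat.card_le_card_of_surjective
          (fun o => o.elim (0 : N) fun a => (a : G) • v) fun u => ?_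
        by_cases hu : u = 0
        · exact ⟨none, hu.symm⟩
        · obtain ⟨d, hd⟩ := h u hu
          exact ⟨some d, hd⟩
      rw [Finite.card_option, hN, hA] at hle
      omega
    have hinj : Function.Injective
        (Sum.elim (fun a : ↥A => (a : G) • v) fun a : ↥A => (a : G) • w) := by
      rintro (a | a) (b | b) h <;> simp only [Sum.elim_inl, Sum.elim_inr] at h
      · rw [hfx a b v hv h]
      · exact absurd (show ((b⁻¹ * a : ↥A) : G) • v = w by
          rw [Subgroup.coe_mul, Subgroup.coe_inv, mul_smul, h, inv_smul_smul]) (hwv _)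
      · exact absurd (show ((a⁻¹ * b : ↥A) : G) • v = w by
          rw [Subgroup.coe_mul, Subgroup.coe_inv, mul_smul, ← h, inv_smul_smul]) (hwv _)
      · rw [hfx a b w hw h]
    have := Nat.card_le_card_of_injective _ hinj
    rw [Nat.card_sum, hA, hN] at this
    omega
  have hx3 : ∀ v : N, x • x • x • v = v := fun v => by
    rw [← mul_smul, ← mul_smul, ← pow_two, ← pow_succ, hA3 x hxA, one_smul]
  set W : AddSubgroup N := fixed x with hWdef
  let W' : AddSubgroup N :=
    { carrier := {v | v + x • v + x • x • v = 0}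
      zero_mem' := by simp
      add_mem' := fun {u v} hu hv => by
        show u + v + x • (u + v) + x • x • (u + v) = 0
        rw [smul_add, smul_add]
        calc u + v + (x • u + x • v) + (x • x • u + x • x • v)
            = (u + x • u + x • x • u) + (v + x • v + x • x • v) := by abel
          _ = 0 := by rw [hu, hv, add_zero]
      neg_mem' := fun {v} hv => by rwa [hneg] }
  have hW'inv : ∀ a ∈ A, ∀ v ∈ W', a • v ∈ W' := by
    intro a ha v hv
    show a • v + x • a • v + x • x • a • v = 0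
    have hc : ∀ u : N, x • a • u = a • x • u := fun u => by
      rw [← mul_smul, hAc x hxA a ha, mul_smul]
    rw [hc, hc, ← smul_add, ← smul_add, show v + x • v + x • x • v = 0 from hv, smul_zero]
  have hbot : W ⊓ W' = ⊥ := (AddSubgroup.eq_bot_iff_forall _).2 fun v ⟨h1, h2⟩ => by
    have h1' : x • v = v := h1
    have h2' : v + x • v + x • x • v = 0 := h2
    rwa [h1', h1', ← two_nsmul, hexp, zero_add] at h2'
  have htop : W ⊔ W' = ⊤ := (AddSubgroup.eq_top_iff' _).2 fun v => by
    refine AddSubgroup.mem_sup.2 ⟨v + x • v + x • x • v, ?_, x • v + x • x • v, ?_, ?_⟩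
    · show x • (v + x • v + x • x • v) = v + x • v + x • x • v
      rw [smul_add, smul_add, hx3]; abel
    · show x • v + x • x • v + x • (x • v + x • x • v) + x • x • (x • v + x • x • v) = 0
      simp only [smul_add, hx3]
      calc x • v + x • x • v + (x • x • v + v) + (v + x • v)
          = 2 • v + 2 • (x • v) + 2 • (x • x • v) := by simp only [two_nsmul]; abel
        _ = 0 := by simp only [hexp, add_zero]
    · calc v + x • v + x • x • v + (x • v + x • x • v)
          = v + (2 • (x • v) + 2 • (x • x • v)) := by simp only [two_nsmul]; abel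
        _ = v := by simp only [hexp, add_zero]
  have hW4 : Nat.card ↥W = 4 := hfixsize x hxA hx1 hx0
  have hW'4 : Nat.card ↥W' = 4 := by
    have h := card_prod_of_compl W W' hbot htop
    rw [hW4, hN] at h
    omega
  have hW'0 : W' ≠ ⊥ := fun h => by rw [h, AddSubgroup.card_bot] at hW'4; omega
  -- the partner element
  obtain ⟨y, hyA, hy1, hyW⟩ : ∃ y ∈ A, y ≠ (1 : G) ∧ fixed (N := N) y = W' := by
    letI : DistribMulAction ↥A N := DistribMulAction.compHom N A.subtype
    obtain ⟨H, _, _, _, f, hF, -, hf⟩ := exists_image (G := ↥A) W' fun a => hW'inv a a.2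
    haveI := hF
    have h6 := card_le_six_of_four (H := H) (fun u : ↥W' => Subtype.ext (hexp u)) hW'4
    obtain ⟨y, hy, hy1⟩ : ∃ y, f y = 1 ∧ y ≠ 1 := by
      by_contra h
      push Not at h
      have := Nat.card_le_card_of_injective f
        ((injective_iff_map_eq_one f).2 h)
      omega
    have hy1' : (y : G) ≠ 1 := fun h => hy1 (Subtype.ext h)
    have hle : W' ≤ fixed (y : G) := fun v hv => by
      show (y : G) • v = v
      have h := hf y ⟨v, hv⟩
      rw [hy, one_smul] at h
      exact h.symm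
    have h4 := hfixsize y y.2 hy1' fun h => hW'0 (le_bot_iff.1 (h ▸ hle))
    exact ⟨y, y.2, hy1', (AddSubgroup.eq_of_le_of_card_ge hle (by omega)).symm⟩
  have hy0 : fixed (N := N) y ≠ ⊥ := hyW ▸ hW'0
  -- minimality of the two parts
  have hmin : ∀ U T : AddSubgroup N, (∀ a ∈ A, ∀ v ∈ U, a • v ∈ U) → (∀ a ∈ A, ∀ v ∈ T, a • v ∈ T) →
      Nat.card ↥U = 4 → U ⊓ T ≠ ⊥ → U ≤ T := by
    intro U T hU hT hU4 hne
    have h4 := hsize (U ⊓ T) (fun a ha v hv => ⟨hU a ha v hv.1, hT a ha v hv.2⟩) hne fun h => by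
      rw [(top_le_iff.1 (h ▸ inf_le_left) : U = ⊤), AddSubgroup.card_top, hN] at hU4
      omega
    exact (AddSubgroup.eq_of_le_of_card_ge inf_le_left (le_of_eq (hU4.trans h4.symm))).ge.trans inf_le_right
  have hpart : ∀ z ∈ A, z ≠ (1 : G) → fixed (N := N) z ≠ ⊥ →
      fixed (N := N) z = W ∨ fixed (N := N) z = W' := by
    intro z hz hz1 hz0
    have h4 := hfixsize z hz hz1 hz0
    obtain ⟨v, hv, hv0⟩ : ∃ v ∈ fixed (N := N) z, v ≠ 0 := by
      by_contra h
      push Not at h
      exact hz0 ((AddSubgroup.eq_bot_iff_forall _).2 h)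
    obtain ⟨a, ha, b, hb, rfl⟩ := AddSubgroup.mem_sup.1 (htop.symm.le (AddSubgroup.mem_top v))
    have hd : z • a - a = b - z • b := by
      have h : z • a + z • b = a + b := (smul_add z a b).symm.trans hv
      rw [sub_eq_sub_iff_add_eq_add, h, add_comm]
    have h0 : z • a - a = 0 := AddSubgroup.mem_bot.1 (hbot.le
      ⟨W.sub_mem (hfixinv x hxA z hz a ha) ha, hd ▸ W'.sub_mem hb (hW'inv z hz b hb)⟩)
    rw [h0, eq_comm, sub_eq_zero] at hd
    by_cases ha0 : a = 0
    · right
      have hne : W' ⊓ fixed z ≠ ⊥ := fun h => by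
        rw [ha0, zero_add] at hv0
        exact hv0 (AddSubgroup.mem_bot.1 (h.le ⟨hb, mem_fixed.2 hd.symm⟩))
      exact (AddSubgroup.eq_of_le_of_card_ge (hmin W' _ hW'inv (hfixinv z hz) hW'4 hne)
        (by omega)).symm
    · left
      have hne : W ⊓ fixed z ≠ ⊥ := fun h =>
        ha0 (AddSubgroup.mem_bot.1 (h.le ⟨ha, mem_fixed.2 (sub_eq_zero.1 h0)⟩))
      exact (AddSubgroup.eq_of_le_of_card_ge (hmin W _ (hfixinv x hxA) (hfixinv z hz) hW4 hne)
        (by omega)).symm
  -- the images of the parts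
  have himg : ∀ (g : G) (z : G), z ∈ A → z ≠ 1 → fixed (N := N) z ≠ ⊥ →
      (∀ v, g • v ∈ W ↔ v ∈ fixed z) ∨ (∀ v, g • v ∈ W' ↔ v ∈ fixed z) := by
    intro g z hz hz1 hz0
    rcases hpart (g * z * g⁻¹) (Subgroup.Normal.conj_mem inferInstance _ hz g)
      (fun h => hz1 (conj_eq_one_iff.1 h))
      (fun h => hz0 ((AddSubgroup.eq_bot_iff_forall _).2 fun v hv => by
        have h' : g • v ∈ fixed (g * z * g⁻¹) := mem_fixed_conj.2 hv
        rw [h, AddSubgroup.mem_bot, smul_eq_zero_iff_eq] at h'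
        exact h')) with h | h
    · exact Or.inl fun v => by rw [← h]; exact mem_fixed_conj
    · exact Or.inr fun v => by rw [← h]; exact mem_fixed_conj
  let H : Subgroup G :=
    { carrier := {g | ∀ v : N, g • v ∈ W ↔ v ∈ W}
      one_mem' := fun v => by rw [one_smul]
      mul_mem' := fun {g h} hg hh v => by rw [mul_smul, hg, hh]
      inv_mem' := fun {g} hg v => by rw [← hg, smul_inv_smul] }
  have hHW' : ∀ g : ↥H, ∀ v ∈ W', (g : G) • v ∈ W' := by
    intro g v hv
    rcases himg g y hyA hy1 hy0 with h | h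
    · exfalso
      have hWW' : W ≤ W' := fun u hu => hyW ▸ (h u).1 ((g.2 u).2 hu)
      rw [inf_eq_left.2 hWW'] at hbot
      exact hx0 hbot
    · exact (h v).2 (hyW.symm ▸ hv)
  have hH : Nat.card ↥H ≤ 36 := by
    letI : DistribMulAction ↥H N := DistribMulAction.compHom N H.subtype
    haveI : FaithfulSMul ↥H N :=
      ⟨fun {a b} h => Subtype.ext (eq_of_smul_eq_smul fun v : N => h v)⟩
    haveI := hs
    exact (card_le_of_split (G := ↥H) inferInstance W W' (fun g v hv => (g.2 v).2 hv) hHW' htop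
      (a := 6) (b := 6)
      (fun K _ _ _ _ _ => card_le_six_of_four (fun u => Subtype.ext (hexp u)) hW4)
      (fun K _ _ _ _ _ => card_le_six_of_four (fun u => Subtype.ext (hexp u)) hW'4)).trans
      (by norm_num)
  -- at most two cosets
  have hout : ∀ g : G, g ∉ H → ∀ v, g • v ∈ W' ↔ v ∈ W := fun g hg =>
    (himg g x hxA hx1 hx0).resolve_left hg
  by_cases hall : ∃ g₀ : G, g₀ ∉ H
  · obtain ⟨g₀, hg₀⟩ := hall
    have hle : Nat.card G ≤ Nat.card (↥H ⊕ ↥H) := by
      refine Nat.card_le_card_of_surjective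
        (Sum.elim (fun h => (h : G)) fun h => g₀ * (h : G)) fun g => ?_
      by_cases hg : g ∈ H
      · exact ⟨Sum.inl ⟨g, hg⟩, rfl⟩
      · refine ⟨Sum.inr ⟨g₀⁻¹ * g, fun v => ?_⟩, ?_⟩
        · rw [← hout g₀ hg₀, mul_smul, smul_inv_smul, hout g hg]
        · show g₀ * (g₀⁻¹ * g) = g
          group
    rw [Nat.card_sum] at hle
    omega
  · push Not at hall
    rw [(Subgroup.eq_top_iff' H).2 hall, Subgroup.card_top] at hH
    omega


/-- Completely reducible solvable groups on a module of order sixteen. -/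
theorem card_le_72 (hs : Group.IsSolvable G) (hcr : IsCR G N) (hN : Nat.card N = 16) :
    Nat.card G ≤ 72 := by
  classical
  haveI : Fact (Nat.Prime 2) := ⟨Nat.prime_two⟩
  have hN4 : Nat.card N = 2 ^ 4 := hN.trans (by norm_num)
  have hexp : ∀ v : N, 2 • v = 0 := hcr.exponent hN4
  by_cases h1 : Nat.card G = 1
  · omega
  haveI : Nontrivial G :=
    Finite.one_lt_card_iff_nontrivial.1 (by have := Nat.card_pos (α := G); omega)
  obtain ⟨M, hM, hM0, hMc⟩ := H21.Base3.exists_abelian_normal hs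
  haveI := hM
  haveI := hMc
  have hMne : Nat.card ↥M ≠ 1 := fun h => hM0 (Subgroup.eq_bot_of_card_eq M h)
  obtain ⟨r, hr, hrM⟩ := Nat.exists_prime_and_dvd hMne
  haveI : Fact r.Prime := ⟨hr⟩
  let A : Subgroup G :=
    { carrier := {m | m ∈ M ∧ m ^ r = 1}
      one_mem' := ⟨M.one_mem, one_pow r⟩
      mul_mem' := fun {a b} ha hb => ⟨M.mul_mem ha.1 hb.1, by
        rw [Commute.mul_pow (show Commute a b from
          congrArg Subtype.val (mul_comm' (⟨a, ha.1⟩ : ↥M) ⟨b, hb.1⟩)), ha.2, hb.2, one_mul]⟩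
      inv_mem' := fun {a} ha => ⟨M.inv_mem ha.1, by rw [inv_pow, ha.2, inv_one]⟩ }
  haveI : A.Normal := ⟨fun a ha g => ⟨hM.conj_mem a ha.1 g, by
    rw [conj_pow, ha.2, mul_one, mul_inv_cancel]⟩⟩
  haveI : IsMulCommutative ↥A := ⟨⟨fun a b => Subtype.ext
    (congrArg Subtype.val (mul_comm' (⟨(a : G), a.2.1⟩ : ↥M) ⟨b, b.2.1⟩) : _)⟩⟩
  have hA0 : A ≠ ⊥ := fun h => by
    obtain ⟨z, hz⟩ := exists_prime_orderOf_dvd_card' r hrM
    have hzA : (z : G) ∈ A :=
      ⟨z.2, by rw [← SubgroupClass.coe_pow, ← hz, pow_orderOf_eq_one]; rfl⟩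
    rw [h, Subgroup.mem_bot] at hzA
    rw [show z = 1 from Subtype.ext hzA, orderOf_one] at hz
    exact hr.ne_one hz.symm
  have hApg : IsPGroup r ↥A := fun a => ⟨1, Subtype.ext (by
    rw [pow_one, SubgroupClass.coe_pow]; exact a.2.2)⟩
  -- the fixed points of `A`
  let U : AddSubgroup N :=
    { carrier := {v | ∀ a ∈ A, a • v = v}
      add_mem' := fun ha hb g hg => by rw [smul_add, ha g hg, hb g hg]
      zero_mem' := fun g _ => smul_zero g
      neg_mem' := fun ha g hg => by rw [smul_neg, ha g hg] }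
  have hU : ∀ g : G, ∀ v ∈ U, g • v ∈ U := fun g v hv a ha => by
    have h := hv (g⁻¹ * a * g) (by
      simpa using (inferInstance : A.Normal).conj_mem a ha g⁻¹)
    rw [mul_smul, mul_smul, inv_smul_eq_iff] at h
    exact h
  by_cases hU0 : U = ⊥
  swap
  · obtain ⟨W, hW, hb, ht⟩ := hcr U hU
    refine (card_le_split_sixteen hs hexp hN U W hU hW hb ht hU0 fun hW0 => ?_).trans (by norm_num)
    rw [hW0, sup_bot_eq] at ht
    exact hA0 ((Subgroup.eq_bot_iff_forall A).2 fun a ha => eq_of_smul_eq_smul fun v : N => by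
      rw [one_smul]
      exact (ht.symm.le (AddSubgroup.mem_top v) : v ∈ U) a ha)
  have hfree : ∀ v : N, (∀ a ∈ A, a • v = v) → v = 0 := fun v hv =>
    AddSubgroup.mem_bot.1 (hU0 ▸ (show v ∈ U from hv))
  have hmod : 16 ≡ 1 [MOD r] := by
    have h := card_invariant A hApg hfree ⊤ fun _ _ _ _ => AddSubgroup.mem_top _
    rwa [AddSubgroup.card_top, hN] at h
  have h15 : r ∣ 15 := (Nat.modEq_iff_dvd' (by norm_num)).1 hmod.symm
  have hd : Nat.card ↥A ∣ 20160 := by
    have h := H35.OddBase.card_dvd_GL (X := G) hexp hN4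
    simp [Fin.prod_univ_succ] at h
    exact (Subgroup.card_subgroup_dvd_card A).trans h
  obtain ⟨i, hi⟩ := IsPGroup.iff_card.1 hApg
  have hi0 : i ≠ 0 := fun h => hA0 (Subgroup.eq_bot_of_card_eq A (by rw [hi, h, pow_zero]))
  have hr35 : r = 3 ∨ r = 5 := by
    have h := Nat.mem_divisors.2 ⟨h15, by norm_num⟩
    rw [show Nat.divisors 15 = {1, 3, 5, 15} by decide] at h
    simp only [Finset.mem_insert, Finset.mem_singleton] at h
    rcases h with rfl | rfl | rfl | rfl
    · exact absurd hr (by norm_num)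
    · exact Or.inl rfl
    · exact Or.inr rfl
    · exact absurd hr (by norm_num)
  rcases hr35 with rfl | rfl
  · have hi2 : i ≤ 2 := by
      by_contra h
      exact absurd ((pow_dvd_pow 3 (show 3 ≤ i by omega)).trans (hi ▸ hd)) (by norm_num)
    interval_cases i
    · exact absurd rfl hi0
    · exact card_le_three hs hexp hN A (hi.trans (pow_one 3)) hfree
    · exact card_le_nine hs hexp hN A (hi.trans (by norm_num)) (fun a ha => ha.2) hfree
  · have hi1 : i = 1 := by
      by_contra h
      exact absurd ((pow_dvd_pow 5 (show 2 ≤ i by omega)).trans (hi ▸ hd)) (by norm_num)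
    subst hi1
    exact (card_le_five hN A (hi.trans (pow_one 5)) hfree).trans (by norm_num)

end Sixteen

/-! ### Two regular orbits on triples -/

/-- A solvable group with a base of size three has two regular orbits on triples. -/
theorem two_mul_card_le_cube {G N : Type} [Group G] [Finite G] [AddCommGroup N] [Finite N]
    [DistribMulAction G N] [FaithfulSMul G N] (hs : Group.IsSolvable G) (t : Fin 3 → N)
    (ht : ∀ g : G, (∀ i, g • t i = t i) → g = 1) :
    Nat.card G = 1 ∨ 2 * Nat.card G ≤ Nat.card N ^ 3 := by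
  classical
  by_cases hall : ∀ i j : Fin 3, i ≠ j →
      ∃ g : G, g • t i = t i + t j ∧ ∀ k, k ≠ i → g • t k = t k
  · left
    choose e he1 he2 using hall
    have huniq : ∀ g g' : G, (∀ i, g • t i = g' • t i) → g = g' := fun g g' h =>
      (inv_mul_eq_one.1 (ht (g⁻¹ * g') fun i => by rw [mul_smul, ← h i, inv_smul_smul]))
    have hcomm : ∀ (i j k : Fin 3) (hij : i ≠ j) (hjk : j ≠ k) (hik : i ≠ k),
        e i k hik = ⁅e j k hjk, e i j hij⁆ := by
      intro i j k hij hjk hik
      have h : e i k hik * (e i j hij * e j k hjk) = e j k hjk * e i j hij := by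
        refine huniq _ _ fun l => ?_
        have hl : l = i ∨ l = j ∨ l = k := by
          revert hij hjk hik
          revert i j k l
          decide
        rcases hl with rfl | rfl | rfl
        · simp only [mul_smul, he1 l j, he2 j k hjk l hij, smul_add, he1 l k,
            he2 l k hik j hij.symm, he1 j k]
          abel
        · simp only [mul_smul, smul_add, he2 i l hij l hij.symm, he2 i k hik l hij.symm,
            he2 i l hij k hik.symm, he2 i k hik k hik.symm, he1 l k]
        · simp only [mul_smul, he2 j l hjk l hjk.symm, he2 i j hij l hik.symm,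
            he2 i l hik l hik.symm]
      rw [commutatorElement_def, ← h]
      group
    obtain ⟨n, hn⟩ := (Group.isSolvable_def G).1 hs
    have hthird : ∀ i k : Fin 3, i ≠ k → ∃ j, i ≠ j ∧ j ≠ k := by decide
    have hmem : ∀ m, ∀ i k : Fin 3, ∀ h : i ≠ k, e i k h ∈ derivedSeries G m := by
      intro m
      induction m with
      | zero => intro i k _; rw [derivedSeries_zero]; exact Subgroup.mem_top _
      | succ m ih =>
        intro i k h
        obtain ⟨j, hij, hjk⟩ := hthird i k h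
        rw [derivedSeries_succ, hcomm i j k hij hjk h]
        exact Subgroup.commutator_mem_commutator (ih j k hjk) (ih i j hij)
    have h0 : ∀ j : Fin 3, t j = 0 := by
      intro j
      obtain ⟨i, hij⟩ := exists_ne j
      have h1 := hmem n i j hij
      rw [hn, Subgroup.mem_bot] at h1
      have h2 := he1 i j hij
      rw [h1, one_smul, left_eq_add] at h2
      exact h2
    haveI : Subsingleton G := ⟨fun g g' => huniq g g' fun i => by rw [h0, smul_zero, smul_zero]⟩
    exact Nat.card_of_subsingleton (1 : G)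
  right
  push Not at hall
  obtain ⟨i, j, hij, hno⟩ := hall
  let s : Fin 3 → N := fun k => if k = i then t i + t j else t k
  have hsreg : ∀ g : G, (∀ k, g • s k = s k) → g = 1 := by
    intro g hg
    have hk : ∀ k, k ≠ i → g • t k = t k := fun k hk => by
      have h := hg k
      simp only [s, if_neg hk] at h
      exact h
    refine ht g fun k => ?_
    by_cases hki : k = i
    · have h := hg i
      simp only [s, if_pos rfl, smul_add, hk j hij.symm, add_left_inj] at h
      rw [hki, h]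
    · exact hk k hki
  have hinj : Function.Injective (Sum.elim (fun g : G => fun k => g • t k) fun g : G => fun k => g • s k) := by
    have hne : ∀ g : G, ¬ ∀ k, g • t k = s k := fun g h => by
      obtain ⟨k, hki, hk⟩ := hno g (by simpa [s] using h i)
      exact hk (by simpa [s, hki] using h k)
    rintro (a | a) (b | b) hab <;> simp only [Sum.elim_inl, Sum.elim_inr] at hab
    · rw [inv_mul_eq_one.1 (ht (b⁻¹ * a) fun k => by
        rw [mul_smul, congrFun hab k, inv_smul_smul])]
    · exact absurd (fun k => by rw [mul_smul, congrFun hab k, inv_smul_smul]) (hne (b⁻¹ * a))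
    · exact absurd (fun k => by rw [mul_smul, ← congrFun hab k, inv_smul_smul]) (hne (a⁻¹ * b))
    · rw [inv_mul_eq_one.1 (hsreg (b⁻¹ * a) fun k => by
        rw [mul_smul, congrFun hab k, inv_smul_smul])]
  have h := Nat.card_le_card_of_injective _ hinj
  rw [Nat.card_sum, Nat.card_fun, Nat.card_fin] at h
  omega

/-- Completely reducible solvable groups on a module of order sixty-four. -/
theorem card_le_160000 {G N : Type} [Group G] [Finite G] [AddCommGroup N] [Finite N]
    [DistribMulAction G N] [FaithfulSMul G N] (hs : Group.IsSolvable G) (hcr : IsCR G N)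
    (hN : Nat.card N = 64) : Nat.card G ≤ 160000 := by
  obtain ⟨a, b, c, h⟩ := H21.Base3.hasTriple_of_solvable H21.Base3.fiveTriples hs hcr
  rcases two_mul_card_le_cube hs ![a, b, c] (fun g hg => eq_of_smul_eq_smul fun x : N => by
      rw [one_smul]; exact h g (hg 0) (hg 1) (hg 2) x) with h1 | h2
  · omega
  · rw [hN] at h2; norm_num at h2; omega

/-! ### Primitive solvable permutation groups -/

/-- The degree and the order of a primitive solvable permutation group. -/
theorem card_top {G X : Type} [Group G] [Finite G] [MulAction G X] [Finite X]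
    [MulAction.IsPretransitive G X] [Nontrivial X] (hs : Group.IsSolvable G) (x0 : X)
    (hmax : ∀ M : Subgroup G, MulAction.stabilizer G x0 < M → M = ⊤) :
    ∃ p k : ℕ, p.Prime ∧ p ^ k = Nat.card X ∧
      Nat.card (MulAction.toPermHom G X).range ∣ p ^ k * ∏ i : Fin k, (p ^ k - p ^ (i : ℕ)) := by
  classical
  haveI := hs
  let P : Subgroup (Equiv.Perm X) := (MulAction.toPermHom G X).range
  have hPs : Group.IsSolvable ↥P :=
    Group.isSolvable_of_surjective (MulAction.toPermHom G X).rangeRestrict_surjective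
  haveI := hPs
  let π : G →* ↥P := (MulAction.toPermHom G X).rangeRestrict
  have hπ : Function.Surjective π := (MulAction.toPermHom G X).rangeRestrict_surjective
  have hπs : ∀ (g : G) (x : X), π g • x = g • x := fun g x => rfl
  haveI : IsPretransitive ↥P X := ⟨fun a b => by
    obtain ⟨g, hg⟩ := exists_smul_eq G a b
    exact ⟨π g, hg⟩⟩
  have hmaxP : ∀ M : Subgroup ↥P, stabilizer ↥P x0 ≤ M → M ≠ stabilizer ↥P x0 → M = ⊤ := by
    intro M hM hne
    have h1 : stabilizer G x0 ≤ M.comap π := fun g hg => hM (show π g • x0 = x0 from hg)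
    have h2 : M.comap π ≠ stabilizer G x0 := fun e => hne (le_antisymm (fun u hu => by
      obtain ⟨g, rfl⟩ := hπ u
      have h3 : g ∈ stabilizer G x0 := e ▸ (show g ∈ M.comap π from hu)
      exact h3) hM)
    rw [← Subgroup.map_comap_eq_self_of_surjective hπ M, hmax _ (lt_of_le_of_ne h1 h2.symm),
      ← MonoidHom.range_eq_map, MonoidHom.range_eq_top.2 hπ]
  haveI : Nontrivial ↥P := by
    obtain ⟨y, hy⟩ := exists_ne x0
    obtain ⟨g, hg⟩ := exists_smul_eq G x0 y
    exact ⟨⟨π g, 1, fun h => hy (by rw [← hg, ← hπs, h, one_smul])⟩⟩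
  obtain ⟨N, hN, hN0, hNc⟩ := H21.Base3.exists_abelian_normal hPs
  have hreg : ∀ N : Subgroup ↥P, N.Normal → N ≠ ⊥ → IsMulCommutative ↥N →
      Function.Bijective fun a : ↥N => (a : ↥P) • x0 := by
    intro N hN hN0 hNc
    haveI := hN
    haveI := hNc
    let M : Subgroup ↥P :=
      { carrier := {u | ∃ a ∈ N, u • x0 = a • x0}
        one_mem' := ⟨1, N.one_mem, rfl⟩
        mul_mem' := by
          rintro u w ⟨a, ha, hua⟩ ⟨b, hb, hwb⟩
          refine ⟨(u * b * u⁻¹) * a, N.mul_mem (hN.conj_mem b hb u) ha, ?_⟩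
          rw [mul_smul, hwb, mul_smul, ← hua, mul_smul, mul_smul, inv_smul_smul]
        inv_mem' := by
          rintro u ⟨a, ha, hua⟩
          refine ⟨u⁻¹ * a⁻¹ * u, by simpa using hN.conj_mem a⁻¹ (N.inv_mem ha) u⁻¹, ?_⟩
          rw [mul_smul, mul_smul, hua, inv_smul_smul] }
    have hHM : stabilizer ↥P x0 ≤ M := fun u hu => ⟨1, N.one_mem, by rw [one_smul]; exact hu⟩
    have hne : M ≠ stabilizer ↥P x0 := fun e => hN0 ((Subgroup.eq_bot_iff_forall _).2 fun a ha =>
      eq_of_smul_eq_smul fun x : X => by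
        obtain ⟨u, rfl⟩ := exists_smul_eq ↥P x0 x
        have hm : u⁻¹ * a * u ∈ M :=
          ⟨_, by simpa using hN.conj_mem a ha u⁻¹, rfl⟩
        rw [e, mem_stabilizer_iff, mul_smul, mul_smul, inv_smul_eq_iff] at hm
        rw [one_smul]
        exact hm)
    have hMtop := hmaxP M hHM hne
    have hsur : ∀ x : X, ∃ a ∈ N, a • x0 = x := fun x => by
      obtain ⟨u, rfl⟩ := exists_smul_eq ↥P x0 x
      obtain ⟨a, ha, h⟩ := (hMtop ▸ Subgroup.mem_top u : u ∈ M)
      exact ⟨a, ha, h.symm⟩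
    refine ⟨fun a b hab => Subtype.ext (eq_of_smul_eq_smul fun x : X => ?_), fun x => ?_⟩
    · obtain ⟨c, hc, rfl⟩ := hsur x
      have hac := congrArg Subtype.val (mul_comm' a (⟨c, hc⟩ : ↥N))
      have hbc := congrArg Subtype.val (mul_comm' b (⟨c, hc⟩ : ↥N))
      simp only [Subgroup.coe_mul] at hac hbc
      rw [← mul_smul, hac, ← mul_smul, hbc, mul_smul, mul_smul]
      exact congrArg (c • ·) hab
    · obtain ⟨a, ha, h⟩ := hsur x
      exact ⟨⟨a, ha⟩, h⟩
  haveI := hN
  haveI := hNc
  have hbij := hreg N hN hN0 hNc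
  have hNX : Nat.card ↥N = Nat.card X := Nat.card_eq_of_bijective _ hbij
  letI : CommGroup ↥N := { (inferInstance : Group ↥N) with mul_comm := fun a b => mul_comm' a b }
  letI : DistribMulAction ↥(stabilizer ↥P x0) (Additive ↥N) :=
    { smul := fun h a => Additive.ofMul (MulAut.conjNormal (h : ↥P) a.toMul)
      one_smul := fun a => by
        show Additive.ofMul (MulAut.conjNormal (1 : ↥P) a.toMul) = a
        rw [map_one]; rfl
      mul_smul := fun g h a => by
        show Additive.ofMul (MulAut.conjNormal ((g : ↥P) * (h : ↥P)) a.toMul) = _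
        rw [map_mul]; rfl
      smul_zero := fun h => by
        show Additive.ofMul (MulAut.conjNormal (h : ↥P) (1 : ↥N)) = _
        rw [map_one]; rfl
      smul_add := fun h a c => by
        show Additive.ofMul (MulAut.conjNormal (h : ↥P) (a.toMul * c.toMul)) = _
        rw [map_mul]; rfl }
  have hconj : ∀ u : ↥P, ∃ h : ↥(stabilizer ↥P x0), ∀ a : Additive ↥N,
      ((h • a).toMul : ↥P) = u * (a.toMul : ↥P) * u⁻¹ := by
    intro u
    obtain ⟨c, hc⟩ := hbij.2 (u • x0)
    refine ⟨⟨(c : ↥P)⁻¹ * u, by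
      show ((c : ↥P)⁻¹ * u) • x0 = x0
      rw [mul_smul, inv_smul_eq_iff]; exact hc.symm⟩, fun a => ?_⟩
    show ((MulAut.conjNormal ((c : ↥P)⁻¹ * u) a.toMul : ↥N) : ↥P) = _
    rw [MulAut.conjNormal_apply]
    have hcomm : (c : ↥P) * (u * (a.toMul : ↥P) * u⁻¹) = (u * (a.toMul : ↥P) * u⁻¹) * c :=
      congrArg Subtype.val (mul_comm' c (⟨_, hN.conj_mem _ a.toMul.2 u⟩ : ↥N))
    calc (c : ↥P)⁻¹ * u * (a.toMul : ↥P) * ((c : ↥P)⁻¹ * u)⁻¹
        = (c : ↥P)⁻¹ * ((u * (a.toMul : ↥P) * u⁻¹) * c) := by group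
      _ = u * (a.toMul : ↥P) * u⁻¹ := by rw [← hcomm, inv_mul_cancel_left]
  haveI : Nontrivial (Additive ↥N) := by
    haveI : Nontrivial ↥N := (Subgroup.nontrivial_iff_ne_bot N).2 hN0
    infer_instance
  have hirr : H35.OddBase.IsIrr ↥(stabilizer ↥P x0) (Additive ↥N) := by
    refine ⟨inferInstance, fun W hW => ?_⟩
    by_cases hW0 : W = ⊥
    · exact Or.inl hW0
    right
    let W' : Subgroup ↥P := (AddSubgroup.toSubgroup' W).map N.subtype
    have hn : W'.Normal := ⟨by
      rintro _ ⟨a, ha, rfl⟩ u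
      obtain ⟨h, hh⟩ := hconj u
      exact ⟨(h • Additive.ofMul a).toMul, hW h (Additive.ofMul a) ha, hh (Additive.ofMul a)⟩⟩
    have h0 : W' ≠ ⊥ := fun h => hW0 <| (AddSubgroup.eq_bot_iff_forall W).2 fun a ha => by
      have : ((a.toMul : ↥N) : ↥P) ∈ W' := ⟨a.toMul, ha, rfl⟩
      rw [h, Subgroup.mem_bot] at this
      exact congrArg Additive.ofMul (Subtype.ext this : a.toMul = 1)
    have hle : W' ≤ N := Subgroup.map_subtype_le _
    have hWc : IsMulCommutative ↥W' := ⟨⟨fun x y => Subtype.ext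
      (congrArg Subtype.val (mul_comm' (⟨(x : ↥P), hle x.2⟩ : ↥N) ⟨y, hle y.2⟩) : _)⟩⟩
    have hall : W' = N := Subgroup.eq_of_le_of_card_ge hle
      ((Nat.card_eq_of_bijective _ (hreg W' hn h0 hWc)).trans hNX.symm).ge
    refine eq_top_iff.2 fun a _ => ?_
    obtain ⟨c, hc, hca⟩ := (hall.symm ▸ (a.toMul).2 : ((a.toMul : ↥N) : ↥P) ∈ W')
    have hca' : c = a.toMul := Subtype.ext hca
    rw [hca'] at hc
    exact hc
  -- exponent
  have hne1 : Nat.card (Additive ↥N) ≠ 1 := (Finite.one_lt_card_iff_nontrivial.2 inferInstance).ne'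
  obtain ⟨p, hp, hpd⟩ := Nat.exists_prime_and_dvd hne1
  haveI : Fact p.Prime := ⟨hp⟩
  obtain ⟨w, hw⟩ := exists_prime_addOrderOf_dvd_card' p hpd
  let U : AddSubgroup (Additive ↥N) := (nsmulAddMonoidHom p : Additive ↥N →+ Additive ↥N).ker
  have hmem : ∀ v, v ∈ U ↔ p • v = 0 := fun v => Iff.rfl
  have hexp : ∀ v : Additive ↥N, p • v = 0 := by
    rcases hirr.2 U (fun g v hv => by rw [hmem] at hv ⊢; rw [smul_comm, hv, smul_zero]) with h | h
    · have : w = 0 := AddSubgroup.mem_bot.1 (h ▸ (hmem w).2 (hw ▸ addOrderOf_nsmul_eq_zero w))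
      rw [this, addOrderOf_zero] at hw
      exact absurd hw.symm hp.ne_one
    · exact fun v => (hmem v).1 (h ▸ AddSubgroup.mem_top v)
  obtain ⟨k, hk⟩ := H89.Orbit.exists_pow_of_exponent hp hexp
  refine ⟨p, k, hp, hk.symm.trans ((Nat.card_congr Additive.toMul).trans hNX), ?_⟩
  haveI : FaithfulSMul ↥(stabilizer ↥P x0) (Additive ↥N) := ⟨fun {g g'} hgg => by
    refine (inv_mul_eq_one.1 (?_ : g'⁻¹ * g = 1)).symm
    set h := g'⁻¹ * g with hh
    have hd : ∀ a : Additive ↥N, h • a = a := fun a => by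
      rw [hh, mul_smul, hgg a, inv_smul_smul]
    refine Subtype.ext (eq_of_smul_eq_smul fun y : X => ?_)
    obtain ⟨a, rfl⟩ := hbij.2 y
    have h1 := congrArg Additive.toMul (hd (Additive.ofMul a))
    have h2 : (h : ↥P) * (a : ↥P) * (h : ↥P)⁻¹ = (a : ↥P) := by
      have := congrArg Subtype.val h1
      rwa [show ((h • Additive.ofMul a).toMul : ↥N) = MulAut.conjNormal (h : ↥P) a from rfl,
        MulAut.conjNormal_apply] at this
    show (h : ↥P) • (a : ↥P) • x0 = (1 : ↥P) • (a : ↥P) • x0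
    rw [one_smul]
    conv_rhs =>
      rw [← h2, mul_smul, mul_smul, inv_smul_eq_iff.2 (show (h : ↥P) • x0 = x0 from h.2).symm]⟩
  have hPcard : Nat.card ↥P = p ^ k * Nat.card ↥(stabilizer ↥P x0) := by
    rw [← Subgroup.index_mul_card (stabilizer ↥P x0), index_stabilizer_of_transitive,
      ← hk, Nat.card_congr Additive.toMul, hNX]
  rw [show Nat.card (MulAction.toPermHom G X).range = Nat.card ↥P from rfl, hPcard]
  exact mul_dvd_mul_left _ (H35.OddBase.card_dvd_GL hexp hk)

end H17.SmallOrders
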