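import Cfsg.Agent.H15.Homogeneous
import Mathlib.GroupTheory.PGroup

/-!
A `p`-element outside the core of a subgroup of a solvable group forces a prime power divisor of
the index congruent to `0` or `1` modulo `p`.
-/

set_option autoImplicit false
set_option linter.unusedSectionVars false

namespace H17.SolvableOrbit

universe u

variable {p : ℕ}

/-- The cosets of `S` in `N ⊔ S` are those of `S ∩ N` in `N`. -/
theorem relIndex_sup {G : Type u} [Group G] (S N : Subgroup G) [N.Normal] :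
    S.relIndex (N ⊔ S) = S.relIndex N := by
  refine (Nat.card_congr (Equiv.ofBijective (Quotient.lift
    (fun n : N => ((Subgroup.inclusion le_sup_left n : (N ⊔ S : Subgroup G)) :
      (N ⊔ S : Subgroup G) ⧸ S.subgroupOf (N ⊔ S))) fun a b h => ?_) ⟨?_, ?_⟩)).symm
  · exact QuotientGroup.eq.2 (Subgroup.mem_subgroupOf.2 (QuotientGroup.leftRel_apply.1 h :
      a⁻¹ * b ∈ S.subgroupOf N))
  · intro a b
    refine Quotient.inductionOn₂ a b fun a b h => ?_
    exact Quotient.sound (QuotientGroup.leftRel_apply.2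
      (Subgroup.mem_subgroupOf.1 (QuotientGroup.eq.1 h) : a⁻¹ * b ∈ S.subgroupOf N))
  · intro c
    obtain ⟨t, rfl⟩ := QuotientGroup.mk_surjective c
    obtain ⟨a, ha, b, hb, hab'⟩ := Subgroup.mem_sup_of_normal_left.1 t.2
    refine ⟨Quotient.mk'' ⟨a, ha⟩, QuotientGroup.eq.2 (Subgroup.mem_subgroupOf.2 ?_)⟩
    show a⁻¹ * (t : G) ∈ S
    rw [← hab', inv_mul_cancel_left]
    exact hb

/-- One layer: a `p`-element of `S` acting nontrivially on the cosets of `S` in `N ⊔ S`, for an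
abelian normal `q`-subgroup `N`. -/
theorem layer {G : Type u} [Group G] [Finite G] (hp : p.Prime) {q : ℕ} (hq : q.Prime) (hqp : q ≠ p)
    (S N : Subgroup G) [hN : N.Normal] (hNq : IsPGroup q N) (hab : ∀ a ∈ N, ∀ b ∈ N, a * b = b * a)
    (x : G) (hxS : x ∈ S) (k : ℕ) (hxk : x ^ (p ^ k) = 1) (n₀ : G) (hn₀ : n₀ ∈ N)
    (hmove : n₀⁻¹ * x * n₀ ∉ S) :
    ∃ Q : ℕ, IsPrimePow Q ∧ Q ∣ S.relIndex (N ⊔ S) ∧ Q ≡ 1 [MOD p] := by
  classical
  have : Fact p.Prime := ⟨hp⟩
  have : Fact q.Prime := ⟨hq⟩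
  set T := N ⊔ S with hT
  set S' : Subgroup T := S.subgroupOf T with hS'
  let xT : T := ⟨x, Subgroup.mem_sup_right hxS⟩
  let ι : N →* T := Subgroup.inclusion le_sup_left
  let base : T ⧸ S' := ((1 : T) : T ⧸ S')
  let φ : N → T ⧸ S' := fun n => (ι n : T ⧸ S')
  have hsurj : Function.Surjective φ := by
    intro c
    obtain ⟨t, rfl⟩ := QuotientGroup.mk_surjective c
    obtain ⟨a, ha, b, hb, hab'⟩ := Subgroup.mem_sup_of_normal_left.1 t.2
    refine ⟨⟨a, ha⟩, QuotientGroup.eq.2 (Subgroup.mem_subgroupOf.2 ?_)⟩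
    show a⁻¹ * (t : G) ∈ S
    rw [← hab', inv_mul_cancel_left]
    exact hb
  -- the commutator map
  have hcm : ∀ n : N, (n : G)⁻¹ * x * n * x⁻¹ ∈ N := fun n => by
    have := N.mul_mem (N.inv_mem n.2) (hN.conj_mem _ n.2 x)
    simpa [mul_assoc] using this
  let cm : N →* N := MonoidHom.mk' (fun n => ⟨_, hcm n⟩) (fun a b => by
    refine Subtype.ext ?_
    show ((a : G) * b)⁻¹ * x * (a * b) * x⁻¹ = _ * _
    have h1 : (b : G)⁻¹ * ((a : G)⁻¹ * x * a * x⁻¹) * b = (a : G)⁻¹ * x * a * x⁻¹ := by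
      rw [mul_assoc, hab _ (hcm a) _ b.2, inv_mul_cancel_left]
    calc ((a : G) * b)⁻¹ * x * (a * b) * x⁻¹
        = ((b : G)⁻¹ * ((a : G)⁻¹ * x * a * x⁻¹) * b) * ((b : G)⁻¹ * x * b * x⁻¹) := by group
      _ = _ := by rw [h1])
  let C : Subgroup N := (S.subgroupOf N).comap cm
  have hC : ∀ n : N, xT • φ n = φ n ↔ n ∈ C := by
    intro n
    show ((xT * ι n : T) : T ⧸ S') = (ι n : T ⧸ S') ↔ (n : G)⁻¹ * x * n * x⁻¹ ∈ S
    rw [eq_comm, QuotientGroup.eq, Subgroup.mem_subgroupOf]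
    show (n : G)⁻¹ * (x * n) ∈ S ↔ _
    rw [← mul_assoc]
    exact (S.mul_mem_cancel_right (S.inv_mem hxS)).symm
  -- sizes
  obtain ⟨i, hi⟩ : ∃ i, Nat.card (T ⧸ S') = q ^ i := by
    have h : Nat.card (T ⧸ S') = ((S.subgroupOf N)).index := relIndex_sup S N
    obtain ⟨i, hi⟩ := hNq.index (S.subgroupOf N)
    exact ⟨i, h.trans hi⟩
  let X : Subgroup T := Subgroup.zpowers xT
  have hX : IsPGroup p X := by
    intro y
    obtain ⟨z, hz⟩ := Subgroup.mem_zpowers_iff.1 y.2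
    refine ⟨k, Subtype.ext ?_⟩
    have hxT : xT ^ (p ^ k) = 1 := Subtype.ext hxk
    rw [Subgroup.coe_pow, ← hz, ← zpow_natCast, zpow_comm, zpow_natCast, hxT, one_zpow,
      Subgroup.coe_one]
  have hfix : MulAction.fixedPoints X (T ⧸ S') = φ '' C := by
    ext c
    constructor
    · intro hc
      obtain ⟨n, rfl⟩ := hsurj c
      exact ⟨n, (hC n).1 (hc ⟨xT, Subgroup.mem_zpowers xT⟩), rfl⟩
    · rintro ⟨n, hn, rfl⟩ ⟨y, hy⟩
      obtain ⟨z, rfl⟩ := Subgroup.mem_zpowers_iff.1 hy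
      exact MulAction.mem_stabilizer_iff.1 (zpow_mem
        (MulAction.mem_stabilizer_iff.2 ((hC n).2 hn) : xT ∈ MulAction.stabilizer T (φ n)) z)
  obtain ⟨j, hj⟩ : ∃ j, Nat.card (MulAction.fixedPoints X (T ⧸ S')) = q ^ j := by
    obtain ⟨j, hj⟩ := (hNq.to_subgroup C).index ((S.subgroupOf N).subgroupOf C)
    refine ⟨j, ?_⟩
    rw [← hj, hfix, Subgroup.index_eq_card]
    refine (Nat.card_congr (Equiv.ofBijective
      (Quotient.lift (fun c : C => (⟨φ c, ⟨c, c.2, rfl⟩⟩ : φ '' (C : Set N))) fun a b h => ?_)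
      ⟨?_, ?_⟩)).symm
    · exact Subtype.ext (QuotientGroup.eq.2 (Subgroup.mem_subgroupOf.2 (QuotientGroup.leftRel_apply.1 h :
        a⁻¹ * b ∈ (S.subgroupOf N).subgroupOf C)))
    · intro a b
      refine Quotient.inductionOn₂ a b fun a b h => ?_
      have h1 : ((ι a : T) : T ⧸ S') = ((ι b : T) : T ⧸ S') := congrArg Subtype.val h
      have h2 : (a : G)⁻¹ * (b : G) ∈ S := Subgroup.mem_subgroupOf.1 (QuotientGroup.eq.1 h1)
      exact Quotient.sound (QuotientGroup.leftRel_apply.2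
        (h2 : a⁻¹ * b ∈ (S.subgroupOf N).subgroupOf C))
    · rintro ⟨_, n, hn, rfl⟩
      exact ⟨Quotient.mk'' (⟨n, hn⟩ : C), rfl⟩
  have hmod := hX.card_modEq_card_fixedPoints (α := T ⧸ S')
  rw [hi, hj] at hmod
  have hlt : j < i := by
    have h : q ^ j < q ^ i := by
      rw [← hi, ← hj]
      refine lt_of_le_of_ne (Nat.card_le_card_of_injective _ Subtype.val_injective) fun he => ?_
      have hbij : Function.Bijective
          (Subtype.val : MulAction.fixedPoints X (T ⧸ S') → T ⧸ S') :=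
        (Nat.bijective_iff_injective_and_card _).2 ⟨Subtype.val_injective, he⟩
      obtain ⟨⟨c, hc⟩, hce⟩ := hbij.2 (φ ⟨n₀, hn₀⟩)
      have := (hC ⟨n₀, hn₀⟩).1 (hce ▸ hc ⟨xT, Subgroup.mem_zpowers xT⟩)
      exact hmove ((S.mul_mem_cancel_right (S.inv_mem hxS)).1 this)
    exact (Nat.pow_lt_pow_iff_right hq.one_lt).1 h
  refine ⟨q ^ (i - j), hq.isPrimePow.pow (by omega), ?_, ?_⟩
  · show q ^ (i - j) ∣ S'.index
    rw [Subgroup.index_eq_card, hi]
    exact pow_dvd_pow q (Nat.sub_le i j)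
  · refine Nat.ModEq.cancel_left_of_coprime (c := q ^ j) ?_ ?_
    · exact Nat.Coprime.pow_right _ ((Nat.coprime_primes hp hq).2 hqp.symm)
    · rw [mul_one, ← pow_add, Nat.add_sub_cancel' hlt.le]
      exact hmod

/-- A `p`-element outside the core of `S` gives a prime power divisor of the index which is
congruent to `0` or `1` modulo `p`. -/
theorem exists_primePow (hp : p.Prime) :
    ∀ {G : Type u} [Group G] [Finite G] [Group.IsSolvable G] (S : Subgroup G) (x : G) (k : ℕ),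
      x ^ (p ^ k) = 1 → x ∉ S.normalCore →
      ∃ Q : ℕ, IsPrimePow Q ∧ Q ∣ S.index ∧ (Q ≡ 0 [MOD p] ∨ Q ≡ 1 [MOD p]) := by
  intro G _ _ _ S
  induction hn : S.index using Nat.strong_induction_on generalizing G with
  | _ m ih => ?_
  intro x k hxk hx
  subst hn
  have : Fact p.Prime := ⟨hp⟩
  by_cases hpd : p ∣ S.index
  · exact ⟨p, hp.isPrimePow, hpd, Or.inl (Nat.modEq_zero_iff_dvd.2 dvd_rfl)⟩
  -- pass to the quotient by the core
  set K := S.normalCore with hK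
  set f := QuotientGroup.mk' K with hf
  have hne : (f x) ≠ 1 := fun h => hx ((QuotientGroup.eq_one_iff x).1 h)
  have : Nontrivial (G ⧸ K) := nontrivial_of_ne _ _ hne
  obtain ⟨A, q, hA, hq, hA0, hAq, hAab, -⟩ :=
    H15.exists_minimal_normal_elementary (G := G ⧸ K)
  have : Fact q.Prime := ⟨hq⟩
  have hker : f.ker ≤ S := (QuotientGroup.ker_mk' K).le.trans S.normalCore_le
  set S₁ := S.map f with hS₁
  have hidx : S₁.index = S.index := by
    rw [hS₁, Subgroup.index_map, sup_of_le_left hker,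
      MonoidHom.range_eq_top.2 (QuotientGroup.mk'_surjective K), Subgroup.index_top, mul_one]
  have hcore : S₁.normalCore = ⊥ := by
    rw [eq_bot_iff]
    intro y hy
    obtain ⟨g, rfl⟩ := QuotientGroup.mk'_surjective K y
    refine (QuotientGroup.eq_one_iff g).2 fun b => ?_
    obtain ⟨s, hs, hse⟩ := hy (f b)
    have h1 : s⁻¹ * (b * g * b⁻¹) ∈ f.ker := by
      rw [MonoidHom.mem_ker, map_mul, map_inv, hse, map_mul, map_mul, map_inv]
      exact inv_mul_cancel _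
    simpa using S.mul_mem hs (hker h1)
  set U := A ⊔ S₁ with hU
  have hS₁U : S₁ ≤ U := le_sup_right
  have hUidx : S₁.relIndex U * U.index = S₁.index := Subgroup.relIndex_mul_index hS₁U
  have hlt : S₁ < U := lt_of_le_of_ne hS₁U fun h => hA0 (le_bot_iff.1 (hcore ▸
    (Subgroup.normal_le_normalCore (H := S₁)).2 (h ▸ le_sup_left)))
  have hxk' : (f x) ^ (p ^ k) = 1 := by rw [← map_pow, hxk, map_one]
  by_cases hxU : f x ∈ U.normalCore
  swap
  · have hlt' : U.index < S.index := hidx ▸ Subgroup.index_strictAnti hlt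
    obtain ⟨Q, hQ1, hQ2, hQ3⟩ := ih _ hlt' U rfl (f x) k hxk' hxU
    exact ⟨Q, hQ1, hQ2.trans (hidx ▸ hUidx ▸ dvd_mul_left _ _), hQ3⟩
  have hAp : IsPGroup q A := fun a => ⟨1, Subtype.ext (by simpa using hAq a a.2)⟩
  have hrel : S₁.relIndex U = S₁.relIndex A := relIndex_sup S₁ A
  obtain ⟨e, he⟩ := hAp.index (S₁.subgroupOf A)
  have hUq : S₁.relIndex U = q ^ e := hrel.trans he
  have he0 : e ≠ 0 := by
    rintro rfl
    rw [pow_zero, Subgroup.relIndex_eq_one] at hUq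
    exact hlt.not_ge hUq
  have hqp : q ≠ p := by
    rintro rfl
    apply hpd
    rw [← hidx, ← hUidx, hUq]
    exact (dvd_pow_self q he0).mul_right _
  -- a conjugate of the element outside `S₁` but inside `U`
  obtain ⟨g, hg⟩ : ∃ g, g * f x * g⁻¹ ∉ S₁ := by
    by_contra h
    simp only [not_exists, not_not] at h
    have : f x ∈ S₁.normalCore := h
    rw [hcore, Subgroup.mem_bot] at this
    exact hne this
  set z := g * f x * g⁻¹ with hz
  have hzU : z ∈ U := hxU g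
  have hzk : z ^ (p ^ k) = 1 := by rw [hz, conj_pow, hxk', mul_one, mul_inv_cancel]
  let zT : U := ⟨z, hzU⟩
  have hZ : IsPGroup p (Subgroup.zpowers zT) := by
    intro y
    obtain ⟨l, hl⟩ := Subgroup.mem_zpowers_iff.1 y.2
    refine ⟨k, Subtype.ext ?_⟩
    have hzT : zT ^ (p ^ k) = 1 := Subtype.ext hzk
    rw [Subgroup.coe_pow, ← hl, ← zpow_natCast, zpow_comm, zpow_natCast, hzT, one_zpow,
      Subgroup.coe_one]
  obtain ⟨c, hc⟩ := hZ.nonempty_fixed_point_of_prime_not_dvd_card (U ⧸ S₁.subgroupOf U) (by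
    rw [← Subgroup.index_eq_card, show (S₁.subgroupOf U).index = q ^ e from hUq]
    exact fun h => hqp ((Nat.prime_dvd_prime_iff_eq hp hq).1 (hp.dvd_of_dvd_pow h)).symm)
  obtain ⟨a, rfl⟩ := QuotientGroup.mk_surjective c
  have hca : a⁻¹ * (zT * a) ∈ S₁.subgroupOf U :=
    QuotientGroup.eq.1 (hc ⟨zT, Subgroup.mem_zpowers zT⟩).symm
  obtain ⟨b, hb, s₁, hs₁, hbs⟩ := Subgroup.mem_sup_of_normal_left.1 (a.2 : (a : G ⧸ K) ∈ A ⊔ S₁)
  set w := b⁻¹ * z * b with hw
  have hwS : w ∈ S₁ := by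
    have h1 : (a : G ⧸ K)⁻¹ * (z * a) ∈ S₁ := hca
    rw [← hbs] at h1
    have h2 := S₁.mul_mem (S₁.mul_mem hs₁ h1) (S₁.inv_mem hs₁)
    rw [hw]
    convert h2 using 1
    group
  have hwk : w ^ (p ^ k) = 1 := by
    have := conj_pow (i := p ^ k) (a := b⁻¹) (b := z)
    rw [inv_inv, hzk, mul_one, inv_mul_cancel] at this
    exact this
  obtain ⟨Q, hQ1, hQ2, hQ3⟩ := layer hp hq hqp S₁ A hAp hAab w hwS k hwk b⁻¹ (A.inv_mem hb) (by
    rw [hw]
    convert hg using 2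
    rw [hz]
    group)
  exact ⟨Q, hQ1, hQ2.trans (hidx ▸ hUidx ▸ dvd_mul_right _ _), Or.inr hQ3⟩

end H17.SolvableOrbit
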