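import Cfsg.Agent.H19.ItoSylow
import Cfsg.Agent.H21.DegreesOneP
import Cfsg.Agent.H1.Fitting
import Cfsg.Agent.H1.CoprimeAction2
import Cfsg.Agent.H4.MinimalNonNilpotent
import Cfsg.Agent.H6.Basic
import Cfsg.Agent.H14.BrauerLocal

/-!
Solvable groups all of whose character degrees are squarefree.
-/

set_option autoImplicit false
set_option linter.unusedSectionVars false
set_option linter.style.haveILetI false

namespace H17.SqFree

open Cfsg
open scoped commutatorElement

variable {G : Type*} [Group G] [Finite G]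

/-- All character degrees are squarefree. -/
def Deg (G : Type*) [Group G] : Prop := ∀ χ : IrrCharacter G, Squarefree (charDegree (χ : G → ℂ))

theorem Deg.normal (h : Deg G) (N : Subgroup G) [N.Normal] : Deg N := by
  classical
  haveI := Fintype.ofFinite G
  haveI := Fintype.ofFinite N
  intro θ
  obtain ⟨χ, hχ⟩ : ∃ χ : IrrCharacter G, classInner (indFun N (θ : N → ℂ)) χ ≠ 0 := by
    by_contra h0
    simp only [not_exists, not_not] at h0
    have h := congrFun (H12.eq_zero_of_classInner_irr_eq_zero (H13.indFun_isClassFunction N _) h0) 1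
    rw [H13.indFun_apply_one, Pi.zero_apply, mul_eq_zero] at h
    rcases h with h | h
    · exact Nat.cast_ne_zero.mpr Subgroup.index_ne_zero_of_finite h
    · exact H12.irr_apply_one_ne_zero θ h
  have hne : classInner (fun n : N => (χ : G → ℂ) n) (θ : N → ℂ) ≠ 0 := by
    rw [H13.classInner_indFun_left N _ (H12.irr_isClassFunction χ)] at hχ
    rw [← H12.conj_classInner]
    simpa using hχ
  obtain ⟨e, he⟩ := H12.IsCharacter.classInner_nat
    (H12.IsCharacter.res (H12.isCharacter_irr χ) N) (H12.isCharacter_irr θ)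
  have hcl := H13.clifford_degree N χ.2 θ.2 hne
  rw [he, H12.irr_apply_one θ, H12.irr_apply_one χ] at hcl
  have h' : H12.degree (χ : G → ℂ) =
      e * (H13.inertia N (θ : N → ℂ)).index * H12.degree (θ : N → ℂ) := by exact_mod_cast hcl
  exact Squarefree.squarefree_of_dvd (Dvd.intro_left _ h'.symm) (h χ)

theorem derived_two_of_pGroup (p : ℕ) [Fact p.Prime] {P : Type*} [Group P] [Finite P] (hP : IsPGroup p P)
    (h : Deg P) : derivedSeries P 2 = ⊥ := by
  classical
  haveI := Fintype.ofFinite P
  have hp : p.Prime := Fact.out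
  have key : ∀ K : Subgroup P, commutator P ≤ K → (∀ a ∈ K, ∀ b ∈ K, a * b = b * a) →
      derivedSeries P 2 = ⊥ := by
    intro K hK hcomm
    rw [derivedSeries_succ, derivedSeries_one, Subgroup.commutator_eq_bot_iff_le_centralizer]
    intro a ha
    rw [Subgroup.mem_centralizer_iff]
    exact fun b hb => hcomm b (hK hb) a (hK ha)
  by_cases hab : ∃ a b : P, a * b ≠ b * a
  swap
  · push Not at hab
    exact key ⊤ le_top fun a _ b _ => hab a b
  have hcd : ∀ χ : IrrCharacter P, charDegree (χ : P → ℂ) = 1 ∨ charDegree (χ : P → ℂ) = p := by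
    intro χ
    obtain ⟨n, hn⟩ := IsPGroup.iff_card.1 hP
    obtain ⟨j, -, hj⟩ := (Nat.dvd_prime_pow hp).1 (hn ▸ H12.irr_degree_dvd_card χ)
    have hsq := h χ
    change charDegree (χ : P → ℂ) = _ at hj
    rw [hj] at hsq ⊢
    rcases Nat.eq_zero_or_pos j with rfl | hj0
    · exact Or.inl (pow_zero p)
    · rcases eq_or_ne j 1 with rfl | hj1
      · exact Or.inr (pow_one p)
      · exact absurd ((Nat.squarefree_pow_iff hp.ne_one hj0.ne').1 hsq).2 hj1
  rcases H21.structure_one_p hab hcd with ⟨A, hAn, hAc, hAi⟩ | hZ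
  · haveI := hAn
    refine key A ?_ hAc
    haveI : IsCyclic (P ⧸ A) := isCyclic_of_prime_card (p := p) (by rw [← hAi]; rfl)
    letI : CommGroup (P ⧸ A) := IsCyclic.commGroup
    rw [commutator_def, Subgroup.commutator_le]
    intro a _ b _
    rw [← QuotientGroup.eq_one_iff, ← QuotientGroup.mk'_apply, map_commutatorElement,
      commutatorElement_eq_one_iff_commute]
    exact Commute.all _ _
  · -- the centre has index p^3
    set Z := Subgroup.center P
    set π := QuotientGroup.mk' Z
    have hPq : IsPGroup p (P ⧸ Z) := hP.to_quotient Z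
    have hcard : Nat.card (P ⧸ Z) = p ^ 3 := hZ
    haveI : Nontrivial (P ⧸ Z) := Finite.one_lt_card_iff_nontrivial.1 (by rw [hcard]; exact Nat.one_lt_pow (by norm_num) hp.one_lt)
    set Z2 := Subgroup.center (P ⧸ Z)
    -- the derived group of the quotient is cyclic
    have hcyc : ∃ c : P ⧸ Z, commutator (P ⧸ Z) ≤ Subgroup.zpowers c := by
      obtain ⟨k, hk⟩ := IsPGroup.iff_card.1 (hPq.to_subgroup Z2)
      have hk1 : 1 ≤ k := by
        rcases Nat.eq_zero_or_pos k with rfl | h
        · exfalso
          haveI := hPq.center_nontrivial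
          rw [pow_zero] at hk
          exact (Finite.one_lt_card_iff_nontrivial.2 ‹Nontrivial Z2›).ne' hk
        · exact h
      have hdiv := Subgroup.card_eq_card_quotient_mul_card_subgroup Z2
      rw [hcard, hk] at hdiv
      rcases Nat.lt_or_ge k 2 with hlt | hge
      · -- centre of order p, quotient of order p^2
        obtain rfl : k = 1 := by omega
        have hq : Nat.card ((P ⧸ Z) ⧸ Z2) = p ^ 2 := by
          rw [show p ^ 3 = p ^ 2 * p ^ 1 by ring] at hdiv
          exact (Nat.eq_of_mul_eq_mul_right (pow_pos hp.pos 1) hdiv).symm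
        haveI : IsMulCommutative ((P ⧸ Z) ⧸ Z2) := IsPGroup.isMulCommutative_of_card_eq_prime_sq hq
        haveI : IsCyclic Z2 := isCyclic_of_prime_card (p := p) (by rw [hk, pow_one])
        obtain ⟨c, hc⟩ := IsCyclic.exists_generator (α := Z2)
        refine ⟨c, le_trans ?_ (fun x hx => ?_ : Z2 ≤ Subgroup.zpowers (c : P ⧸ Z))⟩
        · rw [commutator_def, Subgroup.commutator_le]
          intro a _ b _
          rw [← QuotientGroup.eq_one_iff, ← QuotientGroup.mk'_apply, map_commutatorElement,
            commutatorElement_eq_one_iff_commute]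
          exact IsMulCommutative.is_comm.comm _ _
        · obtain ⟨i, hi⟩ := Subgroup.mem_zpowers_iff.1 (hc ⟨x, hx⟩)
          exact Subgroup.mem_zpowers_iff.2 ⟨i, by simpa using congrArg Subtype.val hi⟩
      · -- the quotient by the centre is cyclic
        refine ⟨1, ?_⟩
        haveI : IsCyclic ((P ⧸ Z) ⧸ Z2) := by
          obtain ⟨i, hi⟩ := IsPGroup.iff_card.1 (hPq.to_quotient Z2)
          rw [hi, ← pow_add] at hdiv
          have := Nat.pow_right_injective hp.two_le hdiv
          rcases Nat.eq_zero_or_pos i with rfl | h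
          · haveI : Subsingleton ((P ⧸ Z) ⧸ Z2) := (Nat.card_eq_one_iff_unique.1 (by rw [hi, pow_zero])).1
            exact isCyclic_of_subsingleton
          · obtain rfl : i = 1 := by omega
            exact isCyclic_of_prime_card (p := p) (by rw [hi, pow_one])
        rw [Subgroup.zpowers_one_eq_bot, le_bot_iff, commutator_eq_bot_iff_center_eq_top, eq_top_iff]
        intro x _
        exact Subgroup.mem_center_iff.2 fun y =>
          commutative_of_cyclic_center_quotient (QuotientGroup.mk' Z2) (by rw [QuotientGroup.ker_mk']) y x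
    obtain ⟨c, hc⟩ := hcyc
    obtain ⟨c₀, rfl⟩ := QuotientGroup.mk_surjective c
    refine key (Subgroup.zpowers c₀ ⊔ Z) ?_ ?_
    · intro x hx
      have : π x ∈ commutator (P ⧸ Z) := by
        have h := Subgroup.mem_map_of_mem π hx
        rwa [commutator_def, Subgroup.map_commutator, Subgroup.map_top_of_surjective _
          (QuotientGroup.mk'_surjective Z), ← commutator_def] at h
      obtain ⟨i, hi⟩ := Subgroup.mem_zpowers_iff.1 (hc this)
      have : (c₀ ^ i)⁻¹ * x ∈ Z := QuotientGroup.eq.1 hi
      exact Subgroup.mem_sup_of_normal_right.2 ⟨c₀ ^ i, ⟨i, rfl⟩, _, this, by group⟩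
    · intro a ha b hb
      obtain ⟨a₁, ⟨i, rfl⟩, a₂, ha₂, rfl⟩ := Subgroup.mem_sup_of_normal_right.1 ha
      obtain ⟨b₁, ⟨j, rfl⟩, b₂, hb₂, rfl⟩ := Subgroup.mem_sup_of_normal_right.1 hb
      have e1 : Commute a₂ (c₀ ^ j * b₂) := fun_comm ha₂ _
      have e2 : Commute (c₀ ^ i) b₂ := (fun_comm hb₂ _).symm
      exact (Commute.mul_left (((Commute.refl c₀).zpow_zpow i j).mul_right e2) e1).eq
where
  fun_comm {P : Type _} [Group P] {z : P} (hz : z ∈ Subgroup.center P) (g : P) : Commute z g :=
    (Subgroup.mem_center_iff.1 hz g).symm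

/-- The kernel of a coprime action with orbits of size at most `p`. -/
theorem index_le_of_orbits (p : ℕ) [Fact p.Prime] {P A : Type*} [Group P] [Finite P] (hP : IsPGroup p P)
    [CommGroup A] [Finite A] [MulDistribMulAction P A] (hcop : (Nat.card A).Coprime p)
    (horb : ∀ a : A, (MulAction.stabilizer P a).index ≤ p) :
    ∃ K : Subgroup P, K.index ≤ p ∧ ∀ k ∈ K, ∀ a : A, k • a = a := by
  classical
  haveI := Fintype.ofFinite P
  have hp : p.Prime := Fact.out
  by_cases hall : ∀ (g : P) (a : A), g • a = a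
  · exact ⟨⊤, by rw [Subgroup.index_top]; exact hp.one_le, fun k _ a => hall k a⟩
  push Not at hall
  obtain ⟨g₀, l, hl⟩ := hall
  set M := MulAction.stabilizer P l with hM
  obtain ⟨n, hn⟩ := hP.index M
  have hMi : M.index = p := by
    have h1 : n ≠ 0 := by
      rintro rfl
      rw [pow_zero, Subgroup.index_eq_one] at hn
      refine hl (MulAction.mem_stabilizer_iff.1 ?_)
      show g₀ ∈ M
      rw [hn]
      exact Subgroup.mem_top g₀
    refine le_antisymm (horb l) (hn ▸ ?_)
    exact Nat.le_self_pow h1 p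
  haveI : M.Normal := H6.normal_of_index_eq_prime hP hMi
  refine ⟨M, hMi.le, ?_⟩
  by_contra hcon
  push Not at hcon
  obtain ⟨m₀, hm₀, μ, hμ⟩ := hcon
  have hMc : (Nat.card A).Coprime (Nat.card M) := by
    obtain ⟨j, hj⟩ := IsPGroup.iff_card.1 (hP.to_subgroup M)
    rw [hj]
    exact hcop.pow_right j
  have hroot : ∀ a b : A, a ^ Nat.card M = b ^ Nat.card M → a = b := fun a b h =>
    (powCoprime hMc).injective h
  let N : A → A := fun a => ∏ m : M, (m : P) • a
  have hNfix : ∀ a, ∀ m : P, m ∈ M → m • N a = N a := by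
    intro a m hm
    show m • ∏ x : M, (x : P) • a = _
    rw [Finset.smul_prod']
    exact Fintype.prod_equiv (Equiv.mulLeft ⟨m, hm⟩) _ _ fun x => by
      simp [mul_smul]
  have hNcomm : ∀ a, ∀ g : P, g • N a = N (g • a) := by
    intro a g
    show g • ∏ x : M, (x : P) • a = _
    rw [Finset.smul_prod']
    refine Fintype.prod_equiv (MulAut.conjNormal g : M ≃* M).toEquiv _ _ fun x => ?_
    simp [← mul_smul, MulAut.conjNormal_apply, mul_assoc]
  set μ1 := μ ^ Nat.card M / N μ with hμ1
  have hNmul : ∀ a b, N (a * b) = N a * N b := fun a b => by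
    simp only [N, smul_mul', Finset.prod_mul_distrib]
  have hNf : ∀ a, (∀ m ∈ M, m • a = a) → N a = a ^ Nat.card M := by
    intro a ha
    simp only [N]
    rw [Finset.prod_congr rfl (g := fun _ : M => a) (fun x _ => ha _ x.2), Finset.prod_const, Finset.card_univ,
      Nat.card_eq_fintype_card]
  have hNpow : ∀ (a : A) (k : ℕ), N (a ^ k) = N a ^ k := fun a k => by
    simp only [N, smul_pow', Finset.prod_pow]
  have hN1 : N μ1 = 1 := by
    have h2 : N μ1 * N (N μ) = N (μ ^ Nat.card M) := by
      rw [← hNmul, hμ1, div_mul_cancel]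
    rw [hNpow, hNf (N μ) (fun m hm => hNfix μ m hm)] at h2
    exact mul_eq_right.1 h2
  have hmove : m₀ • μ1 ≠ μ1 := by
    intro h
    rw [hμ1, smul_div', hNfix μ m₀ hm₀, smul_pow', div_left_inj] at h
    exact hμ (hroot _ _ h)
  -- the stabiliser of `l * μ1` is too small
  set T := MulAction.stabilizer P (l * μ1)
  have hTM : T ≤ M ⊓ MulAction.stabilizer P μ1 := by
    intro g hg
    have hg' : g • (l * μ1) = l * μ1 := hg
    have hNl : N (l * μ1) = l ^ Nat.card M := by
      rw [hNmul, hN1, mul_one, hNf l fun m hm => hm]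
    have h1 := hNcomm (l * μ1) g
    rw [hg', hNl, smul_pow'] at h1
    have hgl : g • l = l := hroot _ _ h1
    refine ⟨hgl, ?_⟩
    rw [smul_mul', hgl] at hg'
    exact mul_left_cancel hg'
  have hlt : M ⊓ MulAction.stabilizer P μ1 < M := lt_of_le_of_ne inf_le_left fun h => hmove
    ((h.ge hm₀).2)
  have h1 := Subgroup.index_strictAnti hlt
  have h2 := Subgroup.index_antitone hTM
  have h3 := horb (l * μ1)
  rw [hMi] at h1
  have : T.index ≤ p := h3
  omega

end H17.SqFree

namespace H17.SqFree

open Cfsg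
open scoped commutatorElement

variable {G : Type*} [Group G] [Finite G]

/-- The `p`-cores of `G/F(G)` have order at most `p`. -/
theorem card_pCore_le [Group.IsSolvable G] (hdeg : Deg G) (p : ℕ) [Fact p.Prime]
    (F : Subgroup G) [F.Normal] (hF : F = Cfsg.fittingSubgroup G) :
    Nat.card (Cfsg.pCore p (G ⧸ F)) ≤ p := by
  classical
  have hp : p.Prime := Fact.out
  set π := QuotientGroup.mk' F
  set Kb := Cfsg.pCore p (G ⧸ F) with hKb
  haveI : Kb.Normal := H1.pCore_normal' p (G ⧸ F)
  set L := Kb.comap π with hL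
  haveI : L.Normal := inferInstance
  have hFL : F ≤ L := fun x hx => by
    rw [hL, Subgroup.mem_comap, QuotientGroup.mk'_apply, (QuotientGroup.eq_one_iff x).2 hx]
    exact one_mem _
  -- the `p'`-part of the Fitting subgroup
  set Q := Cfsg.pPrimeCore p G ⊓ F with hQ
  haveI : (Cfsg.pPrimeCore p G).Normal := by
    haveI := H1.pPrimeCore_characteristic p G
    infer_instance
  haveI : (Cfsg.pCore p G).Normal := H1.pCore_normal' p G
  haveI hQn : Q.Normal := Subgroup.normal_inf_normal _ _
  have hQcop : (Nat.card Q).Coprime p :=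
    (H1.card_pPrimeCore_coprime p G).coprime_dvd_left (Subgroup.card_dvd_of_le inf_le_left)
  have hFsup : F ≤ Cfsg.pCore p G ⊔ Q := by
    rw [hQ, hF, H1.fittingSubgroup_eq_iSup_pCore]
    refine iSup_le fun q => ?_
    haveI := Fact.mk q.2
    by_cases hq : (q : ℕ) = p
    · rw [hq]; exact le_sup_left
    · refine le_trans (le_inf ?_ (le_iSup (fun r : Nat.Primes => Cfsg.pCore (r : ℕ) G) q)) le_sup_right
      haveI := H1.pCore_normal' (q : ℕ) G
      refine H1.le_pPrimeCore ?_
      obtain ⟨k, hk⟩ := IsPGroup.iff_card.1 (H1.isPGroup_pCore (q : ℕ) G)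
      rw [hk]
      exact Nat.Coprime.pow_left k ((Nat.coprime_primes q.2 hp).2 hq)
  -- `L/Q` is a `p`-group
  have hrel : ∃ k, Q.relIndex L = p ^ k := by
    obtain ⟨a, ha⟩ := IsPGroup.iff_card.1 (H1.isPGroup_pCore p (G ⧸ F))
    obtain ⟨b, hb⟩ := IsPGroup.iff_card.1 (H1.isPGroup_pCore p G)
    have h1 : F.relIndex L = p ^ a := by
      rw [← ha]
      have e : F.subgroupOf L = (π.comp L.subtype).ker := by
        ext x
        simp [π, Subgroup.mem_subgroupOf, QuotientGroup.eq_one_iff]
      show (F.subgroupOf L).index = _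
      rw [e, Subgroup.index_ker, MonoidHom.range_comp, Subgroup.range_subtype, hL,
        Subgroup.map_comap_eq_self_of_surjective (QuotientGroup.mk'_surjective F)]
    have h2 : Q.relIndex F ∣ p ^ b := by
      refine dvd_trans (Dvd.intro _ (Subgroup.relIndex_mul_relIndex Q F _ inf_le_right hFsup)) ?_
      · rw [Subgroup.relIndex_sup_right, ← hb]
        exact Subgroup.relIndex_dvd_card _ _
    obtain ⟨c, -, hc⟩ := (Nat.dvd_prime_pow hp).1 h2
    exact ⟨c + a, by rw [pow_add, ← hc, ← h1, Subgroup.relIndex_mul_relIndex Q F L inf_le_right hFL]⟩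
  obtain ⟨k, hk⟩ := hrel
  -- the elements of `L` centralising `Q` lie in `F`
  have hcent : L ⊓ Subgroup.centralizer (Q : Set G) ≤ F := by
    set N := L ⊓ Subgroup.centralizer (Q : Set G) with hN
    haveI : (Subgroup.centralizer (Q : Set G)).Normal := Subgroup.normal_centralizer
    haveI : N.Normal := Subgroup.normal_inf_normal _ _
    rw [hF]
    refine H1.le_fittingSubgroup ?_
    set Z := Q.subgroupOf N
    have hZc : Z ≤ Subgroup.center N := fun z hz => Subgroup.mem_center_iff.2 fun n =>
      Subtype.ext ((Subgroup.mem_centralizer_iff.1 n.2.2 _ hz).symm)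
    have hdvd : Z.index ∣ p ^ k := by
      rw [← hk]
      show Q.relIndex N ∣ Q.relIndex L
      haveI : (Q.subgroupOf L).Normal := inferInstance
      have h := Subgroup.relIndex_dvd_index_of_normal (Q.subgroupOf L) (N.subgroupOf L)
      rwa [Subgroup.relIndex_subgroupOf inf_le_left] at h
    haveI : Z.Normal := inferInstance
    have hpg : IsPGroup p (N ⧸ Z) := by
      obtain ⟨j, -, hj⟩ := (Nat.dvd_prime_pow hp).1 hdvd
      exact IsPGroup.of_card (n := j) hj
    haveI : Group.IsNilpotent (N ⧸ Z) := hpg.isNilpotent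
    exact Subgroup.isNilpotent_of_ker_le_center (QuotientGroup.mk' Z)
      (by rwa [QuotientGroup.ker_mk'])
  -- a Sylow subgroup of `L`
  obtain ⟨S⟩ : Nonempty (Sylow p L) := inferInstance
  set P := (S : Subgroup L).map L.subtype with hP
  have hPL : P ≤ L := Subgroup.map_subtype_le _
  have hPp : IsPGroup p P := S.isPGroup'.map _
  have hPK : P.map π = Kb := by
    refine le_antisymm ((Subgroup.map_mono hPL).trans ?_) ?_
    · rw [hL, Subgroup.map_comap_eq_self_of_surjective (QuotientGroup.mk'_surjective F)]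
    · have hLQ : L ≤ P ⊔ Q := by
        have hidx : ¬ p ∣ P.relIndex L := by
          rw [hP, Subgroup.relIndex, Subgroup.subgroupOf,
            Subgroup.comap_map_eq_self_of_injective L.subtype_injective]
          exact S.not_dvd_index
        have hd1 : (P ⊔ Q).relIndex L ∣ P.relIndex L := Subgroup.relIndex_dvd_of_le_left L le_sup_left
        have hd2 : (P ⊔ Q).relIndex L ∣ p ^ k := hk ▸ Subgroup.relIndex_dvd_of_le_left L le_sup_right
        obtain ⟨j, -, hj⟩ := (Nat.dvd_prime_pow hp).1 hd2
        rcases Nat.eq_zero_or_pos j with rfl | hj0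
        · rw [pow_zero] at hj
          exact Subgroup.relIndex_eq_one.1 hj
        · exact absurd (((dvd_pow_self p hj0.ne').trans (dvd_of_eq hj.symm)).trans hd1) hidx
      calc Kb = L.map π := (Subgroup.map_comap_eq_self_of_surjective (QuotientGroup.mk'_surjective F) _).symm
        _ ≤ (P ⊔ Q).map π := Subgroup.map_mono hLQ
        _ = P.map π := by
          rw [Subgroup.map_sup, (Subgroup.map_eq_bot_iff Q).2 (by rw [QuotientGroup.ker_mk']; exact inf_le_right),
            sup_bot_eq]
  -- the dual of `Q / Φ(Q)`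
  haveI hQnil : Group.IsNilpotent Q :=
    H1.isNilpotent_mono (hF ▸ H1.isNilpotent_fittingSubgroup G) inf_le_right
  set Φ := (frattini Q).map Q.subtype with hΦ
  haveI hΦn : Φ.Normal := by
    haveI : (frattini Q).Characteristic := inferInstance
    exact inferInstance
  set QΦ := Φ.subgroupOf Q
  have hQΦ : QΦ = frattini Q := by
    rw [show QΦ = Φ.subgroupOf Q from rfl, Subgroup.subgroupOf, hΦ,
      Subgroup.comap_map_eq_self_of_injective Q.subtype_injective]
  haveI : QΦ.Normal := inferInstance
  let A := {l : Q →* ℂˣ // QΦ ≤ l.ker}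
  let conjQ : G → (Q →* Q) := fun g =>
    { toFun := fun q => ⟨g⁻¹ * q * g, by simpa using hQn.conj_mem q q.2 g⁻¹⟩
      map_one' := Subtype.ext (by simp)
      map_mul' := fun a b => Subtype.ext (by simp [mul_assoc]) }
  letI : CommGroup A :=
    { mul := fun a b => ⟨a.1 * b.1, fun x hx => by
        have h1 : a.1 x = 1 := a.2 hx
        have h2 : b.1 x = 1 := b.2 hx
        show a.1 x * b.1 x = 1
        rw [h1, h2, one_mul]⟩
      one := ⟨1, fun x _ => rfl⟩
      inv := fun a => ⟨a.1⁻¹, fun x hx => by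
        have h1 : a.1 x = 1 := a.2 hx
        show (a.1 x)⁻¹ = 1
        rw [h1, inv_one]⟩
      mul_assoc := fun a b c => Subtype.ext (MonoidHom.ext fun x => mul_assoc (a.1 x) (b.1 x) (c.1 x))
      one_mul := fun a => Subtype.ext (MonoidHom.ext fun x => one_mul (a.1 x))
      mul_one := fun a => Subtype.ext (MonoidHom.ext fun x => mul_one (a.1 x))
      inv_mul_cancel := fun a => Subtype.ext (MonoidHom.ext fun x => inv_mul_cancel (a.1 x))
      mul_comm := fun a b => Subtype.ext (MonoidHom.ext fun x => mul_comm (a.1 x) (b.1 x)) }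
  letI : MulDistribMulAction P A :=
    { smul := fun g a => ⟨a.1.comp (conjQ g), fun x hx => by
        refine a.2 ?_
        rw [Subgroup.mem_subgroupOf] at hx ⊢
        show (g : G)⁻¹ * (x : G) * g ∈ Φ
        simpa using hΦn.conj_mem _ hx (g : G)⁻¹⟩
      one_smul := fun a => Subtype.ext (MonoidHom.ext fun x => congrArg a.1 (Subtype.ext (by
        show ((1 : P) : G)⁻¹ * (x : G) * ((1 : P) : G) = x
        simp)))
      mul_smul := fun g h a => Subtype.ext (MonoidHom.ext fun x => congrArg a.1 (Subtype.ext (by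
        show ((g * h : P) : G)⁻¹ * (x : G) * ((g * h : P) : G) = (h : G)⁻¹ * ((g : G)⁻¹ * (x : G) * g) * h
        simp [mul_assoc])))
      smul_mul := fun g a b => rfl
      smul_one := fun g => rfl }
  have hsep : ∀ q : Q, (∀ a : A, a.1 q = 1) → q ∈ QΦ := by
    intro q hq
    by_contra hne
    haveI : IsMulCommutative (Q ⧸ QΦ) := by
      refine ⟨⟨fun a b => ?_⟩⟩
      obtain ⟨a, rfl⟩ := QuotientGroup.mk_surjective a
      obtain ⟨b, rfl⟩ := QuotientGroup.mk_surjective b
      rw [← commutatorElement_eq_one_iff_mul_comm, ← QuotientGroup.mk'_apply, ← QuotientGroup.mk'_apply,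
        ← map_commutatorElement, QuotientGroup.mk'_apply, QuotientGroup.eq_one_iff, hQΦ]
      exact H4.commutator_le_frattini_of_nilpotent hQnil
        (Subgroup.commutator_mem_commutator (Subgroup.mem_top _) (Subgroup.mem_top _))
    letI : CommGroup (Q ⧸ QΦ) :=
      { (inferInstance : Group (Q ⧸ QΦ)) with mul_comm := IsMulCommutative.is_comm.comm }
    obtain ⟨φ, hφ⟩ := CommGroup.exists_apply_ne_one_of_hasEnoughRootsOfUnity (Q ⧸ QΦ) ℂ
      (a := (q : Q ⧸ QΦ)) (fun h => hne ((QuotientGroup.eq_one_iff q).1 h))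
    exact hφ (hq ⟨φ.comp (QuotientGroup.mk' QΦ), fun x hx => by
      show φ (QuotientGroup.mk' QΦ x) = 1
      rw [QuotientGroup.mk'_apply, (QuotientGroup.eq_one_iff x).2 hx, map_one]⟩)
  haveI : Finite (Q →* ℂˣ) := H14.finite_monoidHom_units
  have hAcop : (Nat.card A).Coprime p := by
    rw [Nat.Coprime, Nat.gcd_comm]
    refine (Nat.Prime.coprime_iff_not_dvd hp).2 fun hd => ?_
    obtain ⟨a, ha⟩ := exists_prime_orderOf_dvd_card' p hd
    have h1 : a ≠ 1 := fun h => by
      rw [h, orderOf_one] at ha
      exact hp.one_lt.ne ha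
    refine h1 (Subtype.ext (MonoidHom.ext fun q => ?_))
    have hpw : ∀ n : ℕ, (a ^ n).1 q = (a.1 q) ^ n := by
      intro n
      induction n with
      | zero => rfl
      | succ n ih =>
        rw [pow_succ, pow_succ, ← ih]
        rfl
    have hap : (a.1 q) ^ p = 1 := by
      rw [← hpw, ← ha, pow_orderOf_eq_one a]
      rfl
    have haq : (a.1 q) ^ Nat.card Q = 1 := by rw [← map_pow, pow_card_eq_one', map_one]
    have := (pow_gcd_eq_one (a := a.1 q) (m := Nat.card Q) (n := p)).2 ⟨haq, hap⟩
    rw [hQcop, pow_one] at this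
    exact this
  have horb : ∀ a : A, (MulAction.stabilizer P a).index ≤ p := by
    intro a
    haveI := Fintype.ofFinite (Q.subgroupOf L)
    haveI : (Q.subgroupOf L).Normal := inferInstance
    let e : Q.subgroupOf L ≃* Q := Subgroup.subgroupOfEquivOfLe (inf_le_right.trans hFL)
    let θ : IrrCharacter (Q.subgroupOf L) :=
      ⟨fun q => ((a.1 (e q) : ℂˣ) : ℂ), H12.isIrrCharacter_monoidHom (a.1.comp e.toMonoidHom)⟩
    set I := H13.inertia (Q.subgroupOf L) (θ : Q.subgroupOf L → ℂ)
    obtain ⟨χ, hχ⟩ := H19.ItoSylow.exists_inertia_index_dvd (Q.subgroupOf L) θ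
    have hsq : Squarefree I.index := Squarefree.squarefree_of_dvd hχ (hdeg.normal L χ)
    have hIp : I.index ∣ p ^ k :=
      hk ▸ Subgroup.index_dvd_of_le (H13.le_inertia (Q.subgroupOf L) (H12.irr_isClassFunction θ))
    obtain ⟨j, -, hj⟩ := (Nat.dvd_prime_pow hp).1 hIp
    have hIle : I.index ≤ p := by
      rw [hj] at hsq ⊢
      rcases Nat.eq_zero_or_pos j with rfl | hj0
      · rw [pow_zero]; exact hp.one_le
      · rcases eq_or_ne j 1 with rfl | hj1
        · rw [pow_one]
        · exact absurd ((Nat.squarefree_pow_iff hp.ne_one hj0.ne').1 hsq).2 hj1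
    let J := I.comap (Subgroup.inclusion hPL)
    have hJ : J ≤ MulAction.stabilizer P a := by
      intro g hg
      have hg' : H13.twist (Q.subgroupOf L) (Subgroup.inclusion hPL g) (θ : Q.subgroupOf L → ℂ) = θ := hg
      refine Subtype.ext (MonoidHom.ext fun q => ?_)
      show a.1 (conjQ g q) = a.1 q
      refine Units.ext ?_
      have h := congrFun hg' (e.symm (conjQ g q))
      rw [H13.twist_apply] at h
      simp only [θ] at h
      rw [MulEquiv.apply_symm_apply] at h
      rw [← h]
      congr 2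
      refine Subtype.ext ?_
      show (g : G) * ((g : G)⁻¹ * (q : G) * g) * (g : G)⁻¹ = q
      group
    refine le_trans (Nat.le_of_dvd (Nat.pos_of_ne_zero Subgroup.index_ne_zero_of_finite)
      (Subgroup.index_dvd_of_le hJ)) (le_trans ?_ hIle)
    rw [Subgroup.index_comap]
    exact (Subgroup.relIndex_le_of_le_right le_top (by
      rw [Subgroup.relIndex_top_right]; exact Subgroup.index_ne_zero_of_finite)).trans_eq
      (Subgroup.relIndex_top_right _)
  obtain ⟨K, hKi, hKfix⟩ := index_le_of_orbits p hPp hAcop horb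
  -- the kernel lies in `F`
  have hKF : K.map P.subtype ≤ F := by
    have hCQ : K.map P.subtype ≤ Subgroup.centralizer (Q : Set G) := by
      refine H1.le_centralizer_of_frattini (fun g _ => ?_) ?_ ?_
      · rw [Subgroup.normalizer_eq_top]; trivial
      · obtain ⟨j, hj⟩ := IsPGroup.iff_card.1 ((hPp.to_subgroup K).map P.subtype)
        rw [hj]
        exact (Nat.Coprime.pow_right j (hQcop.coprime_dvd_left (Subgroup.card_subgroup_dvd_card _))).symm
      · rintro g ⟨g, hgK, rfl⟩ q hq
        have hmem : (g : G) * q * (g : G)⁻¹ * q⁻¹ ∈ Q :=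
          mul_mem (hQn.conj_mem q hq (g : G)) (inv_mem hq)
        suffices hΦ' : (⟨_, hmem⟩ : Q) ∈ QΦ by
          rwa [Subgroup.mem_subgroupOf] at hΦ'
        refine hsep _ fun a => ?_
        have hfix : g⁻¹ • a = a := hKfix g⁻¹ (K.inv_mem hgK) a
        have hq' : conjQ ((g⁻¹ : P) : G) ⟨q, hq⟩ = ⟨(g : G) * q * (g : G)⁻¹, hQn.conj_mem q hq (g : G)⟩ :=
          Subtype.ext (by
            show ((g⁻¹ : P) : G)⁻¹ * q * ((g⁻¹ : P) : G) = _
            simp)
        have h1 : a.1 ⟨(g : G) * q * (g : G)⁻¹, hQn.conj_mem q hq (g : G)⟩ = a.1 ⟨q, hq⟩ := by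
          rw [← hq']
          exact congrArg (fun b : A => b.1 ⟨q, hq⟩) hfix
        rw [show (⟨_, hmem⟩ : Q) = ⟨(g : G) * q * (g : G)⁻¹, hQn.conj_mem q hq (g : G)⟩ * (⟨q, hq⟩ : Q)⁻¹ from rfl,
          map_mul, h1, map_inv, mul_inv_cancel]
    exact (le_inf ((Subgroup.map_subtype_le K).trans hPL) hCQ).trans hcent
  rw [← hPK]
  have h1 : Nat.card (P.map π) = (F.subgroupOf P).index := by
    rw [show P.map π = (π.comp P.subtype).range by rw [MonoidHom.range_comp, Subgroup.range_subtype],
      ← Subgroup.index_ker, ← MonoidHom.comap_ker, QuotientGroup.ker_mk']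
    rfl
  rw [h1]
  refine le_trans (Nat.le_of_dvd (Nat.pos_of_ne_zero Subgroup.index_ne_zero_of_finite)
    (Subgroup.index_dvd_of_le ?_)) hKi
  intro g hg
  exact hKF ⟨g, hg, rfl⟩

/-- **Huppert–Manz**: squarefree degrees bound the derived length by four. -/
theorem derived_four [Group.IsSolvable G] (hdeg : Deg G) : derivedSeries G 4 = ⊥ := by
  classical
  set F := Cfsg.fittingSubgroup G with hF
  haveI : F.Normal := H1.fittingSubgroup_normal G
  have hFnil : Group.IsNilpotent F := H1.isNilpotent_fittingSubgroup G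
  -- the Fitting subgroup is metabelian
  have hF2 : derivedSeries F 2 = ⊥ := by
    rw [eq_bot_iff]
    intro x hx
    haveI : Finite F := inferInstance
    have hnorm : ∀ {p : ℕ} [Fact p.Prime] (P : Sylow p F), P.Normal :=
      @fun p hp P => (Group.isNilpotent_of_finite_tfae.out 0 3 rfl rfl).mp hFnil p hp P
    let e := Sylow.directProductOfNormal hnorm
    suffices h : e.symm x = 1 by
      rw [Subgroup.mem_bot, ← e.apply_symm_apply x, h, map_one]
    funext q P
    haveI : Fact (q : ℕ).Prime := ⟨Nat.prime_of_mem_primeFactors q.2⟩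
    haveI := hnorm P
    have hb := derived_two_of_pGroup (q : ℕ) P.isPGroup' ((hdeg.normal F).normal (P : Subgroup F))
    let f := ((Pi.evalMonoidHom (fun P : Sylow (q : ℕ) F => (↥P : Type _)) P).comp
      (Pi.evalMonoidHom _ q)).comp e.symm.toMonoidHom
    have h := map_derivedSeries_le_derivedSeries f 2 (Subgroup.mem_map_of_mem f hx)
    exact Subgroup.mem_bot.1 (hb ▸ h)
  -- the quotient is metabelian
  haveI hsolv : Group.IsSolvable (G ⧸ F) := inferInstance
  have hQ2 : derivedSeries (G ⧸ F) 2 = ⊥ := by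
    set Fb := Cfsg.fittingSubgroup (G ⧸ F)
    have hcent : ∀ q : Nat.Primes, commutator (G ⧸ F) ≤
        Subgroup.centralizer (Cfsg.pCore (q : ℕ) (G ⧸ F) : Set (G ⧸ F)) := by
      intro q
      haveI := Fact.mk q.2
      set C := Cfsg.pCore (q : ℕ) (G ⧸ F)
      haveI : C.Normal := H1.pCore_normal' _ _
      haveI : IsCyclic C := by
        obtain ⟨j, hj⟩ := IsPGroup.iff_card.1 (H1.isPGroup_pCore (q : ℕ) (G ⧸ F))
        have hle := card_pCore_le hdeg (q : ℕ) F rfl
        rw [hj] at hle
        rcases Nat.eq_zero_or_pos j with rfl | hj0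
        · haveI : Subsingleton C := (Nat.card_eq_one_iff_unique.1 (by rw [hj, pow_zero])).1
          exact isCyclic_of_subsingleton
        · obtain rfl : j = 1 := by
            by_contra hne
            have : (q : ℕ) ^ 2 ≤ (q : ℕ) ^ j := Nat.pow_le_pow_right q.2.pos (by omega)
            have := q.2.two_le
            nlinarith
          exact isCyclic_of_prime_card (p := (q : ℕ)) (by rw [hj, pow_one])
      rw [commutator_def, Subgroup.commutator_le]
      intro a _ b _
      rw [Subgroup.mem_centralizer_iff]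
      intro c hc
      let φ : (G ⧸ F) →* MulAut C := MulAut.conjNormal
      have h1 : φ ⁅a, b⁆ = 1 := by
        rw [map_commutatorElement, commutatorElement_eq_one_iff_mul_comm]
        refine MulEquiv.ext fun x => ?_
        obtain ⟨m, hm⟩ := MonoidHom.map_cyclic (φ a).toMonoidHom
        obtain ⟨n, hn⟩ := MonoidHom.map_cyclic (φ b).toMonoidHom
        simp only [MulEquiv.toMonoidHom_eq_coe, MonoidHom.coe_coe] at hm hn
        simp only [MulAut.mul_apply, hm, hn]
        rw [← zpow_mul, ← zpow_mul, mul_comm]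
      have h2 := congrArg (fun f : MulAut C => ((f ⟨c, hc⟩ : C) : G ⧸ F)) h1
      simp only [φ, MulAut.conjNormal_apply, MulAut.one_apply] at h2
      exact (mul_inv_eq_iff_eq_mul.1 h2).symm
    have hFb : Fb = ⨆ q : Nat.Primes, Cfsg.pCore (q : ℕ) (G ⧸ F) :=
      H1.fittingSubgroup_eq_iSup_pCore
    have hle : commutator (G ⧸ F) ≤ Subgroup.centralizer (Fb : Set (G ⧸ F)) := by
      rw [hFb, Subgroup.le_centralizer_iff, iSup_le_iff]
      exact fun q => Subgroup.le_centralizer_iff.1 (hcent q)
    have hCF : Subgroup.centralizer (Fb : Set (G ⧸ F)) ≤ Fb :=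
      H1.centralizer_fitting_le_of_isSolvable inferInstance
    rw [derivedSeries_succ, derivedSeries_one, Subgroup.commutator_eq_bot_iff_le_centralizer]
    exact hle.trans (Subgroup.centralizer_le (hle.trans hCF))
  -- combine
  have h2 : derivedSeries G 2 ≤ F := by
    intro x hx
    have h := map_derivedSeries_le_derivedSeries (QuotientGroup.mk' F) 2
      (Subgroup.mem_map_of_mem (QuotientGroup.mk' F) hx)
    rw [hQ2, Subgroup.mem_bot, QuotientGroup.mk'_apply, QuotientGroup.eq_one_iff] at h
    exact h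
  have h3 : ∀ n, derivedSeries G (2 + n) ≤ (derivedSeries F n).map F.subtype := by
    intro n
    induction n with
    | zero => simpa [← MonoidHom.range_eq_map] using h2
    | succ n ih =>
      rw [← add_assoc, derivedSeries_succ, derivedSeries_succ, Subgroup.map_commutator]
      exact Subgroup.commutator_mono ih ih
  have := h3 2
  rw [hF2, Subgroup.map_bot] at this
  exact le_bot_iff.1 this

end H17.SqFree
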