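import Cfsg.Agent.H17.UnipotentGL
import Cfsg.Agent.H12.Transport
import Cfsg.Agent.H24.DefectZero
import Cfsg.Agent.H20.Knorr

/-!
The Steinberg character of the projective special linear group.
-/

set_option autoImplicit false
set_option linter.unusedSectionVars false

namespace H17.UGL

open Finset Cfsg H17.Cauchy
open scoped ComplexConjugate

/-- The fixed points of a subgroup with as many orbits as the whole group. -/
theorem sum_fixedBy_hom {G K X : Type*} [Group G] [Group K] [Fintype K] [MulAction G X] [Finite X]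
    (φ : K →* G)
    (h : ∀ (x : X) (u : G), ∃ t : G, t • x = x ∧ u * t⁻¹ ∈ φ.range) :
    ∑ k : K, Nat.card (MulAction.fixedBy X (φ k)) =
      Nat.card (MulAction.orbitRel.Quotient G X) * Nat.card K := by
  classical
  letI : MulAction K X := MulAction.compHom X φ
  haveI : Fintype X := Fintype.ofFinite X
  have horb : ∀ x y : X, MulAction.orbitRel K X x y ↔ MulAction.orbitRel G X x y := by
    intro x y
    simp only [MulAction.orbitRel_apply, MulAction.mem_orbit_iff]
    constructor
    · rintro ⟨k, hk⟩; exact ⟨φ k, hk⟩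
    · rintro ⟨u, hu⟩
      obtain ⟨t, ht, k, hk⟩ := h y u
      refine ⟨k, ?_⟩
      show φ k • y = x
      rw [hk, mul_smul, inv_smul_eq_iff.2 ht.symm, hu]
  have hc : Nat.card (MulAction.orbitRel.Quotient G X) = Nat.card (MulAction.orbitRel.Quotient K X) :=
    Nat.card_congr (Quotient.congr (Equiv.refl X) fun x y => (horb x y).symm)
  rw [hc]
  simp only [Nat.card_eq_fintype_card]
  exact MulAction.sum_card_fixedBy_eq_card_orbits_mul_card_group K X

variable {n : ℕ} {F : Type*} [Field F]

/-- a diagonal element -/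
noncomputable def diagGL (v : Fin n → Fˣ) : GL (Fin n) F :=
  ⟨Matrix.diagonal fun i => (v i : F), Matrix.diagonal fun i => ((v i)⁻¹ : Fˣ),
    by rw [Matrix.diagonal_mul_diagonal, ← Matrix.diagonal_one]; simp,
    by rw [Matrix.diagonal_mul_diagonal, ← Matrix.diagonal_one]; simp⟩

theorem coe_diagGL (v : Fin n → Fˣ) :
    ((diagGL v : GL (Fin n) F) : Matrix (Fin n) (Fin n) F) = Matrix.diagonal fun i => (v i : F) := rfl

theorem diagGL_mem (μ : Fin n → ℕ) (v : Fin n → Fˣ) : diagGL v ∈ parabolicGL n F μ :=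
  H40.mem_parabolic_of_upper (by rw [coe_diagGL]; exact Matrix.blockTriangular_diagonal _)

theorem permGL_mul_diagGL (σ : Equiv.Perm (Fin n)) (v : Fin n → Fˣ) :
    H40.permGL F σ * diagGL (fun j => v (σ j)) = diagGL v * H40.permGL F σ := by
  refine Units.ext (Matrix.ext fun i j => ?_)
  rw [Units.val_mul, Units.val_mul, coe_diagGL, coe_diagGL, H40.coe_permGL, Matrix.mul_diagonal,
    Matrix.diagonal_mul, H40.permMat, Matrix.of_apply]
  split_ifs with h <;> simp [h]

theorem exists_stab_det (hn : 0 < n) (α β : Fin n → ℕ)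
    (x : (GL (Fin n) F ⧸ parabolicGL n F α) × (GL (Fin n) F ⧸ parabolicGL n F β))
    (u : GL (Fin n) F) :
    ∃ t : GL (Fin n) F, t • x = x ∧
      u * t⁻¹ ∈ (Matrix.SpecialLinearGroup.toGL (n := Fin n) (R := F)).range := by
  classical
  obtain ⟨a, ha⟩ := QuotientGroup.mk_surjective x.1
  obtain ⟨b, hb⟩ := QuotientGroup.mk_surjective x.2
  obtain ⟨b₁, b₂, σ, h1, h2, he⟩ := H40.exists_bruhat (a⁻¹ * b)
  have hb1 : b₁ ∈ parabolicGL n F α := H40.mem_parabolic_of_upper h1
  have hb2 : b₂ ∈ parabolicGL n F β := H40.mem_parabolic_of_upper h2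
  let δ : Fˣ := Matrix.GeneralLinearGroup.det u
  let v : Fin n → Fˣ := Function.update (fun _ => 1) ⟨0, hn⟩ δ
  refine ⟨a * b₁ * diagGL v * b₁⁻¹ * a⁻¹, Prod.ext ?_ ?_, ?_⟩
  · rw [Prod.smul_fst, ← ha, MulAction.Quotient.smul_mk, QuotientGroup.eq, smul_eq_mul,
      show (a * b₁ * diagGL v * b₁⁻¹ * a⁻¹ * a)⁻¹ * a = b₁ * (diagGL v)⁻¹ * b₁⁻¹ by group]
    exact mul_mem (mul_mem hb1 (inv_mem (diagGL_mem _ _))) (inv_mem hb1)
  · rw [Prod.smul_snd, ← hb, MulAction.Quotient.smul_mk, QuotientGroup.eq, smul_eq_mul,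
      show b = a * (a⁻¹ * b) by group, he]
    have e : (a * b₁ * diagGL v * b₁⁻¹ * a⁻¹ * (a * (b₁ * H40.permGL F σ * b₂)))⁻¹ *
        (a * (b₁ * H40.permGL F σ * b₂)) =
        b₂⁻¹ * ((H40.permGL F σ)⁻¹ * (diagGL v)⁻¹ * H40.permGL F σ) * b₂ := by group
    have e2 : (H40.permGL F σ)⁻¹ * (diagGL v)⁻¹ * H40.permGL F σ =
        (diagGL fun j => v (σ j))⁻¹ := by
      have h' : diagGL v = H40.permGL F σ * diagGL (fun j => v (σ j)) * (H40.permGL F σ)⁻¹ := by
        rw [permGL_mul_diagGL, mul_inv_cancel_right]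
      rw [h']; group
    rw [e, e2]
    exact mul_mem (mul_mem (inv_mem hb2) (inv_mem (diagGL_mem _ _))) hb2
  · have hdet : Matrix.GeneralLinearGroup.det (u * (a * b₁ * diagGL v * b₁⁻¹ * a⁻¹)⁻¹) = 1 := by
      have hv : Matrix.GeneralLinearGroup.det (diagGL v) = δ := by
        ext
        rw [Matrix.GeneralLinearGroup.val_det_apply, coe_diagGL, Matrix.det_diagonal,
          Finset.prod_eq_single (⟨0, hn⟩ : Fin n)]
        · simp [v]
        · intro i _ hi; simp [v, Function.update_of_ne hi]
        · simp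
      rw [map_mul, map_inv, mul_inv_eq_one,
        show a * b₁ * diagGL v * b₁⁻¹ * a⁻¹ = (a * b₁) * diagGL v * (a * b₁)⁻¹ by group, map_mul,
        map_mul, map_inv, hv, mul_inv_cancel_comm]
    refine ⟨⟨((u * (a * b₁ * diagGL v * b₁⁻¹ * a⁻¹)⁻¹ : GL (Fin n) F) : Matrix (Fin n) (Fin n) F),
      by rw [← Matrix.GeneralLinearGroup.val_det_apply, hdet]; rfl⟩, Units.ext rfl⟩

variable [Fintype F] [DecidableEq F]

/-- The partition into ones. -/
def ones (n : ℕ) : Fin n → ℕ := fun _ => 1

theorem mono_ones (n : ℕ) : Monotone (ones n) := fun _ _ _ => le_rfl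

theorem sum_ones (n : ℕ) : ∑ i, ones n i = n := by simp [ones]

theorem classInner_fixed_SL (hn : 0 < n) (α β : Fin n → ℕ) :
    classInner (G := Matrix.SpecialLinearGroup (Fin n) F)
        (fun g => fixedPointCharacter (parabolicGL n F α) (Matrix.SpecialLinearGroup.toGL g))
        (fun g => fixedPointCharacter (parabolicGL n F β) (Matrix.SpecialLinearGroup.toGL g)) =
      classInner (fixedPointCharacter (parabolicGL n F α)) (fixedPointCharacter (parabolicGL n F β)) := by
  classical
  set φ := Matrix.SpecialLinearGroup.toGL (n := Fin n) (R := F)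
  have h2 : ∀ g : GL (Fin n) F, Nat.card (MulAction.fixedBy
      ((GL (Fin n) F ⧸ parabolicGL n F α) × (GL (Fin n) F ⧸ parabolicGL n F β)) g) =
      Nat.card (MulAction.fixedBy (GL (Fin n) F ⧸ parabolicGL n F α) g) *
        Nat.card (MulAction.fixedBy (GL (Fin n) F ⧸ parabolicGL n F β) g) := by
    intro g
    rw [← Nat.card_prod]
    exact Nat.card_congr
      { toFun := fun p => (⟨p.1.1, congrArg Prod.fst p.2⟩, ⟨p.1.2, congrArg Prod.snd p.2⟩)
        invFun := fun p => ⟨(p.1.1, p.2.1), Prod.ext p.1.2 p.2.2⟩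
        left_inv := fun p => rfl
        right_inv := fun p => rfl }
  have h := sum_fixedBy_hom φ (exists_stab_det hn α β)
  simp only [h2, H40.card_orbits_pair] at h
  rw [classInner, classInner]
  simp only [conj_fixedPointCharacter]
  rw [H40.inner_fixedPointCharacter]
  simp only [fixedPointCharacter, ← Nat.cast_mul, ← Nat.cast_sum]
  rw [h, Nat.cast_mul, mul_comm, mul_assoc,
    mul_inv_cancel₀ (by exact_mod_cast Nat.card_pos.ne'), mul_one]

theorem isIrr_unipotent_SL {ν : Fin n → ℕ} (hn : 0 < n) (hmono : Monotone ν) (hsum : ∑ i, ν i = n) :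
    IsIrrCharacter (Matrix.SpecialLinearGroup (Fin n) F)
      (fun g => unipotentCharacterGL n F ν (Matrix.SpecialLinearGroup.toGL g)) := by
  classical
  set φ := Matrix.SpecialLinearGroup.toGL (n := Fin n) (R := F)
  let t : Equiv.Perm (Fin n) → Matrix.SpecialLinearGroup (Fin n) F → ℂ :=
    fun κ g => term F ν κ (φ g)
  have hu : (fun g => unipotentCharacterGL n F ν (φ g)) = ∑ κ, t κ := by
    funext g
    rw [unipotent_eq_sum, Finset.sum_apply, Finset.sum_apply]
  have hchar : ∀ μ : Fin n → ℕ, IsCharacter (Matrix.SpecialLinearGroup (Fin n) F)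
      (fun g => fixedPointCharacter (parabolicGL n F μ) (φ g)) := fun μ =>
    H12.IsCharacter.comp (isCharacter_fixedPointCharacter (parabolicGL n F μ)) φ
  refine isIrr_of_norm_one ?_ (fun χ => ?_) ?_ (by rw [map_one]; exact unipotent_one_pos hmono hsum)
  · intro g x
    have hc := H12.IsCharacter.isClassFunction (H12.isCharacter_of_isIrrCharacter
      (isIrr_unipotent (F := F) hmono hsum))
    simp only [map_mul, map_inv]
    exact hc (φ g) (φ x)
  · have : ∀ κ, ∃ m : ℤ, classInner (t κ) (χ : Matrix.SpecialLinearGroup (Fin n) F → ℂ) = m := by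
      intro κ
      show ∃ m : ℤ, classInner (fun g => term F ν κ (φ g)) _ = m
      unfold term
      by_cases h : ∀ i : Fin n, (κ i).val ≤ ν i + i.val
      · simp only [if_pos h]
        obtain ⟨m, hm⟩ := H12.IsCharacter.classInner_nat
          (hchar fun i => ν i + i.val - (κ i).val) (H12.isCharacter_irr χ)
        refine ⟨(Equiv.Perm.sign κ : ℤ) * m, ?_⟩
        refine (H12.classInner_smul_left _ (fun g => fixedPointCharacter _ (φ g)) _).trans ?_
        rw [hm]; push_cast; rfl
      · simp only [if_neg h]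
        exact ⟨0, (H12.classInner_zero_left _).trans Int.cast_zero.symm⟩
    choose m hm using this
    refine ⟨∑ κ, m κ, ?_⟩
    rw [hu, H12.classInner_sum_left]
    simp [hm]
  · have hkey : ∀ κ κ', classInner (t κ) (t κ') = classInner (term F ν κ) (term F ν κ') := by
      intro κ κ'
      show classInner (fun g => term F ν κ (φ g)) (fun g => term F ν κ' (φ g)) = _
      unfold term
      by_cases h : ∀ i : Fin n, (κ i).val ≤ ν i + i.val
      · by_cases h' : ∀ i : Fin n, (κ' i).val ≤ ν i + i.val
        · simp only [if_pos h, if_pos h']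
          rw [H12.classInner_smul_left, H12.classInner_smul_right, ← classInner_fixed_SL hn,
            ← H12.classInner_smul_right, ← H12.classInner_smul_left]
          rfl
        · simp only [if_pos h, if_neg h']
          exact (H12.classInner_zero_right _).trans (H12.classInner_zero_right _).symm
      · simp only [if_neg h]
        exact (H12.classInner_zero_left _).trans (H12.classInner_zero_left _).symm
    have h1 := classInner_unipotent (F := F) hmono hsum hmono hsum
    rw [if_pos rfl, unipotent_eq_sum, H12.classInner_sum_left] at h1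
    rw [← h1, hu, H12.classInner_sum_left]
    simp only [H12.classInner_sum_right, hkey]

theorem steinberg_one :
    unipotentCharacterGL n F (ones n) 1 = (Fintype.card F : ℂ) ^ n.choose 2 := by
  classical
  set q := Fintype.card F
  have h := degree_eq (F := F) (ones n) (sum_ones n)
  have hstep : ∀ r, qI q (r + 1) = 1 + (q : ℂ) * qI q r := fun r => by
    rw [qI, sum_range_succ', qI, mul_sum, pow_zero, add_comm]
    simp only [pow_succ']
  have hdiff : ∀ i j : Fin n, qI q (ones n j + j.val) - qI q (ones n i + i.val) =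
      (q : ℂ) * (qI q j.val - qI q i.val) := fun i j => by
    simp only [ones, add_comm 1, hstep]; ring
  have hpairs : ∑ i : Fin n, (univ.filter fun j : Fin n => i < j).card = n.choose 2 := by
    have : ∀ i : Fin n, (univ.filter fun j : Fin n => i < j).card = n - 1 - i.val := fun i => by
      rw [show (univ.filter fun j : Fin n => i < j) = Ioi i by ext; simp, Fin.card_Ioi]
    simp only [this]
    rw [Fin.sum_univ_eq_sum_range (fun i => n - 1 - i), Finset.sum_range_reflect (fun i => i),
      sum_range_id, ← Nat.choose_two_right]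
  have htri : (Matrix.of fun i j : Fin n => qFF q i.val j).det = ∏ i : Fin n, qF q i.val := by
    rw [Matrix.det_of_lowerTriangular (Matrix.of fun i j : Fin n => qFF q i.val j)
      fun i j hij => qFF_eq_zero q i.val j.val (OrderDual.toDual_lt_toDual.1 hij)]
    simp only [Matrix.of_apply]
    refine Finset.prod_congr rfl fun i _ => ?_
    have := qF_mul_qFF q i.val i.val le_rfl
    rwa [Nat.sub_self, show qF q 0 = 1 by simp [qF_eq], one_mul] at this
  have hprod : qF q n * ∏ i : Fin n, qF q i.val = ∏ i : Fin n, qF q (ones n i + i.val) := by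
    simp only [ones, add_comm 1]
    rw [Fin.prod_univ_eq_prod_range (fun i => qF q i), Fin.prod_univ_eq_prod_range (fun i => qF q (i + 1))]
    have h0 := Finset.prod_range_succ (fun i => qF q i) n
    rw [Finset.prod_range_succ', show qF q 0 = 1 by simp [qF_eq], mul_one] at h0
    rw [h0, mul_comm]
  simp only [← show q = Fintype.card F from rfl, hdiff, prod_mul_distrib, prod_const, prod_pow_eq_pow_sum, hpairs] at h
  rw [← det_qFF q n (fun i => i.val), htri] at h
  have hne : (q : ℂ) ^ (n * (n - 1) * (n - 2) / 6) * ∏ i : Fin n, qF q (ones n i + i.val) ≠ 0 :=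
    mul_ne_zero (pow_ne_zero _ (Nat.cast_ne_zero.2 Fintype.card_ne_zero))
      (Finset.prod_ne_zero_iff.2 fun i _ => qF_ne_zero _)
  refine mul_right_cancel₀ hne ?_
  rw [← mul_assoc, h, ← hprod]
  ring

theorem fixedPointCharacter_central {G : Type*} [Group G] (H : Subgroup G) {z : G}
    (hz : z ∈ Subgroup.center G) (hzH : z ∈ H) (g : G) :
    fixedPointCharacter H (z * g) = fixedPointCharacter H g := by
  have hfix : ∀ x : G ⧸ H, z • x = x := by
    intro x
    induction x using QuotientGroup.induction_on with | H a => ?_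
    rw [MulAction.Quotient.smul_mk, smul_eq_mul, ← Subgroup.mem_center_iff.1 hz a, QuotientGroup.eq,
      mul_inv_rev, mul_assoc, inv_mul_cancel, mul_one]
    exact inv_mem hzH
  rw [fixedPointCharacter, fixedPointCharacter]
  refine congrArg Nat.cast (Nat.card_congr (Equiv.subtypeEquivRight fun x => ?_))
  simp only [MulAction.mem_fixedBy, mul_smul, hfix]

theorem exists_steinberg_PSL (p : ℕ) [Fact p.Prime] [CharP F p] (hn : 2 ≤ n) :
    ∃ χ : Matrix.ProjectiveSpecialLinearGroup (Fin n) F → ℂ,
      IsIrrCharacter (Matrix.ProjectiveSpecialLinearGroup (Fin n) F) χ ∧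
      ∀ P : Sylow p (Matrix.ProjectiveSpecialLinearGroup (Fin n) F), χ 1 = Nat.card P ∧
        ∀ x : Matrix.ProjectiveSpecialLinearGroup (Fin n) F, x ∈ P → x ≠ 1 → χ x = 0 := by
  classical
  set φ := Matrix.SpecialLinearGroup.toGL (n := Fin n) (R := F)
  set Z := Subgroup.center (Matrix.SpecialLinearGroup (Fin n) F) with hZ
  have hn0 : 0 < n := by omega
  let χ₀ : IrrCharacter (Matrix.SpecialLinearGroup (Fin n) F) :=
    ⟨_, isIrr_unipotent_SL (F := F) hn0 (mono_ones n) (sum_ones n)⟩
  have hker : ∀ z ∈ Z, (χ₀ : Matrix.SpecialLinearGroup (Fin n) F → ℂ) z =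
      (χ₀ : Matrix.SpecialLinearGroup (Fin n) F → ℂ) 1 := by
    intro z hz
    show unipotentCharacterGL n F (ones n) (φ z) = unipotentCharacterGL n F (ones n) (φ 1)
    obtain ⟨r, hr, hrz⟩ := Matrix.SpecialLinearGroup.mem_center_iff.1 hz
    have hcen : φ z ∈ Subgroup.center (GL (Fin n) F) := by
      refine Subgroup.mem_center_iff.2 fun g => Units.ext ?_
      show (g : Matrix (Fin n) (Fin n) F) * (z : Matrix (Fin n) (Fin n) F) =
        (z : Matrix (Fin n) (Fin n) F) * (g : Matrix (Fin n) (Fin n) F)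
      rw [← hrz]
      exact (Matrix.scalar_commute r (fun _ => Commute.all _ _) (g : Matrix (Fin n) (Fin n) F)).eq.symm
    have hmem : ∀ μ, φ z ∈ parabolicGL n F μ := fun μ => H40.mem_parabolic_of_upper (by
      show (z : Matrix (Fin n) (Fin n) F).BlockTriangular id
      rw [← hrz, Matrix.scalar_apply]
      exact Matrix.blockTriangular_diagonal _)
    rw [unipotentCharacterGL, unipotentCharacterGL, map_one]
    refine Finset.sum_congr rfl fun κ _ => ?_
    conv_lhs => rw [← mul_one (φ z), fixedPointCharacter_central _ hcen (hmem _)]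
  obtain ⟨ψ, hψ⟩ := H12.exists_inflate_eq Z χ₀ hker
  refine ⟨(ψ : _ → ℂ), ψ.2, fun P => ?_⟩
  have hdeg : (ψ : Matrix.ProjectiveSpecialLinearGroup (Fin n) F → ℂ) 1 =
      (Fintype.card F : ℂ) ^ n.choose 2 := by
    rw [← steinberg_one (n := n) (F := F), ← map_one φ]
    exact congrFun (congrArg Subtype.val hψ) 1
  have hp : p.Prime := Fact.out
  obtain ⟨f, -, hq⟩ := FiniteField.card F p
  have hcop : ∀ m, ¬ p ∣ ∑ l ∈ range (m + 1), Fintype.card F ^ l := fun m hd => by
    rw [Finset.sum_range_succ', pow_zero] at hd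
    refine hp.not_dvd_one ((Nat.dvd_add_right (Finset.dvd_sum fun l _ => ?_)).1 hd)
    rw [hq, ← pow_mul]
    exact dvd_pow_self p (by positivity)
  have hq1 : ¬ p ∣ Fintype.card F - 1 := fun hd => by
    have hdq : p ∣ Fintype.card F := by rw [hq]; exact dvd_pow_self p f.pos.ne'
    refine hp.not_dvd_one ((Nat.dvd_add_right hd).1 ?_)
    rwa [Nat.sub_add_cancel Fintype.card_pos]
  have hcard : Nat.card (GL (Fin n) F) = (Fintype.card F - 1) *
      (Nat.card (Matrix.ProjectiveSpecialLinearGroup (Fin n) F) * Nat.card Z) := by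
    have h1 := Subgroup.card_eq_card_quotient_mul_card_subgroup Z
    rw [show Matrix.ProjectiveSpecialLinearGroup (Fin n) F = (Matrix.SpecialLinearGroup (Fin n) F ⧸ Z)
      from rfl, ← h1]
    have h2 := Subgroup.card_eq_card_quotient_mul_card_subgroup
      (Matrix.GeneralLinearGroup.det (n := Fin n) (R := F)).ker
    have hsurj : Function.Surjective (Matrix.GeneralLinearGroup.det (n := Fin n) (R := F)) := by
      intro δ
      refine ⟨diagGL (Function.update (fun _ => 1) ⟨0, hn0⟩ δ), Units.ext ?_⟩
      rw [Matrix.GeneralLinearGroup.val_det_apply, coe_diagGL, Matrix.det_diagonal,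
        Finset.prod_eq_single (⟨0, hn0⟩ : Fin n)]
      · simp
      · intro i _ hi; simp [Function.update_of_ne hi]
      · simp
    rw [Nat.card_congr (QuotientGroup.quotientKerEquivOfSurjective _ hsurj).toEquiv,
      Nat.card_units, Nat.card_eq_fintype_card (α := F)] at h2
    rw [h2]
    congr 1
    exact Nat.card_congr
      { toFun := fun g => ⟨((g : GL (Fin n) F) : Matrix (Fin n) (Fin n) F), by
          rw [← Matrix.GeneralLinearGroup.val_det_apply, g.2]; rfl⟩
        invFun := fun s => ⟨φ s, Units.ext s.2⟩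
        left_inv := fun g => Subtype.ext (Units.ext rfl)
        right_inv := fun s => Subtype.ext rfl }
  have hfac : (Nat.card (Matrix.ProjectiveSpecialLinearGroup (Fin n) F)).factorization p =
      f * n.choose 2 := by
    have hG := H40.card_GL_eq_qFact (F := F) (ι := Fin n)
    rw [Fintype.card_fin, hcard] at hG
    have hZp : ¬ p ∣ Nat.card Z := fun hd => hq1 (hd.trans (by
      rw [hZ, Nat.card_congr (Matrix.SpecialLinearGroup.center_equiv_rootsOfUnity).toEquiv,
        ← Fintype.card_units, ← Nat.card_eq_fintype_card (α := Fˣ)]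
      exact Subgroup.card_subgroup_dvd_card _))
    have hR : ¬ p ∣ H40.qFact (Fintype.card F) n := fun hd => by
      obtain ⟨m, -, hm⟩ := (hp.prime.dvd_finsetProd_iff _).1 hd
      exact hcop m hm
    have hL := congrArg (fun m => Nat.factorization m p) hG
    have hPne : Nat.card (Matrix.ProjectiveSpecialLinearGroup (Fin n) F) ≠ 0 := Nat.card_pos.ne'
    have hq1' : Fintype.card F - 1 ≠ 0 := fun h0 => hq1 (h0 ▸ dvd_zero p)
    have hR' : H40.qFact (Fintype.card F) n ≠ 0 := fun h0 => hR (h0 ▸ dvd_zero p)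
    simp only [Nat.factorization_mul, hPne, hq1', hR', Nat.card_pos.ne', ne_eq, mul_eq_zero,
      or_self, not_false_eq_true, pow_eq_zero_iff', Fintype.card_ne_zero, false_and,
      Finsupp.add_apply, Nat.factorization_pow, Finsupp.smul_apply, smul_eq_mul] at hL
    rw [Nat.factorization_eq_zero_of_not_dvd hq1, Nat.factorization_eq_zero_of_not_dvd hR,
      Nat.factorization_eq_zero_of_not_dvd hZp, hq, hp.factorization_pow,
      Finsupp.single_eq_same] at hL
    linarith
  have hP : Nat.card P = Fintype.card F ^ n.choose 2 := by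
    rw [P.card_eq_multiplicity, hfac, hq, ← pow_mul]
  refine ⟨by rw [hdeg, hP, Nat.cast_pow], fun x hx hx1 => ?_⟩
  obtain ⟨M, hM⟩ := H20.exists_isPModular hp
  refine H24.vanish_of_defect_zero hM ψ ?_ x hx1 ?_
  · have hd : charDegree (ψ : Matrix.ProjectiveSpecialLinearGroup (Fin n) F → ℂ) =
        Fintype.card F ^ n.choose 2 :=
      Nat.cast_injective (R := ℂ) (by rw [← H24.irr_one, hdeg, Nat.cast_pow])
    rw [hd, hfac, hq, ← pow_mul, hp.factorization_pow, Finsupp.single_eq_same]
  · obtain ⟨j, hj⟩ := P.isPGroup' ⟨x, hx⟩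
    exact ⟨j, by simpa using congrArg Subtype.val hj⟩

end H17.UGL
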