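import Cfsg.Agent.S4710
import Cfsg.Agent.H22.BlockClasses
import Cfsg.Agent.H22.ValueMod
import Cfsg.Agent.H24.Quot
import Cfsg.Agent.H33.TwoPrime

/-!
Prime power degrees in groups of order divisible by three primes, one to exponent at most two.
-/

set_option autoImplicit false
set_option linter.unusedSectionVars false

namespace H17.ThreePrime

open Cfsg
open scoped ComplexConjugate

universe u

variable {G : Type u} [Group G] [Fintype G]

theorem exists_degree (p q r a b c : ℕ) (hp : p.Prime) (hq : q.Prime) (hr : r.Prime)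
    (ha : a ≤ 2) (hpq : p ≠ q) (hpr : p ≠ r) [Nontrivial G]
    (hG : Nat.card G = p ^ a * q ^ b * r ^ c) :
    ∃ χ : IrrCharacter G, (χ : G → ℂ) ≠ (fun _ => 1) ∧
      ∃ k : ℕ, charDegree (χ : G → ℂ) = q ^ k := by
  classical
  have : Fact p.Prime := ⟨hp⟩
  by_cases hperf : commutator G = ⊤
  swap
  · have : Nontrivial (G ⧸ commutator G) := QuotientGroup.nontrivial_iff.2 hperf
    obtain ⟨ψ, hψ⟩ := H24.exists_irr_ne_one (G := G ⧸ commutator G)
    refine ⟨H24.inflate (commutator G) ψ, fun h => hψ ?_, 0, ?_⟩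
    · refine H24.inflate_injective (commutator G) (Subtype.ext ?_)
      rw [h]
      funext g
      rw [H24.inflate_apply]
      rfl
    · rw [H24.charDegree_inflate, pow_zero]
      refine H24.charDegree_eq_one_of_comm (fun x y => ?_) ψ
      obtain ⟨x, rfl⟩ := QuotientGroup.mk_surjective x
      obtain ⟨y, rfl⟩ := QuotientGroup.mk_surjective y
      rw [← QuotientGroup.mk_mul, ← QuotientGroup.mk_mul, QuotientGroup.eq]
      exact Subgroup.commutator_mem_commutator (Subgroup.mem_top y⁻¹) (Subgroup.mem_top x⁻¹)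
        |> fun h => by simpa [commutatorElement_def, commutator_def, mul_assoc] using h
  have hns : ¬ Group.IsSolvable G := fun hs => by
    exact (Group.IsSolvable.commutator_lt_top_of_nontrivial G).ne hperf
  have hpdvd : p ∣ Nat.card G := by
    by_contra h
    apply hns
    refine H33.isSolvable_of_two_primes hq hr fun s hs hsd => ?_
    rw [hG] at hsd
    rcases (hs.dvd_mul).1 hsd with h1 | h1
    · rcases (hs.dvd_mul).1 h1 with h2 | h2
      · have he := (Nat.prime_dvd_prime_iff_eq hs hp).1 (hs.dvd_of_dvd_pow h2)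
        exact absurd (hG.symm ▸ (dvd_mul_of_dvd_left h1 _ : s ∣ p ^ a * q ^ b * r ^ c) :
          s ∣ Nat.card G) (he ▸ h)
      · exact Or.inl ((Nat.prime_dvd_prime_iff_eq hs hq).1 (hs.dvd_of_dvd_pow h2))
    · exact Or.inr ((Nat.prime_dvd_prime_iff_eq hs hr).1 (hs.dvd_of_dvd_pow h1))
  obtain ⟨y, hy⟩ := exists_prime_orderOf_dvd_card' p hpdvd
  obtain ⟨M, hM⟩ := H22.exists_isPModular p hp
  have := H20.isPrime_of_modular hM
  set B := principalBlock M G with hB
  have hone : H12.oneIrr G ∈ B := H20.mem_blockOf_self (H12.oneIrr G)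
  have horth := H20.weak_orthogonality hM (B := B) H20.isPBlock_principalBlock (x := 1) (y := y)
    (by rw [orderOf_one]; exact hp.not_dvd_one) (by rw [hy])
  -- some non-principal member of degree prime to `r`
  obtain ⟨χ, hχB, hχ1, hχr⟩ : ∃ χ ∈ B, χ ≠ H12.oneIrr G ∧ ¬ r ∣ charDegree (χ : G → ℂ) := by
    by_contra h
    simp only [not_exists, not_and, not_not] at h
    rw [finsum_mem_eq_toFinset_sum, ← Finset.add_sum_erase _ _ (Set.mem_toFinset.2 hone),
      H12.oneIrr_apply, H12.oneIrr_apply, map_one, one_mul] at horth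
    set T := (Set.toFinset B).erase (H12.oneIrr G)
    have hsum : ∑ χ ∈ T, (χ : G → ℂ) 1 * conj ((χ : G → ℂ) y) =
        (r : ℂ) * ∑ χ ∈ T, ((charDegree (χ : G → ℂ) / r : ℕ) : ℂ) * conj ((χ : G → ℂ) y) := by
      rw [Finset.mul_sum]
      refine Finset.sum_congr rfl fun χ hχ => ?_
      obtain ⟨hne, hmem⟩ := Finset.mem_erase.1 hχ
      rw [H24.irr_one, ← mul_assoc, ← Nat.cast_mul,
        Nat.mul_div_cancel' (h χ (Set.mem_toFinset.1 hmem) hne)]
    rw [hsum] at horth
    set S := ∑ χ ∈ T, ((charDegree (χ : G → ℂ) / r : ℕ) : ℂ) * conj ((χ : G → ℂ) y)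
    have hS : IsIntegral ℤ S := by
      refine IsIntegral.sum _ fun χ _ => IsIntegral.mul ?_ ?_
      · exact isIntegral_algebraMap (x := ((charDegree (χ : G → ℂ) / r : ℕ) : ℤ))
      · rw [← H12.irr_inv]
        exact H12.IsCharacter.isIntegral (H12.isCharacter_irr χ) _
    have hS' : S = ((-1 / r : ℚ) : ℂ) := by
      push_cast
      rw [eq_div_iff (by exact_mod_cast hr.ne_zero)]
      linear_combination horth
    rw [hS'] at hS
    obtain ⟨z, hz⟩ := H12.exists_int_of_isIntegral_rat hS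
    have hz' : (z : ℚ) * r = -1 := by
      rw [hz, div_mul_cancel₀ _ (Nat.cast_ne_zero.2 hr.ne_zero)]
    have hz'' : z * r = -1 := by exact_mod_cast hz'
    have : (r : ℤ) ∣ -1 := ⟨z, by rw [mul_comm]; exact hz''.symm⟩
    rw [dvd_neg] at this
    exact hr.ne_one (by exact_mod_cast Int.eq_one_of_dvd_one (Int.natCast_nonneg r) this)
  refine ⟨χ, fun h => hχ1 (Subtype.ext (h.trans (funext fun g => rfl))), ?_⟩
  have hd : blockDefect p B = (Nat.card G).factorization p := H22.blockDefect_principalBlock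
  have hpa : (Nat.card G).factorization p ≤ 2 := by
    have h1 : ¬ p ∣ q ^ b * r ^ c := fun h => by
      rcases (hp.dvd_mul).1 h with h2 | h2
      · exact hpq ((Nat.prime_dvd_prime_iff_eq hp hq).1 (hp.dvd_of_dvd_pow h2))
      · exact hpr ((Nat.prime_dvd_prime_iff_eq hp hr).1 (hp.dvd_of_dvd_pow h2))
    rw [hG, mul_assoc, Nat.factorization_mul (pow_ne_zero _ hp.ne_zero)
      (Nat.mul_ne_zero (pow_ne_zero _ hq.ne_zero) (pow_ne_zero _ hr.ne_zero)), Finsupp.add_apply,
      Nat.factorization_eq_zero_of_not_dvd h1, hp.factorization_pow, Finsupp.single_eq_same]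
    omega
  have hheight : blockHeight p B (χ : G → ℂ) = 0 := by
    obtain ⟨h1, h2⟩ := (Cfsg.Agent.S4710.result p M hM B H20.isPBlock_principalBlock _ hd).2 χ hχB
    rcases Nat.lt_or_ge ((Nat.card G).factorization p) 2 with h | h
    · exact h1 (by omega)
    · have := h2 h; omega
  have hpχ : ¬ p ∣ charDegree (χ : G → ℂ) := by
    intro h
    have hmin : sInf ((fun ψ : IrrCharacter G =>
        (charDegree (ψ : G → ℂ)).factorization p) '' B) = 0 :=
      Nat.sInf_eq_zero.2 (Or.inl ⟨H12.oneIrr G, hone, by simp [charDegree, H12.oneIrr_apply]⟩)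
    rw [blockHeight, hmin, Nat.sub_zero] at hheight
    exact (hp.factorization_pos_of_dvd (H24.irr_pos χ).ne' h).ne' hheight
  have hdvd : charDegree (χ : G → ℂ) ∣ p ^ a * q ^ b * r ^ c := hG ▸ H24.charDegree_dvd_card χ
  have h1 : charDegree (χ : G → ℂ) ∣ p ^ a * q ^ b :=
    (Nat.Coprime.pow_right c ((hr.coprime_iff_not_dvd.2 hχr).symm)).dvd_of_dvd_mul_right hdvd
  have h2 : charDegree (χ : G → ℂ) ∣ q ^ b :=
    (Nat.Coprime.pow_right a ((hp.coprime_iff_not_dvd.2 hpχ).symm)).dvd_of_dvd_mul_left h1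
  obtain ⟨k, -, hk⟩ := (Nat.dvd_prime_pow hq).1 h2
  exact ⟨k, hk⟩

end H17.ThreePrime
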