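import Cfsg.Agent.H17.Blichfeldt
import Cfsg.Agent.H20.Knorr
import Cfsg.Agent.H20.Orth
import Cfsg.Agent.H20.Block
import Cfsg.Agent.H24.CharBasic
import Cfsg.Agent.H12.Integral
import Mathlib.Analysis.SpecialFunctions.Complex.CircleAddChar

/-!
Simple groups of order `p^a q^b g₀`.
-/

set_option autoImplicit false
set_option linter.unusedSectionVars false

namespace H17.TwoPrime

open Finset Cfsg Module
open scoped ComplexConjugate

/-- Integrality in `ℂ`. -/
def IsInt' (z : ℂ) : Prop := IsIntegral ℤ z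

section Counting

variable {p : ℕ} [hp : Fact p.Prime]

theorem stdAddChar_eq_pow (j : ZMod p) :
    ZMod.stdAddChar j = (ZMod.stdAddChar (1 : ZMod p) : ℂ) ^ j.val := by
  rw [← AddChar.map_nsmul_eq_pow, nsmul_eq_mul, mul_one, ZMod.natCast_zmod_val]

theorem stdAddChar_pow_p (j : ZMod p) : (ZMod.stdAddChar j : ℂ) ^ p = 1 := by
  rw [← AddChar.map_nsmul_eq_pow, nsmul_eq_mul, ZMod.natCast_self, zero_mul, AddChar.map_zero_eq_one]

theorem isIntegral_stdAddChar (j : ZMod p) : IsIntegral ℤ (ZMod.stdAddChar j : ℂ) :=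
  IsIntegral.of_pow hp.out.pos (by rw [stdAddChar_pow_p]; exact isIntegral_one)

/-- the difference quotient -/
theorem exists_quot (a : ZMod p) :
    ∃ c : ℂ, IsIntegral ℤ c ∧
      (ZMod.stdAddChar a : ℂ) - 1 = ((ZMod.stdAddChar (1 : ZMod p) : ℂ) - 1) * c := by
  refine ⟨∑ i ∈ range a.val, (ZMod.stdAddChar (1 : ZMod p) : ℂ) ^ i,
    IsIntegral.sum _ fun i _ => (isIntegral_stdAddChar 1).pow i, ?_⟩
  rw [mul_comm, geom_sum_mul, ← stdAddChar_eq_pow]

theorem card_support_le {M : Ideal AlgInt} (hM : IsPModular p M) {ι : Type*} [Fintype ι]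
    (j : ι → ZMod p) (m d : ℕ) (hm : m ≠ 0) (hdeg : Fintype.card ι = m * d)
    (hdiv : ∀ k : ZMod p, k ≠ 0 → IsIntegral ℤ ((∑ i, (ZMod.stdAddChar (j i * k) : ℂ)) / m))
    (hcongr : MemLocalIdeal M ((∑ i, (ZMod.stdAddChar (j i) : ℂ)) / m - d)) :
    (univ.image j).card ≤ d := by
  classical
  haveI := H20.isPrime_of_modular hM
  set nn : ZMod p → ℕ := fun r => (univ.filter fun i => j i = r).card with hnn
  let χk : ZMod p → ℂ := fun k => ∑ i, (ZMod.stdAddChar (j i * k) : ℂ)
  have hfour : ∀ r, (p : ℂ) * nn r = ∑ k, χk k * (ZMod.stdAddChar (-(r * k)) : ℂ) := by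
    intro r
    simp only [χk, sum_mul, ← AddChar.map_add_eq_mul]
    rw [sum_comm]
    have : ∀ i, ∑ k : ZMod p, (ZMod.stdAddChar (j i * k + -(r * k)) : ℂ) =
        if j i = r then (p : ℂ) else 0 := by
      intro i
      have h := AddChar.sum_mulShift (j i - r) (ZMod.isPrimitive_stdAddChar p)
      rw [ZMod.card] at h
      rw [Finset.sum_congr rfl fun k _ => by rw [show j i * k + -(r * k) = k * (j i - r) by ring], h]
      simp only [sub_eq_zero]
      split_ifs <;> simp
    simp only [this, ← sum_filter, sum_const, nsmul_eq_mul, hnn]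
    ring
  set z1 : ℂ := (ZMod.stdAddChar (1 : ZMod p) : ℂ) with hz1
  have hz1M : MemLocalIdeal M (z1 - 1) := by
    have hmem : MemLocalRing M z1 := H20.memRing_of_isIntegral (isIntegral_stdAddChar 1)
    have h := H20.red_eq_one_of_pow_p_pow (j := 1) hM (w := (⟨z1, hmem⟩ : H20.O M))
      (Subtype.ext (by simp [hz1, stdAddChar_pow_p]))
    rw [← map_one (H20.red M), H20.red_eq_red_iff] at h
    simpa using h
  have hz1ne : z1 - 1 ≠ 0 := by
    rw [sub_ne_zero, hz1, ← AddChar.map_zero_eq_one (ZMod.stdAddChar (N := p))]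
    exact fun h => one_ne_zero (ZMod.injective_stdAddChar h)
  have hmem : ∀ r s : ZMod p, (m : ℤ) ∣ (nn r : ℤ) - nn s := by
    intro r s
    choose c hc1 hc2 using exists_quot (p := p)
    set D : ℤ := (nn r : ℤ) - nn s
    obtain ⟨C, hC, hCeq⟩ : ∃ C : ℂ, IsIntegral ℤ C ∧ (p : ℂ) * (D : ℂ) = (m : ℂ) * ((z1 - 1) * C) := by
      refine ⟨∑ k, (if k = 0 then 0 else χk k / m * (c (-(r * k)) - c (-(s * k)))), ?_, ?_⟩
      · refine IsIntegral.sum _ fun k _ => ?_
        split_ifs with hk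
        · exact isIntegral_zero
        · exact (hdiv k hk).mul ((hc1 _).sub (hc1 _))
      · simp only [D, Int.cast_sub, Int.cast_natCast, mul_sub, hfour, ← sum_sub_distrib, mul_sum]
        refine sum_congr rfl fun k _ => ?_
        split_ifs with hk
        · simp [hk]
        · have hm' : (m : ℂ) ≠ 0 := Nat.cast_ne_zero.2 hm
          have e1 : (ZMod.stdAddChar (-(r * k)) : ℂ) = (z1 - 1) * c (-(r * k)) + 1 := by
            rw [hz1, ← hc2]; ring
          have e2 : (ZMod.stdAddChar (-(s * k)) : ℂ) = (z1 - 1) * c (-(s * k)) + 1 := by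
            rw [hz1, ← hc2]; ring
          rw [e1, e2]
          field_simp
          ring
    obtain ⟨R, hR⟩ := H12.exists_int_of_isIntegral_rat (q := ((p : ℚ) * D) / m) (by
      push_cast
      rw [hCeq, mul_div_assoc, mul_div_cancel₀ _ (Nat.cast_ne_zero.2 hm)]
      exact (isIntegral_stdAddChar 1 |>.sub isIntegral_one).mul hC)
    rw [eq_div_iff (by exact_mod_cast hm)] at hR
    have hR' : (R : ℂ) * m = (p : ℂ) * D := by exact_mod_cast hR
    have hRC : (R : ℂ) = (z1 - 1) * C := by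
      rw [hCeq] at hR'
      exact mul_left_cancel₀ (Nat.cast_ne_zero.2 hm) (by rw [mul_comm]; exact hR')
    have hpR : (p : ℤ) ∣ R := by
      rw [← H20.intCast_memIdeal_iff hM, hRC, mul_comm]
      exact H20.memIdeal_mul (H20.memRing_of_isIntegral hC) hz1M
    obtain ⟨R', rfl⟩ := hpR
    have hR'' : ((p : ℤ) * R') * (m : ℤ) = (p : ℤ) * D := by exact_mod_cast hR'
    exact ⟨R', mul_left_cancel₀ (a := (p : ℤ)) (by exact_mod_cast hp.out.ne_zero)
      (by linear_combination -hR'')⟩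
  choose t ht using fun r => hmem r 0
  set S := ∑ r, t r
  have hsum : ((m * d : ℕ) : ℤ) = (p : ℤ) * nn 0 + m * S := by
    rw [← hdeg, ← card_univ, card_eq_sum_card_fiberwise (f := j) (t := univ) (fun i _ => mem_univ _)]
    push_cast
    rw [mul_sum, show (p : ℤ) * (nn 0 : ℤ) = ∑ _r : ZMod p, (nn 0 : ℤ) by simp, ← sum_add_distrib]
    exact sum_congr rfl fun r _ => by show ((nn r : ℕ) : ℤ) = _; linarith [ht r]
  have hval : (∑ i, (ZMod.stdAddChar (j i) : ℂ)) / m = ∑ r, (t r : ℂ) * (ZMod.stdAddChar r : ℂ) := by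
    rw [← sum_fiberwise_of_maps_to (g := j) (t := univ) (fun i _ => mem_univ _)]
    have : ∀ r, ∑ i ∈ univ.filter (fun i => j i = r), (ZMod.stdAddChar (j i) : ℂ) =
        ((nn 0 : ℂ) + (m : ℂ) * t r) * (ZMod.stdAddChar r : ℂ) := by
      intro r
      rw [sum_congr rfl fun i hi => by rw [(mem_filter.1 hi).2], sum_const, nsmul_eq_mul]
      congr 1
      have h := congrArg (fun x : ℤ => (x : ℂ)) (ht r)
      push_cast at h
      linear_combination h
    simp only [this, add_mul, sum_add_distrib, ← mul_sum, mul_assoc]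
    rw [AddChar.sum_eq_zero_of_ne_one, mul_zero, zero_add, mul_div_cancel_left₀ _ (Nat.cast_ne_zero.2 hm)]
    intro h
    exact hz1ne (by rw [hz1, h, AddChar.one_apply, sub_self])
  have hS : MemLocalIdeal M (((S - d : ℤ)) : ℂ) := by
    have h1 : MemLocalIdeal M (∑ r, (t r : ℂ) * ((ZMod.stdAddChar r : ℂ) - 1)) := by
      refine Finset.sum_induction _ (MemLocalIdeal M) (fun _ _ => H20.memIdeal_add) H20.memIdeal_zero
        fun r _ => ?_
      obtain ⟨c, hc1, hc2⟩ := exists_quot r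
      rw [hc2, ← hz1, mul_comm (z1 - 1), ← mul_assoc]
      exact H20.memIdeal_mul (H20.memRing_mul (H20.memRing_intCast _) (H20.memRing_of_isIntegral hc1)) hz1M
    have h2 := H20.memIdeal_add hcongr
      (H20.memIdeal_mul (H20.memRing_neg (H20.memRing_natCast 1)) h1)
    rw [hval] at h2
    simp only [mul_sub, mul_one, sum_sub_distrib, Nat.cast_one] at h2
    convert h2 using 1
    simp only [S]; push_cast; ring
  obtain ⟨R, hR⟩ := (H20.intCast_memIdeal_iff hM _).1 hS
  have hdvd : ∀ r, m ∣ nn r := by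
    intro r
    have h0 : (m : ℤ) ∣ nn 0 := by
      refine ⟨-R, mul_left_cancel₀ (a := (p : ℤ)) (by exact_mod_cast hp.out.ne_zero) ?_⟩
      push_cast at hsum
      linear_combination -hsum - (m : ℤ) * hR
    have h := dvd_add (hmem r 0) h0
    rw [sub_add_cancel] at h
    exact Int.natCast_dvd_natCast.1 h
  have h := card_eq_sum_card_fiberwise (f := j) (t := univ.image j) (s := univ)
    (fun i _ => mem_image_of_mem _ (mem_univ i))
  rw [card_univ, hdeg] at h
  have hle : ∀ r ∈ univ.image j, m ≤ (univ.filter fun i => j i = r).card := fun r hr => by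
    obtain ⟨i, -, rfl⟩ := mem_image.1 hr
    exact Nat.le_of_dvd (card_pos.2 ⟨i, by simp⟩) (hdvd _)
  have := card_nsmul_le_sum _ _ _ hle
  rw [← h, smul_eq_mul, mul_comm] at this
  exact Nat.le_of_mul_le_mul_left this (Nat.pos_of_ne_zero hm)

theorem exists_close (J : Finset (ZMod p)) (j0 : ZMod p) (hj0 : j0 ∈ J)
    (hlt : 6 ^ (J.card - 1) < p) :
    ∃ h : ZMod p, h ≠ 0 ∧ ∀ j ∈ J, ‖(ZMod.stdAddChar (h * (j - j0)) : ℂ) - 1‖ < 1 := by
  classical
  let f : ZMod p → (↥(J.erase j0) → Fin 6) := fun k i =>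
    ⟨6 * (k * (i.1 - j0)).val / p, Nat.div_lt_of_lt_mul (by
      have := ZMod.val_lt (k * (i.1 - j0)); rw [mul_comm p 6]; omega)⟩
  obtain ⟨k, k', hne, he⟩ := Fintype.exists_ne_map_eq_of_card_lt f (by
    rw [Fintype.card_fun, Fintype.card_coe, Fintype.card_fin, ZMod.card, card_erase_of_mem hj0]
    exact hlt)
  refine ⟨k - k', sub_ne_zero.2 hne, fun i hi => ?_⟩
  by_cases hi0 : i = j0
  · simp [hi0]
  have hb := congrArg Fin.val (congrFun he ⟨i, mem_erase.2 ⟨hi0, hi⟩⟩)
  simp only [f] at hb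
  set A := (k * (i - j0)).val
  set B := (k' * (i - j0)).val
  have hE : (k - k') * (i - j0) = (((A : ℤ) - B : ℤ) : ZMod p) := by
    push_cast
    simp only [A, B, ZMod.natCast_zmod_val]; ring
  rw [hE, ZMod.stdAddChar_coe]
  set x : ℝ := 2 * Real.pi * (((A : ℤ) - B : ℤ) : ℝ) / p with hx
  rw [show 2 * (Real.pi : ℂ) * Complex.I * (((A : ℤ) - B : ℤ) : ℂ) / (p : ℂ) = Complex.I * (x : ℂ) by
    rw [hx]; push_cast; ring, Complex.norm_exp_I_mul_ofReal_sub_one, Real.norm_eq_abs, abs_mul, abs_two]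
  have hp0 : (0 : ℝ) < p := by exact_mod_cast hp.out.pos
  have hAB : |(((A : ℤ) - B : ℤ) : ℝ)| * 6 < p := by
    have hA := Nat.div_add_mod (6 * A) p
    have hB := Nat.div_add_mod (6 * B) p
    have hA' := Nat.mod_lt (6 * A) hp.out.pos
    have hB' := Nat.mod_lt (6 * B) hp.out.pos
    rw [hb] at hA
    have : |((A : ℤ) - B)| * 6 < p := by
      rcases abs_cases ((A : ℤ) - B) with ⟨e, -⟩ | ⟨e, -⟩ <;> rw [e] <;> omega
    exact_mod_cast this
  have hx6 : |x / 2| < Real.pi / 6 := by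
    rw [hx, show 2 * Real.pi * (((A : ℤ) - B : ℤ) : ℝ) / p / 2 =
      Real.pi * ((((A : ℤ) - B : ℤ) : ℝ) / p) by ring, abs_mul, abs_of_pos Real.pi_pos, abs_div,
      abs_of_pos hp0, div_eq_mul_one_div Real.pi 6]
    refine mul_lt_mul_of_pos_left ?_ Real.pi_pos
    rw [div_lt_div_iff₀ hp0 (by norm_num)]
    linarith
  have hs : |Real.sin (x / 2)| < 1 / 2 := by
    rw [abs_lt] at hx6 ⊢
    constructor
    · rw [← Real.sin_pi_div_six, ← Real.sin_neg]
      exact Real.sin_lt_sin_of_lt_of_le_pi_div_two (by linarith [Real.pi_pos])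
        (by linarith [Real.pi_pos]) hx6.1
    · rw [← Real.sin_pi_div_six]
      exact Real.sin_lt_sin_of_lt_of_le_pi_div_two (by linarith [Real.pi_pos])
        (by linarith [Real.pi_pos]) hx6.2
  linarith

end Counting

universe u

theorem main {G : Type u} [Group G] [Fintype G] [IsSimpleGroup G] (p q a b g₀ : ℕ) (hp : p.Prime)
    (hq : q.Prime) (hpq : p ≠ q) (ha : 0 < a) (hg : Nat.card G = p ^ a * q ^ b * g₀)
    (hcop : ¬ p ∣ g₀) (hcoq : ¬ q ∣ g₀) (hne : Nat.card G ≠ p) : p < 6 ^ (g₀ - 1) := by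
  classical
  haveI : Fact p.Prime := ⟨hp⟩
  have hg0 : g₀ ≠ 0 := fun h => hcop (h ▸ dvd_zero p)
  by_contra hcon
  push Not at hcon
  have hbig : 6 ^ (g₀ - 1) < p := by
    refine lt_of_le_of_ne hcon fun h => ?_
    rcases Nat.eq_zero_or_pos (g₀ - 1) with h0 | h0
    · rw [h0, pow_zero] at h; exact hp.one_lt.ne h
    · obtain ⟨e, he⟩ : ∃ e, g₀ - 1 = e + 1 := ⟨g₀ - 2, by omega⟩
      rw [he, pow_succ'] at h
      have h6 : (6 : ℕ) ∣ p := ⟨6 ^ e, h.symm⟩
      rcases (Nat.dvd_prime hp).1 h6 with h' | h'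
      · norm_num at h'
      · rw [← h'] at hp; norm_num at hp
  -- centre trivial
  have hpG : p ∣ Nat.card G := by rw [hg]; exact Dvd.dvd.mul_right (Dvd.dvd.mul_right (dvd_pow_self p ha.ne') _) _
  have hcenter : Subgroup.center G = ⊥ := by
    refine ((inferInstance : (Subgroup.center G).Normal).eq_bot_or_eq_top).resolve_right fun htop => ?_
    letI : CommGroup G := { (inferInstance : Group G) with
      mul_comm := fun x y => Subgroup.mem_center_iff.1 (htop ▸ Subgroup.mem_top y) x }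
    exact hne ((Nat.prime_dvd_prime_iff_eq hp IsSimpleGroup.prime_card).1 hpG).symm
  -- a central element of a Sylow subgroup
  obtain ⟨P⟩ := (inferInstance : Nonempty (Sylow p G))
  obtain ⟨x, hxo, hxc⟩ : ∃ x : G, orderOf x = p ∧ (P : Subgroup G) ≤ Subgroup.centralizer ({x} : Set G) := by
    haveI : Nontrivial (P : Subgroup G) := by
      rw [← Finite.one_lt_card_iff_nontrivial, P.card_eq_multiplicity]
      exact Nat.one_lt_pow (hp.factorization_pos_of_dvd Nat.card_pos.ne' hpG).ne' hp.one_lt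
    haveI := P.isPGroup'.center_nontrivial
    have hcp : p ∣ Nat.card (Subgroup.center (P : Subgroup G)) := by
      obtain ⟨k, hk⟩ := IsPGroup.iff_card.1 (P.isPGroup'.to_subgroup (Subgroup.center _))
      rw [hk]
      refine dvd_pow_self p fun h0 => ?_
      have := Finite.one_lt_card (α := Subgroup.center (P : Subgroup G))
      rw [hk, h0, pow_zero] at this
      exact lt_irrefl 1 this
    obtain ⟨y, hy⟩ := exists_prime_orderOf_dvd_card' p hcp
    refine ⟨((y : (P : Subgroup G)) : G), by rw [Subgroup.orderOf_coe, Subgroup.orderOf_coe]; exact hy,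
      fun z hz => Subgroup.mem_centralizer_singleton_iff.2 ?_⟩
    have := Subgroup.mem_center_iff.1 y.2 (⟨z, hz⟩ : (P : Subgroup G))
    exact congrArg Subtype.val this
  set c := (Subgroup.centralizer ({x} : Set G)).index with hc
  have hcdvd : c ∣ Nat.card G := Subgroup.index_dvd_card _
  have hcp : ¬ p ∣ c := fun hd => P.not_dvd_index (hd.trans (Subgroup.index_dvd_of_le hxc))
  obtain ⟨M, hM⟩ := H20.exists_isPModular hp
  haveI := H20.isPrime_of_modular hM
  -- the character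
  obtain ⟨χ, hχB, hχne, hχq⟩ : ∃ χ ∈ principalBlock M G, χ ≠ H12.oneIrr G ∧
      ¬ q ∣ H12.degree (χ : G → ℂ) := by
    by_contra hno
    push Not at hno
    have horth := H20.weak_orthogonality hM (H20.isPBlock_principalBlock (M := M) (G := G))
      (x := (1 : G)) (y := x) (by rw [orderOf_one]; exact hp.not_dvd_one) (by rw [hxo])
    rw [finsum_mem_eq_toFinset_sum, ← add_sum_erase _ _
      (show H12.oneIrr G ∈ (principalBlock M G).toFinset from
        Set.mem_toFinset.2 (H20.mem_blockOf_self (H12.oneIrr G)))] at horth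
    simp only [H12.oneIrr_apply, map_one, mul_one] at horth
    have hterm : ∀ χ ∈ (principalBlock M G).toFinset.erase (H12.oneIrr G),
        ∃ z : ℂ, IsIntegral ℤ z ∧ (χ : G → ℂ) 1 * conj ((χ : G → ℂ) x) = (q : ℂ) * z := by
      intro χ hχ
      obtain ⟨hne', hmem⟩ := mem_erase.1 hχ
      obtain ⟨k, hk⟩ := hno χ (Set.mem_toFinset.1 hmem) hne'
      refine ⟨(k : ℂ) * conj ((χ : G → ℂ) x), IsIntegral.mul (isIntegral_natCast k) ?_, by
        rw [H12.irr_apply_one, hk]; push_cast; ring⟩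
      rw [← H12.conjIrr_apply]
      obtain ⟨n, ρ, -, h⟩ := (H12.conjIrr χ).2
      rw [← h]; exact H12.isIntegral_character ρ x
    choose! z hz1 hz2 using hterm
    rw [sum_congr rfl hz2, ← mul_sum] at horth
    have hint : IsIntegral ℤ ((1 : ℕ) / (q : ℂ)) := by
      have hq0 : (q : ℂ) ≠ 0 := Nat.cast_ne_zero.2 hq.ne_zero
      rw [show ((1 : ℕ) : ℂ) / (q : ℂ) = -∑ χ ∈ (principalBlock M G).toFinset.erase (H12.oneIrr G), z χ by
        field_simp; push_cast; linear_combination horth]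
      exact (IsIntegral.sum _ hz1).neg
    exact hq.not_dvd_one (H12.nat_dvd_of_isIntegral_div hq.ne_zero hint)
  set D := H12.degree (χ : G → ℂ) with hD
  have hD0 : D ≠ 0 := (H12.irr_degree_pos χ).ne'
  set d := Nat.gcd D c with hd
  have hd0 : d ≠ 0 := Nat.gcd_ne_zero_left hD0
  obtain ⟨m, hm⟩ := Nat.gcd_dvd_left D c
  rw [← hd] at hm
  have hm0 : m ≠ 0 := fun h => hD0 (by rw [hm, h, mul_zero])
  have hdg : d ∣ g₀ := by
    have h1 : d ∣ p ^ a * q ^ b * g₀ := by rw [← hg]; exact (Nat.gcd_dvd_right D c).trans hcdvd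
    have h2 : Nat.Coprime d (p ^ a * q ^ b) := by
      refine Nat.Coprime.mul_right ?_ ?_
      · exact (Nat.Coprime.pow_right a ((hp.coprime_iff_not_dvd.2 fun h => hcp (h.trans (Nat.gcd_dvd_right D c))).symm))
      · exact (Nat.Coprime.pow_right b ((hq.coprime_iff_not_dvd.2 fun h => hχq (h.trans (Nat.gcd_dvd_left D c))).symm))
    exact h2.dvd_of_dvd_mul_left h1
  obtain ⟨n, ρ, hρ, hρχ⟩ := χ.2
  haveI := hρ
  have hfin : finrank ℂ (Fin n → ℂ) = D := by
    rw [hD, ← hρχ, H12.degree_character]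
  have hTp : (ρ x) ^ p = 1 := by rw [← map_pow, ← hxo, pow_orderOf_eq_one, map_one]
  obtain ⟨bb, μ, hbμ⟩ := H12.exists_eigenbasis hp.ne_zero hTp
  have htr : ∀ k : ℕ, ρ.character (x ^ k) = ∑ i, μ i ^ k := by
    intro k
    have hk : ∀ i, (ρ (x ^ k)) (bb i) = μ i ^ k • bb i := by
      intro i
      induction k with
      | zero => simp
      | succ k ih => rw [pow_succ, map_mul, Module.End.mul_apply, (hbμ i).1, map_smul, ih, smul_smul, ← pow_succ']
    show LinearMap.trace ℂ _ (ρ (x ^ k)) = _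
    rw [LinearMap.trace_eq_matrix_trace ℂ bb, Matrix.trace]
    refine sum_congr rfl fun i _ => ?_
    simp [LinearMap.toMatrix_apply, -map_pow, hk i]
  have hroot : ∀ i, ∃ r : ZMod p, μ i = (ZMod.stdAddChar r : ℂ) := by
    intro i
    have hprim : IsPrimitiveRoot (ZMod.stdAddChar (1 : ZMod p) : ℂ) p := by
      refine IsPrimitiveRoot.iff_def _ _ |>.2 ⟨stdAddChar_pow_p 1, fun l hl => ?_⟩
      rw [← AddChar.map_nsmul_eq_pow, ← AddChar.map_zero_eq_one (ZMod.stdAddChar (N := p))] at hl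
      have := ZMod.injective_stdAddChar hl
      rwa [nsmul_eq_mul, mul_one, CharP.cast_eq_zero_iff (ZMod p) p] at this
    obtain ⟨l, -, hl⟩ := hprim.eq_pow_of_pow_eq_one (hbμ i).2
    exact ⟨l, by rw [← hl, ← AddChar.map_nsmul_eq_pow, nsmul_eq_mul, mul_one]⟩
  choose r hr using hroot
  have hval : ∀ k : ZMod p, ∑ i, (ZMod.stdAddChar (r i * k) : ℂ) = (χ : G → ℂ) (x ^ k.val) := by
    intro k
    rw [← hρχ, htr]
    refine sum_congr rfl fun i _ => ?_
    rw [hr i, ← AddChar.map_nsmul_eq_pow, nsmul_eq_mul, ZMod.natCast_zmod_val, mul_comm]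
  have hcent : ∀ k : ZMod p, k ≠ 0 → (Subgroup.centralizer ({x ^ k.val} : Set G)).index = c := by
    intro k hk
    have hz : x ∈ Subgroup.zpowers (x ^ k.val) := by
      refine Subgroup.mem_zpowers_iff.2 ⟨((k⁻¹).val : ℤ), ?_⟩
      rw [zpow_natCast, ← pow_mul, ← pow_mod_orderOf, hxo,
        show k.val * (k⁻¹).val % p = 1 from ?_, pow_one]
      rw [← ZMod.val_mul, mul_inv_cancel₀ hk, ZMod.val_one]
    congr 1
    ext g
    simp only [Subgroup.mem_centralizer_singleton_iff]
    constructor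
    · intro hg'
      obtain ⟨e, he⟩ := Subgroup.mem_zpowers_iff.1 hz
      rw [← he]
      exact (Commute.zpow_right (hg' : Commute g (x ^ k.val)) e)
    · intro hg'
      exact (Commute.pow_right (hg' : Commute g x) k.val)
  have hdiv : ∀ k : ZMod p, k ≠ 0 →
      IsIntegral ℤ ((∑ i, (ZMod.stdAddChar (r i * k) : ℂ)) / m) := by
    intro k hk
    rw [hval]
    have h1 := H12.isIntegral_classSize_mul_char_div ρ (x ^ k.val)
    rw [hcent k hk, hfin, hρχ] at h1
    have hχi : IsIntegral ℤ ((χ : G → ℂ) (x ^ k.val)) := by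
      rw [← hρχ]; exact H12.isIntegral_character ρ _
    have hb := Nat.gcd_eq_gcd_ab D c
    have hb' : (d : ℂ) = (D : ℂ) * (Nat.gcdA D c : ℂ) + (c : ℂ) * (Nat.gcdB D c : ℂ) := by
      rw [hd]; exact_mod_cast hb
    have e : (χ : G → ℂ) (x ^ k.val) / m = (Nat.gcdA D c : ℂ) * (χ : G → ℂ) (x ^ k.val) +
        (Nat.gcdB D c : ℂ) * ((c : ℂ) * (χ : G → ℂ) (x ^ k.val) / (D : ℂ)) := by
      have hD' : (D : ℂ) = (d : ℂ) * m := by rw [hm]; push_cast; ring
      have hd' : (d : ℂ) ≠ 0 := Nat.cast_ne_zero.2 hd0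
      have hm' : (m : ℂ) ≠ 0 := Nat.cast_ne_zero.2 hm0
      rw [hD'] at hb' ⊢
      field_simp
      linear_combination ((χ : G → ℂ) (x ^ k.val)) * hb'
    rw [e]
    exact ((isIntegral_algebraMap (R := ℤ) (x := Nat.gcdA D c)).mul hχi).add
      ((isIntegral_algebraMap (R := ℤ) (x := Nat.gcdB D c)).mul h1)
  have hcongr : MemLocalIdeal M ((∑ i, (ZMod.stdAddChar (r i) : ℂ)) / m - d) := by
    have h1 := hval 1
    simp only [mul_one, ZMod.val_one, pow_one] at h1
    rw [h1]
    have hsb := H20.sameBlock_of_mem H20.isPBlock_principalBlock hχB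
      (show H12.oneIrr G ∈ principalBlock M G from H20.mem_blockOf_self (H12.oneIrr G)) x
    simp only [centralChar, H12.oneIrr_apply, mul_one, div_one, ← hc] at hsb
    have h2 := H20.memIdeal_mul (H20.memRing_natCast d)
      (H20.memIdeal_mul (H20.inv_natCast_memRing hM hcp) hsb)
    convert h2 using 1
    rw [H12.irr_apply_one, ← hD, hm]
    have hm' : (m : ℂ) ≠ 0 := Nat.cast_ne_zero.2 hm0
    have hd' : (d : ℂ) ≠ 0 := Nat.cast_ne_zero.2 hd0
    have hc' : (c : ℂ) ≠ 0 := Nat.cast_ne_zero.2 fun h => hcp (h ▸ dvd_zero p)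
    push_cast
    field_simp
  have hJ : (univ.image r).card ≤ d :=
    card_support_le hM r m d hm0 (by rw [Fintype.card_fin, hfin, hm, mul_comm]) hdiv hcongr
  haveI : Nonempty (Fin (finrank ℂ (Fin n → ℂ))) := ⟨⟨0, by rw [hfin]; exact Nat.pos_of_ne_zero hD0⟩⟩
  obtain ⟨i0⟩ := ‹Nonempty (Fin (finrank ℂ (Fin n → ℂ)))›
  obtain ⟨h, hh0, hh⟩ := exists_close (univ.image r) (r i0) (mem_image_of_mem _ (mem_univ i0))
    (lt_of_le_of_lt (Nat.pow_le_pow_right (by norm_num)
      (Nat.sub_le_sub_right (hJ.trans (Nat.le_of_dvd (Nat.pos_of_ne_zero hg0) hdg)) 1)) hbig)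
  set s := x ^ h.val
  have hs1 : s ≠ 1 := by
    intro hs
    have := orderOf_dvd_of_pow_eq_one hs
    rw [hxo] at this
    exact hh0 ((ZMod.val_eq_zero h).1 (Nat.eq_zero_of_dvd_of_lt this (ZMod.val_lt h)))
  have hbs : ∀ i, ρ s (bb i) = (ZMod.stdAddChar (h * r i) : ℂ) • bb i := by
    intro i
    have hk : ∀ k : ℕ, (ρ (x ^ k)) (bb i) = μ i ^ k • bb i := by
      intro k
      induction k with
      | zero => simp
      | succ k ih => rw [pow_succ, map_mul, Module.End.mul_apply, (hbμ i).1, map_smul, ih, smul_smul, ← pow_succ']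
    rw [hk, hr i, ← AddChar.map_nsmul_eq_pow, nsmul_eq_mul, ZMod.natCast_zmod_val]
  have hso : orderOf s = p := by
    refine orderOf_eq_prime ?_ hs1
    rw [← pow_mul, mul_comm, pow_mul, show x ^ p = 1 from hxo ▸ pow_orderOf_eq_one x, one_pow]
  have hscal := H17.Blichfeldt.scalar_of_close ρ s hs1 bb _ hbs
    (fun i => by rw [hso]; exact stdAddChar_pow_p _) i0 (fun i => by
      have hE : (ZMod.stdAddChar (h * r i) : ℂ) - (ZMod.stdAddChar (h * r i0) : ℂ) =
          (ZMod.stdAddChar (h * r i0) : ℂ) * ((ZMod.stdAddChar (h * (r i - r i0)) : ℂ) - 1) := by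
        rw [mul_sub, mul_one, ← AddChar.map_add_eq_mul, ← mul_add, add_sub_cancel]
      rw [hE, norm_mul, H12.norm_eq_one_of_pow_eq_one hp.ne_zero (stdAddChar_pow_p _), one_mul]
      exact hh _ (mem_image_of_mem _ (mem_univ i)))
  -- faithfulness
  have hker : (ρ.ker : Subgroup G) = ⊥ := by
    refine ((inferInstance : (ρ.ker : Subgroup G).Normal).eq_bot_or_eq_top).resolve_right fun htop => ?_
    refine hχne (Subtype.ext ?_)
    have h1 : ∀ g, (χ : G → ℂ) g = (χ : G → ℂ) 1 := fun g => by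
      rw [← hρχ]
      show LinearMap.trace ℂ _ (ρ g) = LinearMap.trace ℂ _ (ρ 1)
      rw [show ρ g = 1 from MonoidHom.mem_ker.1 (htop ▸ Subgroup.mem_top g), map_one ρ]
    have hin := H12.classInner_irr χ (H12.oneIrr G)
    by_contra hne'
    rw [if_neg (fun e => hne' (congrArg Subtype.val e)), classInner] at hin
    simp only [H12.oneIrr_apply, map_one, mul_one, h1, sum_const, card_univ, nsmul_eq_mul] at hin
    rcases mul_eq_zero.1 hin with h' | h'
    · exact H12.card_ne_zero' (inv_eq_zero.1 h')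
    · rcases mul_eq_zero.1 h' with h'' | h''
      · exact Fintype.card_ne_zero (Nat.cast_eq_zero.1 h'')
      · exact H12.irr_apply_one_ne_zero χ h''
  refine hs1 (Subgroup.mem_bot.1 (hcenter ▸ Subgroup.mem_center_iff.2 fun g => ?_))
  refine (MonoidHom.ker_eq_bot_iff ρ).1 hker ?_
  rw [map_mul, map_mul]
  refine LinearMap.ext fun v => ?_
  simp only [Module.End.mul_apply, hscal, map_smul]

end H17.TwoPrime
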