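import Cfsg.Agent.H17.U33Model

/-!
The Borel subgroup and Bruhat decomposition of the model of `SU₃(3)`.
-/

set_option autoImplicit false
set_option linter.unusedSectionVars false

namespace H17.U33

open Matrix Cfsg

/-- the condition on unipotent parameters -/
def UOK (a c : K) : Prop := c + c * c * c + a * a * a * a = 0

instance (a c : K) : Decidable (UOK a c) := by unfold UOK; infer_instance

/-- unipotent parameters -/
abbrev UP : Type := {p : K × K // UOK p.1 p.2}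

/-- unipotent matrix -/
def uMat (a c : K) : M3 := !![1, -(a * a * a), c; 0, 1, a; 0, 0, 1]

/-- torus matrix -/
def tMat (x : K) : M3 := !![x, 0, 0; 0, x * x, 0; 0, 0, x * x * x * x * x]

/-- Weyl matrix -/
def wMat : M3 := !![0, 0, 1; 0, -1, 0; 1, 0, 0]

theorem uMat_ok : ∀ a c : K, UOK a c → (uMat a c).det = 1 ∧ ct (uMat a c) * J * uMat a c = J := by
  decide +kernel

theorem tMat_ok : ∀ x : K, x ≠ 0 → (tMat x).det = 1 ∧ ct (tMat x) * J * tMat x = J := by
  decide +kernel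

theorem wMat_ok : wMat.det = 1 ∧ ct wMat * J * wMat = J ∧ wMat * wMat = 1 := by
  decide +kernel

theorem conj_tMat : ∀ x : K, x ≠ 0 → wMat * tMat x * wMat = tMat (x * x * x * x * x) := by
  decide +kernel

/-- unipotent element -/
def uEl (u : UP) : GJ := mk (uMat u.1.1 u.1.2) (uMat_ok _ _ u.2).1 (uMat_ok _ _ u.2).2

/-- torus element -/
def tEl (x : Kˣ) : GJ := mk (tMat x) (tMat_ok _ x.ne_zero).1 (tMat_ok _ x.ne_zero).2

/-- Weyl element -/
def wEl : GJ := mk wMat wMat_ok.1 wMat_ok.2.1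

theorem w_mul_w : wEl * wEl = 1 := mat_injective wMat_ok.2.2

theorem w_inv : wEl⁻¹ = wEl := inv_eq_of_mul_eq_one_right w_mul_w

theorem conj_tEl (x : Kˣ) : wEl * tEl x * wEl = tEl (x ^ 5) := by
  refine mat_injective ?_
  show wMat * tMat x * wMat = tMat ((x ^ 5 : Kˣ) : K)
  rw [conj_tMat _ x.ne_zero, Units.val_pow_eq_pow_val]
  congr 1
  ring

/-- the Borel subgroup -/
def B : Subgroup GJ where
  carrier := {g | mat g 1 0 = 0 ∧ mat g 2 0 = 0}
  one_mem' := by simp [mat_one]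
  mul_mem' {a b} ha hb := by
    simp only [Set.mem_setOf_eq] at ha hb ⊢
    simp [mat_mul, Matrix.mul_apply, Fin.sum_univ_three, ha.1, ha.2, hb.1, hb.2]
  inv_mem' {a} ha := by
    simp only [Set.mem_setOf_eq] at ha ⊢
    have h : mat a⁻¹ * mat a = 1 := by rw [← mat_mul, inv_mul_cancel, mat_one]
    have h0 := congrFun (congrFun h 0) 0
    have h1 := congrFun (congrFun h 1) 0
    have h2 := congrFun (congrFun h 2) 0
    simp only [Matrix.mul_apply, Fin.sum_univ_three, ha.1, ha.2, mul_zero, add_zero] at h0 h1 h2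
    simp only [Matrix.one_apply_eq] at h0
    simp at h1 h2
    have hne : mat a 0 0 ≠ 0 := fun h' => by rw [h', mul_zero] at h0; exact zero_ne_one h0
    exact ⟨h1.resolve_right hne, h2.resolve_right hne⟩

theorem mem_B {g : GJ} : g ∈ B ↔ mat g 1 0 = 0 ∧ mat g 2 0 = 0 := Iff.rfl

theorem tu_apply (x : Kˣ) (u : UP) :
    mat (tEl x * uEl u) =
      !![(x : K), x * -(u.1.1 * u.1.1 * u.1.1), x * u.1.2;
        0, x * x, x * x * u.1.1;
        0, 0, x * x * x * x * x] := by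
  refine Matrix.ext fun i j => ?_
  show (tMat x * uMat u.1.1 u.1.2) i j = _
  fin_cases i <;> fin_cases j <;> simp [tMat, uMat, Matrix.mul_apply, Fin.sum_univ_three]

theorem wu_apply (u : UP) :
    mat (wEl * uEl u) =
      !![0, 0, 1; 0, -1, -u.1.1; 1, -(u.1.1 * u.1.1 * u.1.1), u.1.2] := by
  refine Matrix.ext fun i j => ?_
  show (wMat * uMat u.1.1 u.1.2) i j = _
  fin_cases i <;> fin_cases j <;> simp [wMat, uMat, Matrix.mul_apply, Fin.sum_univ_three]

theorem tu_mem (x : Kˣ) (u : UP) : tEl x * uEl u ∈ B := by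
  rw [mem_B, tu_apply]; exact ⟨rfl, rfl⟩

/-- a big cell element -/
def bigEl (p : (Kˣ × UP) × UP) : GJ := tEl p.1.1 * uEl p.1.2 * (wEl * uEl p.2)

theorem bigEl_row (p : (Kˣ × UP) × UP) :
    mat (bigEl p) 2 0 = (p.1.1 : K) * p.1.1 * p.1.1 * p.1.1 * p.1.1 ∧
      mat (bigEl p) 2 1 = (p.1.1 : K) * p.1.1 * p.1.1 * p.1.1 * p.1.1 * -(p.2.1.1 * p.2.1.1 * p.2.1.1) ∧
      mat (bigEl p) 2 2 = (p.1.1 : K) * p.1.1 * p.1.1 * p.1.1 * p.1.1 * p.2.1.2 := by
  simp only [bigEl, mat_mul (tEl p.1.1 * uEl p.1.2), tu_apply, wu_apply]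
  simp [Matrix.mul_apply, Fin.sum_univ_three]

theorem bigEl_not_mem (p : (Kˣ × UP) × UP) : bigEl p ∉ B := fun h => by
  have := (bigEl_row p).1.symm.trans h.2
  exact p.1.1.ne_zero (by simpa using this)

theorem cube_inj : ∀ a b : K, a * a * a = b * b * b → a = b := by decide +kernel

theorem tu_injective : Function.Injective fun p : Kˣ × UP => tEl p.1 * uEl p.2 := by
  rintro ⟨x, ⟨⟨a, c⟩, hu⟩⟩ ⟨x', ⟨⟨a', c'⟩, hu'⟩⟩ h
  have hm := congrArg mat h
  simp only [tu_apply] at hm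
  have h00 := congrFun (congrFun hm 0) 0
  have h01 := congrFun (congrFun hm 0) 1
  have h02 := congrFun (congrFun hm 0) 2
  simp at h00 h01 h02
  obtain rfl : x = x' := Units.ext h00
  have ha : a = a' := cube_inj a a' (mul_left_cancel₀ x.ne_zero h01)
  have hc : c = c' := mul_left_cancel₀ x.ne_zero h02
  subst ha; subst hc; rfl

theorem bigEl_injective : Function.Injective bigEl := by
  rintro ⟨p, ⟨⟨a, c⟩, hu⟩⟩ ⟨p', ⟨⟨a', c'⟩, hu'⟩⟩ h
  obtain ⟨h0, h1, h2⟩ := bigEl_row (p, ⟨(a, c), hu⟩)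
  obtain ⟨g0, g1, g2⟩ := bigEl_row (p', ⟨(a', c'), hu'⟩)
  rw [h] at h0 h1 h2
  rw [h0] at g0
  rw [h1, ← g0] at g1
  rw [h2, ← g0] at g2
  have hx : (p.1 : K) * p.1 * p.1 * p.1 * p.1 ≠ 0 := by simp [p.1.ne_zero]
  have ha : a = a' := cube_inj a a' (neg_inj.1 (mul_left_cancel₀ hx g1))
  have hc : c = c' := mul_left_cancel₀ hx g2
  subst ha; subst hc
  have hp : p = p' := tu_injective (mul_right_cancel h)
  rw [hp]

theorem card_UP : Fintype.card UP = 27 := by decide +kernel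

theorem card_Kx : Fintype.card Kˣ = 8 := by rw [Fintype.card_units, card_K]; norm_num

/-- the two cells -/
noncomputable def cells : (Kˣ × UP) ⊕ (Kˣ × UP) × UP → GJ :=
  Sum.elim (fun p => tEl p.1 * uEl p.2) bigEl

theorem cells_bijective : Function.Bijective cells := by
  refine (Fintype.bijective_iff_injective_and_card cells).2 ⟨?_, ?_⟩
  · rintro (p | p) (q | q) h
    · exact congrArg Sum.inl (tu_injective h)
    · exact absurd ((show cells (Sum.inl p) = bigEl q from h) ▸ tu_mem p.1 p.2) (bigEl_not_mem q)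
    · exact absurd ((show bigEl p = cells (Sum.inl q) from h) ▸ tu_mem q.1 q.2) (bigEl_not_mem p)
    · exact congrArg Sum.inr (bigEl_injective h)
  · rw [← Nat.card_eq_fintype_card (α := GJ), card_GJ]
    simp [card_UP]
    rw [card_Kx]

theorem exists_of_mem {g : GJ} (hg : g ∈ B) : ∃ x u, g = tEl x * uEl u := by
  obtain ⟨s, rfl⟩ := cells_bijective.2 g
  rcases s with p | p
  · exact ⟨p.1, p.2, rfl⟩
  · exact absurd hg (bigEl_not_mem p)

theorem exists_of_not_mem {g : GJ} (hg : g ∉ B) : ∃ b ∈ B, ∃ u, g = b * (wEl * uEl u) := by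
  obtain ⟨s, rfl⟩ := cells_bijective.2 g
  rcases s with p | p
  · exact absurd (tu_mem p.1 p.2) hg
  · exact ⟨_, tu_mem p.1.1 p.1.2, p.2, rfl⟩

theorem unique_big {b b' : GJ} (hb : b ∈ B) (hb' : b' ∈ B) {u u' : UP}
    (h : b * (wEl * uEl u) = b' * (wEl * uEl u')) : b = b' ∧ u = u' := by
  obtain ⟨x, v, rfl⟩ := exists_of_mem hb
  obtain ⟨x', v', rfl⟩ := exists_of_mem hb'
  have := bigEl_injective (a₁ := ((x, v), u)) (a₂ := ((x', v'), u')) h
  simp only [Prod.mk.injEq] at this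
  obtain ⟨⟨rfl, rfl⟩, rfl⟩ := this
  exact ⟨rfl, rfl⟩

theorem card_B : Nat.card B = 216 := by
  rw [← Nat.card_congr (Equiv.ofBijective (fun p : Kˣ × UP => (⟨_, tu_mem p.1 p.2⟩ : B))
    ⟨fun p q h => tu_injective (congrArg Subtype.val h), fun b => by
      obtain ⟨x, u, h⟩ := exists_of_mem b.2
      exact ⟨(x, u), Subtype.ext h.symm⟩⟩), Nat.card_prod, Nat.card_eq_fintype_card, card_Kx,
    Nat.card_eq_fintype_card, card_UP]

/-- the corner entry -/
noncomputable def lam0 : B →* Kˣ :=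
  MonoidHom.mk' (fun g => Units.mk0 (mat (g : GJ) 0 0) (fun h => by
    obtain ⟨x, u, hx⟩ := exists_of_mem g.2
    rw [hx, tu_apply] at h
    exact x.ne_zero (by simpa using h)))
    fun a b => Units.ext (by
      simp [mat_mul, Matrix.mul_apply, Fin.sum_univ_three, b.2.1, b.2.2])

theorem lam0_tu (x : Kˣ) (u : UP) : lam0 ⟨_, tu_mem x u⟩ = x := by
  refine Units.ext ?_
  show mat (tEl x * uEl u) 0 0 = _
  rw [tu_apply]; rfl

/-- the zero parameter -/
def u0 : UP := ⟨(0, 0), by decide⟩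

theorem uEl_u0 : uEl u0 = 1 := mat_injective (show uMat 0 0 = 1 by decide +kernel)

theorem tEl_one : tEl 1 = 1 := mat_injective (show tMat 1 = 1 by decide +kernel)

theorem uEl_mem (u : UP) : uEl u ∈ B := by simpa [tEl_one] using tu_mem 1 u

theorem tEl_mem (x : Kˣ) : tEl x ∈ B := by simpa [uEl_u0] using tu_mem x u0

theorem lam0_tEl (x : Kˣ) : lam0 ⟨tEl x, tEl_mem x⟩ = x := by
  have h := lam0_tu x u0
  simp only [uEl_u0, mul_one] at h
  exact h

theorem lam0_uEl (u : UP) : lam0 ⟨uEl u, uEl_mem u⟩ = 1 := by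
  have h := lam0_tu 1 u
  simp only [tEl_one, one_mul] at h
  exact h

theorem lam0_conj (x : Kˣ) : lam0 ⟨wEl * tEl x * wEl, by rw [conj_tEl]; exact tEl_mem _⟩ = x ^ 5 := by
  simp only [conj_tEl]
  exact lam0_tEl _

theorem w_conj_mem {b : GJ} (hb : b ∈ B) (h : wEl * b * wEl ∈ B) : ∃ x, b = tEl x := by
  obtain ⟨x, u, rfl⟩ := exists_of_mem hb
  have h1 : wEl * (tEl x * uEl u) * wEl = tEl (x ^ 5) * (wEl * uEl u * wEl) := by
    rw [← conj_tEl]
    calc wEl * (tEl x * uEl u) * wEl = wEl * tEl x * 1 * uEl u * wEl := by group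
      _ = _ := by rw [← w_mul_w]; group
  rw [h1, Subgroup.mul_mem_cancel_left _ (tEl_mem _)] at h
  refine ⟨x, ?_⟩
  have h2 : wEl * uEl u = (wEl * uEl u * wEl) * (wEl * uEl u0) := by
    rw [uEl_u0, mul_one, mul_assoc, w_mul_w, mul_one]
  obtain ⟨-, rfl⟩ := unique_big (one_mem B) h ((one_mul _).trans h2)
  rw [uEl_u0, mul_one]

end H17.U33
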