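import Cfsg.Agent.H17.U33Borel
import Cfsg.Agent.H12.Orth
import Cfsg.Agent.H24.CharBasic
import Mathlib.Analysis.SpecialFunctions.Complex.CircleAddChar

/-!
Irreducible characters of `SU₃(3)` on the unipotent radical of the Borel subgroup.
-/

set_option autoImplicit false
set_option linter.unusedSectionVars false

namespace H17.U33

open Matrix Cfsg
open scoped ComplexConjugate

attribute [local irreducible] uEl tEl wEl

/-- a square root of minus one -/
def iK : K := ⟨0, 1⟩

/-- noncentral representative -/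
def uA : UP := ⟨(1, 1), by decide +kernel⟩

/-- central representative -/
def uZ : UP := ⟨(0, iK), by decide +kernel⟩

/-- the other central element -/
def uZ' : UP := ⟨(0, -iK), by decide +kernel⟩

theorem witnesses : ∀ a c : K, UOK a c → ¬ (a = 0 ∧ c = 0) →
    ∃ x a' c', x ≠ 0 ∧ UOK a' c' ∧ tMat x * uMat a' c' * uMat a c =
      (if a = 0 then uMat 0 iK else uMat 1 1) * (tMat x * uMat a' c') := by
  decide +kernel

theorem mat_uEl (u : UP) : mat (uEl u) = uMat u.1.1 u.1.2 := by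
  unfold uEl; rfl

theorem mat_tEl (x : Kˣ) : mat (tEl x) = tMat x := by
  unfold tEl; rfl

theorem chi_eq (χ : IrrCharacter GJ) (u : UP) :
    (χ : GJ → ℂ) (uEl u) = if u = u0 then (χ : GJ → ℂ) 1 else
      if u.1.1 = 0 then (χ : GJ → ℂ) (uEl uZ) else (χ : GJ → ℂ) (uEl uA) := by
  obtain ⟨⟨a, c⟩, h⟩ := u
  split_ifs with h1 h2
  · rw [h1, uEl_u0]
  · simp only at h2
    obtain ⟨x, a', c', hx, h', e⟩ := witnesses a c h (fun hh => h1 (Subtype.ext (Prod.ext hh.1 hh.2)))
    rw [if_pos h2] at e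
    have e' : tEl (Units.mk0 x hx) * uEl ⟨(a', c'), h'⟩ * uEl ⟨(a, c), h⟩ =
        uEl uZ * (tEl (Units.mk0 x hx) * uEl ⟨(a', c'), h'⟩) := mat_injective (by
      simp only [mat_mul, mat_uEl, mat_tEl, Units.val_mk0]; exact e)
    have e2 := mul_inv_eq_iff_eq_mul.2 e'
    rw [← e2, H12.irr_isClassFunction χ]
  · simp only at h2
    obtain ⟨x, a', c', hx, h', e⟩ := witnesses a c h (fun hh => h1 (Subtype.ext (Prod.ext hh.1 hh.2)))
    rw [if_neg h2] at e
    have e' : tEl (Units.mk0 x hx) * uEl ⟨(a', c'), h'⟩ * uEl ⟨(a, c), h⟩ =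
        uEl uA * (tEl (Units.mk0 x hx) * uEl ⟨(a', c'), h'⟩) := mat_injective (by
      simp only [mat_mul, mat_uEl, mat_tEl, Units.val_mk0]; exact e)
    have e2 := mul_inv_eq_iff_eq_mul.2 e'
    rw [← e2, H12.irr_isClassFunction χ]

theorem filter_central :
    (Finset.univ.filter fun u : UP => u.1.1 = 0) = {u0, uZ, uZ'} := by
  decide +kernel

theorem central_ne : u0 ≠ uZ ∧ u0 ≠ uZ' ∧ uZ ≠ uZ' := by decide +kernel

theorem sum_mul_chi (g : UP → ℂ) (χ : IrrCharacter GJ) :
    ∑ u : UP, g u * (χ : GJ → ℂ) (uEl u) =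
      (χ : GJ → ℂ) (uEl uA) * ∑ u, g u +
        ((χ : GJ → ℂ) (uEl uZ) - (χ : GJ → ℂ) (uEl uA)) * (g u0 + g uZ + g uZ') +
        ((χ : GJ → ℂ) 1 - (χ : GJ → ℂ) (uEl uZ)) * g u0 := by
  have h : ∀ u : UP, g u * (χ : GJ → ℂ) (uEl u) = (χ : GJ → ℂ) (uEl uA) * g u +
      ((χ : GJ → ℂ) (uEl uZ) - (χ : GJ → ℂ) (uEl uA)) * (if u.1.1 = 0 then g u else 0) +
      ((χ : GJ → ℂ) 1 - (χ : GJ → ℂ) (uEl uZ)) * (if u = u0 then g u else 0) := by
    intro u
    rw [chi_eq χ u]
    by_cases h1 : u = u0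
    · subst h1; simp [u0]; ring
    · by_cases h2 : u.1.1 = 0
      · simp [h1, h2]; ring
      · simp [h1, h2]; ring
  simp only [h, Finset.sum_add_distrib, ← Finset.mul_sum, Finset.sum_ite_eq', Finset.mem_univ,
    if_true]
  rw [← Finset.sum_filter, filter_central,
    Finset.sum_insert (by simp [central_ne.1, central_ne.2.1]),
    Finset.sum_insert (by simp [central_ne.2.2]), Finset.sum_singleton]
  ring

/-- the unipotent radical -/
noncomputable def UU : Subgroup GJ := (lam0.ker).map B.subtype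

theorem uEl_mem_UU (u : UP) : uEl u ∈ UU :=
  ⟨⟨uEl u, uEl_mem u⟩, lam0_uEl u, rfl⟩

theorem uEl_injective : Function.Injective uEl := fun u v h =>
  congrArg Prod.snd (tu_injective (a₁ := (1, u)) (a₂ := (1, v)) (by simp [tEl_one, h]))

theorem exists_uEl {g : GJ} (hg : g ∈ UU) : ∃ u, g = uEl u := by
  obtain ⟨b, hb, rfl⟩ := hg
  obtain ⟨x, u, h⟩ := exists_of_mem b.2
  have h1 : b = ⟨_, tu_mem x u⟩ := Subtype.ext h
  rw [SetLike.mem_coe, MonoidHom.mem_ker, h1, lam0_tu] at hb
  exact ⟨u, by rw [Subgroup.coe_subtype, h, hb, tEl_one, one_mul]⟩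

/-- the parametrisation of the unipotent radical -/
noncomputable def eU : UP ≃ UU :=
  Equiv.ofBijective (fun u => ⟨uEl u, uEl_mem_UU u⟩)
    ⟨fun u v h => uEl_injective (congrArg Subtype.val h), fun g => by
      obtain ⟨u, hu⟩ := exists_uEl g.2
      exact ⟨u, Subtype.ext hu.symm⟩⟩

theorem eU_apply (u : UP) : (eU u : GJ) = uEl u := rfl

theorem UU_entries (g : UU) :
    mat (g : GJ) 1 0 = 0 ∧ mat (g : GJ) 1 1 = 1 ∧ mat (g : GJ) 2 2 = 1 ∧ mat (g : GJ) 0 0 = 1 := by
  obtain ⟨u, hu⟩ := exists_uEl g.2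
  rw [hu, mat_uEl]
  exact ⟨rfl, rfl, rfl, rfl⟩

/-- the abelianisation map -/
noncomputable def etaU : UU →* Multiplicative K :=
  MonoidHom.mk' (fun g => Multiplicative.ofAdd (mat (g : GJ) 1 2)) fun a b => by
    obtain ⟨h1, h2, -, -⟩ := UU_entries a
    obtain ⟨-, -, h3, -⟩ := UU_entries b
    rw [← ofAdd_add]
    congr 1
    simp [mat_mul, Matrix.mul_apply, Fin.sum_univ_three, h1, h2, h3, add_comm]

/-- the centre of the unipotent radical -/
noncomputable def ZZ : Subgroup UU := etaU.ker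

theorem mem_ZZ (u : UP) : eU u ∈ ZZ ↔ u.1.1 = 0 := by
  show Multiplicative.ofAdd (mat (uEl u) 1 2) = 1 ↔ _
  rw [mat_uEl]
  exact ofAdd_eq_one

/-- the parametrisation of the centre -/
noncomputable def eZ : {u : UP // u.1.1 = 0} ≃ ZZ :=
  eU.subtypeEquiv fun u => (mem_ZZ u).symm

theorem eZ_apply (u : {u : UP // u.1.1 = 0}) : ((eZ u : UU) : GJ) = uEl u.1 := rfl

/-- the central coordinate -/
noncomputable def etaZ : ZZ →* Multiplicative K :=
  MonoidHom.mk' (fun g => Multiplicative.ofAdd (mat ((g : UU) : GJ) 0 2)) fun a b => by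
    obtain ⟨-, -, -, h1⟩ := UU_entries (a : UU)
    obtain ⟨-, -, h3, -⟩ := UU_entries (b : UU)
    have h2 : mat ((b : UU) : GJ) 1 2 = 0 := by
      have := b.2
      exact ofAdd_eq_one.1 this
    rw [← ofAdd_add]
    congr 1
    simp [mat_mul, Matrix.mul_apply, Fin.sum_univ_three, h1, h2, h3, add_comm]

/-- the additive character of the prime field -/
noncomputable def ee (j : ZMod 3) : ℂ := ZMod.stdAddChar j

theorem ee_zero : ee 0 = 1 := AddChar.map_zero_eq_one _

theorem ee_add (i j : ZMod 3) : ee (i + j) = ee i * ee j := AddChar.map_add_eq_mul _ i j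

theorem ee_sum : ee 0 + ee 1 + ee 2 = 0 := by
  have h1 : ee 1 ≠ 1 := fun h => by
    have := ZMod.injective_stdAddChar (h.trans ee_zero.symm)
    exact absurd this (by decide)
  have h2 : ee 2 = ee 1 * ee 1 := ee_add 1 1
  have h3 : ee 1 * (ee 1 * ee 1) = 1 := by rw [← ee_add, ← ee_add, ← ee_zero]; rfl
  have h4 : (ee 1 - 1) * (1 + ee 1 + ee 1 * ee 1) = 0 := by linear_combination h3
  rw [ee_zero, h2]
  exact (mul_eq_zero.1 h4).resolve_left (sub_ne_zero.2 h1)

theorem conj_ee (j : ZMod 3) : conj (ee j) = ee (-j) := by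
  have h : ee j ^ 3 = 1 := by
    rw [pow_succ, pow_two, ← ee_add, ← ee_add, ← ee_zero]
    congr 1
    revert j; decide
  rw [H12.conj_eq_inv_of_pow_eq_one (by norm_num) h]
  refine inv_eq_of_mul_eq_one_right ?_
  rw [← ee_add, add_neg_cancel, ee_zero]

/-- the additive map to the prime field -/
def reHom : K →+ ZMod 3 where
  toFun x := x.re
  map_zero' := rfl
  map_add' _ _ := rfl

/-- the other additive map to the prime field -/
def imHom : K →+ ZMod 3 where
  toFun x := x.im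
  map_zero' := rfl
  map_add' _ _ := rfl

/-- a linear character of the unipotent radical -/
noncomputable def psiU : UU →* ℂ :=
  ((ZMod.stdAddChar : AddChar (ZMod 3) ℂ).toMonoidHom.comp reHom.toMultiplicative).comp etaU

/-- a linear character of the centre -/
noncomputable def muZ : ZZ →* ℂ :=
  ((ZMod.stdAddChar : AddChar (ZMod 3) ℂ).toMonoidHom.comp imHom.toMultiplicative).comp etaZ

theorem psiU_eU (u : UP) : psiU (eU u) = ee u.1.1.re := by
  show ee (mat (uEl u) 1 2).re = _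
  rw [mat_uEl]; rfl

theorem muZ_eZ (u : {u : UP // u.1.1 = 0}) : muZ (eZ u) = ee u.1.1.2.im := by
  show ee (mat (uEl u.1) 0 2).im = _
  rw [mat_uEl]; rfl

theorem isCharacter_hom {H : Type*} [Group H] (f : H →* ℂ) : IsCharacter H (fun h => f h) :=
  H12.isCharacter_monoidHom f.toHomUnits

noncomputable instance instFintypeUU : Fintype UU := Fintype.ofFinite UU

noncomputable instance instFintypeZZ : Fintype ZZ := Fintype.ofFinite ZZ

theorem sum_conj_psi : ∑ u : UP, conj (ee u.1.1.re) = 0 := by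
  have h : ∀ j : ZMod 3, (Finset.univ.filter fun u : UP => u.1.1.re = j).card = 9 := by
    decide +kernel
  rw [← Finset.sum_fiberwise Finset.univ (fun u : UP => u.1.1.re)]
  have h2 : ∀ j : ZMod 3,
      ∑ u ∈ Finset.univ.filter (fun u : UP => u.1.1.re = j), conj (ee u.1.1.re) =
        9 * conj (ee j) := by
    intro j
    rw [Finset.sum_congr rfl (g := fun _ => conj (ee j)) (fun u hu => by
      rw [(Finset.mem_filter.1 hu).2]), Finset.sum_const, h j, nsmul_eq_mul]
    norm_num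
  simp only [h2, ← Finset.mul_sum, ← map_sum]
  rw [show ∑ j : ZMod 3, ee j = ee 0 + ee 1 + ee 2 from Fin.sum_univ_three ee, ee_sum, map_zero,
    mul_zero]

/-- The multiplicities of an irreducible character on the unipotent radical. -/
theorem uRel (χ : IrrCharacter GJ) : ∃ a β N : ℕ,
    (27 : ℂ) * a = (χ : GJ → ℂ) 1 + 2 * (χ : GJ → ℂ) (uEl uZ) - 3 * (χ : GJ → ℂ) (uEl uA) ∧
    (3 : ℂ) * β = (χ : GJ → ℂ) 1 - (χ : GJ → ℂ) (uEl uZ) ∧
    (27 : ℂ) * N = (χ : GJ → ℂ) 1 * (χ : GJ → ℂ) 1 +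
      2 * ((χ : GJ → ℂ) (uEl uZ) * conj ((χ : GJ → ℂ) (uEl uZ))) +
      24 * ((χ : GJ → ℂ) (uEl uA) * conj ((χ : GJ → ℂ) (uEl uA))) := by
  have hres : IsCharacter UU (fun g : UU => (χ : GJ → ℂ) g) :=
    H12.IsCharacter.res (H12.isCharacter_irr χ) UU
  have cardUU : (Nat.card UU : ℂ) = 27 := by
    rw [← Nat.card_congr eU, Nat.card_eq_fintype_card, card_UP]; norm_num
  have hd : conj ((χ : GJ → ℂ) 1) = (χ : GJ → ℂ) 1 := by
    rw [H24.irr_one, Complex.conj_natCast]
  obtain ⟨a, ha⟩ := H12.IsCharacter.classInner_nat hres (isCharacter_hom psiU)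
  obtain ⟨N, hN⟩ := H12.IsCharacter.classInner_nat hres hres
  obtain ⟨β, hβ⟩ := H12.IsCharacter.classInner_nat
    (H12.IsCharacter.res hres ZZ) (isCharacter_hom muZ)
  refine ⟨a, β, N, ?_, ?_, ?_⟩
  · rw [← ha, H12.classInner_def, cardUU, ← eU.sum_comp]
    simp only [eU_apply, psiU_eU, mul_comm ((χ : GJ → ℂ) (uEl _)), sum_mul_chi, sum_conj_psi]
    simp only [show u0.1.1.re = 0 from rfl, show uZ.1.1.re = 0 from rfl,
      show uZ'.1.1.re = 0 from rfl, ee_zero, map_one]
    ring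
  · have cardZZ : (Nat.card ZZ : ℂ) = 3 := by
      rw [← Nat.card_congr eZ, Nat.card_eq_fintype_card, Fintype.card_subtype, filter_central,
        Finset.card_insert_of_notMem (by simp [central_ne.1, central_ne.2.1]),
        Finset.card_insert_of_notMem (by simp [central_ne.2.2]), Finset.card_singleton]
      norm_num
    rw [← hβ, H12.classInner_def, cardZZ, ← eZ.sum_comp]
    simp only [eZ_apply, muZ_eZ]
    rw [← Finset.sum_subtype (Finset.univ.filter fun u : UP => u.1.1 = 0) (by simp)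
      (fun u => (χ : GJ → ℂ) (uEl u) * conj (ee u.1.2.im)), filter_central,
      Finset.sum_insert (by simp [central_ne.1, central_ne.2.1]),
      Finset.sum_insert (by simp [central_ne.2.2]), Finset.sum_singleton, uEl_u0,
      chi_eq χ uZ', if_neg central_ne.2.1.symm, if_pos (show uZ'.1.1 = 0 from rfl), conj_ee, conj_ee, conj_ee]
    rw [show -(u0.1.2.im) = (0 : ZMod 3) by decide +kernel,
      show -(uZ.1.2.im) = (2 : ZMod 3) by decide +kernel,
      show -(uZ'.1.2.im) = (1 : ZMod 3) by decide +kernel]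
    have h0 := ee_sum
    rw [ee_zero] at h0 ⊢
    linear_combination ((χ : GJ → ℂ) (uEl uZ)) * h0
  · rw [← hN, H12.classInner_def, cardUU, ← eU.sum_comp]
    simp only [eU_apply, mul_comm ((χ : GJ → ℂ) (uEl _))]
    rw [sum_mul_chi]
    have hs : ∑ u : UP, conj ((χ : GJ → ℂ) (uEl u)) = conj ((χ : GJ → ℂ) 1 +
        2 * (χ : GJ → ℂ) (uEl uZ) + 24 * (χ : GJ → ℂ) (uEl uA)) := by
      rw [← map_sum]
      congr 1
      have := sum_mul_chi (fun _ => 1) χ
      simp only [one_mul, Finset.sum_const, Finset.card_univ, card_UP, nsmul_eq_mul] at this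
      rw [this]; push_cast; ring
    have hz : (χ : GJ → ℂ) (uEl uZ') = (χ : GJ → ℂ) (uEl uZ) := by
      rw [chi_eq χ uZ', if_neg central_ne.2.1.symm, if_pos (show uZ'.1.1 = 0 from rfl)]
    rw [hs, hz, uEl_u0, map_add, map_add, map_mul, map_mul, hd, Complex.conj_ofNat,
      Complex.conj_ofNat]
    ring

end H17.U33
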