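import Cfsg.Agent.H17.U33Induced
import Cfsg.Agent.H17.U33Values
import Cfsg.Agent.H24.DefectZero
import Cfsg.Agent.H22.ValueMod
import Cfsg.Agent.H13.Linear
import Cfsg.Prelude.Def_DegreeGraph

/-!
Three character degrees of `SU₃(3)`: multiples of 6, 14 and 21.
-/

set_option autoImplicit false
set_option linter.unusedSectionVars false

namespace H17.U33

open Matrix Cfsg
open scoped ComplexConjugate

attribute [local irreducible] uEl tEl wEl

/-- multiplicity in an induced character -/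
noncomputable def mm (k : ℕ) (χ : IrrCharacter GJ) : ℕ :=
  Classical.choose (H12.IsCharacter.classInner_nat (ff_isCharacter k) (H12.isCharacter_irr χ))

theorem mm_spec (k : ℕ) (χ : IrrCharacter GJ) : classInner (ff k) (χ : GJ → ℂ) = mm k χ :=
  Classical.choose_spec (H12.IsCharacter.classInner_nat (ff_isCharacter k) (H12.isCharacter_irr χ))

theorem sum_mm_mul (k l : ℕ) :
    ∑ χ, mm k χ * mm l χ = dl (k + 7 * l) + dl (k + 35 * l) := by
  have h := H12.classInner_eq_sum_mul (ff_isClassFunction k) (ff_isClassFunction l)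
  simp only [mm_spec, Complex.conj_natCast, inner_ff] at h
  exact_mod_cast h.symm

theorem sum_mm_deg (k : ℕ) : ∑ χ : IrrCharacter GJ, mm k χ * charDegree (χ : GJ → ℂ) = 28 := by
  have h := H12.classFunction_apply_eq_sum (ff_isClassFunction k) 1
  simp only [mm_spec, H24.irr_one, ff_one] at h
  exact_mod_cast h.symm

theorem sum_chi_U (χ : IrrCharacter GJ) :
    ∑ u : UP, (χ : GJ → ℂ) (uEl u) = 27 * ((∑ k ∈ Finset.range 8, mm k χ : ℕ) : ℂ) := by
  have h1 : ∀ k, (mm k χ : ℂ) =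
      (216 : ℂ)⁻¹ * ∑ x : Kˣ, ∑ u : UP, zz x ^ k * conj ((χ : GJ → ℂ) (tEl x * uEl u)) := by
    intro k
    rw [← mm_spec, show ff k = indFun B (th k) from rfl,
      H13.classInner_indFun_left B _ (H12.irr_isClassFunction χ), H12.classInner_def, sum_B, card_B]
    simp only [th_eB, eB_apply, Nat.cast_ofNat]
  have h2 : ((∑ k ∈ Finset.range 8, mm k χ : ℕ) : ℂ) =
      (216 : ℂ)⁻¹ * (8 * ∑ u : UP, conj ((χ : GJ → ℂ) (uEl u))) := by
    rw [Nat.cast_sum]
    simp only [h1, ← Finset.mul_sum]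
    rw [Finset.sum_comm]
    congr 1
    simp only [← Finset.sum_mul, geom_zz, ite_mul, zero_mul]
    rw [Finset.sum_ite_eq' Finset.univ (1 : Kˣ)
      (fun x => 8 * ∑ u : UP, conj ((χ : GJ → ℂ) (tEl x * uEl u))), if_pos (Finset.mem_univ _)]
    simp only [tEl_one, one_mul]
  have h3 := congrArg conj h2
  rw [Complex.conj_natCast, map_mul, map_mul, map_sum, map_inv₀, Complex.conj_ofNat,
    Complex.conj_ofNat] at h3
  simp only [Complex.conj_conj] at h3
  rw [h3]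
  ring

/-- The degree in terms of the restriction to the unipotent radical. -/
theorem deg_rel (χ : IrrCharacter GJ) : ∃ a β : ℕ,
    charDegree (χ : GJ → ℂ) = (∑ k ∈ Finset.range 8, mm k χ) + 8 * a + 2 * β ∧
      ((∑ k ∈ Finset.range 8, mm k χ) = 0 → 3 ∣ β) := by
  obtain ⟨a, β, N, ha, hβ, hN⟩ := uRel χ
  have hc := sum_chi_U χ
  have h1 := sum_mul_chi (fun _ => 1) χ
  simp only [one_mul, Finset.sum_const, Finset.card_univ, card_UP, nsmul_eq_mul] at h1
  rw [h1] at hc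
  simp only [H24.irr_one, Nat.cast_ofNat] at hc ha hβ hN
  set c := ∑ k ∈ Finset.range 8, mm k χ
  set d := charDegree (χ : GJ → ℂ)
  set v := (χ : GJ → ℂ) (uEl uZ)
  set w := (χ : GJ → ℂ) (uEl uA)
  have hd : (d : ℂ) = c + 8 * a + 2 * β := by
    linear_combination (-(2 : ℂ) / 3) * hβ + (-(8 : ℂ) / 27) * ha + ((1 : ℂ) / 27) * hc
  have hd' : d = c + 8 * a + 2 * β := by exact_mod_cast hd
  refine ⟨a, β, hd', fun hc0 => ?_⟩
  rw [hc0, Nat.cast_zero] at hc hd
  have hw : w = -(a : ℂ) := by linear_combination (1 : ℂ) / 27 * hc + (1 : ℂ) / 27 * ha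
  have hv : v = (d : ℂ) - 3 * β := by linear_combination hβ
  rw [hw, hv, hd] at hN
  simp only [map_neg, map_sub, map_add, map_mul, Complex.conj_natCast, Complex.conj_ofNat,
    map_zero] at hN
  have h9 : ((27 * N : ℕ) : ℂ) = ((216 * a ^ 2 + 6 * β ^ 2 : ℕ) : ℂ) := by
    push_cast
    linear_combination hN
  have h9' : 27 * N = 216 * a ^ 2 + 6 * β ^ 2 := by exact_mod_cast h9
  have h10 : 3 ∣ β ^ 2 := by omega
  exact Nat.prime_three.dvd_of_dvd_pow h10

theorem exists_pos_mm (k : ℕ) : ∃ χ : IrrCharacter GJ, 0 < mm k χ := by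
  by_contra h
  simp only [not_exists, Nat.not_lt, Nat.le_zero] at h
  have := sum_mm_deg k
  simp [h] at this

theorem mm_odd {k : ℕ} (h : dl (k + 7 * k) + dl (k + 35 * k) = 1) {χ : IrrCharacter GJ}
    (hχ : 0 < mm k χ) : charDegree (χ : GJ → ℂ) = 28 := by
  classical
  have h1 := sum_mm_mul k k
  rw [h, ← Finset.add_sum_erase _ _ (Finset.mem_univ χ)] at h1
  have h2 : 0 < mm k χ * mm k χ := Nat.mul_pos hχ hχ
  have h3 : ∀ ψ ∈ Finset.univ.erase χ, mm k ψ * mm k ψ = 0 :=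
    Finset.sum_eq_zero_iff.1 (by omega)
  have h2' : mm k χ * mm k χ = 1 := by omega
  have h4 : mm k χ = 1 := (mul_eq_one.1 h2').1
  have h5 := sum_mm_deg k
  rwa [← Finset.add_sum_erase _ _ (Finset.mem_univ χ), h4, one_mul,
    Finset.sum_eq_zero (fun ψ hψ => by rw [mul_self_eq_zero.1 (h3 ψ hψ), zero_mul]), add_zero] at h5

theorem mm_pair {k : ℕ} (h : dl (k + 7 * k) + dl (k + 35 * k) = 2) {χ : IrrCharacter GJ}
    (hχ : 0 < mm k χ) : mm k χ = 1 ∧ ∃ ψ, ψ ≠ χ ∧ mm k ψ = 1 ∧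
      charDegree (χ : GJ → ℂ) + charDegree (ψ : GJ → ℂ) = 28 ∧
      ∀ φ, φ ≠ χ → φ ≠ ψ → mm k φ = 0 := by
  classical
  have h1 := sum_mm_mul k k
  rw [h, ← Finset.add_sum_erase _ _ (Finset.mem_univ χ)] at h1
  have h4 : mm k χ = 1 := by
    rcases Nat.lt_or_ge (mm k χ) 2 with h2 | h2
    · omega
    · have := Nat.mul_le_mul h2 h2
      omega
  rw [h4] at h1
  obtain ⟨ψ, hψ, hne⟩ := Finset.exists_ne_zero_of_sum_ne_zero
    (s := Finset.univ.erase χ) (f := fun φ => mm k φ * mm k φ) (by omega)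
  rw [← Finset.add_sum_erase _ _ hψ] at h1
  have hψ2 : mm k ψ * mm k ψ = 1 := by omega
  have hψ1 : mm k ψ = 1 := (mul_eq_one.1 hψ2).1
  have h3 : ∀ φ ∈ (Finset.univ.erase χ).erase ψ, mm k φ * mm k φ = 0 :=
    Finset.sum_eq_zero_iff.1 (by rw [hψ1] at h1; omega)
  have hz : ∀ φ, φ ≠ χ → φ ≠ ψ → mm k φ = 0 := fun φ a b =>
    mul_self_eq_zero.1 (h3 φ (by simp [a, b]))
  refine ⟨h4, ψ, (Finset.mem_erase.1 hψ).1, hψ1, ?_, hz⟩
  have h5 := sum_mm_deg k
  rwa [← Finset.add_sum_erase _ _ (Finset.mem_univ χ), ← Finset.add_sum_erase _ _ hψ, h4, hψ1,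
    one_mul, one_mul, Finset.sum_eq_zero (fun φ hφ => by
      rw [mul_self_eq_zero.1 (h3 φ hφ), zero_mul]), add_zero] at h5

theorem not_comm : ∃ a b : GJ, a * b ≠ b * a := by
  obtain ⟨x, hx⟩ : ∃ x : Kˣ, x ^ 5 ≠ x := by
    obtain ⟨g, hg⟩ := IsCyclic.exists_generator (α := Kˣ)
    refine ⟨g, fun h => ?_⟩
    have h4 : g ^ 4 = 1 := by
      rw [pow_succ] at h
      exact mul_eq_right.1 h
    have h2 := orderOf_dvd_of_pow_eq_one h4
    rw [orderOf_eq_card_of_forall_mem_zpowers hg, Nat.card_eq_fintype_card, card_Kx] at h2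
    norm_num at h2
  refine ⟨wEl, tEl x, fun h => hx ?_⟩
  have h1 := conj_tEl x
  rw [h, mul_assoc, w_mul_w, mul_one] at h1
  have h2 := tu_injective (a₁ := (x, u0)) (a₂ := (x ^ 5, u0)) (by simpa [uEl_u0] using h1)
  exact (congrArg Prod.fst h2).symm

theorem eq_one_of_deg_one {χ : IrrCharacter GJ} (h : charDegree (χ : GJ → ℂ) = 1) (g : GJ) :
    (χ : GJ → ℂ) g = 1 := by
  haveI := isSimple_GJ
  have h1 : (χ : GJ → ℂ) 1 = 1 := by rw [H24.irr_one, h, Nat.cast_one]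
  set f := H13.linHom (H12.isCharacter_irr χ) h1
  rcases IsSimpleGroup.eq_bot_or_eq_top_of_normal f.ker inferInstance with hk | hk
  · exfalso
    obtain ⟨a, b, hab⟩ := not_comm
    exact hab ((MonoidHom.ker_eq_bot_iff f).1 hk (by rw [map_mul, map_mul, mul_comm]))
  · have h2 : f g = 1 := by
      rw [← MonoidHom.mem_ker, hk]; exact Subgroup.mem_top g
    rw [← H13.linHom_apply (H12.isCharacter_irr χ) h1]
    exact congrArg Units.val h2

theorem mm_of_one {χ : IrrCharacter GJ} (h : ∀ g, (χ : GJ → ℂ) g = 1) (k : ℕ) :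
    mm k χ = dl k := by
  have h1 : (mm k χ : ℂ) = (dl k : ℂ) := by
    rw [← mm_spec, show ff k = indFun B (th k) from rfl,
      H13.classInner_indFun_left B _ (H12.irr_isClassFunction χ), H12.classInner_def, sum_B, card_B]
    simp only [th_eB, h, map_one, mul_one, Finset.sum_const, Finset.card_univ, card_UP,
      nsmul_eq_mul, ← Finset.mul_sum, sum_zz_pow]
    push_cast
    ring
  exact_mod_cast h1

theorem even_orth : ∀ k < 8, 2 ∣ k → ∀ l < 8, l ≠ k →
    dl (k + 7 * l) + dl (k + 35 * l) = 0 := by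
  unfold dl; decide

theorem even_norm : ∀ k < 8, 2 ∣ k → dl (k + 7 * k) + dl (k + 35 * k) = 2 := by
  unfold dl; decide

theorem odd_norm : ∀ k < 8, ¬ 2 ∣ k → dl (k + 7 * k) + dl (k + 35 * k) = 1 := by
  unfold dl; decide

theorem deg_even_k {k : ℕ} (hk : k < 8) (he : 2 ∣ k) {χ : IrrCharacter GJ} (hχ : 0 < mm k χ) :
    Odd (charDegree (χ : GJ → ℂ)) := by
  obtain ⟨h1, -⟩ := mm_pair (even_norm k hk he) hχ
  have hsum : ∑ l ∈ Finset.range 8, mm l χ = 1 := by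
    rw [Finset.sum_eq_single k (fun l hl hlk => ?_)
      (fun h => absurd (Finset.mem_range.2 hk) h), h1]
    have h0 := (sum_mm_mul k l).trans (even_orth k hk he l (Finset.mem_range.1 hl) hlk)
    have := Finset.sum_eq_zero_iff.1 h0 χ (Finset.mem_univ _)
    rw [h1, one_mul] at this
    exact this
  obtain ⟨a, β, hd, -⟩ := deg_rel χ
  rw [hsum] at hd
  exact ⟨4 * a + β, by omega⟩

theorem odd_deg_pairs_aux : ∀ d < 28, (d % 2 = 1 ∧ d ∣ 6048 ∧ 28 - d ∣ 6048) →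
    (d = 1 ∨ d = 27) ∨ (d = 7 ∨ d = 21) := by
  decide +kernel

theorem odd_deg_pairs {d : ℕ} (h : d < 28) (ho : d % 2 = 1) (h1 : d ∣ 6048) (h2 : 28 - d ∣ 6048)
    (h3 : d ≠ 1) (h4 : d ≠ 27) : d = 7 ∨ d = 21 :=
  (odd_deg_pairs_aux d h ⟨ho, h1, h2⟩).resolve_left (not_or.2 ⟨h3, h4⟩)

theorem deg_mid {k : ℕ} (hk : k < 8) (he : 2 ∣ k) (h0 : k ≠ 0) {χ : IrrCharacter GJ}
    (hχ : 0 < mm k χ) : ∃ ψ : IrrCharacter GJ, 0 < mm k ψ ∧
      charDegree (χ : GJ → ℂ) + charDegree (ψ : GJ → ℂ) = 28 ∧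
      (charDegree (χ : GJ → ℂ) = 7 ∨ charDegree (χ : GJ → ℂ) = 21) := by
  obtain ⟨h1, ψ, -, hψ, hsum, -⟩ := mm_pair (even_norm k hk he) hχ
  refine ⟨ψ, by omega, hsum, ?_⟩
  have hne : ∀ φ : IrrCharacter GJ, 0 < mm k φ → charDegree (φ : GJ → ℂ) ≠ 1 := fun φ hφ hd => by
    rw [mm_of_one (eq_one_of_deg_one hd) k] at hφ
    unfold dl at hφ
    split_ifs at hφ with h
    · omega
    · omega
  have hd1 := hne χ hχ
  have hd2 := hne ψ (by omega)
  have hc := card_GJ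
  have hdv : ∀ φ : IrrCharacter GJ, charDegree (φ : GJ → ℂ) ∣ 6048 := fun φ =>
    hc ▸ H24.charDegree_dvd_card φ
  have hpos := H24.irr_pos ψ
  refine odd_deg_pairs (by omega) (Nat.odd_iff.1 (deg_even_k hk he hχ)) (hdv χ) ?_ hd1 (by omega)
  rw [← hsum, Nat.add_sub_cancel_left]
  exact hdv ψ

theorem exists_deg_28 : (28 : ℕ) ∈ charDegrees GJ := by
  obtain ⟨χ, hχ⟩ := exists_pos_mm 1
  exact ⟨χ, mm_odd (odd_norm 1 (by norm_num) (by norm_num)) hχ⟩

theorem exists_deg_21 : (21 : ℕ) ∈ charDegrees GJ := by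
  obtain ⟨χ, hχ⟩ := exists_pos_mm 4
  obtain ⟨ψ, hψ, hs, h | h⟩ := deg_mid (by norm_num) (by norm_num) (by norm_num) hχ
  · exact ⟨ψ, by omega⟩
  · exact ⟨χ, h⟩

theorem ff_apply_seven (k : ℕ) {x : GJ} (hx : orderOf x = 7) : ff k x = 0 := by
  rw [ff, H12.indFun_apply, Finset.sum_eq_zero, mul_zero]
  intro y _
  refine H13.extendByZero_notMem _ _ fun h => ?_
  have h1 : orderOf (⟨_, h⟩ : B) ∣ 216 := by
    rw [← card_B]; exact orderOf_dvd_natCard _
  rw [← Subgroup.orderOf_coe] at h1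
  have h2 : orderOf (y⁻¹ * x * y) = 7 := by
    have := MulEquiv.orderOf_eq (MulAut.conj y⁻¹) x
    simp only [MulAut.conj_apply, inv_inv] at this
    rw [this, hx]
  rw [h2] at h1
  norm_num at h1

theorem pow_two_of_dvd : ∀ d < 225, d ∣ 224 → ¬ 7 ∣ d → 8 ≤ d → 8 ∣ d := by decide +kernel

/-- Classification of the terms in the regular character at an element of order seven. -/
theorem term_cases (h6 : ¬ ∃ d ∈ charDegrees GJ, 6 ∣ d) (χ : IrrCharacter GJ) :
    (∀ g, (χ : GJ → ℂ) g = 1) ∨ (0 < mm 0 χ ∧ ¬ ∀ g, (χ : GJ → ℂ) g = 1) ∨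
      7 ∣ charDegree (χ : GJ → ℂ) ∨ 8 ∣ charDegree (χ : GJ → ℂ) := by
  by_cases h1 : ∀ g, (χ : GJ → ℂ) g = 1
  · exact Or.inl h1
  refine Or.inr ?_
  by_cases hk : ∃ k < 8, 0 < mm k χ
  · obtain ⟨k, hk, hm⟩ := hk
    by_cases h0 : k = 0
    · exact Or.inl ⟨h0 ▸ hm, h1⟩
    refine Or.inr (Or.inl ?_)
    by_cases he : 2 ∣ k
    · obtain ⟨ψ, -, -, h | h⟩ := deg_mid hk he h0 hm <;> rw [h] <;> norm_num
    · rw [mm_odd (odd_norm k hk he) hm]; norm_num
  · have hsum : ∑ k ∈ Finset.range 8, mm k χ = 0 :=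
      Finset.sum_eq_zero fun k hkr => by
        by_contra hne
        exact hk ⟨k, Finset.mem_range.1 hkr, Nat.pos_of_ne_zero hne⟩
    obtain ⟨a, β, hd, h3⟩ := deg_rel χ
    rw [hsum, zero_add] at hd
    obtain ⟨γ, rfl⟩ := h3 hsum
    refine Or.inr ?_
    by_cases h7 : 7 ∣ charDegree (χ : GJ → ℂ)
    · exact Or.inl h7
    refine Or.inr ?_
    have h3d : ¬ 3 ∣ charDegree (χ : GJ → ℂ) := fun h => h6 ⟨_, ⟨χ, rfl⟩, by omega⟩
    have hdvd : charDegree (χ : GJ → ℂ) ∣ 224 := by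
      have h2 : charDegree (χ : GJ → ℂ) ∣ 27 * 224 := by
        have := H24.charDegree_dvd_card χ
        rwa [card_GJ] at this
      refine Nat.Coprime.dvd_of_dvd_mul_left ?_ h2
      exact Nat.Coprime.pow_right (n := 3) ((Nat.prime_three.coprime_iff_not_dvd.2 h3d).symm)
    have hle := Nat.le_of_dvd (by norm_num) hdvd
    have ha0 : a ≠ 0 := fun h => h3d (by rw [hd, h]; exact ⟨2 * γ, by omega⟩)
    exact pow_two_of_dvd _ (by omega) hdvd h7 (by omega)

theorem exists_deg_six : ∃ d ∈ charDegrees GJ, 6 ∣ d := by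
  classical
  by_contra h6
  haveI : Fact (Nat.Prime 7) := ⟨by norm_num⟩
  obtain ⟨x, hx⟩ : ∃ x : GJ, orderOf x = 7 :=
    exists_prime_orderOf_dvd_card' 7 (by rw [card_GJ]; norm_num)
  obtain ⟨M, hM⟩ := H22.exists_isPModular 7 (by norm_num)
  have hx1 : x ≠ 1 := fun h => by rw [h, orderOf_one] at hx; norm_num at hx
  set o := H12.oneIrr GJ with ho
  have hoval : ∀ g, (o : GJ → ℂ) g = 1 := fun g => rfl
  have hm : 0 < mm 0 o := by rw [mm_of_one hoval]; simp [dl]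
  obtain ⟨ho1, φ, hφne, hφ1, hdeg, hz⟩ := mm_pair (even_norm 0 (by norm_num) (by norm_num)) hm
  have hφd : charDegree (φ : GJ → ℂ) = 27 := by
    have : charDegree (o : GJ → ℂ) = 1 := H24.charDegree_one
    omega
  have hφx : (φ : GJ → ℂ) x = -1 := by
    have h := H12.classFunction_apply_eq_sum (ff_isClassFunction 0) x
    rw [ff_apply_seven 0 hx, ← Finset.add_sum_erase _ _ (Finset.mem_univ o),
      ← Finset.add_sum_erase _ _ (Finset.mem_erase.2 ⟨hφne, Finset.mem_univ φ⟩),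
      Finset.sum_eq_zero (fun ψ hψ => by
        simp only [Finset.mem_erase] at hψ
        rw [mm_spec, hz ψ hψ.2.1 hψ.1, Nat.cast_zero, zero_mul])] at h
    rw [mm_spec, mm_spec, ho1, hφ1, hoval] at h
    push_cast at h
    linear_combination -h
  have hreg := H12.regular_eq_sum (G := GJ) x
  rw [if_neg hx1, ← Finset.add_sum_erase _ _ (Finset.mem_univ o),
    ← Finset.add_sum_erase _ _ (Finset.mem_erase.2 ⟨hφne, Finset.mem_univ φ⟩), hoval, hoval,
    hφx, H24.irr_one, hφd] at hreg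
  have hint : IsIntegral ℤ ((∑ ψ ∈ (Finset.univ.erase o).erase φ,
      (ψ : GJ → ℂ) 1 * (ψ : GJ → ℂ) x) / 8) := by
    rw [Finset.sum_div]
    refine IsIntegral.sum _ fun ψ hψ => ?_
    simp only [Finset.mem_erase] at hψ
    rcases term_cases h6 ψ with h | ⟨h, -⟩ | h | h
    · exact absurd (Subtype.ext (funext fun g => (h g).trans (hoval g).symm)) hψ.2.1
    · rw [hz ψ hψ.2.1 hψ.1] at h
      exact absurd h (lt_irrefl 0)
    · have hv : (ψ : GJ → ℂ) x = 0 := by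
        refine H24.vanish_of_defect_zero hM ψ ?_ x hx1 ⟨1, by rw [pow_one, ← hx, pow_orderOf_eq_one]⟩
        have hdvd := H24.charDegree_dvd_card ψ
        have h49 : ¬ (7 : ℕ) ^ 2 ∣ Nat.card GJ := by rw [card_GJ]; norm_num
        have hd0 : charDegree (ψ : GJ → ℂ) ≠ 0 := (H24.irr_pos ψ).ne'
        have hp : Nat.Prime 7 := by norm_num
        have h1 := (hp.dvd_iff_one_le_factorization hd0).1 h
        have h2 := (Nat.factorization_le_iff_dvd hd0 Nat.card_pos.ne').2 hdvd 7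
        have h3 : ¬ 2 ≤ (Nat.card GJ).factorization 7 := fun hh =>
          h49 ((hp.pow_dvd_iff_le_factorization Nat.card_pos.ne').2 hh)
        omega
      rw [hv, mul_zero, zero_div]
      exact isIntegral_zero
    · obtain ⟨e, he⟩ := h
      rw [H24.irr_one, he, Nat.cast_mul, Nat.cast_ofNat, mul_assoc, mul_div_assoc,
        mul_div_cancel_of_imp' (fun h0 => absurd h0 (by norm_num))]
      exact (show IsIntegral ℤ (e : ℂ) by simpa using isIntegral_algebraMap (R := ℤ) (A := ℂ) (x := (e : ℤ))).mul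
        (H12.IsCharacter.isIntegral (H12.isCharacter_irr ψ) x)
  have hval : (∑ ψ ∈ (Finset.univ.erase o).erase φ, (ψ : GJ → ℂ) 1 * (ψ : GJ → ℂ) x) / 8 =
      ((13 / 4 : ℚ) : ℂ) := by
    push_cast at hreg ⊢
    linear_combination (1 : ℂ) / 8 * hreg
  rw [hval] at hint
  have h1 : IsIntegral ℤ (13 / 4 : ℚ) :=
    (isIntegral_algebraMap_iff (R := ℤ) (A := ℚ) (B := ℂ) (algebraMap ℚ ℂ).injective).1 (by simpa using hint)
  obtain ⟨n, hn⟩ := IsIntegrallyClosed.isIntegral_iff.1 h1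
  have h2 : ((4 * n : ℤ) : ℚ) = ((13 : ℤ) : ℚ) := by
    push_cast
    rw [show ((n : ℚ)) = 13 / 4 from hn]
    norm_num
  have h3 : (4 * n : ℤ) = 13 := by exact_mod_cast h2
  omega

end H17.U33
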