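import Cfsg.Agent.H17.U33Borel
import Cfsg.Agent.H21.Borel2
import Cfsg.Agent.H13.Induced
import Cfsg.Agent.H12.Induction
import Mathlib.RingTheory.RootsOfUnity.Complex
import Mathlib.RingTheory.IntegralDomain

/-!
The characters of `SU₃(3)` induced from the Borel subgroup.
-/

set_option autoImplicit false
set_option linter.unusedSectionVars false

namespace H17.U33

open Matrix Cfsg
open scoped ComplexConjugate

attribute [local irreducible] uEl tEl wEl

noncomputable instance instFintypeB : Fintype B := Fintype.ofFinite B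

/-- a faithful character of the multiplicative group -/
noncomputable def om0 : Kˣ →* ℂˣ :=
  (rootsOfUnity 8 ℂ).subtype.comp
    ((mulEquivOfCyclicCardEq (by
      rw [Complex.card_rootsOfUnity, Nat.card_eq_fintype_card, card_Kx])) : Kˣ ≃* rootsOfUnity 8 ℂ).toMonoidHom

theorem om0_injective : Function.Injective om0 :=
  Subtype.val_injective.comp (MulEquiv.injective _)

/-- the value of the faithful character -/
noncomputable def zz (x : Kˣ) : ℂ := ((om0 x : ℂˣ) : ℂ)

theorem zz_pow_eight (x : Kˣ) : zz x ^ 8 = 1 := by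
  have h : x ^ 8 = 1 := by rw [← card_Kx]; exact pow_card_eq_one
  rw [zz, ← Units.val_pow_eq_pow_val, ← map_pow, h, map_one, Units.val_one]

theorem zz_one : zz 1 = 1 := by rw [zz, map_one, Units.val_one]

theorem zz_eq_one {x : Kˣ} (h : zz x = 1) : x = 1 :=
  om0_injective (by rw [map_one]; exact Units.ext h)

theorem zz_mul (x y : Kˣ) : zz (x * y) = zz x * zz y := by
  rw [zz, map_mul, Units.val_mul]; rfl

theorem zz_pow (x : Kˣ) (n : ℕ) : zz (x ^ n) = zz x ^ n := by
  rw [zz, map_pow, Units.val_pow_eq_pow_val]; rfl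

theorem conj_zz (x : Kˣ) : conj (zz x) = zz x ^ 7 := by
  rw [H12.conj_eq_inv_of_pow_eq_one (by norm_num) (zz_pow_eight x)]
  exact inv_eq_of_mul_eq_one_right (by rw [← pow_succ']; exact zz_pow_eight x)

/-- indicator of divisibility by eight -/
def dl (n : ℕ) : ℕ := if 8 ∣ n then 1 else 0

theorem sum_zz_pow (n : ℕ) : ∑ x : Kˣ, zz x ^ n = 8 * (dl n : ℂ) := by
  unfold dl
  split_ifs with h
  · obtain ⟨k, rfl⟩ := h
    simp [pow_mul, zz_pow_eight, card_Kx]
  · obtain ⟨g, hg⟩ := IsCyclic.exists_generator (α := Kˣ)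
    have hne : zz g ^ n ≠ 1 := by
      intro hc
      rw [← zz_pow] at hc
      have h2 := orderOf_dvd_of_pow_eq_one (zz_eq_one hc)
      rw [orderOf_eq_card_of_forall_mem_zpowers hg, Nat.card_eq_fintype_card, card_Kx] at h2
      exact h h2
    have h1 : ∑ x : Kˣ, zz (g * x) ^ n = ∑ x : Kˣ, zz x ^ n :=
      Equiv.sum_comp (Equiv.mulLeft g) (fun x => zz x ^ n)
    simp only [zz_mul, mul_pow, ← Finset.mul_sum] at h1
    rw [Nat.cast_zero, mul_zero]
    exact (mul_left_eq_self₀.1 h1).resolve_left hne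

theorem geom_zz (x : Kˣ) : ∑ k ∈ Finset.range 8, zz x ^ k = if x = 1 then (8 : ℂ) else 0 := by
  split_ifs with h
  · simp [h, zz_one]
  · rw [geom_sum_eq (fun hc => h (zz_eq_one hc)), zz_pow_eight, sub_self, zero_div]

/-- linear characters of the Borel subgroup -/
noncomputable def th (k : ℕ) : B → ℂ := fun b => zz (lam0 b) ^ k

theorem th_isCharacter (k : ℕ) : IsCharacter B (th k) := by
  have h := H12.isCharacter_monoidHom (G := B) ((om0.comp lam0) ^ k)
  convert h using 1
  funext b
  show zz (lam0 b) ^ k = ((((om0.comp lam0) b) ^ k : ℂˣ) : ℂ)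
  rw [Units.val_pow_eq_pow_val]; rfl

theorem th_conj_inv (k : ℕ) (h b : B) : th k (h⁻¹ * b * h) = th k b := by
  have : lam0 (h⁻¹ * b * h) = lam0 b := by
    rw [map_mul, map_mul, map_inv, mul_comm (lam0 h)⁻¹, mul_assoc, inv_mul_cancel, mul_one]
  rw [th, this]; rfl

/-- the induced characters -/
noncomputable def ff (k : ℕ) : GJ → ℂ := indFun B (th k)

theorem ff_isCharacter (k : ℕ) : IsCharacter GJ (ff k) :=
  H12.IsCharacter.indFun (th_isCharacter k)

theorem ff_isClassFunction (k : ℕ) : IsClassFunction GJ (ff k) :=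
  H12.indFun_isClassFunction _ _

theorem ff_one (k : ℕ) : ff k 1 = 28 := by
  have h2 : B.index = 28 := by
    have := B.card_mul_index
    rw [card_B, card_GJ] at this
    omega
  rw [ff, H12.indFun_one, h2, th, map_one, zz_one, one_pow, mul_one]
  norm_num

/-- representatives of the cosets -/
noncomputable def rep : Option UP → GJ
  | none => 1
  | some u => (wEl * uEl u)⁻¹

theorem rep_existsUnique (x : GJ) : ∃! i, (rep i)⁻¹ * x ∈ B := by
  by_cases hx : x ∈ B
  · refine ⟨none, by simpa [rep] using hx, ?_⟩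
    rintro (_ | u) hu
    · rfl
    · exfalso
      simp only [rep, inv_inv, Subgroup.mul_mem_cancel_right _ hx] at hu
      have h1 := bigEl_not_mem ((1, u0), u)
      simp only [bigEl, tEl_one, uEl_u0, one_mul] at h1
      exact h1 hu
  · obtain ⟨b, hb, u, hu⟩ := exists_of_not_mem (g := x⁻¹) (fun h => hx (by simpa using B.inv_mem h))
    refine ⟨some u, ?_, ?_⟩
    · simp only [rep, inv_inv]
      have : wEl * uEl u * x = b⁻¹ := by
        rw [eq_inv_mul_iff_mul_eq.2 hu.symm]; group
      rw [this]; exact B.inv_mem hb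
    · rintro (_ | v) hv
      · exact absurd (by simpa [rep] using hv) hx
      · simp only [rep, inv_inv] at hv
        have h1 : (wEl * uEl v * x)⁻¹ * (wEl * uEl v) = b * (wEl * uEl u) := by
          rw [← hu]; group
        exact congrArg some (unique_big (B.inv_mem hv) hb h1).2

theorem ff_apply (k : ℕ) (g : GJ) :
    ff k g = extendByZero B (th k) g +
      ∑ u : UP, extendByZero B (th k) (wEl * (uEl u * g * (uEl u)⁻¹) * wEl) := by
  rw [ff, H21.indFun_eq_sum_reps rep rep_existsUnique _ (th_conj_inv k), Fintype.sum_option]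
  refine congrArg₂ (· + ·) ?_ ?_
  · simp only [rep, inv_one, one_mul, mul_one]
  · refine Finset.sum_congr rfl fun u _ => ?_
    simp only [rep, inv_inv, _root_.mul_inv_rev, w_inv, mul_assoc]

/-- the parametrisation of the Borel subgroup -/
noncomputable def eB : Kˣ × UP ≃ B :=
  Equiv.ofBijective (fun p => ⟨_, tu_mem p.1 p.2⟩)
    ⟨fun p q h => tu_injective (congrArg Subtype.val h), fun b => by
      obtain ⟨x, u, h⟩ := exists_of_mem b.2
      exact ⟨(x, u), Subtype.ext h.symm⟩⟩

theorem eB_apply (p : Kˣ × UP) : (eB p : GJ) = tEl p.1 * uEl p.2 := rfl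

theorem th_eB (k : ℕ) (p : Kˣ × UP) : th k (eB p) = zz p.1 ^ k := by
  simp only [th]
  congr 2
  exact lam0_tu p.1 p.2

theorem sum_B (f : B → ℂ) : ∑ b, f b = ∑ x : Kˣ, ∑ u : UP, f (eB (x, u)) := by
  rw [← eB.sum_comp, Fintype.sum_prod_type]

theorem inner_ff (k l : ℕ) :
    classInner (ff k) (ff l) = ((dl (k + 7 * l) + dl (k + 35 * l) : ℕ) : ℂ) := by
  have e1 : ∑ b : B, th k b * conj (th l b) = 216 * (dl (k + 7 * l) : ℂ) := by
    rw [sum_B]
    simp only [th_eB, map_pow, conj_zz, ← pow_mul, ← pow_add, Finset.sum_const, Finset.card_univ,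
      nsmul_eq_mul, ← Finset.mul_sum, sum_zz_pow, card_UP]
    push_cast
    ring
  have e2 : ∑ b : B, th k b * conj (extendByZero B (th l) (wEl * (b : GJ) * wEl)) =
      8 * (dl (k + 35 * l) : ℂ) := by
    rw [sum_B, ← sum_zz_pow]
    refine Finset.sum_congr rfl fun x _ => ?_
    rw [Finset.sum_eq_single u0 (fun v _ hv => ?_) (by simp)]
    · have h1 : wEl * (eB (x, u0) : GJ) * wEl = ((⟨tEl (x ^ 5), tEl_mem _⟩ : B) : GJ) := by
        rw [eB_apply, uEl_u0, mul_one, conj_tEl]
      rw [h1, H13.extendByZero_coe, th_eB, th, lam0_tEl, zz_pow, map_pow, map_pow, conj_zz,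
        ← pow_mul, ← pow_mul, ← pow_add]
      congr 1
      ring
    · have h1 : ¬ wEl * (eB (x, v) : GJ) * wEl ∈ B := fun h => by
        obtain ⟨y, hy⟩ := w_conj_mem (eB (x, v)).2 h
        refine hv (congrArg Prod.snd (tu_injective (a₁ := (x, v)) (a₂ := (y, u0)) ?_))
        simpa [uEl_u0, eB_apply] using hy
      rw [H13.extendByZero_notMem _ _ h1, map_zero, mul_zero]
  have e3 : ∀ u : UP,
      ∑ b : B, th k b * conj (extendByZero B (th l) (wEl * (uEl u * (b : GJ) * (uEl u)⁻¹) * wEl)) =
        8 * (dl (k + 35 * l) : ℂ) := by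
    intro u
    rw [← e2]
    refine Fintype.sum_equiv (MulAut.conj (⟨uEl u, uEl_mem u⟩ : B)).toEquiv _ _ fun b => ?_
    simp only [MulEquiv.toEquiv_eq_coe, MulEquiv.coe_toEquiv, MulAut.conj_apply]
    congr 1
    have := th_conj_inv k (⟨uEl u, uEl_mem u⟩⁻¹ : B) b
    rw [inv_inv] at this
    exact this.symm
  rw [show ff k = indFun B (th k) from rfl, H13.classInner_indFun_left B _ (ff_isClassFunction l),
    H12.classInner_def]
  simp only [ff_apply, H13.extendByZero_coe, map_add, map_sum, mul_add, Finset.mul_sum,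
    Finset.sum_add_distrib]
  rw [← Finset.mul_sum, e1, Finset.sum_comm]
  simp only [← Finset.mul_sum, e3, Finset.sum_const, Finset.card_univ, nsmul_eq_mul, card_UP,
    card_B]
  push_cast
  ring

end H17.U33
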