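import Cfsg.Agent.H50.PSU3Orders
import Cfsg.Agent.H50.Center
import Cfsg.Agent.H50.Count
import Cfsg.Agent.H50.Simple
import Cfsg.Agent.H37.SmallIso

/-!
A computable model of `SU₃(3)` with an upper triangular Borel subgroup.
-/

set_option autoImplicit false
set_option linter.unusedSectionVars false

namespace H17.U33

open Matrix Cfsg

/-- the field with nine elements -/
abbrev K : Type := H37.K9

/-- three by three matrices -/
abbrev M3 : Type := Matrix (Fin 3) (Fin 3) K

theorem card_K : Fintype.card K = 3 ^ 2 := by decide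

theorem cube_add : ∀ x y : K, (x + y) * (x + y) * (x + y) = x * x * x + y * y * y := by decide +kernel

/-- the adjoint -/
def ct (M : M3) : M3 := Matrix.of fun i j => M j i * M j i * M j i

theorem ct_eq_adj (M : M3) : ct M = H51.adj card_K M := by
  refine Matrix.ext fun i j => ?_
  simp [ct, pow_three, mul_assoc]

theorem ct_mul (A B : M3) : ct (A * B) = ct B * ct A := by
  simp only [ct_eq_adj, H51.adj_mul]

theorem ct_one : ct 1 = 1 := by rw [ct_eq_adj, H51.adj_one]

/-- the antidiagonal form -/
def J : M3 := !![0, 0, 1; 0, 1, 0; 1, 0, 0]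

/-- frame matrix -/
def P : M3 := !![⟨0, 0⟩, ⟨0, 1⟩, ⟨0, 0⟩; ⟨0, 1⟩, ⟨0, 0⟩, ⟨0, 2⟩; ⟨1, 1⟩, ⟨0, 0⟩, ⟨1, 1⟩]

theorem ct_P : ct P * P = J := by decide +kernel

theorem det_P : P.det ≠ 0 := by decide +kernel

/-- the model group -/
def GJ : Subgroup (Matrix.SpecialLinearGroup (Fin 3) K) where
  carrier := {g | ct (g : M3) * J * (g : M3) = J}
  one_mem' := by simp [ct_one]
  mul_mem' {a b} ha hb := by
    simp only [Set.mem_setOf_eq, Matrix.SpecialLinearGroup.coe_mul, ct_mul] at ha hb ⊢
    calc ct (b : M3) * ct (a : M3) * J * ((a : M3) * (b : M3))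
        = ct (b : M3) * (ct (a : M3) * J * (a : M3)) * (b : M3) := by simp only [mul_assoc]
      _ = J := by rw [ha, hb]
  inv_mem' {a} ha := by
    simp only [Set.mem_setOf_eq] at ha ⊢
    have h : (a : M3) * (a⁻¹ : Matrix.SpecialLinearGroup (Fin 3) K) = 1 := by
      rw [← Matrix.SpecialLinearGroup.coe_mul, mul_inv_cancel]; rfl
    conv_lhs => rw [← ha]
    calc ct ((a⁻¹ : Matrix.SpecialLinearGroup (Fin 3) K) : M3) * (ct (a : M3) * J * (a : M3)) *
          ((a⁻¹ : Matrix.SpecialLinearGroup (Fin 3) K) : M3)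
        = ct ((a : M3) * (a⁻¹ : Matrix.SpecialLinearGroup (Fin 3) K)) * J *
          ((a : M3) * (a⁻¹ : Matrix.SpecialLinearGroup (Fin 3) K)) := by
            simp only [ct_mul, mul_assoc]
      _ = J := by rw [h, ct_one, one_mul, mul_one]

theorem mem_GJ {g : Matrix.SpecialLinearGroup (Fin 3) K} : g ∈ GJ ↔ ct (g : M3) * J * (g : M3) = J :=
  Iff.rfl

/-- matrix of an element of the model -/
def mat (g : GJ) : M3 := ((g : Matrix.SpecialLinearGroup (Fin 3) K) : M3)

theorem mat_injective : Function.Injective mat := fun _ _ h => Subtype.ext (Subtype.ext h)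

theorem mat_mul (g g' : GJ) : mat (g * g') = mat g * mat g' := rfl

theorem mat_one : mat 1 = 1 := rfl

/-- build an element -/
def mk (M : M3) (hd : M.det = 1) (h : ct M * J * M = J) : GJ := ⟨⟨M, hd⟩, h⟩

theorem mat_mk (M : M3) (hd : M.det = 1) (h : ct M * J * M = J) : mat (mk M hd h) = M := rfl

/-- `P` as a unit -/
noncomputable def PU : GL (Fin 3) K := GeneralLinearGroup.mkOfDetNeZero P det_P

/-- inverse of `P` -/
noncomputable def Pi' : M3 := ((PU⁻¹ : GL (Fin 3) K) : M3)

theorem P_mul_Pi : P * Pi' = 1 := Units.mul_inv PU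

theorem Pi_mul_P : Pi' * P = 1 := Units.inv_mul PU

theorem isIso_iff (M : M3) : H50.IsIso 3 M ↔ ct M * M = 1 := by
  constructor
  · intro h
    refine Matrix.ext fun i j => ?_
    have := h (Pi.single j 1) (Pi.single i 1)
    simp only [Cfsg.hermForm, Matrix.mulVec_single_one, Matrix.col_apply] at this
    rw [Matrix.mul_apply, ct_eq_adj]
    simp only [H51.adj_apply]
    rw [Finset.sum_congr rfl fun k _ => mul_comm (M k i ^ 3) (M k j), this]
    fin_cases i <;> fin_cases j <;> simp [Fin.sum_univ_three, Matrix.one_apply]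
  · intro h a b
    rw [H50.h_mulVec_left card_K, mulVec_mulVec, ← ct_eq_adj, h, one_mulVec]

/-- the isomorphism with `SU₃(3)` -/
noncomputable def toSU : GJ ≃* SU 3 K 3 where
  toFun g := H50.mkSU (P * mat g * Pi')
    ((isIso_iff _).2 (by
      calc ct (P * mat g * Pi') * (P * mat g * Pi')
          = ct Pi' * (ct (mat g) * (ct P * P) * mat g) * Pi' := by simp only [ct_mul, mul_assoc]
        _ = ct Pi' * J * Pi' := by rw [ct_P, show ct (mat g) * J * mat g = J from g.2]
        _ = ct (P * Pi') * (P * Pi') := by rw [← ct_P]; simp only [ct_mul, mul_assoc]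
        _ = 1 := by rw [P_mul_Pi, ct_one, one_mul]))
    (by rw [det_mul, det_mul, mul_right_comm, ← det_mul, P_mul_Pi, det_one, one_mul]
        exact (g : Matrix.SpecialLinearGroup (Fin 3) K).2)
  invFun s := mk (Pi' * H50.suMat s * P)
    (by rw [det_mul, det_mul, mul_right_comm, ← det_mul, Pi_mul_P, det_one, one_mul]
        exact (s : Matrix.SpecialLinearGroup (Fin 3) K).2)
    (by
      calc ct (Pi' * H50.suMat s * P) * J * (Pi' * H50.suMat s * P)
          = ct P * (ct (H50.suMat s) * (ct (P * Pi') * (P * Pi')) * H50.suMat s) * P := by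
            rw [← ct_P]; simp only [ct_mul, mul_assoc]
        _ = ct P * P := by
            rw [P_mul_Pi, ct_one, one_mul, mul_one,
              (isIso_iff (H50.suMat s)).1 (H50.SU_isIso s), mul_one]
        _ = J := ct_P)
  left_inv g := mat_injective (by
    show Pi' * (P * mat g * Pi') * P = mat g
    calc Pi' * (P * mat g * Pi') * P = (Pi' * P) * mat g * (Pi' * P) := by simp only [mul_assoc]
      _ = mat g := by rw [Pi_mul_P, one_mul, mul_one])
  right_inv s := H50.SU_ext (by
    show P * (Pi' * H50.suMat s * P) * Pi' = H50.suMat s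
    calc P * (Pi' * H50.suMat s * P) * Pi' = (P * Pi') * H50.suMat s * (P * Pi') := by simp only [mul_assoc]
      _ = H50.suMat s := by rw [P_mul_Pi, one_mul, mul_one])
  map_mul' g g' := H50.SU_ext (by
    show P * mat (g * g') * Pi' = (P * mat g * Pi') * (P * mat g' * Pi')
    calc P * mat (g * g') * Pi' = P * mat g * (Pi' * P) * mat g' * Pi' := by
          rw [Pi_mul_P, mul_one, mat_mul, ← mul_assoc P]
      _ = _ := by simp only [mul_assoc])

noncomputable instance : Fintype GJ := Fintype.ofFinite _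

theorem center_SU_bot {F : Type*} [Field F] [Fintype F] (hF : Fintype.card F = 3 ^ 2) :
    Subgroup.center (SU 3 F 3) = ⊥ := by
  refine Subgroup.eq_bot_of_card_eq _ ?_
  rw [H50.card_center_SU hF (by norm_num)]
  decide

/-- `PSU = SU` here -/
noncomputable def psuEquiv {F : Type*} [Field F] [Fintype F] (hF : Fintype.card F = 3 ^ 2) :
    PSU 3 F 3 ≃* SU 3 F 3 :=
  (QuotientGroup.quotientMulEquivOfEq (center_SU_bot hF)).trans QuotientGroup.quotientBot

theorem card_SU3 : Nat.card (SU 3 K 3) = 6048 := by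
  have h1 := H50.card_SU_mul (n := 3) card_K (by norm_num)
  rw [H50.card_GU card_K] at h1
  simp [Finset.prod_range_succ] at h1
  omega

theorem card_GJ : Nat.card GJ = 6048 := by rw [Nat.card_congr toSU.toEquiv, card_SU3]

theorem isSimple_GJ : IsSimpleGroup GJ := by
  haveI := H50.PSU_isSimple (n := 3) card_K le_rfl (by norm_num)
  exact ((psuEquiv card_K).trans toSU.symm).symm.isSimpleGroup

/-- base change of `SU₃` along an isomorphism of fields -/
noncomputable def suCongr {F : Type*} [Field F] (ψ : F ≃+* K) : SU 3 F 3 ≃* SU 3 K 3 where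
  toFun s := H50.mkSU ((H50.suMat s).map ψ) (fun u v => by
      have h := H50.SU_isIso s (fun i => ψ.symm (u i)) (fun i => ψ.symm (v i))
      have h2 := congrArg ψ h
      simpa [Cfsg.hermForm, Matrix.mulVec, dotProduct, map_sum] using h2)
    (by rw [← RingEquiv.mapMatrix_apply, ← RingEquiv.map_det]
        exact (congrArg ψ (s : Matrix.SpecialLinearGroup (Fin 3) F).2).trans (map_one ψ))
  invFun s := H50.mkSU ((H50.suMat s).map ψ.symm) (fun u v => by
      have h := H50.SU_isIso s (fun i => ψ (u i)) (fun i => ψ (v i))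
      have h2 := congrArg ψ.symm h
      simpa [Cfsg.hermForm, Matrix.mulVec, dotProduct, map_sum] using h2)
    (by rw [← RingEquiv.mapMatrix_apply, ← RingEquiv.map_det]
        exact (congrArg ψ.symm (s : Matrix.SpecialLinearGroup (Fin 3) K).2).trans (map_one ψ.symm))
  left_inv s := H50.SU_ext (Matrix.ext fun i j => ψ.symm_apply_apply _)
  right_inv s := H50.SU_ext (Matrix.ext fun i j => ψ.apply_symm_apply _)
  map_mul' s t := H50.SU_ext (by
    show ((H50.suMat s * H50.suMat t).map ψ) = (H50.suMat s).map ψ * (H50.suMat t).map ψ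
    exact Matrix.map_mul)

theorem exists_equiv {F : Type*} [Field F] [Fintype F] (hF : Fintype.card F = 9) :
    Nonempty (PSU 3 F 3 ≃* GJ) :=
  ⟨((psuEquiv (by rw [hF]; norm_num)).trans
    (suCongr (FiniteField.ringEquivOfCardEq (K' := K) (by rw [hF, card_K]; norm_num)))).trans toSU.symm⟩

end H17.U33
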