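import Cfsg.Agent.H17.SquarefreeDegrees
import Cfsg.Agent.H13.Correspondence
import Cfsg.Agent.H13.Kernel

/-!
Solvable groups whose vanishing elements of order divisible by `p` all have the same order.
-/

set_option autoImplicit false
set_option linter.unusedSectionVars false
set_option linter.style.haveILetI false

namespace H17.VSO

open Cfsg
open scoped commutatorElement

universe u

/-- Some irreducible character is zero at `g`. -/
def Vanishes {G : Type*} [Group G] (g : G) : Prop := ∃ χ : IrrCharacter G, (χ : G → ℂ) g = 0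

/-- `g` is a `p`-element. -/
def PE {G : Type*} [Group G] (p : ℕ) (g : G) : Prop := ∃ k : ℕ, g ^ p ^ k = 1

/-- The hypothesis, in a form inherited by quotients. -/
def Hyp (p : ℕ) (G : Type*) [Group G] : Prop :=
  (∀ x : G, PE p x → x ≠ 1 → Vanishes x → ∀ y : G, Vanishes y → p ∣ orderOf y → PE p y) ∧
    ∀ x : G, PE p x → Vanishes x → x ^ p ≠ 1 → ¬ Vanishes (x ^ p)

variable {G : Type u} [Group G] [Finite G] {p : ℕ} [Fact p.Prime]

theorem vanishes_of_quotient (N : Subgroup G) [N.Normal] {g : G} (h : Vanishes (g : G ⧸ N)) :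
    Vanishes g := by
  obtain ⟨χ, hχ⟩ := h
  exact ⟨H13.inflateIrr N χ, hχ⟩

theorem dvd_orderOf_of_pe {x : G} (hx : PE p x) (h1 : x ≠ 1) : p ∣ orderOf x := by
  obtain ⟨k, hk⟩ := hx
  obtain ⟨j, -, hj⟩ := (Nat.dvd_prime_pow Fact.out).1 (orderOf_dvd_of_pow_eq_one hk)
  rcases Nat.eq_zero_or_pos j with rfl | hj0
  · exact absurd (orderOf_eq_one_iff.1 (by rw [hj, pow_zero])) h1
  · rw [hj]; exact dvd_pow_self p hj0.ne'

theorem exists_lift_pe (N : Subgroup G) [N.Normal] {y : G ⧸ N} (hy : PE p y) :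
    ∃ x : G, PE p x ∧ (x : G ⧸ N) = y := by
  have hp : p.Prime := Fact.out
  obtain ⟨k, hk⟩ := hy
  obtain ⟨x, rfl⟩ := QuotientGroup.mk_surjective y
  set n := orderOf x with hn
  set a := n.factorization p
  have hm : (n / p ^ a).Coprime (p ^ k) :=
    ((Nat.coprime_ordCompl hp (orderOf_pos x).ne').pow_left k).symm
  obtain ⟨t, ht0, ht1⟩ := Nat.chineseRemainder hm 0 1
  refine ⟨x ^ t, ⟨a, ?_⟩, ?_⟩
  · rw [← pow_mul, ← orderOf_dvd_iff_pow_eq_one]
    obtain ⟨c, hc⟩ := Nat.modEq_zero_iff_dvd.mp ht0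
    rw [hc, ← hn]
    refine ⟨c, ?_⟩
    conv_rhs => rw [← Nat.div_mul_cancel (Nat.ordProj_dvd n p)]
    ring
  · rw [QuotientGroup.mk_pow]
    conv_rhs => rw [← pow_one (x : G ⧸ N)]
    exact pow_eq_pow_iff_modEq.mpr (ht1.of_dvd (orderOf_dvd_of_pow_eq_one hk))

theorem pe_map {H : Type*} [Group H] (f : G →* H) {x : G} (hx : PE p x) : PE p (f x) := by
  obtain ⟨k, hk⟩ := hx
  exact ⟨k, by rw [← map_pow, hk, map_one]⟩

theorem Hyp.quotient (h : Hyp p G) (N : Subgroup G) [N.Normal] : Hyp p (G ⧸ N) := by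
  constructor
  · intro x hx hx1 hxv y hyv hyp
    obtain ⟨x, hxe, rfl⟩ := exists_lift_pe N hx
    obtain ⟨y, rfl⟩ := QuotientGroup.mk_surjective y
    exact pe_map (QuotientGroup.mk' N) (h.1 x hxe (fun e => hx1 (by rw [e]; rfl))
      (vanishes_of_quotient N hxv) y (vanishes_of_quotient N hyv)
      (hyp.trans (orderOf_map_dvd (QuotientGroup.mk' N) y)))
  · intro x hx hxv hx1 hxp
    obtain ⟨x, hxe, rfl⟩ := exists_lift_pe N hx
    exact h.2 x hxe (vanishes_of_quotient N hxv) (fun e => hx1 (by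
      rw [← QuotientGroup.mk_pow, e]; rfl)) (vanishes_of_quotient N hxp)

theorem Hyp.of_same_order
    (h : ∀ x y : G, Vanishes x → p ∣ orderOf x → Vanishes y → p ∣ orderOf y → orderOf x = orderOf y) :
    Hyp p G := by
  have hp : p.Prime := Fact.out
  constructor
  · intro x hx hx1 hxv y hyv hyp
    obtain ⟨k, hk⟩ := hx
    refine ⟨k, orderOf_dvd_iff_pow_eq_one.1 ?_⟩
    rw [← h x y hxv (dvd_orderOf_of_pe ⟨k, hk⟩ hx1) hyv hyp]
    exact orderOf_dvd_of_pow_eq_one hk
  · intro x hx hxv hx1 hxp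
    have hd := dvd_orderOf_of_pe hx (fun e => hx1 (by rw [e, one_pow]))
    have hpe : PE p (x ^ p) := by
      obtain ⟨k, hk⟩ := hx
      exact ⟨k, by rw [← pow_mul, mul_comm, pow_mul, hk, one_pow]⟩
    have he := h x (x ^ p) hxv hd hxp (dvd_orderOf_of_pe hpe hx1)
    rw [orderOf_pow_of_dvd hp.ne_zero hd] at he
    exact (Nat.div_lt_self (orderOf_pos x) hp.one_lt).ne he.symm

theorem not_vanishes_mul (h : Hyp p G) {x w : G} (hx : PE p x) (hx1 : x ≠ 1) (hw : (orderOf w).Coprime p)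
    (hw1 : w ≠ 1) (hc : Commute x w) (hxv : Vanishes x) : ¬ Vanishes (x * w) := by
  intro hv
  have hcop : (orderOf x).Coprime (orderOf w) := by
    obtain ⟨k, hk⟩ := hx
    exact Nat.Coprime.coprime_dvd_left (orderOf_dvd_of_pow_eq_one hk) (hw.pow_right k).symm
  have ho := hc.orderOf_mul_eq_mul_orderOf_of_coprime hcop
  obtain ⟨k, hk⟩ := h.1 x hx hx1 hxv (x * w) hv (ho ▸ dvd_mul_of_dvd_left (dvd_orderOf_of_pe hx hx1) _)
  have hd : orderOf w ∣ p ^ k :=
    (Dvd.intro_left _ ho.symm).trans (orderOf_dvd_of_pow_eq_one hk)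
  exact hw1 (orderOf_eq_one_iff.1 (Nat.Coprime.eq_one_of_dvd (hw.pow_right k) hd))

/-- A regular orbit of an abelian coprime operator group on an abelian group. -/
theorem exists_regular {P A : Type*} [Group P] [Finite P] (hP : IsPGroup p P)
    [CommGroup A] [Finite A] [MulDistribMulAction P A] (hcop : (Nat.card A).Coprime p)
    (hcomm : ∀ (g h : P) (a : A), g • h • a = h • g • a) :
    ∃ l : A, ∀ g : P, g • l = l → ∀ a : A, g • a = a := by
  classical
  haveI := Fintype.ofFinite P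
  obtain ⟨l, hmin⟩ := exists_minimalFor_of_wellFoundedLT (fun _ : A => True)
    (fun a => Nat.card (MulAction.stabilizer P a)) ⟨1, trivial⟩
  refine ⟨l, fun s hs μ => ?_⟩
  by_contra hμ
  set S := MulAction.stabilizer P l with hS
  have hroot : ∀ a b : A, a ^ Nat.card S = b ^ Nat.card S → a = b := by
    have hc : (Nat.card A).Coprime (Nat.card S) := by
      obtain ⟨j, hj⟩ := IsPGroup.iff_card.1 (hP.to_subgroup S)
      rw [hj]
      exact hcop.pow_right j
    exact fun a b h => (powCoprime hc).injective h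
  let N : A → A := fun a => ∏ x : S, (x : P) • a
  have hNfix : ∀ a, ∀ m ∈ S, m • N a = N a := by
    intro a m hm
    show m • ∏ x : S, (x : P) • a = _
    rw [Finset.smul_prod']
    exact Fintype.prod_equiv (Equiv.mulLeft ⟨m, hm⟩) _ _ fun x => by
      simp [mul_smul]
  have hNcomm : ∀ a, ∀ g : P, g • N a = N (g • a) := by
    intro a g
    show g • ∏ x : S, (x : P) • a = _
    rw [Finset.smul_prod']
    exact Finset.prod_congr rfl fun x _ => hcomm g x a
  have hNmul : ∀ a b, N (a * b) = N a * N b := fun a b => by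
    simp only [N, smul_mul', Finset.prod_mul_distrib]
  have hNf : ∀ a, (∀ m ∈ S, m • a = a) → N a = a ^ Nat.card S := by
    intro a ha
    simp only [N]
    rw [Finset.prod_congr rfl (g := fun _ : S => a) (fun x _ => ha _ x.2), Finset.prod_const,
      Finset.card_univ, Nat.card_eq_fintype_card]
  have hNpow : ∀ (a : A) (k : ℕ), N (a ^ k) = N a ^ k := fun a k => by
    simp only [N, smul_pow', Finset.prod_pow]
  set μ1 := μ ^ Nat.card S / N μ with hμ1
  have hN1 : N μ1 = 1 := by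
    have h2 : N μ1 * N (N μ) = N (μ ^ Nat.card S) := by
      rw [← hNmul, hμ1, div_mul_cancel]
    rw [hNpow, hNf (N μ) (fun m hm => hNfix μ m hm)] at h2
    exact mul_eq_right.1 h2
  have hmove : s • μ1 ≠ μ1 := by
    intro h
    rw [hμ1, smul_div', hNfix μ s hs, smul_pow', div_left_inj] at h
    exact hμ (hroot _ _ h)
  have hsub : ∀ g : P, g • (l * μ1) = l * μ1 → g • l = l ∧ g • μ1 = μ1 := by
    intro g hg
    have hNl : N (l * μ1) = l ^ Nat.card S := by
      rw [hNmul, hN1, mul_one, hNf l fun m hm => hm]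
    have h1 := hNcomm (l * μ1) g
    rw [hg, hNl, smul_pow'] at h1
    have hgl : g • l = l := hroot _ _ h1
    refine ⟨hgl, ?_⟩
    rw [smul_mul', hgl] at hg
    exact mul_left_cancel hg
  have hlt : MulAction.stabilizer P (l * μ1) < S := lt_of_le_of_ne (fun g hg => (hsub g hg).1)
    fun h => hmove (hsub s (show s ∈ MulAction.stabilizer P (l * μ1) from h.ge hs)).2
  have hclt : Nat.card (MulAction.stabilizer P (l * μ1)) < Nat.card S :=
    (Subgroup.card_le_of_le hlt.le).lt_of_ne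
      fun h => hlt.ne (Subgroup.eq_of_le_of_card_ge hlt.le h.ge)
  exact absurd (hmin.2 (j := l * μ1) trivial hclt.le) (not_le.2 hclt)

/-- Two commuting automorphisms of order dividing `p` of a `p'`-group: some nontrivial
combination has a nontrivial fixed point. -/
theorem exists_fixed_pair {W : Type*} [CommGroup W] [Finite W] [Nontrivial W]
    (hcop : (Nat.card W).Coprime p) (a b : MulAut W) (hab : Commute a b) (ha : a ^ p = 1) (hb : b ^ p = 1) :
    (∃ j, 0 < j ∧ j < p ∧ ∃ w : W, w ≠ 1 ∧ (a ^ j) w = w) ∨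
      ∃ i, ∃ w : W, w ≠ 1 ∧ (a ^ i * b) w = w := by
  by_contra hcon
  simp only [not_or, not_exists, not_and] at hcon
  obtain ⟨hA, hB⟩ := hcon
  have key : ∀ e : MulAut W, e ^ p = 1 → (∀ w : W, w ≠ 1 → ¬ e w = w) →
      ∀ w : W, ∏ k ∈ Finset.range p, (e ^ k) w = 1 := by
    intro e he hfree w
    by_contra hne
    refine hfree _ hne ?_
    have h1 := Finset.prod_range_succ (fun k => (e ^ k) w) p
    have h2 := Finset.prod_range_succ' (fun k => (e ^ k) w) p
    rw [h1, he, pow_zero] at h2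
    rw [map_prod, ← mul_right_cancel h2.symm]
    refine Finset.prod_congr rfl fun k _ => ?_
    rw [pow_succ', MulAut.mul_apply]
  obtain ⟨w, hw⟩ := exists_ne (1 : W)
  have hsum : ∏ i ∈ Finset.range p, ∏ k ∈ Finset.range p, ((a ^ i * b) ^ k) w = 1 :=
    Finset.prod_eq_one fun i _ => key _ (by
      rw [(hab.pow_left i).mul_pow, ← pow_mul, mul_comm i p, pow_mul, ha, one_pow, hb, mul_one]) (hB i) w
  rw [Finset.prod_comm, Finset.prod_eq_single 0] at hsum
  · simp only [pow_zero, MulAut.one_apply, Finset.prod_const, Finset.card_range] at hsum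
    exact hw ((powCoprime hcop).injective (by simpa [powCoprime] using hsum))
  · intro k hk hk0
    rw [← key (a ^ k) (by rw [← pow_mul, mul_comm k p, pow_mul, ha, one_pow])
      (hA k (Nat.pos_of_ne_zero hk0) (Finset.mem_range.1 hk)) ((b ^ k) w)]
    refine Finset.prod_congr rfl fun i _ => ?_
    rw [(hab.pow_left i).mul_pow, MulAut.mul_apply, ← pow_mul, ← pow_mul, mul_comm i k]
  · intro h
    exact absurd (Finset.mem_range.2 (Fact.out : p.Prime).pos) h

/-- If the coset `y N` lies in one class, characters nontrivial on `N` vanish at `y`. -/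
theorem eq_zero_of_coset_class [Fintype G] (N : Subgroup G) [N.Normal] {χ : G → ℂ}
    (hχ : IsIrrCharacter G χ) (hker : ∃ n ∈ N, χ n ≠ χ 1) (y : G)
    (hy : ∀ z ∈ N, ∃ w : G, w * y * w⁻¹ = y * z) : χ y = 0 := by
  classical
  haveI : Fintype (G ⧸ N) := Fintype.ofFinite _
  choose w hw using hy
  set C := Subgroup.centralizer ({(y : G ⧸ N)} : Set (G ⧸ N))
  set D := C.comap (QuotientGroup.mk' N)
  have hcardD : Nat.card D = Nat.card C * Nat.card N := by
    have h1 : N ≤ D := by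
      intro n hn
      show (n : G ⧸ N) ∈ C
      rw [(QuotientGroup.eq_one_iff n).2 hn]
      exact one_mem _
    rw [Subgroup.card_eq_card_quotient_mul_card_subgroup (N.subgroupOf D),
      Nat.card_congr (Subgroup.subgroupOfEquivOfLe h1).toEquiv]
    congr 1
    have e : N.subgroupOf D = ((QuotientGroup.mk' N).comp D.subtype).ker := by
      ext x
      simp [Subgroup.mem_subgroupOf, QuotientGroup.eq_one_iff]
    show (N.subgroupOf D).index = _
    rw [e, Subgroup.index_ker, MonoidHom.range_comp, Subgroup.range_subtype,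
      Subgroup.map_comap_eq_self_of_surjective (QuotientGroup.mk'_surjective N)]
  have hle : Nat.card (Subgroup.centralizer ({y} : Set G)) ≤ Nat.card C := by
    refine Nat.le_of_mul_le_mul_right (?_ : _ * Nat.card N ≤ _) Nat.card_pos
    rw [← hcardD, ← Nat.card_prod]
    refine Nat.card_le_card_of_injective (fun cz => ⟨w cz.2 cz.2.2 * cz.1, ?_⟩) ?_
    · refine mul_mem ?_ ?_
      · show ((w cz.2 cz.2.2 : G) : G ⧸ N) ∈ C
        rw [Subgroup.mem_centralizer_singleton_iff, ← QuotientGroup.mk_mul, ← QuotientGroup.mk_mul,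
          eq_mul_inv_iff_mul_eq.1 (eq_comm.1 (hw cz.2 cz.2.2)) |>.symm, QuotientGroup.mk_mul,
          QuotientGroup.mk_mul, QuotientGroup.mk_mul, (QuotientGroup.eq_one_iff _).2 cz.2.2, mul_one]
      · show ((cz.1 : G) : G ⧸ N) ∈ C
        rw [Subgroup.mem_centralizer_singleton_iff, ← QuotientGroup.mk_mul, ← QuotientGroup.mk_mul,
          Subgroup.mem_centralizer_singleton_iff.1 cz.1.2]
    · rintro ⟨c, z⟩ ⟨c', z'⟩ h
      have h' : w z z.2 * (c : G) = w z' z'.2 * (c' : G) := congrArg Subtype.val h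
      have hz : ∀ (c : Subgroup.centralizer ({y} : Set G)) (z : N),
          (w z z.2 * (c : G)) * y * (w z z.2 * (c : G))⁻¹ = y * z := by
        intro c z
        rw [mul_inv_rev, mul_assoc (w z z.2), Subgroup.mem_centralizer_singleton_iff.1 c.2, ← hw z z.2]
        group
      obtain rfl : z = z' := Subtype.ext (mul_left_cancel ((hz c z).symm.trans (h' ▸ hz c' z')))
      obtain rfl : c = c' := Subtype.ext (mul_left_cancel h')
      rfl
  have hR : (Nat.card (Subgroup.centralizer ({y} : Set G)) : ℝ) ≤ Nat.card C := by exact_mod_cast hle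
  rw [← H13.sum_normSq_irr, ← H13.sum_normSq_irr] at hR
  let c : IrrCharacter G := ⟨χ, hχ⟩
  have hc : c ∉ Finset.univ.image (H13.inflateIrr (G := G) N) := by
    intro h
    obtain ⟨ψ, -, hψ⟩ := Finset.mem_image.1 h
    obtain ⟨n, hn, hne⟩ := hker
    apply hne
    have := H13.inflateIrr_kernel N ψ hn
    rw [hψ] at this
    exact this
  have hsplit : ∑ φ ∈ insert c (Finset.univ.image (H13.inflateIrr (G := G) N)),
      Complex.normSq ((φ : G → ℂ) y) ≤ ∑ φ : IrrCharacter G, Complex.normSq ((φ : G → ℂ) y) :=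
    Finset.sum_le_univ_sum_of_nonneg (fun φ => Complex.normSq_nonneg _)
  rw [Finset.sum_insert hc, Finset.sum_image (H13.inflateIrr_injective N).injOn] at hsplit
  simp only [H13.inflateIrr_apply] at hsplit
  have h0 : Complex.normSq (χ y) ≤ 0 := by
    show Complex.normSq ((c : G → ℂ) y) ≤ 0
    linarith
  exact Complex.normSq_eq_zero.1 (le_antisymm h0 (Complex.normSq_nonneg _))

theorem exists_irr_apply_ne_degree [Fintype G] {g : G} (hg : g ≠ 1) :
    ∃ χ : IrrCharacter G, (χ : G → ℂ) g ≠ (χ : G → ℂ) 1 := by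
  classical
  by_contra h
  push Not at h
  have h0 := H12.column_orthogonality g 1
  rw [if_neg (fun hc => hg (isConj_one_left.1 hc))] at h0
  have h1 := H12.column_orthogonality (1 : G) 1
  rw [if_pos (IsConj.refl 1)] at h1
  simp only [h] at h0
  rw [h0] at h1
  exact Nat.cast_ne_zero.2 Nat.card_pos.ne' h1.symm

section Fitting

variable (G p)

/-- The `p'`-part of the Fitting subgroup. -/
def fitQ : Subgroup G := Cfsg.pPrimeCore p G ⊓ Cfsg.fittingSubgroup G

instance : (Cfsg.pPrimeCore p G).Normal := by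
  haveI := H1.pPrimeCore_characteristic p G
  infer_instance

instance fitQ_normal : (fitQ G p).Normal := by
  haveI := H1.fittingSubgroup_normal G
  exact Subgroup.normal_inf_normal _ _

theorem fitQ_coprime : (Nat.card (fitQ G p)).Coprime p :=
  (H1.card_pPrimeCore_coprime p G).coprime_dvd_left (Subgroup.card_dvd_of_le inf_le_left)

theorem fitting_le : Cfsg.fittingSubgroup G ≤ Cfsg.pCore p G ⊔ fitQ G p := by
  have hp : p.Prime := Fact.out
  rw [fitQ, H1.fittingSubgroup_eq_iSup_pCore]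
  refine iSup_le fun q => ?_
  haveI := Fact.mk q.2
  by_cases hq : (q : ℕ) = p
  · rw [hq]; exact le_sup_left
  · refine le_trans (le_inf ?_ (le_iSup (fun r : Nat.Primes => Cfsg.pCore (r : ℕ) G) q)) le_sup_right
    haveI := H1.pCore_normal' (q : ℕ) G
    refine H1.le_pPrimeCore ?_
    obtain ⟨k, hk⟩ := IsPGroup.iff_card.1 (H1.isPGroup_pCore (q : ℕ) G)
    rw [hk]
    exact Nat.Coprime.pow_left k ((Nat.coprime_primes q.2 hp).2 hq)

theorem pCore_le_fitting : Cfsg.pCore p G ≤ Cfsg.fittingSubgroup G := by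
  rw [H1.fittingSubgroup_eq_iSup_pCore]
  exact le_iSup (fun r : Nat.Primes => Cfsg.pCore (r : ℕ) G) ⟨p, Fact.out⟩

theorem commute_pCore_fitQ {x q : G} (hx : x ∈ Cfsg.pCore p G) (hq : q ∈ fitQ G p) : Commute x q := by
  haveI := H1.pCore_normal' p G
  refine Subgroup.commute_of_normal_of_disjoint _ _ inferInstance inferInstance ?_ x q hx hq
  rw [disjoint_iff]
  refine Subgroup.inf_eq_bot_of_coprime ?_
  obtain ⟨k, hk⟩ := IsPGroup.iff_card.1 (H1.isPGroup_pCore p G)
  rw [hk]
  exact ((fitQ_coprime G p).pow_right k).symm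

variable {G p}

theorem mem_pCore_of_pe {x : G} (hx : PE p x) (hxF : x ∈ Cfsg.fittingSubgroup G) :
    x ∈ Cfsg.pCore p G := by
  obtain ⟨o, ho, q, hq, rfl⟩ := Subgroup.mem_sup_of_normal_right.1 (fitting_le G p hxF)
  obtain ⟨k, hk⟩ := hx
  obtain ⟨m, hm⟩ := H1.isPGroup_pCore p G ⟨o, ho⟩
  have hm' : o ^ p ^ m = 1 := by
    simpa using congrArg Subtype.val hm
  have hqk : q ^ p ^ (k + m) = 1 := by
    have h : (o * q) ^ p ^ (k + m) = 1 := by rw [pow_add, pow_mul, hk, one_pow]
    rwa [(commute_pCore_fitQ G p ho hq).mul_pow, show o ^ p ^ (k + m) = 1 by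
      rw [add_comm, pow_add, pow_mul, hm', one_pow], one_mul] at h
  have hq1 : q = 1 := orderOf_eq_one_iff.1 (Nat.Coprime.eq_one_of_dvd
    (Nat.Coprime.coprime_dvd_left
      (show orderOf q ∣ Nat.card (fitQ G p) by
        simpa using orderOf_dvd_natCard (⟨q, hq⟩ : fitQ G p))
      ((fitQ_coprime G p).pow_right (k + m))) (orderOf_dvd_of_pow_eq_one hqk))
  rw [hq1, mul_one]
  exact ho

variable (F : Subgroup G) [F.Normal]

/-- Elements of a normal abelian `p`-subgroup of `G/F(G)` other than `1` come from vanishing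
elements only. -/
theorem vanishes_of_abelian_normal (hF : F = Cfsg.fittingSubgroup G) (X : Subgroup (G ⧸ F)) [X.Normal]
    (hXp : IsPGroup p X) (hXc : ∀ a ∈ X, ∀ b ∈ X, a * b = b * a) {x : G}
    (hx : (x : G ⧸ F) ∈ X) (hx1 : (x : G ⧸ F) ≠ 1) : Vanishes x := by
  classical
  haveI := Fintype.ofFinite G
  have hp : p.Prime := Fact.out
  set π := QuotientGroup.mk' F
  set L := X.comap π with hL
  haveI : L.Normal := inferInstance
  have hFL : F ≤ L := fun y hy => by
    rw [hL, Subgroup.mem_comap, QuotientGroup.mk'_apply, (QuotientGroup.eq_one_iff y).2 hy]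
    exact one_mem _
  set Q := fitQ G p with hQ
  have hQF : Q ≤ F := hF ▸ inf_le_right
  have hFsup : F ≤ Cfsg.pCore p G ⊔ Q := hF ▸ fitting_le G p
  haveI : (Cfsg.pCore p G).Normal := H1.pCore_normal' p G
  have hQcop := fitQ_coprime G p
  obtain ⟨e, he⟩ := IsPGroup.iff_card.1 hXp
  have hFi : F.relIndex L = p ^ e := by
    rw [← he]
    have e' : F.subgroupOf L = (π.comp L.subtype).ker := by
      ext y
      simp [π, Subgroup.mem_subgroupOf, QuotientGroup.eq_one_iff]
    show (F.subgroupOf L).index = _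
    rw [e', Subgroup.index_ker, MonoidHom.range_comp, Subgroup.range_subtype, hL,
      Subgroup.map_comap_eq_self_of_surjective (QuotientGroup.mk'_surjective F)]
  obtain ⟨k, hk⟩ : ∃ k, Q.relIndex L = p ^ k := by
    obtain ⟨b, hb⟩ := IsPGroup.iff_card.1 (H1.isPGroup_pCore p G)
    have h2 : Q.relIndex F ∣ p ^ b := by
      refine dvd_trans (Dvd.intro _ (Subgroup.relIndex_mul_relIndex Q F _ hQF hFsup)) ?_
      rw [Subgroup.relIndex_sup_right, ← hb]
      exact Subgroup.relIndex_dvd_card _ _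
    obtain ⟨c, -, hc⟩ := (Nat.dvd_prime_pow hp).1 h2
    exact ⟨c + e, by rw [pow_add, ← hc, ← hFi, Subgroup.relIndex_mul_relIndex Q F L hQF hFL]⟩
  -- the elements of `L` centralising `Q` lie in `F`
  have hcent : L ⊓ Subgroup.centralizer (Q : Set G) ≤ F := by
    set N := L ⊓ Subgroup.centralizer (Q : Set G) with hN
    haveI : (Subgroup.centralizer (Q : Set G)).Normal := Subgroup.normal_centralizer
    haveI : N.Normal := Subgroup.normal_inf_normal _ _
    rw [hF]
    refine H1.le_fittingSubgroup ?_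
    set Z := Q.subgroupOf N
    have hZc : Z ≤ Subgroup.center N := fun z hz => Subgroup.mem_center_iff.2 fun n =>
      Subtype.ext ((Subgroup.mem_centralizer_iff.1 n.2.2 _ hz).symm)
    have hdvd : Z.index ∣ p ^ k := by
      rw [← hk]
      show Q.relIndex N ∣ Q.relIndex L
      haveI : (Q.subgroupOf L).Normal := inferInstance
      have h := Subgroup.relIndex_dvd_index_of_normal (Q.subgroupOf L) (N.subgroupOf L)
      rwa [Subgroup.relIndex_subgroupOf inf_le_left] at h
    haveI : Z.Normal := inferInstance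
    have hpg : IsPGroup p (N ⧸ Z) := by
      obtain ⟨j, -, hj⟩ := (Nat.dvd_prime_pow hp).1 hdvd
      exact IsPGroup.of_card (n := j) hj
    haveI : Group.IsNilpotent (N ⧸ Z) := hpg.isNilpotent
    exact Subgroup.isNilpotent_of_ker_le_center (QuotientGroup.mk' Z)
      (by rwa [QuotientGroup.ker_mk'])
  -- a Sylow subgroup of `L`
  obtain ⟨S⟩ : Nonempty (Sylow p L) := inferInstance
  set P := (S : Subgroup L).map L.subtype with hP
  have hPL : P ≤ L := Subgroup.map_subtype_le _
  have hPp : IsPGroup p P := S.isPGroup'.map _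
  have hLPF : L ≤ P ⊔ F := by
    have hidx : ¬ p ∣ P.relIndex L := by
      rw [hP, Subgroup.relIndex, Subgroup.subgroupOf,
        Subgroup.comap_map_eq_self_of_injective L.subtype_injective]
      exact S.not_dvd_index
    have hd1 : (P ⊔ F).relIndex L ∣ P.relIndex L := Subgroup.relIndex_dvd_of_le_left L le_sup_left
    have hd2 : (P ⊔ F).relIndex L ∣ p ^ e := hFi ▸ Subgroup.relIndex_dvd_of_le_left L le_sup_right
    obtain ⟨j, -, hj⟩ := (Nat.dvd_prime_pow hp).1 hd2
    rcases Nat.eq_zero_or_pos j with rfl | hj0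
    · rw [pow_zero] at hj
      exact Subgroup.relIndex_eq_one.1 hj
    · exact absurd (((dvd_pow_self p hj0.ne').trans (dvd_of_eq hj.symm)).trans hd1) hidx
  -- the dual of `Q / Φ(Q)`
  have hQn : Q.Normal := inferInstance
  haveI hQnil : Group.IsNilpotent Q :=
    H1.isNilpotent_mono (hF ▸ H1.isNilpotent_fittingSubgroup G) hQF
  set Φ := (frattini Q).map Q.subtype with hΦ
  haveI hΦn : Φ.Normal := by
    haveI : (frattini Q).Characteristic := inferInstance
    exact inferInstance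
  set QΦ := Φ.subgroupOf Q
  have hQΦ : QΦ = frattini Q := by
    rw [show QΦ = Φ.subgroupOf Q from rfl, Subgroup.subgroupOf, hΦ,
      Subgroup.comap_map_eq_self_of_injective Q.subtype_injective]
  haveI : QΦ.Normal := inferInstance
  let A := {l : Q →* ℂˣ // QΦ ≤ l.ker}
  let conjQ : G → (Q →* Q) := fun g =>
    { toFun := fun q => ⟨g⁻¹ * q * g, by simpa using hQn.conj_mem q q.2 g⁻¹⟩
      map_one' := Subtype.ext (by simp)
      map_mul' := fun a b => Subtype.ext (by simp [mul_assoc]) }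
  have hFfix : ∀ f ∈ F, ∀ (a : Q →* ℂˣ) (q : Q), a (conjQ f q) = a q := by
    intro f hf a q
    obtain ⟨o, ho, q₀, hq₀, rfl⟩ := Subgroup.mem_sup_of_normal_right.1 (hFsup hf)
    have hc : conjQ (o * q₀) q = (⟨q₀, hq₀⟩ : Q)⁻¹ * q * ⟨q₀, hq₀⟩ := Subtype.ext (by
      show (o * q₀)⁻¹ * (q : G) * (o * q₀) = q₀⁻¹ * (q : G) * q₀
      rw [mul_inv_rev, mul_assoc, show (q : G) * (o * q₀) = o * ((q : G) * q₀) by
        rw [← mul_assoc, ← (commute_pCore_fitQ G p ho q.2).eq, mul_assoc]]
      group)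
    rw [hc, map_mul, map_mul, map_inv, mul_comm (a _)⁻¹, inv_mul_cancel_right]
  letI : CommGroup A :=
    { mul := fun a b => ⟨a.1 * b.1, fun y hy => by
        have h1 : a.1 y = 1 := a.2 hy
        have h2 : b.1 y = 1 := b.2 hy
        show a.1 y * b.1 y = 1
        rw [h1, h2, one_mul]⟩
      one := ⟨1, fun y _ => rfl⟩
      inv := fun a => ⟨a.1⁻¹, fun y hy => by
        have h1 : a.1 y = 1 := a.2 hy
        show (a.1 y)⁻¹ = 1
        rw [h1, inv_one]⟩
      mul_assoc := fun a b c => Subtype.ext (MonoidHom.ext fun y => mul_assoc (a.1 y) (b.1 y) (c.1 y))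
      one_mul := fun a => Subtype.ext (MonoidHom.ext fun y => one_mul (a.1 y))
      mul_one := fun a => Subtype.ext (MonoidHom.ext fun y => mul_one (a.1 y))
      inv_mul_cancel := fun a => Subtype.ext (MonoidHom.ext fun y => inv_mul_cancel (a.1 y))
      mul_comm := fun a b => Subtype.ext (MonoidHom.ext fun y => mul_comm (a.1 y) (b.1 y)) }
  letI : MulDistribMulAction P A :=
    { smul := fun g a => ⟨a.1.comp (conjQ g), fun y hy => by
        refine a.2 ?_
        rw [Subgroup.mem_subgroupOf] at hy ⊢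
        show (g : G)⁻¹ * (y : G) * g ∈ Φ
        simpa using hΦn.conj_mem _ hy (g : G)⁻¹⟩
      one_smul := fun a => Subtype.ext (MonoidHom.ext fun y => congrArg a.1 (Subtype.ext (by
        show ((1 : P) : G)⁻¹ * (y : G) * ((1 : P) : G) = y
        simp)))
      mul_smul := fun g h a => Subtype.ext (MonoidHom.ext fun y => congrArg a.1 (Subtype.ext (by
        show ((g * h : P) : G)⁻¹ * (y : G) * ((g * h : P) : G) = (h : G)⁻¹ * ((g : G)⁻¹ * (y : G) * g) * h
        simp [mul_assoc])))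
      smul_mul := fun g a b => rfl
      smul_one := fun g => rfl }
  have hsep : ∀ q : Q, (∀ a : A, a.1 q = 1) → q ∈ QΦ := by
    intro q hq
    by_contra hne
    haveI : IsMulCommutative (Q ⧸ QΦ) := by
      refine ⟨⟨fun a b => ?_⟩⟩
      obtain ⟨a, rfl⟩ := QuotientGroup.mk_surjective a
      obtain ⟨b, rfl⟩ := QuotientGroup.mk_surjective b
      rw [← commutatorElement_eq_one_iff_mul_comm, ← QuotientGroup.mk'_apply, ← QuotientGroup.mk'_apply,
        ← map_commutatorElement, QuotientGroup.mk'_apply, QuotientGroup.eq_one_iff, hQΦ]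
      exact H4.commutator_le_frattini_of_nilpotent hQnil
        (Subgroup.commutator_mem_commutator (Subgroup.mem_top _) (Subgroup.mem_top _))
    letI : CommGroup (Q ⧸ QΦ) :=
      { (inferInstance : Group (Q ⧸ QΦ)) with mul_comm := IsMulCommutative.is_comm.comm }
    obtain ⟨φ, hφ⟩ := CommGroup.exists_apply_ne_one_of_hasEnoughRootsOfUnity (Q ⧸ QΦ) ℂ
      (a := (q : Q ⧸ QΦ)) (fun h => hne ((QuotientGroup.eq_one_iff q).1 h))
    exact hφ (hq ⟨φ.comp (QuotientGroup.mk' QΦ), fun y hy => by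
      show φ (QuotientGroup.mk' QΦ y) = 1
      rw [QuotientGroup.mk'_apply, (QuotientGroup.eq_one_iff y).2 hy, map_one]⟩)
  haveI : Finite (Q →* ℂˣ) := H14.finite_monoidHom_units
  have hAcop : (Nat.card A).Coprime p := by
    rw [Nat.Coprime, Nat.gcd_comm]
    refine (Nat.Prime.coprime_iff_not_dvd hp).2 fun hd => ?_
    obtain ⟨a, ha⟩ := exists_prime_orderOf_dvd_card' p hd
    have h1 : a ≠ 1 := fun h => by
      rw [h, orderOf_one] at ha
      exact hp.one_lt.ne ha
    refine h1 (Subtype.ext (MonoidHom.ext fun q => ?_))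
    have hpw : ∀ n : ℕ, (a ^ n).1 q = (a.1 q) ^ n := by
      intro n
      induction n with
      | zero => rfl
      | succ n ih =>
        rw [pow_succ, pow_succ, ← ih]
        rfl
    have hap : (a.1 q) ^ p = 1 := by
      rw [← hpw, ← ha, pow_orderOf_eq_one a]
      rfl
    have haq : (a.1 q) ^ Nat.card Q = 1 := by rw [← map_pow, pow_card_eq_one', map_one]
    have := (pow_gcd_eq_one (a := a.1 q) (m := Nat.card Q) (n := p)).2 ⟨haq, hap⟩
    rw [hQcop, pow_one] at this
    exact this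
  have hcomm : ∀ (g h : P) (a : A), g • h • a = h • g • a := by
    intro g h a
    have hf : ((g : G) * h)⁻¹ * ((h : G) * g) ∈ F := by
      rw [← QuotientGroup.eq, QuotientGroup.mk_mul, QuotientGroup.mk_mul]
      exact hXc _ (hPL g.2) _ (hPL h.2)
    refine Subtype.ext (MonoidHom.ext fun q => ?_)
    show a.1 (conjQ (h : G) (conjQ (g : G) q)) = a.1 (conjQ (g : G) (conjQ (h : G) q))
    rw [← hFfix _ hf a.1 (conjQ (h : G) (conjQ (g : G) q))]
    refine congrArg a.1 (Subtype.ext ?_)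
    show (((g : G) * h)⁻¹ * ((h : G) * g))⁻¹ * ((h : G)⁻¹ * ((g : G)⁻¹ * q * g) * h) *
      (((g : G) * h)⁻¹ * ((h : G) * g)) = (g : G)⁻¹ * ((h : G)⁻¹ * q * h) * g
    group
  obtain ⟨l, hl⟩ := exists_regular hPp hAcop hcomm
  -- the stabiliser lies in `F`
  have hKF : ∀ g : P, g • l = l → (g : G) ∈ F := by
    intro g hg
    let K : Subgroup P := ⨅ a : A, MulAction.stabilizer P a
    have hgK : g ∈ K := Subgroup.mem_iInf.2 fun a => hl g hg a
    have hCQ : K.map P.subtype ≤ Subgroup.centralizer (Q : Set G) := by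
      refine H1.le_centralizer_of_frattini (fun y _ => ?_) ?_ ?_
      · rw [Subgroup.normalizer_eq_top]; trivial
      · obtain ⟨j, hj⟩ := IsPGroup.iff_card.1 ((hPp.to_subgroup K).map P.subtype)
        rw [hj]
        exact (Nat.Coprime.pow_right j (hQcop.coprime_dvd_left (Subgroup.card_subgroup_dvd_card _))).symm
      · rintro y ⟨y, hyK, rfl⟩ q hq
        have hmem : (y : G) * q * (y : G)⁻¹ * q⁻¹ ∈ Q :=
          mul_mem (hQn.conj_mem q hq (y : G)) (inv_mem hq)
        suffices hΦ' : (⟨_, hmem⟩ : Q) ∈ QΦ by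
          rwa [Subgroup.mem_subgroupOf] at hΦ'
        refine hsep _ fun a => ?_
        have hfix : y⁻¹ • a = a := Subgroup.mem_iInf.1 (K.inv_mem hyK) a
        have hq' : conjQ ((y⁻¹ : P) : G) ⟨q, hq⟩ = ⟨(y : G) * q * (y : G)⁻¹, hQn.conj_mem q hq (y : G)⟩ :=
          Subtype.ext (by
            show ((y⁻¹ : P) : G)⁻¹ * q * ((y⁻¹ : P) : G) = _
            simp)
        have h1 : a.1 ⟨(y : G) * q * (y : G)⁻¹, hQn.conj_mem q hq (y : G)⟩ = a.1 ⟨q, hq⟩ := by
          rw [← hq']
          exact congrArg (fun b : A => b.1 ⟨q, hq⟩) hfix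
        rw [show (⟨_, hmem⟩ : Q) = ⟨(y : G) * q * (y : G)⁻¹, hQn.conj_mem q hq (y : G)⟩ * (⟨q, hq⟩ : Q)⁻¹ from rfl,
          map_mul, h1, map_inv, mul_inv_cancel]
    exact hcent ⟨hPL g.2, hCQ ⟨g, hgK, rfl⟩⟩
  -- the character
  haveI := Fintype.ofFinite Q
  let θ : IrrCharacter Q := ⟨fun q => ((l.1 q : ℂˣ) : ℂ), H12.isIrrCharacter_monoidHom l.1⟩
  set T := H13.inertia Q (θ : Q → ℂ) with hT
  haveI := Fintype.ofFinite T
  have hFT : ∀ f ∈ F, f ∈ T := by
    intro f hf
    refine (H13.mem_inertia Q).2 (funext fun q => ?_)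
    rw [H13.twist_apply]
    show ((l.1 _ : ℂˣ) : ℂ) = ((l.1 q : ℂˣ) : ℂ)
    rw [← hFfix f⁻¹ (inv_mem hf) l.1 q]
    refine congrArg (fun y => ((l.1 y : ℂˣ) : ℂ)) (Subtype.ext ?_)
    show f * (q : G) * f⁻¹ = f⁻¹⁻¹ * (q : G) * f⁻¹
    rw [inv_inv]
  have hTL : ∀ g ∈ L, g ∈ T → g ∈ F := by
    intro g hgL hgT
    obtain ⟨u, hu, f, hf, rfl⟩ := Subgroup.mem_sup_of_normal_right.1 (hLPF hgL)
    refine mul_mem (hKF ⟨u, hu⟩ ?_) hf
    have huT : u ∈ T := by simpa using mul_mem hgT (inv_mem (hFT f hf))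
    refine Subtype.ext (MonoidHom.ext fun q => ?_)
    show l.1 (conjQ u q) = l.1 q
    refine Units.ext ?_
    have h := congrFun ((H13.mem_inertia Q).1 huT) (conjQ u q)
    rw [H13.twist_apply] at h
    refine h.symm.trans ?_
    refine congrArg (fun y => ((l.1 y : ℂˣ) : ℂ)) (Subtype.ext ?_)
    show u * (u⁻¹ * (q : G) * u) * u⁻¹ = q
    group
  obtain ⟨χ, hχ⟩ : ∃ χ : IrrCharacter G, classInner (indFun Q (θ : Q → ℂ)) χ ≠ 0 := by
    by_contra h0
    simp only [not_exists, not_not] at h0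
    have h := congrFun (H12.eq_zero_of_classInner_irr_eq_zero (H13.indFun_isClassFunction Q _) h0) 1
    rw [H13.indFun_apply_one, Pi.zero_apply, mul_eq_zero] at h
    rcases h with h | h
    · exact Nat.cast_ne_zero.mpr Subgroup.index_ne_zero_of_finite h
    · exact H12.irr_apply_one_ne_zero θ h
  have hne : classInner (fun n : Q => (χ : G → ℂ) n) (θ : Q → ℂ) ≠ 0 := by
    rw [H13.classInner_indFun_left Q _ (H12.irr_isClassFunction χ)] at hχ
    rw [← H12.conj_classInner]
    simpa using hχ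
  obtain ⟨ψ, -, -, hψ⟩ := H13.clifford_correspondence_exists Q θ.2 hT
    (H13.le_inertia Q (H12.irr_isClassFunction θ)) χ.2 hne
  refine ⟨χ, ?_⟩
  rw [← hψ]
  unfold indFun
  rw [Finset.sum_eq_zero, mul_zero]
  intro g _
  refine H13.extendByZero_notMem _ _ fun h => hx1 ?_
  have hgx : g⁻¹ * x * g ∈ L := by
    have : L.Normal := inferInstance
    simpa using this.conj_mem x hx g⁻¹
  have hF' := hTL _ hgx h
  rw [QuotientGroup.eq_one_iff]
  have : F.Normal := inferInstance
  simpa [mul_assoc] using this.conj_mem _ hF' g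

/-- A `p`-subgroup of `G/F(G)` all of whose nontrivial cosets consist of vanishing elements. -/
theorem card_le_of_vanishes (h : Hyp p G) (hF : F = Cfsg.fittingSubgroup G) (hQ : fitQ G p ≠ ⊥)
    (X : Subgroup (G ⧸ F)) (hXp : IsPGroup p X)
    (hv : ∀ x : G, (x : G ⧸ F) ∈ X → (x : G ⧸ F) ≠ 1 → Vanishes x) : Nat.card X ≤ p := by
  classical
  have hp : p.Prime := Fact.out
  have hexp : ∀ e ∈ X, e ^ p = 1 := by
    intro e he
    by_contra hne
    obtain ⟨k, hk⟩ := hXp ⟨e, he⟩
    obtain ⟨x, hxe, rfl⟩ := exists_lift_pe (p := p) F (y := e)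
      ⟨k, by simpa using congrArg Subtype.val hk⟩
    refine h.2 x hxe (hv x he fun e1 => hne (by rw [e1, one_pow])) (fun e1 => hne (by
      rw [← QuotientGroup.mk_pow, e1]; rfl)) (hv _ (by rw [QuotientGroup.mk_pow]; exact pow_mem he p) ?_)
    rwa [QuotientGroup.mk_pow]
  by_contra hlt
  push Not at hlt
  haveI : Nontrivial X := Finite.one_lt_card_iff_nontrivial.1 (hp.one_lt.trans hlt)
  haveI := hXp.center_nontrivial
  obtain ⟨⟨⟨a, haX⟩, hac⟩, hane⟩ := exists_ne (1 : Subgroup.center X)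
  have ha1 : a ≠ 1 := fun e => hane (Subtype.ext (Subtype.ext e))
  obtain ⟨b, hbX, hba⟩ : ∃ b ∈ X, b ∉ Subgroup.zpowers a := by
    by_contra hc
    push Not at hc
    have := Subgroup.card_le_of_le (show X ≤ Subgroup.zpowers a from hc)
    rw [Nat.card_zpowers, orderOf_eq_prime (hexp a haX) ha1] at this
    omega
  have hab : Commute a b :=
    (congrArg Subtype.val (Subgroup.mem_center_iff.1 hac ⟨b, hbX⟩)).symm
  -- the action on the centre of `Q`
  set W := (Subgroup.center (fitQ G p)).map (fitQ G p).subtype with hW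
  haveI : W.Normal := by
    haveI : (Subgroup.center (fitQ G p)).Characteristic := inferInstance
    exact inferInstance
  have hWQ : W ≤ fitQ G p := Subgroup.map_subtype_le _
  have hWc : ∀ u ∈ W, ∀ q ∈ fitQ G p, q * u = u * q := by
    rintro _ ⟨u, hu, rfl⟩ q hq
    exact congrArg Subtype.val (Subgroup.mem_center_iff.1 hu ⟨q, hq⟩)
  haveI : Nontrivial W := by
    haveI : Nontrivial (fitQ G p) := (Subgroup.nontrivial_iff_ne_bot _).2 hQ
    haveI : Group.IsNilpotent (fitQ G p) :=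
      H1.isNilpotent_mono (H1.isNilpotent_fittingSubgroup G) inf_le_right
    haveI : Nontrivial (Subgroup.center (fitQ G p)) :=
      (Subgroup.nontrivial_iff_ne_bot _).2 (Group.IsNilpotent.center_ne_bot _)
    rw [Subgroup.nontrivial_iff_ne_bot, Ne, Subgroup.map_eq_bot_iff_of_injective _ (fitQ G p).subtype_injective]
    exact (Subgroup.nontrivial_iff_ne_bot _).1 ‹_›
  letI : CommGroup W :=
    { (inferInstance : Group W) with
      mul_comm := fun u v => Subtype.ext (hWc v v.2 u (hWQ u.2)) }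
  have hker : F ≤ (MulAut.conjNormal : G →* MulAut W).ker := by
    intro f hf
    rw [MonoidHom.mem_ker]
    ext u
    rw [MulAut.conjNormal_apply, MulAut.one_apply]
    obtain ⟨o, ho, q, hq, rfl⟩ := Subgroup.mem_sup_of_normal_right.1 (fitting_le G p (hF ▸ hf))
    rw [mul_inv_rev, mul_assoc o, hWc u u.2 q hq, mul_assoc, mul_assoc, mul_inv_cancel_left,
      ← mul_assoc, (commute_pCore_fitQ G p ho (hWQ u.2)).eq, mul_inv_cancel_right]
  let φ : G ⧸ F →* MulAut W := QuotientGroup.lift F MulAut.conjNormal hker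
  have hWcop : (Nat.card W).Coprime p :=
    (fitQ_coprime G p).coprime_dvd_left (Subgroup.card_dvd_of_le hWQ)
  -- a nontrivial element fixing a nontrivial element of `W`
  obtain ⟨e, heX, he1, w, hw1, hew⟩ : ∃ e ∈ X, e ≠ 1 ∧ ∃ w : W, w ≠ 1 ∧ φ e w = w := by
    rcases exists_fixed_pair hWcop (φ a) (φ b) (hab.map φ) (by rw [← map_pow, hexp a haX, map_one])
      (by rw [← map_pow, hexp b hbX, map_one]) with ⟨j, hj0, hjp, w, hw, hfix⟩ | ⟨i, w, hw, hfix⟩
    · refine ⟨a ^ j, pow_mem haX j, fun e => ?_, w, hw, by rwa [map_pow]⟩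
      have hd : orderOf a ∣ j := orderOf_dvd_of_pow_eq_one e
      rw [orderOf_eq_prime (hexp a haX) ha1] at hd
      exact absurd (Nat.le_of_dvd hj0 hd) (not_le.2 hjp)
    · refine ⟨a ^ i * b, mul_mem (pow_mem haX i) hbX, fun e => hba ?_, w, hw, by rwa [map_mul, map_pow]⟩
      rw [eq_inv_of_mul_eq_one_right e]
      exact inv_mem (pow_mem (Subgroup.mem_zpowers a) i)
  obtain ⟨k, hk⟩ := hXp ⟨e, heX⟩
  obtain ⟨x, hxe, rfl⟩ := exists_lift_pe (p := p) F (y := e) ⟨k, by simpa using congrArg Subtype.val hk⟩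
  have hxw : Commute x (w : G) := by
    have h' := congrArg Subtype.val hew
    simp only [φ, QuotientGroup.lift_mk, MulAut.conjNormal_apply] at h'
    exact mul_inv_eq_iff_eq_mul.1 h'
  have hwF : (w : G) ∈ F := hF ▸ (inf_le_right : fitQ G p ≤ _) (hWQ w.2)
  have hmk : ((x * w : G) : G ⧸ F) = (x : G ⧸ F) := by
    rw [QuotientGroup.mk_mul, (QuotientGroup.eq_one_iff _).2 hwF, mul_one]
  refine not_vanishes_mul h hxe (fun e1 => he1 (by rw [e1]; rfl)) ?_
    (fun e1 => hw1 (Subtype.ext e1)) hxw (hv x heX he1) (hv _ (hmk ▸ heX) (hmk ▸ he1))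
  refine Nat.Coprime.coprime_dvd_left ?_ hWcop
  rw [Subgroup.orderOf_coe]
  exact orderOf_dvd_natCard w

/-- The `p`-core of `G/F(G)` is abelian of order at most `p`. -/
theorem pCore_quotient_small (h : Hyp p G) (hF : F = Cfsg.fittingSubgroup G) :
    Nat.card (Cfsg.pCore p (G ⧸ F)) ≤ p ∧
      (∀ a ∈ Cfsg.pCore p (G ⧸ F), ∀ b ∈ Cfsg.pCore p (G ⧸ F), a * b = b * a) ∧
      (Cfsg.pCore p (G ⧸ F) ≠ ⊥ → fitQ G p ≠ ⊥) := by
  classical
  have hp : p.Prime := Fact.out
  set π := QuotientGroup.mk' F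
  set K := Cfsg.pCore p (G ⧸ F) with hK
  haveI hKn : K.Normal := H1.pCore_normal' p (G ⧸ F)
  have hKp : IsPGroup p K := H1.isPGroup_pCore p (G ⧸ F)
  by_cases hK0 : K = ⊥
  · refine ⟨?_, fun a ha b hb => ?_, fun h' => absurd hK0 h'⟩
    · rw [hK0, Subgroup.card_bot]; exact hp.one_le
    · rw [hK0, Subgroup.mem_bot] at ha
      rw [ha, one_mul, mul_one]
  have hQ : fitQ G p ≠ ⊥ := by
    intro hQ
    have hFle : F ≤ Cfsg.pCore p G := by
      have := fitting_le G p
      rw [hQ, sup_bot_eq] at this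
      exact hF ▸ this
    have hL : IsPGroup p (K.comap π) := hKp.comap_of_ker_isPGroup π (by
      rw [QuotientGroup.ker_mk']; exact (H1.isPGroup_pCore p G).to_le hFle)
    refine hK0 (le_bot_iff.1 ?_)
    rw [← Subgroup.map_comap_eq_self_of_surjective (QuotientGroup.mk'_surjective F) K,
      le_bot_iff, Subgroup.map_eq_bot_iff, QuotientGroup.ker_mk']
    exact le_of_le_of_eq ((H1.le_pCore hL).trans (pCore_le_fitting G p)) hF.symm
  haveI : Nontrivial K := (Subgroup.nontrivial_iff_ne_bot K).2 hK0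
  haveI := hKp.center_nontrivial
  set Z := (Subgroup.center K).map K.subtype with hZ
  haveI : Z.Normal := by
    haveI : (Subgroup.center K).Characteristic := inferInstance
    exact inferInstance
  have hZK : Z ≤ K := Subgroup.map_subtype_le _
  have hZc : ∀ a ∈ Z, ∀ b ∈ K, b * a = a * b := by
    rintro _ ⟨a, ha, rfl⟩ b hb
    exact congrArg Subtype.val (Subgroup.mem_center_iff.1 ha ⟨b, hb⟩)
  have hZp : IsPGroup p Z := hKp.to_le hZK
  have hZv : ∀ x : G, (x : G ⧸ F) ∈ Z → (x : G ⧸ F) ≠ 1 → Vanishes x := fun x hx hx1 =>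
    vanishes_of_abelian_normal F hF Z hZp (fun a ha b hb => (hZc a ha b (hZK hb)).symm) hx hx1
  have hZne : Z ≠ ⊥ := by
    rw [hZ, Ne, Subgroup.map_eq_bot_iff_of_injective _ K.subtype_injective]
    exact (Subgroup.nontrivial_iff_ne_bot _).1 ‹_›
  have hZcard : Nat.card Z = p := by
    refine le_antisymm (card_le_of_vanishes F h hF hQ Z hZp hZv) ?_
    obtain ⟨j, hj⟩ := IsPGroup.iff_card.1 hZp
    have h1 : Nat.card Z ≠ 1 := fun e => hZne (Subgroup.card_eq_one.1 e)
    rw [hj] at h1 ⊢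
    exact Nat.le_self_pow (fun e => h1 (by rw [e, pow_zero])) p
  suffices hKZ : K ≤ Z by
    exact ⟨(Subgroup.card_le_of_le hKZ).trans hZcard.le, fun a ha b hb => (hZc a (hKZ ha) b hb).symm,
      fun _ => hQ⟩
  by_contra hKZ
  haveI : Nontrivial (K ⧸ Subgroup.center K) := by
    rw [QuotientGroup.nontrivial_iff]
    intro htop
    refine hKZ fun a ha => ⟨⟨a, ha⟩, ?_, rfl⟩
    rw [htop]; exact Subgroup.mem_top _
  haveI := (hKp.to_quotient (Subgroup.center K)).center_nontrivial
  set Y0 := (Subgroup.center (K ⧸ Subgroup.center K)).comap (QuotientGroup.mk' (Subgroup.center K)) with hY0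
  set Y := Y0.map K.subtype with hY
  have hvY : ∀ x : G, (x : G ⧸ F) ∈ Y → (x : G ⧸ F) ≠ 1 → Vanishes x := by
    intro x hx hx1
    by_cases hxZ : (x : G ⧸ F) ∈ Z
    · exact hZv x hxZ hx1
    obtain ⟨y, hy, hyx⟩ := hx
    refine vanishes_of_quotient F ?_
    rw [← hyx] at hxZ ⊢
    obtain ⟨w, hw⟩ : ∃ w : K, w * y ≠ y * w := by
      by_contra hc
      push Not at hc
      exact hxZ ⟨y, Subgroup.mem_center_iff.2 hc, rfl⟩
    set z₀ := y⁻¹ * (w * y * w⁻¹) with hz₀
    have hz₀c : z₀ ∈ Subgroup.center K := by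
      rw [hY0] at hy
      have hcm := Subgroup.mem_center_iff.1 (Subgroup.mem_comap.1 hy) (QuotientGroup.mk' _ w)
      rw [← QuotientGroup.eq_one_iff, hz₀]
      simp only [QuotientGroup.mk_mul, QuotientGroup.mk_inv]
      rw [QuotientGroup.mk'_apply, QuotientGroup.mk'_apply] at hcm
      rw [hcm, mul_inv_cancel_right, inv_mul_cancel]
    have hz₀1 : ((z₀ : K) : G ⧸ F) ≠ 1 := fun e => hw (by
      have : z₀ = 1 := Subtype.ext e
      rw [hz₀, inv_mul_eq_one] at this
      exact (eq_mul_inv_iff_mul_eq.1 this).symm)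
    have hz₀Z : ((z₀ : K) : G ⧸ F) ∈ Z := ⟨z₀, hz₀c, rfl⟩
    have hgen : Subgroup.zpowers ((z₀ : K) : G ⧸ F) = Z := by
      refine Subgroup.eq_of_le_of_card_ge (Subgroup.zpowers_le.2 hz₀Z) ?_
      rw [Nat.card_zpowers, hZcard]
      have hpe : PE p ((z₀ : K) : G ⧸ F) := by
        obtain ⟨k, hk⟩ := hKp z₀
        exact ⟨k, by simpa using congrArg Subtype.val hk⟩
      exact Nat.le_of_dvd (orderOf_pos _) (dvd_orderOf_of_pe hpe hz₀1)
    haveI := Fintype.ofFinite (G ⧸ F)
    obtain ⟨χ, hχ⟩ := exists_irr_apply_ne_degree hz₀1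
    refine ⟨χ, eq_zero_of_coset_class Z χ.2 ⟨_, hz₀Z, hχ⟩ _ ?_⟩
    intro z hz
    rw [← hgen] at hz
    obtain ⟨i, rfl⟩ := Subgroup.mem_zpowers_iff.1 hz
    refine ⟨(w : G ⧸ F) ^ i, ?_⟩
    -- conjugation by powers of `w`
    have e : w * y * w⁻¹ = y * z₀ := by rw [hz₀, mul_inv_cancel_left]
    have key : ∀ n : ℤ, w ^ n * y * (w ^ n)⁻¹ = y * z₀ ^ n := by
      intro n
      have hcw : Commute w z₀ := Subgroup.mem_center_iff.1 hz₀c w
      induction n with
      | zero => simp
      | succ n ih =>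
        rw [add_comm, zpow_one_add, zpow_one_add]
        calc w * w ^ (n : ℤ) * y * (w * w ^ (n : ℤ))⁻¹
            = w * (w ^ (n : ℤ) * y * (w ^ (n : ℤ))⁻¹) * w⁻¹ := by group
          _ = w * y * w⁻¹ * z₀ ^ (n : ℤ) := by
            rw [ih, ← mul_assoc, mul_assoc _ (z₀ ^ (n : ℤ)), ← ((hcw.inv_left).zpow_right (n : ℤ)).eq]
            group
          _ = y * (z₀ * z₀ ^ (n : ℤ)) := by rw [e, mul_assoc]
      | pred n ih =>
        have e' : w⁻¹ * y * w = y * z₀⁻¹ := by
          calc w⁻¹ * y * w = w⁻¹ * (w * y * w⁻¹ * z₀⁻¹) * w := by rw [e, mul_inv_cancel_right]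
            _ = y * (w⁻¹ * z₀⁻¹ * w) := by group
            _ = y * z₀⁻¹ := by rw [(hcw.inv_left.inv_right).eq, inv_mul_cancel_right]
        rw [show -(n : ℤ) - 1 = -1 + -(n : ℤ) by ring, zpow_add, zpow_add, zpow_neg_one, zpow_neg_one]
        calc w⁻¹ * w ^ (-(n : ℤ)) * y * (w⁻¹ * w ^ (-(n : ℤ)))⁻¹
            = w⁻¹ * (w ^ (-(n : ℤ)) * y * (w ^ (-(n : ℤ)))⁻¹) * w := by group
          _ = w⁻¹ * y * w * z₀ ^ (-(n : ℤ)) := by
            rw [ih, ← mul_assoc, mul_assoc _ (z₀ ^ (-(n : ℤ))), ← (hcw.zpow_right (-(n : ℤ))).eq, mul_assoc _ w]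
          _ = y * (z₀⁻¹ * z₀ ^ (-(n : ℤ))) := by rw [e', mul_assoc]
    have := congrArg K.subtype (key i)
    simpa using this
  have hYp : IsPGroup p Y := hKp.to_le (Subgroup.map_subtype_le _)
  have hle := card_le_of_vanishes F h hF hQ Y hYp hvY
  obtain ⟨⟨ybar, hybar⟩, hne⟩ := exists_ne (1 : Subgroup.center (K ⧸ Subgroup.center K))
  obtain ⟨y, rfl⟩ := QuotientGroup.mk_surjective ybar
  have hlt : Z < Y := by
    refine lt_of_le_of_ne ?_ fun e => hne (Subtype.ext ((QuotientGroup.eq_one_iff y).2 ?_))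
    · rintro _ ⟨z, hz, rfl⟩
      refine ⟨z, ?_, rfl⟩
      rw [hY0]
      refine Subgroup.mem_comap.2 ?_
      rw [QuotientGroup.mk'_apply, (QuotientGroup.eq_one_iff z).2 hz]
      exact one_mem _
    · have hyY : (y : G ⧸ F) ∈ Y := ⟨y, hybar, rfl⟩
      rw [← e] at hyY
      obtain ⟨y', hy', he'⟩ := hyY
      rwa [← Subtype.ext he']
  exact absurd (Subgroup.eq_of_le_of_card_ge hlt.le (by rw [hZcard]; exact hle)) hlt.ne

end Fitting

theorem main : ∀ (n : ℕ) (G : Type u) [Group G] [Finite G] [Group.IsSolvable G],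
    Nat.card G = n → Hyp p G →
    (∀ x : G, PE p x → x ∉ Cfsg.pCore p G → Vanishes x) ∧
      ∀ P : Sylow p G, Nat.card (P : Subgroup G) ≤ p * Nat.card (Cfsg.pCore p G) := by
  intro n
  induction n using Nat.strong_induction_on with
  | _ n ih =>
  intro G _ _ _ hn h
  classical
  have hp : p.Prime := Fact.out
  rcases subsingleton_or_nontrivial G with hsub | hnt
  · refine ⟨fun x _ hx => absurd ?_ hx, fun P => ?_⟩
    · rw [Subsingleton.elim x 1]; exact one_mem _
    · rw [Nat.card_of_subsingleton (1 : (P : Subgroup G))]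
      exact Nat.one_le_iff_ne_zero.2 (Nat.mul_pos hp.pos Nat.card_pos).ne'
  set F := Cfsg.fittingSubgroup G with hF
  haveI : F.Normal := H1.fittingSubgroup_normal G
  have hFne : F ≠ ⊥ := by
    intro e
    have hc := H1.centralizer_fitting_le_of_isSolvable (G := G) inferInstance
    rw [← hF, e] at hc
    have : (⊤ : Subgroup G) ≤ ⊥ := fun x _ => hc (Subgroup.mem_centralizer_iff.mpr fun y hy => by
      rw [Subgroup.mem_bot.mp hy, one_mul, mul_one])
    exact top_ne_bot (le_bot_iff.mp this)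
  set π := QuotientGroup.mk' F
  have hlt : Nat.card (G ⧸ F) < n := by
    rw [← hn, Subgroup.card_eq_card_quotient_mul_card_subgroup F]
    exact lt_mul_of_one_lt_right Nat.card_pos (Subgroup.one_lt_card_iff_ne_bot F |>.2 hFne)
  obtain ⟨hB, hbound⟩ := ih _ hlt (G ⧸ F) rfl (h.quotient F)
  obtain ⟨hKcard, hKc, hKQ⟩ := pCore_quotient_small F h hF
  haveI : (Cfsg.pCore p (G ⧸ F)).Normal := H1.pCore_normal' p (G ⧸ F)
  have hvan : ∀ x : G, PE p (x : G ⧸ F) → (x : G ⧸ F) ≠ 1 → Vanishes x := by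
    intro x hx hx1
    by_cases hxK : (x : G ⧸ F) ∈ Cfsg.pCore p (G ⧸ F)
    · exact vanishes_of_abelian_normal F hF _ (H1.isPGroup_pCore p (G ⧸ F)) hKc hxK hx1
    · exact vanishes_of_quotient F (hB _ hx hxK)
  refine ⟨fun x hx hxc => hvan x (pe_map π hx) fun e => hxc
    (mem_pCore_of_pe hx ((QuotientGroup.eq_one_iff x).1 e)), fun P => ?_⟩
  let Pb : Sylow p (G ⧸ F) := Sylow.mapSurjective (QuotientGroup.mk'_surjective F) P
  have hPb : (Pb : Subgroup (G ⧸ F)) = (P : Subgroup G).map π := rfl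
  have hPbp : Nat.card (Pb : Subgroup (G ⧸ F)) ≤ p := by
    by_cases hK0 : Cfsg.pCore p (G ⧸ F) = ⊥
    · have := hbound Pb
      rwa [hK0, Subgroup.card_bot, mul_one] at this
    · refine card_le_of_vanishes F h hF (hKQ hK0) _ Pb.isPGroup' fun x hx hx1 => hvan x ?_ hx1
      obtain ⟨k, hk⟩ := Pb.isPGroup' ⟨_, hx⟩
      exact ⟨k, by simpa using congrArg Subtype.val hk⟩
  have hsplit : Nat.card (P : Subgroup G) =
      Nat.card (Pb : Subgroup (G ⧸ F)) * Nat.card (F.subgroupOf (P : Subgroup G)) := by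
    rw [Subgroup.card_eq_card_quotient_mul_card_subgroup (F.subgroupOf (P : Subgroup G))]
    congr 1
    have e : F.subgroupOf (P : Subgroup G) = (π.comp (P : Subgroup G).subtype).ker := by
      ext x
      simp [π, Subgroup.mem_subgroupOf, QuotientGroup.eq_one_iff]
    show (F.subgroupOf (P : Subgroup G)).index = _
    rw [e, Subgroup.index_ker, MonoidHom.range_comp, Subgroup.range_subtype, hPb]
  rw [hsplit]
  refine Nat.mul_le_mul hPbp (Nat.card_le_card_of_injective
    (fun x => ⟨(x : (P : Subgroup G)), ?_⟩) ?_)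
  · obtain ⟨k, hk⟩ := P.isPGroup' (x : (P : Subgroup G))
    exact mem_pCore_of_pe ⟨k, by simpa using congrArg Subtype.val hk⟩ x.2
  · intro a b hab
    exact Subtype.ext (Subtype.ext (congrArg Subtype.val hab : _))

end H17.VSO
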