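import Cfsg.Agent.H17.SolvableOrbit
import Cfsg.Agent.H12.CyclicCorr
import Cfsg.Agent.H13.Correspondence
import Cfsg.Agent.H13.Linear
import Cfsg.Agent.H22.ValueMod
import Cfsg.Agent.H25.Kazarin
import Cfsg.Agent.H1.Fitting
import Cfsg.Agent.H10.Basic

/-!
Winter's theorem on solvable irreducible linear groups with a non-normal Sylow subgroup.
-/

set_option autoImplicit false
set_option linter.unusedSectionVars false

namespace H17.Winter

open Cfsg

universe u

variable {G : Type u} [Group G] [Fintype G] {p : ℕ}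

/-- The prime powers excluded in the contrary hypothesis. -/
def Good (p q : ℕ) : Prop := q ≡ 0 [MOD p] ∨ q ≡ 1 [MOD p] ∨ p ∣ q + 1

theorem inertia_index_dvd (N : Subgroup G) [N.Normal] [Fintype N] (χ : IrrCharacter G)
    (θ : IrrCharacter N)
    (hne : classInner (fun n : N => (χ : G → ℂ) n) (θ : N → ℂ) ≠ 0) :
    (H13.inertia N (θ : N → ℂ)).index ∣ H12.degree (χ : G → ℂ) ∧
      H12.degree (θ : N → ℂ) ∣ H12.degree (χ : G → ℂ) := by
  obtain ⟨e, he⟩ := H12.IsCharacter.classInner_nat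
    (H12.IsCharacter.res (H12.isCharacter_irr χ) N) (H12.isCharacter_irr θ)
  have hcl := H13.clifford_degree N χ.2 θ.2 hne
  rw [he, H12.irr_apply_one θ, H12.irr_apply_one χ] at hcl
  have h' : H12.degree (χ : G → ℂ) =
      e * (H13.inertia N (θ : N → ℂ)).index * H12.degree (θ : N → ℂ) := by exact_mod_cast hcl
  exact ⟨h' ▸ (dvd_mul_left _ e).mul_right _, h' ▸ dvd_mul_left _ _⟩

/-- An element in the kernel of all constituents is in the kernel. -/
theorem eq_one_of_constituents (N : Subgroup G) [Fintype N] {χ : G → ℂ} (hχ : IsCharacter G χ)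
    (hfaith : ∀ g : G, χ g = χ 1 → g = 1) (c : N)
    (h : ∀ θ : IrrCharacter N, classInner (fun n : N => χ n) (θ : N → ℂ) ≠ 0 →
      (θ : N → ℂ) c = (θ : N → ℂ) 1) : c = 1 := by
  have hcl := H12.IsCharacter.isClassFunction (H12.IsCharacter.res hχ N)
  refine Subtype.ext (hfaith _ ?_)
  show χ (c : G) = χ ((1 : N) : G)
  rw [H12.classFunction_apply_eq_sum (f := fun n : N => χ n) hcl c,
    H12.classFunction_apply_eq_sum (f := fun n : N => χ n) hcl 1]
  refine Finset.sum_congr rfl fun θ _ => ?_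
  by_cases h0 : classInner (fun n : N => χ n) (θ : N → ℂ) = 0
  · rw [h0, zero_mul, zero_mul]
  · rw [h θ h0]

/-- A linear character fixed by `x` kills the commutators with `x`. -/
theorem linear_fixed (N : Subgroup G) [hN : N.Normal] {θ : N → ℂ} (hθ : IsCharacter N θ)
    (h1 : θ 1 = 1) (x : G) (hx : H13.twist N x θ = θ) (y : N) :
    θ (⟨x * y * x⁻¹, hN.conj_mem y y.2 x⟩ * y⁻¹) = θ 1 := by
  have h2 : θ ⟨x * y * x⁻¹, hN.conj_mem y y.2 x⟩ = θ y := congrFun hx y
  rw [← H13.linHom_apply hθ h1, ← H13.linHom_apply hθ h1] at h2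
  rw [← H13.linHom_apply hθ h1, h1, map_mul, Units.ext h2, map_inv, mul_inv_cancel, Units.val_one]

/-- The value of a `p`-element at an invariant character of degree `r ^ j` of an `r`-group. -/
theorem exists_sign {Γ : Type u} [Group Γ] [Fintype Γ] (hp : p.Prime) {r : ℕ} (hr : r.Prime)
    (hrp : r ≠ p) (Q : Subgroup Γ) [hQn : Q.Normal] (hQ : IsPGroup r Q) [Fintype Q] (x : Γ) (k : ℕ)
    (hxk : x ^ (p ^ k) = 1) (htop : Q ⊔ Subgroup.zpowers x = ⊤) (θ : IrrCharacter Q)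
    (hinv : H13.twist Q x (θ : Q → ℂ) = θ) (y : Q)
    (hy : (θ : Q → ℂ) (⟨x * y * x⁻¹, hQn.conj_mem y y.2 x⟩ * y⁻¹) ≠ (θ : Q → ℂ) 1)
    (j : ℕ) (hj : H12.degree (θ : Q → ℂ) = r ^ j) :
    ∃ i, i < j ∧ Good p (r ^ (j - i)) := by
  classical
  have : Fact r.Prime := ⟨hr⟩
  set S := Subgroup.zpowers x with hS
  have hScard : Nat.card S ∣ p ^ k := by
    rw [hS, Nat.card_zpowers]; exact orderOf_dvd_of_pow_eq_one hxk
  obtain ⟨e, he⟩ := IsPGroup.iff_card.1 hQ
  have hcop : (Nat.card Q).Coprime (Nat.card S) := by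
    rw [he]
    exact (((Nat.coprime_primes hr hp).2 hrp).pow e k).coprime_dvd_right hScard
  have hnorm : ∀ s ∈ S, ∀ g ∈ Q, s * g * s⁻¹ ∈ Q := fun s _ g hg => hQn.conj_mem g hg s
  have hInv : H12.Glauberman.Inv (H12.Glauberman.conjHom Q S hnorm) (θ : Q → ℂ) := by
    intro s n
    have hmem : S ≤ H13.inertia Q (θ : Q → ℂ) := Subgroup.zpowers_le.2 hinv
    exact congrFun (hmem s.2) n
  obtain ⟨χh, hres, hdet⟩ := H12.Cyclic.exists_extension Q S hnorm hcop htop θ hInv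
  have hirr : IsIrrCharacter Q (fun g : Q => (χh : Γ → ℂ) g) := by
    have h : (fun g : Q => (χh : Γ → ℂ) g) = (θ : Q → ℂ) := funext hres
    rw [h]; exact θ.2
  obtain ⟨β, ε, hε, hval, -⟩ := H12.Cyclic.exists_value_generators Q S hnorm hcop htop
    inferInstance (Q ⊓ Subgroup.centralizer (S : Set Γ)) rfl χh hirr hdet
  have hx : (χh : Γ → ℂ) x = (ε : ℂ) * (H12.degree (β.1) : ℂ) := by
    rw [← H12.irr_apply_one, ← hval 1 x rfl, OneMemClass.coe_one, one_mul]
  obtain ⟨i, -, hi⟩ := (Nat.dvd_prime_pow hr).1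
    (he ▸ (H24.charDegree_dvd_card β).trans (Subgroup.card_dvd_of_le inf_le_left) :
      H12.degree (β.1) ∣ r ^ e)
  rw [hi] at hx
  have hdeg : charDegree (χh : Γ → ℂ) = r ^ j := by
    have h1 : (χh : Γ → ℂ) 1 = (θ : Q → ℂ) 1 := hres 1
    rw [← hj]
    show ⌊((χh : Γ → ℂ) 1).re⌋₊ = ⌊((θ : Q → ℂ) 1).re⌋₊
    rw [h1]
  have hnormx : ‖(χh : Γ → ℂ) x‖ = (r ^ i : ℕ) := by
    rw [hx, norm_mul, Complex.norm_natCast]
    rcases hε with rfl | rfl <;> simp
  have hle : ‖(χh : Γ → ℂ) x‖ ≤ (r ^ j : ℕ) :=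
    hdeg ▸ H12.IsCharacter.norm_le (H12.isCharacter_irr χh) x
  have hij : i < j := by
    rw [hnormx, Nat.cast_le, Nat.pow_le_pow_iff_right hr.one_lt] at hle
    refine lt_of_le_of_ne hle fun h => hy ?_
    have h2 := H25.Kazarin.commute_ker_of_norm_eq χh x (y : Γ) (by rw [hnormx, hdeg, h])
    rw [H24.mem_kerChar] at h2
    rw [← hres, ← hres]
    exact h2
  refine ⟨i, hij, ?_⟩
  obtain ⟨M, hM⟩ := H22.exists_isPModular p hp
  have := H20.isPrime_of_modular hM
  obtain ⟨l, -, hl⟩ := (Nat.dvd_prime_pow hp).1 (orderOf_dvd_of_pow_eq_one hxk)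
  have hmem := H22.memIdeal_apply_sub_one hM (H12.isCharacter_irr χh) hl
  rw [hx, H24.irr_one, hdeg] at hmem
  have hdvd : (p : ℤ) ∣ ε * (r ^ i : ℕ) - (r ^ j : ℕ) := by
    rw [← H20.intCast_memIdeal_iff hM]
    push_cast at hmem ⊢
    exact hmem
  have hfac : (p : ℤ) ∣ ε - (r ^ (j - i) : ℕ) := by
    have h3 : ε * (r ^ i : ℕ) - ((r ^ j : ℕ) : ℤ) = (r ^ i : ℕ) * (ε - (r ^ (j - i) : ℕ)) := by
      rw [mul_sub, mul_comm ε, ← Nat.cast_mul, ← pow_add, Nat.add_sub_cancel' hij.le]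
    rw [h3] at hdvd
    refine Int.dvd_of_dvd_mul_right_of_gcd_one hdvd ?_
    rw [Int.gcd_natCast_natCast]
    exact Nat.Coprime.pow_right i ((Nat.coprime_primes hp hr).2 hrp.symm)
  rcases hε with rfl | rfl
  · exact Or.inr (Or.inl (Nat.modEq_iff_dvd.2 (by push_cast at hfac ⊢; exact hfac)))
  · refine Or.inr (Or.inr (Int.natCast_dvd_natCast.1 ?_))
    rw [← dvd_neg] at hfac
    push_cast at hfac ⊢
    have he : ((r : ℤ) ^ (j - i) + 1) = -(-1 - (r : ℤ) ^ (j - i)) := by ring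
    rw [he]
    exact hfac

theorem commute_core [Group.IsSolvable G] (hp : p.Prime) (χ : IrrCharacter G)
    (hfaith : ∀ g : G, (χ : G → ℂ) g = (χ : G → ℂ) 1 → g = 1)
    (hno : ∀ q : ℕ, IsPrimePow q → q ∣ H12.degree (χ : G → ℂ) → ¬ Good p q)
    (x : G) (k : ℕ) (hxk : x ^ (p ^ k) = 1) (r : ℕ) (hr : r.Prime) (y : G)
    (hy : y ∈ pCore r G) : x * y = y * x := by
  classical
  have : Fact r.Prime := ⟨hr⟩
  set Q := pCore r G with hQ
  have hQn : Q.Normal := H10.pCore_normal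
  have hQr : IsPGroup r Q := H10.pCore_isPGroup
  have : Fintype Q := Fintype.ofFinite _
  let c : Q := ⟨x * y * x⁻¹, hQn.conj_mem y hy x⟩ * (⟨y, hy⟩ : Q)⁻¹
  suffices hc : c = 1 by
    have h := congrArg Subtype.val hc
    simp only [c, Subgroup.coe_mul, Subgroup.coe_inv, Subgroup.coe_one] at h
    rwa [mul_inv_eq_one, mul_inv_eq_iff_eq_mul] at h
  refine eq_one_of_constituents Q (H12.isCharacter_irr χ) hfaith c fun θ hθ => ?_
  obtain ⟨hidx, hdeg⟩ := inertia_index_dvd Q χ θ hθ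
  have hinv : H13.twist Q x (θ : Q → ℂ) = θ := by
    by_contra hne
    obtain ⟨q, hq, hqd, hq01⟩ := H17.SolvableOrbit.exists_primePow hp
      (H13.inertia Q (θ : Q → ℂ)) x k hxk (fun h => hne (Subgroup.normalCore_le _ h))
    exact hno q hq (hqd.trans hidx) (hq01.imp id Or.inl)
  obtain ⟨e, he⟩ := IsPGroup.iff_card.1 hQr
  obtain ⟨j, -, hj⟩ := (Nat.dvd_prime_pow hr).1
    (he ▸ H24.charDegree_dvd_card θ : H12.degree (θ : Q → ℂ) ∣ r ^ e)
  rcases Nat.eq_zero_or_pos j with hj0 | hj0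
  · exact linear_fixed Q (H12.isCharacter_irr θ)
      (by rw [H12.irr_apply_one, hj, hj0, pow_zero, Nat.cast_one]) x hinv ⟨y, hy⟩
  have hrd : r ∣ H12.degree (χ : G → ℂ) :=
    (hj ▸ dvd_pow_self r hj0.ne').trans hdeg
  have hrp : r ≠ p := by
    rintro rfl
    exact hno r hr.isPrimePow hrd (Or.inl (Nat.modEq_zero_iff_dvd.2 dvd_rfl))
  by_contra hne
  set Γ := Q ⊔ Subgroup.zpowers x with hΓ
  have hQΓ : Q ≤ Γ := le_sup_left
  let Q' : Subgroup Γ := Q.subgroupOf Γ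
  let e' : Q' ≃* Q := Subgroup.subgroupOfEquivOfLe hQΓ
  let xΓ : Γ := ⟨x, Subgroup.mem_sup_right (Subgroup.mem_zpowers x)⟩
  let θ' : IrrCharacter Q' := ⟨(θ : Q → ℂ) ∘ e'.toMonoidHom,
    H12.IsIrrCharacter.comp_surjective θ.2 e'.surjective⟩
  have : Fintype Γ := Fintype.ofFinite _
  have : Fintype Q' := Fintype.ofFinite _
  have htop : Q' ⊔ Subgroup.zpowers xΓ = ⊤ := by
    apply Subgroup.map_injective Γ.subtype_injective
    rw [Subgroup.map_sup, Subgroup.map_subgroupOf_eq_of_le hQΓ, MonoidHom.map_zpowers,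
      ← MonoidHom.range_eq_map, Subgroup.range_subtype]
    rfl
  have hj' : H12.degree (θ' : Q' → ℂ) = r ^ j := by
    rw [← hj]
    show ⌊((θ : Q → ℂ) (e' 1)).re⌋₊ = _
    rw [map_one]
    rfl
  obtain ⟨i, hij, hgood⟩ := exists_sign hp hr hrp Q' (hQr.of_equiv e'.symm) xΓ k
    (Subtype.ext (by simpa using hxk)) htop θ'
    (funext fun n => congrFun hinv (e' n)) ⟨⟨y, hQΓ hy⟩, hy⟩
    (fun h => hne (by
      refine Eq.trans ?_ (h.trans ?_)
      · exact congrArg (θ : Q → ℂ) (Subtype.ext rfl)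
      · exact congrArg (θ : Q → ℂ) (map_one e'))) j hj'
  exact hno _ (hr.isPrimePow.pow (by omega))
    ((pow_dvd_pow r (Nat.sub_le j i)).trans (hj ▸ hdeg)) hgood

theorem main [Group.IsSolvable G] (hp : p.Prime) (χ : IrrCharacter G)
    (hfaith : ∀ g : G, (χ : G → ℂ) g = (χ : G → ℂ) 1 → g = 1) (P : Sylow p G)
    (hP : ¬ (P : Subgroup G).Normal) :
    ∃ q : ℕ, IsPrimePow q ∧ q ∣ H12.degree (χ : G → ℂ) ∧ Good p q := by
  by_contra hno
  simp only [not_exists, not_and] at hno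
  have : Fact p.Prime := ⟨hp⟩
  set F := fittingSubgroup G with hF
  have hFn : F.Normal := H1.fittingSubgroup_normal G
  have hPC : (P : Subgroup G) ≤ Subgroup.centralizer (F : Set G) := by
    intro x hx
    rw [Subgroup.mem_centralizer_iff]
    have hle : F ≤ Subgroup.centralizer ({x} : Set G) := by
      rw [hF, H1.fittingSubgroup_eq_iSup_pCore]
      refine iSup_le fun r y hy => ?_
      obtain ⟨k, hk⟩ := P.2 ⟨x, hx⟩
      exact Subgroup.mem_centralizer_singleton_iff.2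
        (commute_core hp χ hfaith hno x k (congrArg Subtype.val hk) r r.2 y hy).symm
    exact fun y hy => Subgroup.mem_centralizer_singleton_iff.1 (hle hy)
  have hPF : (P : Subgroup G) ≤ F :=
    hPC.trans (H1.centralizer_fitting_le_of_isSolvable inferInstance)
  have := H1.isNilpotent_fittingSubgroup G
  have hn : ((P.subtype hPF : Sylow p F) : Subgroup F).Normal :=
    ((Group.isNilpotent_of_finite_tfae (G := F)).out 0 3 rfl rfl).1 (H1.isNilpotent_fittingSubgroup G)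
      p ⟨hp⟩ (P.subtype hPF)
  have := Sylow.characteristic_of_normal (P.subtype hPF) hn
  have h := H10.map_subtype_normal hFn ((P.subtype hPF : Sylow p F) : Subgroup F)
  rw [Sylow.coe_subtype, Subgroup.map_subgroupOf_eq_of_le hPF] at h
  exact hP h

end H17.Winter
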